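import Mathlib
import Groth.Prelude.Def_DRing2
import Groth.Agent.H56.PCohCx
import Groth.Agent.H33.LeftRes

/-!
`m`-pseudo-coherent objects of `D(R)` (helper35): an object is `m`-pseudo-coherent iff it is
represented by a bounded above complex of free modules whose terms in degrees `≥ m` are finite.
Consequences: invariance under isomorphisms and shifts, two-out-of-three in distinguished triangles.
-/

set_option autoImplicit false
universe u
open CategoryTheory CategoryTheory.Limits Pretriangulated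
attribute [local instance] HasDerivedCategory.standard

namespace Groth.Agent.H35.MPCoh

open DRing DerivedCategory DerivedCategory.TStructure

section General

variable {C : Type*} [Category C] [Abelian C]

/-- Killing the top cell of a complex with `E^{b+1} = 0`. -/
lemma exists_top_cell_quot (E : CochainComplex C ℤ) (b : ℤ) (hb : IsZero (E.X (b + 1))) :
    ∃ (E' : CochainComplex C ℤ) (p : E ⟶ E'), IsZero (E'.X b) ∧ (∀ i, Epi (p.f i)) ∧
      ∀ i, i ≠ b → IsIso (p.f i) := by
  obtain ⟨g, hg⟩ : ∃ g : (HomologicalComplex.single C (ComplexShape.up ℤ) b).obj (E.X b) ⟶ E,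
      g.f b = (HomologicalComplex.singleObjXSelf (ComplexShape.up ℤ) b (E.X b)).hom ≫ 𝟙 _ :=
    ⟨HomologicalComplex.mkHomFromSingle (𝟙 (E.X b)) (fun k hk => by
      have hk' : b + 1 = k := hk
      subst hk'
      exact hb.eq_of_tgt _ _), HomologicalComplex.mkHomFromSingle_f _ _⟩
  have hiso : IsIso (g.f b) := by rw [hg]; infer_instance
  have hmono : Mono g := by
    apply HomologicalComplex.mono_of_mono_f
    intro i
    by_cases hi : i = b
    · subst hi; infer_instance
    · exact ⟨fun _ _ _ =>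
        (HomologicalComplex.isZero_single_obj_X (ComplexShape.up ℤ) b (E.X b) i hi).eq_of_tgt _ _⟩
  have hT : (ShortComplex.mk g (cokernel.π g) (cokernel.condition g)).ShortExact :=
    { exact := ShortComplex.exact_cokernel g
      mono_f := hmono
      epi_g := by dsimp; infer_instance }
  have hdeg := (HomologicalComplex.shortExact_iff_degreewise_shortExact _).1 hT
  refine ⟨cokernel g, cokernel.π g, ?_, ?_, ?_⟩
  · have hepi : Epi ((cokernel.π g).f b) := (hdeg b).epi_g
    have h0 : (cokernel.π g).f b = 0 := by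
      rw [← cancel_epi (g.f b), comp_zero, ← HomologicalComplex.comp_f, cokernel.condition,
        HomologicalComplex.zero_f]
    exact IsZero.of_epi_eq_zero _ h0
  · intro i
    exact (hdeg i).epi_g
  · intro i hi
    have hz := HomologicalComplex.isZero_single_obj_X (ComplexShape.up ℤ) b (E.X b) i hi
    have hepi : Epi ((cokernel.π g).f i) := (hdeg i).epi_g
    have hmono' : Mono ((cokernel.π g).f i) := (hdeg i).exact.mono_g (hz.eq_of_src _ _)
    exact isIso_of_mono_of_epi _

/-- The quotient `σ_{<m} F` of a bounded above complex. -/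
lemma exists_quot_lt (m : ℤ) : ∀ (n : ℕ) (F : CochainComplex C ℤ) (b : ℤ),
    (∀ i, b < i → IsZero (F.X i)) → b - m < n →
    ∃ (G : CochainComplex C ℤ) (p : F ⟶ G), (∀ i, m ≤ i → IsZero (G.X i)) ∧
      (∀ i, Epi (p.f i)) ∧ ∀ i, i < m → IsIso (p.f i) := by
  intro n
  induction n with
  | zero =>
    intro F b hF hb
    have hb' : b < m := by omega
    exact ⟨F, 𝟙 F, fun i hi => hF i (by omega),
      fun i => by rw [HomologicalComplex.id_f]; infer_instance,
      fun i _ => by rw [HomologicalComplex.id_f]; infer_instance⟩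
  | succ n ih =>
    intro F b hF hb
    by_cases hbm : b < m
    · exact ⟨F, 𝟙 F, fun i hi => hF i (by omega),
        fun i => by rw [HomologicalComplex.id_f]; infer_instance,
        fun i _ => by rw [HomologicalComplex.id_f]; infer_instance⟩
    · obtain ⟨F', p₁, hz, hepi, hiso⟩ := exists_top_cell_quot F b (hF (b + 1) (by omega))
      have hF' : ∀ i, b - 1 < i → IsZero (F'.X i) := by
        intro i hi
        by_cases hib : i = b
        · subst hib; exact hz
        · have := hiso i hib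
          exact IsZero.of_iso (hF i (by omega)) (asIso (p₁.f i)).symm
      obtain ⟨G, p₂, hG, hepi₂, hiso₂⟩ := ih F' (b - 1) hF' (by push_cast at hb; omega)
      refine ⟨G, p₁ ≫ p₂, hG, fun i => ?_, fun i hi => ?_⟩
      · have := hepi i
        have := hepi₂ i
        rw [HomologicalComplex.comp_f]
        exact epi_comp _ _
      · have := hiso i (by omega)
        have := hiso₂ i hi
        rw [HomologicalComplex.comp_f]
        infer_instance

end General

variable {R : Type u} [CommRing R]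

/-- Vanishing of the cohomology of the third vertex in terms of the first morphism. -/
lemma isZero_obj₃_iff (T : Triangle (Dual.D R)) (hT : T ∈ distTriang _) (i j : ℤ)
    (h : i + 1 = j) :
    IsZero ((homologyFunctor (ModuleCat.{u} R) i).obj T.obj₃) ↔
      Epi ((homologyFunctor (ModuleCat.{u} R) i).map T.mor₁) ∧
        Mono ((homologyFunctor (ModuleCat.{u} R) j).map T.mor₁) := by
  rw [HomologySequence.epi_homologyMap_mor₁_iff T hT i,
    HomologySequence.mono_homologyMap_mor₁_iff T hT i j h]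
  exact (HomologySequence.exact₃ T hT i j h).isZero_X₂_iff

lemma cond_iff (T : Triangle (Dual.D R)) (hT : T ∈ distTriang _) (m : ℤ) :
    ((∀ i : ℤ, m < i → IsIso ((homologyFunctor (ModuleCat.{u} R) i).map T.mor₁)) ∧
      Epi ((homologyFunctor (ModuleCat.{u} R) m).map T.mor₁)) ↔
    ∀ i : ℤ, m ≤ i → IsZero ((homologyFunctor (ModuleCat.{u} R) i).obj T.obj₃) := by
  constructor
  · rintro ⟨h1, h2⟩ i hi
    rw [isZero_obj₃_iff T hT i (i + 1) rfl]
    constructor
    · rcases hi.eq_or_lt with rfl | hlt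
      · exact h2
      · have := h1 i hlt
        infer_instance
    · have := h1 (i + 1) (by omega)
      infer_instance
  · intro h
    constructor
    · intro i hi
      have a := ((isZero_obj₃_iff T hT i (i + 1) rfl).1 (h i (by omega))).1
      have b := ((isZero_obj₃_iff T hT (i - 1) i (by omega)).1 (h (i - 1) (by omega))).2
      exact isIso_of_mono_of_epi _
    · exact ((isZero_obj₃_iff T hT m (m + 1) rfl).1 (h m le_rfl)).1

/-- `K` is represented by a bounded above complex of free modules, finite in degrees `≥ m`. -/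
def HasFreeModel (m : ℤ) (K : Dual.D R) : Prop :=
  ∃ (F : Cx R) (b : ℤ), VanishesAbove F b ∧ (∀ i, Module.Free R (F.X i)) ∧
    (∀ i, m ≤ i → Module.Finite R (F.X i)) ∧ Nonempty (toD F ≅ K)

lemma hasFreeModel_of_iso {m : ℤ} {K L : Dual.D R} (e : K ≅ L) (h : HasFreeModel m K) :
    HasFreeModel m L := by
  obtain ⟨F, b, h1, h2, h3, ⟨e'⟩⟩ := h
  exact ⟨F, b, h1, h2, h3, ⟨e' ≪≫ e⟩⟩

lemma hasFreeModel_shift {m : ℤ} {K : Dual.D R} (h : HasFreeModel m K) (n m' : ℤ)
    (hm : m' + n = m) : HasFreeModel m' (K⟦n⟧) := by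
  obtain ⟨F, b, h1, h2, h3, ⟨e⟩⟩ := h
  refine ⟨F⟦n⟧, b - n, ?_, ?_, ?_,
    ⟨(Q.commShiftIso n).app F ≪≫ (shiftFunctor (Dual.D R) n).mapIso e⟩⟩
  · intro i hi
    exact h1 (i + n) (by omega)
  · intro i
    exact h2 (i + n)
  · intro i hi
    exact h3 (i + n) (by omega)

lemma hasFreeModel_mono {m m' : ℤ} (hmm : m ≤ m') {K : Dual.D R} (h : HasFreeModel m K) :
    HasFreeModel m' K := by
  obtain ⟨F, b, h1, h2, h3, he⟩ := h
  exact ⟨F, b, h1, h2, fun i hi => h3 i (by omega), he⟩

lemma mappingCone_terms {E₁ E₂ : Cx R} (φ : E₁ ⟶ E₂) (i : ℤ) :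
    Nonempty ((CochainComplex.mappingCone φ).X i ≃ₗ[R] (E₁.X (i + 1) × E₂.X i)) :=
  ⟨((HomologicalComplex.homotopyCofiber.XIsoBiprod φ i (i + 1) rfl) ≪≫
    ModuleCat.biprodIsoProd (E₁.X (i + 1)) (E₂.X i)).toLinearEquiv⟩

lemma isZero_mappingCone_X {E₁ E₂ : Cx R} (φ : E₁ ⟶ E₂) (i : ℤ) (h1 : IsZero (E₁.X (i + 1)))
    (h2 : IsZero (E₂.X i)) : IsZero ((CochainComplex.mappingCone φ).X i) := by
  refine IsZero.of_iso ?_ (HomologicalComplex.homotopyCofiber.XIsoBiprod φ i (i + 1) rfl)
  rw [biprod_isZero_iff]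
  exact ⟨h1, h2⟩

lemma kprojective_of_free (G : Cx R) (b : ℤ) (hb : VanishesAbove G b)
    (hfree : ∀ i, Module.Free R (G.X i)) : G.IsKProjective := by
  have : G.IsStrictlyLE b := by
    rw [CochainComplex.isStrictlyLE_iff]
    intro i hi
    exact hb i hi
  have : ∀ n, Projective (G.X n) := fun n => by
    have : Module.Free R (G.X n) := hfree n
    have hp : Module.Projective R (G.X n) := Module.Projective.of_free
    exact (IsProjective.iff_projective _).mp hp
  exact CochainComplex.isKProjective_of_projective G b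

lemma hasFreeModel_obj₃ (T : Triangle (Dual.D R)) (hT : T ∈ distTriang _) (m : ℤ)
    (h₁ : HasFreeModel (m + 1) T.obj₁) (h₂ : HasFreeModel m T.obj₂) :
    HasFreeModel m T.obj₃ := by
  obtain ⟨E₁, b₁, v₁, p₁, f₁, ⟨e₁⟩⟩ := h₁
  obtain ⟨E₂, b₂, v₂, p₂, f₂, ⟨e₂⟩⟩ := h₂
  have := kprojective_of_free E₁ b₁ v₁ p₁
  obtain ⟨φ, hφ⟩ := H56.exists_chainMap_of_isKProjective E₁ E₂ (e₁.hom ≫ T.mor₁ ≫ e₂.inv)
  obtain ⟨e₃⟩ := H56.nonempty_obj₃_iso_mappingCone T hT e₁.symm e₂.symm φ hφ
  refine ⟨CochainComplex.mappingCone φ, max (b₁ - 1) b₂, ?_, ?_, ?_, ⟨e₃.symm⟩⟩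
  · intro i hi
    have := max_lt_iff.mp hi
    exact isZero_mappingCone_X φ i (v₁ (i + 1) (by omega)) (v₂ i (by omega))
  · intro i
    obtain ⟨e⟩ := mappingCone_terms φ i
    have := p₁ (i + 1)
    have := p₂ i
    exact Module.Free.of_equiv e.symm
  · intro i hi
    obtain ⟨e⟩ := mappingCone_terms φ i
    have := f₁ (i + 1) (by omega)
    have := f₂ i hi
    exact Module.Finite.equiv e.symm

lemma hasFreeModel_obj₂ (T : Triangle (Dual.D R)) (hT : T ∈ distTriang _) (m : ℤ)
    (h₁ : HasFreeModel m T.obj₁) (h₃ : HasFreeModel m T.obj₃) :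
    HasFreeModel m T.obj₂ :=
  hasFreeModel_obj₃ T.invRotate (inv_rot_of_distTriang T hT) m
    (hasFreeModel_shift h₃ (-1) (m + 1) (by omega)) h₁

lemma hasFreeModel_obj₁ (T : Triangle (Dual.D R)) (hT : T ∈ distTriang _) (m : ℤ)
    (h₂ : HasFreeModel (m + 1) T.obj₂) (h₃ : HasFreeModel m T.obj₃) :
    HasFreeModel (m + 1) T.obj₁ := by
  have h := hasFreeModel_obj₃ T.rotate (rot_of_distTriang T hT) m h₂ h₃
  exact hasFreeModel_of_iso
    ((shiftFunctorCompIsoId (Dual.D R) (1 : ℤ) (-1) (by norm_num)).app T.obj₁)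
    (hasFreeModel_shift h (-1) (m + 1) (by omega))

lemma enough_free : ∀ X : ModuleCat.{u} R, ∃ (Y : ModuleCat.{u} R) (π : Y ⟶ X),
    Module.Free R Y ∧ Epi π := by
  intro X
  refine ⟨ModuleCat.of R (X →₀ R),
    ModuleCat.ofHom (Finsupp.linearCombination R (id : X → X)),
    (inferInstance : Module.Free R (X →₀ R)), ?_⟩
  rw [ModuleCat.epi_iff_surjective]
  exact Finsupp.linearCombination_id_surjective R X

theorem isPseudoCoherent_of_hasFreeModel {m : ℤ} {K : Dual.D R} (h : HasFreeModel m K) :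
    IsPseudoCoherent R m K := by
  obtain ⟨F, b, hb, hfree, hfin, ⟨e⟩⟩ := h
  obtain ⟨G, p, hG, hepi, hiso⟩ := exists_quot_lt m (b - m + 1).toNat F b hb (by omega)
  have : Epi p := HomologicalComplex.epi_of_epi_f p hepi
  have hS : (ShortComplex.mk (kernel.ι p) p (kernel.condition p)).ShortExact :=
    { exact := ShortComplex.exact_of_f_is_kernel _ (kernelIsKernel p)
      mono_f := by dsimp; infer_instance
      epi_g := by dsimp; infer_instance }
  have hdeg := (HomologicalComplex.shortExact_iff_degreewise_shortExact _).1 hS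
  have hE_low : ∀ i, i < m → IsZero ((kernel p).X i) := by
    intro i hi
    have := hiso i hi
    have hm : Mono ((kernel.ι p).f i) := (hdeg i).mono_f
    have h0 : (kernel.ι p).f i = 0 := by
      rw [← cancel_mono (p.f i), zero_comp, ← HomologicalComplex.comp_f, kernel.condition,
        HomologicalComplex.zero_f]
    exact IsZero.of_mono_eq_zero _ h0
  have hE_iso : ∀ i, m ≤ i → IsIso ((kernel.ι p).f i) := by
    intro i hi
    have hm : Mono ((kernel.ι p).f i) := (hdeg i).mono_f
    have he : Epi ((kernel.ι p).f i) := (hdeg i).exact.epi_f ((hG i hi).eq_of_tgt _ _)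
    exact isIso_of_mono_of_epi _
  have hE_out : VanishesOutside (kernel p) m b := by
    rintro i (hi | hi)
    · exact hE_low i hi
    · by_cases him : m ≤ i
      · have := hE_iso i him
        exact IsZero.of_iso (hb i hi) (asIso ((kernel.ι p).f i))
      · exact hE_low i (by omega)
  have hE_ff : TermwiseFiniteFree (kernel p) := by
    intro i
    by_cases him : m ≤ i
    · have := hE_iso i him
      have e' : (kernel p).X i ≃ₗ[R] F.X i := (asIso ((kernel.ι p).f i)).toLinearEquiv
      have := hfree i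
      have := hfin i him
      exact ⟨Module.Finite.equiv e'.symm, Module.Free.of_equiv e'.symm⟩
    · have hz := hE_low i (by omega)
      have : Subsingleton ((kernel p).X i) := ModuleCat.subsingleton_of_isZero hz
      exact ⟨inferInstance, Module.Free.of_subsingleton R _⟩
  have hT := triangleOfSES_distinguished hS
  have hz3 : ∀ i : ℤ, m ≤ i →
      IsZero ((homologyFunctor (ModuleCat.{u} R) i).obj (triangleOfSES hS).obj₃) := by
    intro i hi
    have : G.IsStrictlyLE (m - 1) := by
      rw [CochainComplex.isStrictlyLE_iff]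
      intro j hj
      exact hG j (by omega)
    exact (Q.obj G).isZero_of_isLE (m - 1) i (by omega)
  obtain ⟨h1, h2⟩ := (cond_iff _ hT m).2 hz3
  refine ⟨kernel p, m, b, Q.map (kernel.ι p) ≫ e.hom, hE_out, hE_ff, ?_, ?_⟩
  · intro i hi
    rw [Functor.map_comp]
    have h1' : IsIso ((homologyFunctor (ModuleCat.{u} R) i).map (Q.map (kernel.ι p))) := h1 i hi
    infer_instance
  · rw [Functor.map_comp]
    have h2' : Epi ((homologyFunctor (ModuleCat.{u} R) m).map (Q.map (kernel.ι p))) := h2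
    exact epi_comp _ _

theorem hasFreeModel_of_isPseudoCoherent {m : ℤ} {K : Dual.D R} (h : IsPseudoCoherent R m K) :
    HasFreeModel m K := by
  obtain ⟨E, a, b, α, hE, hff, h1, h2⟩ := h
  obtain ⟨C, β, γ, hT⟩ := distinguished_cocone_triangle α
  have hz := (cond_iff _ hT m).1 ⟨h1, h2⟩
  have hC : C.IsLE (m - 1) := by
    rw [isLE_iff]
    intro i hi
    exact hz i (by omega)
  have hC' : (C⟦(-1 : ℤ)⟧).IsLE m := t.isLE_shift C (m - 1) (-1) m (by omega)
  obtain ⟨C₀, hC₀, ⟨eC⟩⟩ := (C⟦(-1 : ℤ)⟧).exists_iso_Q_obj_of_isLE m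
  obtain ⟨G, ρ, hG, hGfree, -, hρ⟩ := H33.LeftRes.exists_resolution_int
    (P := fun X : ModuleCat.{u} R => Module.Free R X) enough_free
    ⟨ModuleCat.of R PUnit.{u + 1}, ModuleCat.isZero_of_subsingleton _,
      (inferInstance : Module.Free R PUnit.{u + 1})⟩ C₀ m
  have hGv : VanishesAbove G m := fun i hi => G.isZero_of_isStrictlyLE m i hi
  have := kprojective_of_free G m hGv hGfree
  have hT' := inv_rot_of_distTriang _ hT
  let e₁ : (Triangle.mk α β γ).invRotate.obj₁ ≅ Q.obj G := eC ≪≫ (asIso (Q.map ρ)).symm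
  obtain ⟨φ, hφ⟩ := H56.exists_chainMap_of_isKProjective G E
    (e₁.inv ≫ (Triangle.mk α β γ).invRotate.mor₁ ≫ (Iso.refl (Q.obj E)).hom)
  obtain ⟨e₃⟩ := H56.nonempty_obj₃_iso_mappingCone _ hT' e₁ (Iso.refl (Q.obj E)) φ hφ
  refine ⟨CochainComplex.mappingCone φ, max (m - 1) b, ?_, ?_, ?_, ⟨e₃.symm⟩⟩
  · intro i hi
    have := max_lt_iff.mp hi
    exact isZero_mappingCone_X φ i (hGv (i + 1) (by omega)) (hE i (Or.inr (by omega)))
  · intro i
    obtain ⟨e⟩ := mappingCone_terms φ i
    have := hGfree (i + 1)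
    have := (hff i).2
    exact Module.Free.of_equiv e.symm
  · intro i hi
    obtain ⟨e⟩ := mappingCone_terms φ i
    have : Subsingleton (G.X (i + 1)) :=
      ModuleCat.subsingleton_of_isZero (hGv (i + 1) (by omega))
    have := (hff i).1
    exact Module.Finite.equiv e.symm

theorem isPseudoCoherent_iff {m : ℤ} {K : Dual.D R} :
    IsPseudoCoherent R m K ↔ HasFreeModel m K :=
  ⟨hasFreeModel_of_isPseudoCoherent, isPseudoCoherent_of_hasFreeModel⟩

theorem isPseudoCoherent_of_iso {m : ℤ} {K L : Dual.D R} (e : K ≅ L)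
    (h : IsPseudoCoherent R m K) : IsPseudoCoherent R m L :=
  isPseudoCoherent_iff.2 (hasFreeModel_of_iso e (isPseudoCoherent_iff.1 h))

theorem isPseudoCoherent_shift {m : ℤ} {K : Dual.D R} (h : IsPseudoCoherent R m K) (n m' : ℤ)
    (hm : m' + n = m) : IsPseudoCoherent R m' (K⟦n⟧) :=
  isPseudoCoherent_iff.2 (hasFreeModel_shift (isPseudoCoherent_iff.1 h) n m' hm)

theorem isPseudoCoherent_mono {m m' : ℤ} (hmm : m ≤ m') {K : Dual.D R}
    (h : IsPseudoCoherent R m K) : IsPseudoCoherent R m' K :=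
  isPseudoCoherent_iff.2 (hasFreeModel_mono hmm (isPseudoCoherent_iff.1 h))

theorem isPseudoCoherent_obj₃ (T : Triangle (Dual.D R)) (hT : T ∈ distTriang _) (m : ℤ)
    (h₁ : IsPseudoCoherent R (m + 1) T.obj₁) (h₂ : IsPseudoCoherent R m T.obj₂) :
    IsPseudoCoherent R m T.obj₃ :=
  isPseudoCoherent_iff.2 (hasFreeModel_obj₃ T hT m (isPseudoCoherent_iff.1 h₁)
    (isPseudoCoherent_iff.1 h₂))

theorem isPseudoCoherent_obj₂ (T : Triangle (Dual.D R)) (hT : T ∈ distTriang _) (m : ℤ)
    (h₁ : IsPseudoCoherent R m T.obj₁) (h₃ : IsPseudoCoherent R m T.obj₃) :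
    IsPseudoCoherent R m T.obj₂ :=
  isPseudoCoherent_iff.2 (hasFreeModel_obj₂ T hT m (isPseudoCoherent_iff.1 h₁)
    (isPseudoCoherent_iff.1 h₃))

theorem isPseudoCoherent_obj₁ (T : Triangle (Dual.D R)) (hT : T ∈ distTriang _) (m : ℤ)
    (h₂ : IsPseudoCoherent R (m + 1) T.obj₂) (h₃ : IsPseudoCoherent R m T.obj₃) :
    IsPseudoCoherent R (m + 1) T.obj₁ :=
  isPseudoCoherent_iff.2 (hasFreeModel_obj₁ T hT m (isPseudoCoherent_iff.1 h₂)
    (isPseudoCoherent_iff.1 h₃))

end Groth.Agent.H35.MPCoh
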