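import Mathlib
import Groth.Prelude.Def_DRing2
import Groth.Prelude.Def_DDual2
import Groth.Agent.H35.MPCoh

/-!
Flat base change on derived categories of modules (helper35).  For a flat ring map `φ : A → B`,
extension of scalars is exact, hence induces `D(A) ⥤ D(B)` commuting with `Q` and the single functors.
Consequences: base change of tor amplitude, perfectness, (m-)pseudo-coherence of modules.
-/

set_option autoImplicit false
universe u
open CategoryTheory CategoryTheory.Limits
attribute [local instance] HasDerivedCategory.standard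

namespace Groth.Agent.H35.FlatBC

open DRing

variable {A B : Type u} [CommRing A] [CommRing B]

/-- the algebra instance implicitly used by `ModuleCat.extendScalars φ` -/
@[reducible] def algOf (φ : A →+* B) : Algebra A B := ((algebraMap B B).comp φ).toAlgebra

variable (φ : A →+* B)

/-- extension of scalars -/
noncomputable abbrev ext : ModuleCat.{u} A ⥤ ModuleCat.{u} B := ModuleCat.extendScalars.{u, u, u} φ

/-- termwise extension of scalars -/
noncomputable abbrev extCx : Cx A ⥤ Cx B := (ext φ).mapHomologicalComplex (ComplexShape.up ℤ)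

lemma vanishesOutside_ext (E : Cx A) (a b : ℤ) (h : VanishesOutside E a b) :
    VanishesOutside ((extCx φ).obj E) a b :=
  fun i hi => (ext φ).map_isZero (h i hi)

lemma vanishesAbove_ext (E : Cx A) (b : ℤ) (h : VanishesAbove E b) :
    VanishesAbove ((extCx φ).obj E) b :=
  fun i hi => (ext φ).map_isZero (h i hi)

set_option backward.isDefEq.respectTransparency false in
lemma flat_ext (X : ModuleCat.{u} A) [Module.Flat A X] : Module.Flat B ((ext φ).obj X) := by
  letI := algOf φ
  exact (inferInstance : Module.Flat B (TensorProduct A B X))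

set_option backward.isDefEq.respectTransparency false in
lemma finite_ext (X : ModuleCat.{u} A) [Module.Finite A X] : Module.Finite B ((ext φ).obj X) := by
  letI := algOf φ
  exact (inferInstance : Module.Finite B (TensorProduct A B X))

set_option backward.isDefEq.respectTransparency false in
lemma free_ext (X : ModuleCat.{u} A) [Module.Free A X] : Module.Free B ((ext φ).obj X) := by
  letI := algOf φ
  exact (inferInstance : Module.Free B (TensorProduct A B X))

set_option backward.isDefEq.respectTransparency false in
lemma projective_ext (X : ModuleCat.{u} A) [Module.Projective A X] :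
    Module.Projective B ((ext φ).obj X) := by
  letI := algOf φ
  exact (inferInstance : Module.Projective B (TensorProduct A B X))

theorem exists_iso (hφ : φ.Flat) (E : Cx A) (X : ModuleCat.{u} A)
    (e : toD E ≅ (DerivedCategory.singleFunctor (ModuleCat.{u} A) 0).obj X) :
    Nonempty (toD ((extCx φ).obj E) ≅
      (DerivedCategory.singleFunctor (ModuleCat.{u} B) 0).obj ((ext φ).obj X)) := by
  haveI : PreservesFiniteLimits (ext φ) := ModuleCat.preservesFiniteLimits_extendScalars_of_flat hφ
  haveI : PreservesFiniteColimits (ext φ) := inferInstance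
  exact ⟨((ext φ).mapDerivedCategoryFactors.app E).symm ≪≫ (ext φ).mapDerivedCategory.mapIso e ≪≫
    ((ext φ).mapDerivedCategorySingleFunctor 0).app X⟩

set_option backward.isDefEq.respectTransparency false in
theorem hasTorAmplitudeIn_bc (hφ : φ.Flat) (a b : ℤ) (M : Type u) [AddCommGroup M] [Module A M]
    (hM : HasTorAmplitudeIn A a b (Dual.inD A M)) :
    letI := algOf φ
    HasTorAmplitudeIn B a b (Dual.inD B (TensorProduct A B M)) := by
  letI := algOf φ
  obtain ⟨E, h1, h2, ⟨e⟩⟩ := hM
  obtain ⟨e'⟩ := exists_iso φ hφ E (ModuleCat.of A M) e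
  exact ⟨(extCx φ).obj E, vanishesOutside_ext φ E a b h1,
    fun i => haveI := h2 i; flat_ext φ (E.X i), ⟨e'⟩⟩

set_option backward.isDefEq.respectTransparency false in
theorem isPerfect_bc (hφ : φ.Flat) (M : Type u) [AddCommGroup M] [Module A M]
    (hM : IsPerfect A (Dual.inD A M)) :
    letI := algOf φ
    IsPerfect B (Dual.inD B (TensorProduct A B M)) := by
  letI := algOf φ
  obtain ⟨E, a, b, h1, h2, ⟨e⟩⟩ := hM
  obtain ⟨e'⟩ := exists_iso φ hφ E (ModuleCat.of A M) e
  exact ⟨(extCx φ).obj E, a, b, vanishesOutside_ext φ E a b h1,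
    fun i => ⟨haveI := (h2 i).1; finite_ext φ (E.X i), haveI := (h2 i).2; projective_ext φ (E.X i)⟩,
    ⟨e'⟩⟩

set_option backward.isDefEq.respectTransparency false in
theorem isPseudoCoherent'_bc (hφ : φ.Flat) (M : Type u) [AddCommGroup M] [Module A M]
    (hM : IsPseudoCoherent' A (Dual.inD A M)) :
    letI := algOf φ
    IsPseudoCoherent' B (Dual.inD B (TensorProduct A B M)) := by
  letI := algOf φ
  obtain ⟨E, b, h1, h2, ⟨e⟩⟩ := hM
  obtain ⟨e'⟩ := exists_iso φ hφ E (ModuleCat.of A M) e
  exact ⟨(extCx φ).obj E, b, vanishesAbove_ext φ E b h1,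
    fun i => ⟨haveI := (h2 i).1; finite_ext φ (E.X i), haveI := (h2 i).2; free_ext φ (E.X i)⟩,
    ⟨e'⟩⟩

set_option backward.isDefEq.respectTransparency false in
theorem isPseudoCoherent_bc (hφ : φ.Flat) (m : ℤ) (M : Type u) [AddCommGroup M] [Module A M]
    (hM : IsPseudoCoherent A m (Dual.inD A M)) :
    letI := algOf φ
    IsPseudoCoherent B m (Dual.inD B (TensorProduct A B M)) := by
  letI := algOf φ
  obtain ⟨E, b, h1, h2, h3, ⟨e⟩⟩ := MPCoh.isPseudoCoherent_iff.1 hM
  obtain ⟨e'⟩ := exists_iso φ hφ E (ModuleCat.of A M) e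
  exact MPCoh.isPseudoCoherent_iff.2 ⟨(extCx φ).obj E, b, vanishesAbove_ext φ E b h1,
    fun i => haveI := h2 i; free_ext φ (E.X i),
    fun i hi => haveI := h3 i hi; finite_ext φ (E.X i), ⟨e'⟩⟩

section Alg

variable [Algebra A B] [Module.Flat A B]

lemma algOf_eq : algOf (algebraMap A B) = (inferInstance : Algebra A B) :=
  Algebra.algebra_ext _ _ (fun _ => rfl)

theorem hasTorAmplitudeIn_baseChange (a b : ℤ) (M : Type u) [AddCommGroup M] [Module A M]
    (hM : HasTorAmplitudeIn A a b (Dual.inD A M)) :
    HasTorAmplitudeIn B a b (Dual.inD B (TensorProduct A B M)) := by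
  have h := hasTorAmplitudeIn_bc (algebraMap A B) (RingHom.flat_algebraMap_iff.2 inferInstance)
    a b M hM
  rw [algOf_eq] at h
  exact h

theorem isPerfect_baseChange (M : Type u) [AddCommGroup M] [Module A M]
    (hM : IsPerfect A (Dual.inD A M)) :
    IsPerfect B (Dual.inD B (TensorProduct A B M)) := by
  have h := isPerfect_bc (algebraMap A B) (RingHom.flat_algebraMap_iff.2 inferInstance) M hM
  rw [algOf_eq] at h
  exact h

theorem isPseudoCoherent'_baseChange (M : Type u) [AddCommGroup M] [Module A M]
    (hM : IsPseudoCoherent' A (Dual.inD A M)) :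
    IsPseudoCoherent' B (Dual.inD B (TensorProduct A B M)) := by
  have h := isPseudoCoherent'_bc (algebraMap A B) (RingHom.flat_algebraMap_iff.2 inferInstance) M hM
  rw [algOf_eq] at h
  exact h

theorem isPseudoCoherent_baseChange (m : ℤ) (M : Type u) [AddCommGroup M] [Module A M]
    (hM : IsPseudoCoherent A m (Dual.inD A M)) :
    IsPseudoCoherent B m (Dual.inD B (TensorProduct A B M)) := by
  have h := isPseudoCoherent_bc (algebraMap A B) (RingHom.flat_algebraMap_iff.2 inferInstance)
    m M hM
  rw [algOf_eq] at h
  exact h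

end Alg

end Groth.Agent.H35.FlatBC
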