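import Mathlib
import Groth.Prelude.Def_DRing2
import Groth.Agent.H12.FlatCxEW
import Groth.Agent.H35.MPCoh

/-!
Tor amplitude of objects of `D(R)` (helper35).  `DRing.HasTorAmplitudeIn R a b K` (a flat representative
vanishing outside `[a, b]`) is equivalent to `HasFlatModel a b K`: the cohomology of `K` vanishes outside
`[a, b]` and some bounded above complex `P` of flat modules representing `K` has `P ⊗ N` exact outside
`[a, b]` for all modules `N`.  Consequences: flat cokernel, two-out-of-three, direct summands.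
-/

set_option autoImplicit false
universe u
open CategoryTheory CategoryTheory.Limits Pretriangulated MonoidalCategory TensorProduct
attribute [local instance] HasDerivedCategory.standard

namespace Groth.Agent.H35.TorAmp

open DRing DerivedCategory Groth.Agent.H12.FlatCx

variable {R : Type u} [CommRing R]

/-! ### elementwise exactness -/

lemma exactAt_iff_elem (P : Cx R) (i j k : ℤ) (hi : i + 1 = j) (hk : j + 1 = k) :
    P.ExactAt j ↔ ∀ x : P.X j, (P.d j k).hom x = 0 → ∃ y : P.X i, (P.d i j).hom y = x := by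
  rw [HomologicalComplex.exactAt_iff' P i j k ((ComplexShape.up ℤ).prev_eq' hi)
    ((ComplexShape.up ℤ).next_eq' hk), ShortComplex.moduleCat_exact_iff]
  rfl

lemma exactAt_tensor_iff (P : Cx R) (N : ModuleCat.{u} R) (i j k : ℤ) (hi : i + 1 = j)
    (hk : j + 1 = k) :
    (CohIII.tensorObj P N).ExactAt j ↔
      ∀ x : P.X j ⊗[R] N, dT P N j k x = 0 → ∃ y : P.X i ⊗[R] N, dT P N i j y = x := by
  rw [HomologicalComplex.exactAt_iff_isZero_homology]
  exact isZero_T_iff P i j k ((ComplexShape.up ℤ).prev_eq' hi) ((ComplexShape.up ℤ).next_eq' hk) N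

lemma flat_prod (M N : Type u) [AddCommGroup M] [Module R M] [AddCommGroup N] [Module R N]
    (hM : Module.Flat R M) (hN : Module.Flat R N) : Module.Flat R (M × N) := by
  refine flat_of_exact_of_flat (LinearMap.inl R M N) (LinearMap.snd R M N) LinearMap.inl_injective
    LinearMap.snd_surjective ?_ hM hN
  intro y
  constructor
  · intro h
    refine ⟨y.1, ?_⟩
    ext
    · simp
    · simpa using h.symm
  · rintro ⟨x, rfl⟩
    rfl

/-- In a bounded above exact complex of flat modules all cokernels of differentials are flat. -/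
lemma flat_Wq_of_exact (P : Cx R) (b : ℤ) (hb : VanishesAbove P b) (hfl : TermwiseFlat P)
    (hex : ∀ i, P.ExactAt i) (i j : ℤ) (hij : i + 1 = j) : Module.Flat R (Wq P i j) := by
  have key : ∀ n : ℕ, ∀ i j : ℤ, i + 1 = j → b < j + n → Module.Flat R (Wq P i j) := by
    intro n
    induction n with
    | zero =>
      intro i j _ hj
      have : Subsingleton (P.X j) := ModuleCat.subsingleton_of_isZero (hb j (by simpa using hj))
      have : Subsingleton (Wq P i j) := (Submodule.mkQ_surjective _).subsingleton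
      infer_instance
    | succ n ih =>
      intro i j hij hj
      have h1 : Module.Flat R (Wq P j (j + 1)) := ih j (j + 1) rfl (by push_cast at hj; omega)
      have h2 : Module.Flat R (LinearMap.range (P.d j (j + 1)).hom) :=
        flat_range_of_flat_coker (P.d j (j + 1)).hom (hfl (j + 1)) h1
      have hker : LinearMap.range (P.d i j).hom = LinearMap.ker (P.d j (j + 1)).hom := by
        apply le_antisymm
        · rintro _ ⟨y, rfl⟩
          exact LinearMap.mem_ker.2 (d_d_apply P i j (j + 1) y)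
        · intro x hx
          exact LinearMap.mem_range.2
            ((exactAt_iff_elem P i j (j + 1) hij rfl).1 (hex j) x (LinearMap.mem_ker.1 hx))
      exact Module.Flat.of_linearEquiv
        ((Submodule.quotEquivOfEq _ _ hker) ≪≫ₗ (P.d j (j + 1)).hom.quotKerEquivRange)
  exact key (b - j + 1).toNat i j hij (by omega)

/-- A bounded above exact complex of flat modules stays exact after tensoring (elementwise). -/
lemma texact_of_exact (P : Cx R) (b : ℤ) (hb : VanishesAbove P b) (hfl : TermwiseFlat P)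
    (hex : ∀ i, P.ExactAt i) (N : Type u) [AddCommGroup N] [Module R N] (i j k : ℤ)
    (hi : i + 1 = j) (hk : j + 1 = k) (x : P.X j ⊗[R] N) (hx : dT P N j k x = 0) :
    ∃ y : P.X i ⊗[R] N, dT P N i j y = x := by
  subst hk
  haveI hW : Module.Flat R (P.X (j + 1) ⧸ LinearMap.range (P.d j (j + 1)).hom) :=
    flat_Wq_of_exact P b hb hfl hex j (j + 1) rfl
  have h1 : dT P N j (j + 1) = ((LinearMap.range (P.d j (j + 1)).hom).subtype.rTensor N) ∘ₗ
      ((P.d j (j + 1)).hom.rangeRestrict.rTensor N) := by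
    rw [← LinearMap.rTensor_comp, LinearMap.subtype_comp_codRestrict]
  have h2 : (P.d j (j + 1)).hom.rangeRestrict.rTensor N x = 0 := by
    apply rTensor_subtype_injective (LinearMap.range (P.d j (j + 1)).hom) N
    rw [map_zero, ← LinearMap.comp_apply, ← h1]
    exact hx
  have hex' : Function.Exact (P.d i j).hom (P.d j (j + 1)).hom.rangeRestrict := by
    intro y
    constructor
    · intro hy
      exact (exactAt_iff_elem P i j (j + 1) hi rfl).1 (hex j) y (congrArg Subtype.val hy)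
    · rintro ⟨z, rfl⟩
      exact Subtype.ext (d_d_apply P i j (j + 1) z)
  exact (rTensor_exact N hex' (LinearMap.surjective_rangeRestrict _) x).1 h2

lemma exactAt_tensor_of_exact (P : Cx R) (b : ℤ) (hb : VanishesAbove P b) (hfl : TermwiseFlat P)
    (hex : ∀ i, P.ExactAt i) (N : ModuleCat.{u} R) (j : ℤ) :
    (CohIII.tensorObj P N).ExactAt j := by
  rw [exactAt_tensor_iff P N (j - 1) j (j + 1) (by omega) rfl]
  intro x hx
  exact texact_of_exact P b hb hfl hex N (j - 1) j (j + 1) (by omega) rfl x hx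

/-! ### cohomology in `D(R)` -/

lemma exactAt_iff_isZero_H (X : Cx R) (i : ℤ) :
    X.ExactAt i ↔ IsZero ((homologyFunctor (ModuleCat.{u} R) i).obj (Q.obj X)) := by
  rw [HomologicalComplex.exactAt_iff_isZero_homology]
  exact ((homologyFunctorFactors (ModuleCat.{u} R) i).app X).isZero_iff.symm

lemma isZero_H_obj₂ (T : Triangle (Dual.D R)) (hT : T ∈ distTriang _) (i : ℤ)
    (h₁ : IsZero ((homologyFunctor (ModuleCat.{u} R) i).obj T.obj₁))
    (h₃ : IsZero ((homologyFunctor (ModuleCat.{u} R) i).obj T.obj₃)) :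
    IsZero ((homologyFunctor (ModuleCat.{u} R) i).obj T.obj₂) :=
  (HomologySequence.exact₂ T hT i).isZero_of_both_zeros (h₁.eq_of_src _ _) (h₃.eq_of_tgt _ _)

lemma isZero_H_obj₃ (T : Triangle (Dual.D R)) (hT : T ∈ distTriang _) (i j : ℤ) (hij : i + 1 = j)
    (h₂ : IsZero ((homologyFunctor (ModuleCat.{u} R) i).obj T.obj₂))
    (h₁ : IsZero ((homologyFunctor (ModuleCat.{u} R) j).obj T.obj₁)) :
    IsZero ((homologyFunctor (ModuleCat.{u} R) i).obj T.obj₃) :=
  (HomologySequence.exact₃ T hT i j hij).isZero_of_both_zeros (h₂.eq_of_src _ _)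
    (h₁.eq_of_tgt _ _)

lemma isZero_H_obj₁ (T : Triangle (Dual.D R)) (hT : T ∈ distTriang _) (i j : ℤ) (hij : i + 1 = j)
    (h₃ : IsZero ((homologyFunctor (ModuleCat.{u} R) i).obj T.obj₃))
    (h₂ : IsZero ((homologyFunctor (ModuleCat.{u} R) j).obj T.obj₂)) :
    IsZero ((homologyFunctor (ModuleCat.{u} R) j).obj T.obj₁) :=
  (HomologySequence.exact₁ T hT i j hij).isZero_of_both_zeros (h₃.eq_of_src _ _)
    (h₂.eq_of_tgt _ _)

/-! ### cones -/

section Cone

variable {X Y : Cx R} (ψ : X ⟶ Y)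

lemma exactAt_cone (i j : ℤ) (hij : i + 1 = j) (hY : Y.ExactAt i) (hX : X.ExactAt j) :
    (CochainComplex.mappingCone ψ).ExactAt i := by
  rw [exactAt_iff_isZero_H] at hY hX ⊢
  exact isZero_H_obj₃ _ (mappingCone_triangle_distinguished ψ) i j hij hY hX

lemma exactAt_tgt_of_cone (i : ℤ) (hX : X.ExactAt i)
    (hC : (CochainComplex.mappingCone ψ).ExactAt i) : Y.ExactAt i := by
  rw [exactAt_iff_isZero_H] at hX hC ⊢
  exact isZero_H_obj₂ _ (mappingCone_triangle_distinguished ψ) i hX hC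

lemma exactAt_src_of_cone (i j : ℤ) (hij : i + 1 = j)
    (hC : (CochainComplex.mappingCone ψ).ExactAt i) (hY : Y.ExactAt j) : X.ExactAt j := by
  rw [exactAt_iff_isZero_H] at hY hC ⊢
  exact isZero_H_obj₁ _ (mappingCone_triangle_distinguished ψ) i j hij hC hY

end Cone

/-- the tensor functor on complexes -/
noncomputable abbrev tF (N : ModuleCat.{u} R) : Cx R ⥤ Cx R :=
  (tensorRight N).mapHomologicalComplex (ComplexShape.up ℤ)

lemma flat_mappingCone {E₁ E₂ : Cx R} (φ : E₁ ⟶ E₂) (h₁ : TermwiseFlat E₁)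
    (h₂ : TermwiseFlat E₂) : TermwiseFlat (CochainComplex.mappingCone φ) := by
  intro i
  obtain ⟨e⟩ := MPCoh.mappingCone_terms φ i
  have := flat_prod _ _ (h₁ (i + 1)) (h₂ i)
  exact Module.Flat.of_linearEquiv e

lemma vanishesAbove_mappingCone {E₁ E₂ : Cx R} (φ : E₁ ⟶ E₂) (c₁ c₂ : ℤ)
    (h₁ : VanishesAbove E₁ c₁) (h₂ : VanishesAbove E₂ c₂) :
    VanishesAbove (CochainComplex.mappingCone φ) (max (c₁ - 1) c₂) := by
  intro i hi
  have := max_lt_iff.mp hi
  exact MPCoh.isZero_mappingCone_X φ i (h₁ (i + 1) (by omega)) (h₂ i (by omega))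

/-- A quasi-isomorphism between bounded above complexes of flat modules remains one after
tensoring with any module. -/
lemma exactAt_tensor_iff_of_quasiIso {P P' : Cx R} (φ : P ⟶ P') (hφ : QuasiIso φ) (c c' : ℤ)
    (hP : VanishesAbove P c) (hP' : VanishesAbove P' c') (fl : TermwiseFlat P)
    (fl' : TermwiseFlat P') (N : ModuleCat.{u} R) (i : ℤ) :
    (CohIII.tensorObj P N).ExactAt i ↔ (CohIII.tensorObj P' N).ExactAt i := by
  have hT := mappingCone_triangle_distinguished φ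
  have hiso : IsIso (Q.mapTriangle.obj (CochainComplex.mappingCone.triangle φ)).mor₁ := by
    show IsIso (Q.map φ)
    infer_instance
  have hz : IsZero (Q.obj (CochainComplex.mappingCone φ)) :=
    (Triangle.isZero₃_iff_isIso₁ _ hT).2 hiso
  have hex : ∀ j, (CochainComplex.mappingCone φ).ExactAt j := by
    intro j
    rw [exactAt_iff_isZero_H]
    exact (homologyFunctor (ModuleCat.{u} R) j).map_isZero hz
  have hC : ∀ j, (CohIII.tensorObj (CochainComplex.mappingCone φ) N).ExactAt j :=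
    exactAt_tensor_of_exact _ _ (vanishesAbove_mappingCone φ c c' hP hP')
      (flat_mappingCone φ fl fl') hex N
  have hC' : ∀ j, (CochainComplex.mappingCone ((tF N).map φ)).ExactAt j := fun j =>
    (hC j).of_iso (CochainComplex.mappingCone.mapHomologicalComplexIso φ (tensorRight N))
  constructor
  · intro h
    exact exactAt_tgt_of_cone ((tF N).map φ) i h (hC' i)
  · intro h
    exact exactAt_src_of_cone ((tF N).map φ) (i - 1) i (by omega) (hC' (i - 1)) h

/-! ### free resolutions -/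

lemma exists_free_resolution (P : Cx R) (c : ℤ) (h : VanishesAbove P c) :
    ∃ (F : Cx R) (ρ : F ⟶ P), VanishesAbove F c ∧ (∀ i, Module.Free R (F.X i)) ∧ QuasiIso ρ := by
  have : P.IsStrictlyLE c := by
    rw [CochainComplex.isStrictlyLE_iff]
    intro i hi
    exact h i hi
  obtain ⟨F, ρ, hF, hFfree, -, hρ⟩ := H33.LeftRes.exists_resolution_int
    (P := fun X : ModuleCat.{u} R => Module.Free R X) MPCoh.enough_free
    ⟨ModuleCat.of R PUnit.{u + 1}, ModuleCat.isZero_of_subsingleton _,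
      (inferInstance : Module.Free R PUnit.{u + 1})⟩ P c
  exact ⟨F, ρ, fun i hi => F.isZero_of_isStrictlyLE c i hi, hFfree, hρ⟩

lemma free_flat (F : Cx R) (h : ∀ i, Module.Free R (F.X i)) : TermwiseFlat F := fun i => by
  have := h i
  infer_instance

lemma exists_free_model_of_isLE (K : Dual.D R) (b : ℤ) [K.IsLE b] :
    ∃ F : Cx R, VanishesAbove F b ∧ (∀ i, Module.Free R (F.X i)) ∧ Nonempty (Q.obj F ≅ K) := by
  obtain ⟨C₀, hC₀, ⟨eC⟩⟩ := K.exists_iso_Q_obj_of_isLE b
  obtain ⟨F, ρ, hF, hfree, hρ⟩ :=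
    exists_free_resolution C₀ b (fun i hi => C₀.isZero_of_isStrictlyLE b i hi)
  exact ⟨F, hF, hfree, ⟨asIso (Q.map ρ) ≪≫ eC.symm⟩⟩

lemma exactAt_tensor_iff_of_iso {P P' : Cx R} (c c' : ℤ) (hP : VanishesAbove P c)
    (hP' : VanishesAbove P' c') (fl : TermwiseFlat P) (fl' : TermwiseFlat P')
    (e : Q.obj P ≅ Q.obj P') (N : ModuleCat.{u} R) (i : ℤ) :
    (CohIII.tensorObj P N).ExactAt i ↔ (CohIII.tensorObj P' N).ExactAt i := by
  obtain ⟨F, ρ, hF, hfree, hρ⟩ := exists_free_resolution P c hP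
  have := MPCoh.kprojective_of_free F c hF hfree
  obtain ⟨ψ, hψ⟩ := H56.exists_chainMap_of_isKProjective F P' (Q.map ρ ≫ e.hom)
  have hψq : QuasiIso ψ := by
    rw [← isIso_Q_map_iff_quasiIso, hψ]
    infer_instance
  exact (exactAt_tensor_iff_of_quasiIso ρ hρ c c hF hP (free_flat F hfree) fl N i).symm.trans
    (exactAt_tensor_iff_of_quasiIso ψ hψq c c' hF hP' (free_flat F hfree) fl' N i)

/-! ### the Tor-vanishing form of tor amplitude -/

/-- `P ⊗ N` is exact outside `[a, b]` for all `N`. -/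
def TorVanish (a b : ℤ) (P : Cx R) : Prop :=
  ∀ (N : ModuleCat.{u} R) (i : ℤ), (i < a ∨ b < i) → (CohIII.tensorObj P N).ExactAt i

/-- the cohomology of `K` vanishes outside `[a, b]`. -/
def HVanish (a b : ℤ) (K : Dual.D R) : Prop :=
  ∀ i : ℤ, (i < a ∨ b < i) → IsZero ((homologyFunctor (ModuleCat.{u} R) i).obj K)

/-- Tor amplitude in `[a, b]`, in Tor-vanishing form. -/
def HasFlatModel (a b : ℤ) (K : Dual.D R) : Prop :=
  HVanish a b K ∧ ∃ (P : Cx R) (c : ℤ), VanishesAbove P c ∧ TermwiseFlat P ∧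
    Nonempty (toD P ≅ K) ∧ TorVanish a b P

lemma torVanish_of_iso {P P' : Cx R} (c c' : ℤ) (hP : VanishesAbove P c)
    (hP' : VanishesAbove P' c') (fl : TermwiseFlat P) (fl' : TermwiseFlat P')
    (e : Q.obj P ≅ Q.obj P') {a b : ℤ} (h : TorVanish a b P) : TorVanish a b P' :=
  fun N i hi => (exactAt_tensor_iff_of_iso c c' hP hP' fl fl' e N i).1 (h N i hi)

lemma hVanish_of_iso {K L : Dual.D R} (e : K ≅ L) {a b : ℤ} (h : HVanish a b K) :
    HVanish a b L :=
  fun i hi => (h i hi).of_iso ((homologyFunctor (ModuleCat.{u} R) i).mapIso e.symm)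

lemma hasFlatModel_of_iso {K L : Dual.D R} (e : K ≅ L) {a b : ℤ} (h : HasFlatModel a b K) :
    HasFlatModel a b L := by
  obtain ⟨h1, P, c, hP, fl, ⟨e'⟩, hT⟩ := h
  exact ⟨hVanish_of_iso e h1, P, c, hP, fl, ⟨e' ≪≫ e⟩, hT⟩

lemma flat_Wq_of_torVanish (P : Cx R) (fl : TermwiseFlat P) (a b : ℤ) (h : TorVanish a b P) :
    Module.Flat R (Wq P (a - 1) a) := by
  have hEpi : EpiAt P (a - 1 - 1) (a - 1) a := by
    intro M N _ _ _ _ g _ y hy
    obtain ⟨y₁, hy₁⟩ := (exactAt_tensor_iff P (ModuleCat.of R N) (a - 1 - 1) (a - 1) a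
      (by omega) (by omega)).1 (h (ModuleCat.of R N) (a - 1) (Or.inl (by omega))) y hy
    exact ⟨0, by rw [map_zero], y₁, by rw [map_zero, zero_add, hy₁]⟩
  exact flat_of_monoAt P (a - 1) a (a + 1) (fl (a + 1))
    (monoAt_of_epiAt P (a - 1 - 1) (a - 1) a (a + 1) (fl a) hEpi)

theorem hasFlatModel_of_hasTorAmplitudeIn {a b : ℤ} {K : Dual.D R}
    (h : HasTorAmplitudeIn R a b K) : HasFlatModel a b K := by
  obtain ⟨E, hE, hfl, ⟨e⟩⟩ := h
  refine ⟨fun i hi => ?_, E, b, fun i hi => hE i (Or.inr hi), hfl, ⟨e⟩, fun N i hi => ?_⟩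
  · refine IsZero.of_iso ?_ ((homologyFunctor (ModuleCat.{u} R) i).mapIso e.symm)
    rw [← exactAt_iff_isZero_H]
    exact ShortComplex.exact_of_isZero_X₂ _ (hE i hi)
  · exact ShortComplex.exact_of_isZero_X₂ _ ((tensorRight N).map_isZero (hE i hi))

theorem hasTorAmplitudeIn_of_hasFlatModel {a b : ℤ} {K : Dual.D R} (h : HasFlatModel a b K) :
    HasTorAmplitudeIn R a b K := by
  obtain ⟨hH, P, c, hP, fl, ⟨e⟩, hT⟩ := h
  have hKle : K.IsLE b := by
    rw [isLE_iff]
    intro i hi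
    exact hH i (Or.inr hi)
  obtain ⟨F, hF, hfree, ⟨eF⟩⟩ := exists_free_model_of_isLE K b
  have hflF := free_flat F hfree
  have hTF : TorVanish a b F := torVanish_of_iso c b hP hF fl hflF (e ≪≫ eF.symm) hT
  have hFge : F.IsGE a := by
    rw [CochainComplex.isGE_iff]
    intro i hi
    rw [exactAt_iff_isZero_H]
    exact (hH i (Or.inl hi)).of_iso ((homologyFunctor (ModuleCat.{u} R) i).mapIso eF)
  have hW : Module.Flat R (Wq F (a - 1) a) := flat_Wq_of_torVanish F hflF a b hTF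
  refine ⟨F.truncGE a, ?_, ?_, ⟨(asIso (Q.map (F.πTruncGE a))).symm ≪≫ eF⟩⟩
  · intro i hi
    by_cases hia : i < a
    · exact (F.truncGE a).isZero_of_isStrictlyGE a i hia
    · have hib : b < i := by omega
      by_cases hia' : i = a
      · subst hia'
        refine IsZero.of_iso ?_ (F.truncGEXIsoOpcycles i)
        exact IsZero.of_epi (F.pOpcycles _) (hF _ hib)
      · exact IsZero.of_iso (hF _ hib) (F.truncGEXIso a i (by omega))
  · intro i
    by_cases hia : i < a
    · have : Subsingleton ((F.truncGE a).X i) :=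
        ModuleCat.subsingleton_of_isZero ((F.truncGE a).isZero_of_isStrictlyGE a i hia)
      infer_instance
    · by_cases hia' : i = a
      · subst hia'
        have e1 := (F.truncGEXIsoOpcycles i).toLinearEquiv
        have e2 := opcyclesEquiv F (i - 1) i
          ((ComplexShape.up ℤ).prev_eq' (show (i - 1) + 1 = i by omega))
        exact Module.Flat.of_linearEquiv (e1 ≪≫ₗ e2)
      · have e1 := (F.truncGEXIso a i (by omega)).toLinearEquiv
        have := hflF i
        exact Module.Flat.of_linearEquiv e1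

theorem hasTorAmplitudeIn_iff {a b : ℤ} {K : Dual.D R} :
    HasTorAmplitudeIn R a b K ↔ HasFlatModel a b K :=
  ⟨hasFlatModel_of_hasTorAmplitudeIn, hasTorAmplitudeIn_of_hasFlatModel⟩

/-! ### consequences -/

/-- S6944: flat cokernel. -/
theorem flat_cokernel (K : Cx R) (b : ℤ) (hb : VanishesAbove K b) (hflat : TermwiseFlat K)
    (a c : ℤ) (hamp : HasTorAmplitudeIn R a c (toD K)) :
    Module.Flat R ((K.X a) ⧸ LinearMap.range (K.d (a - 1) a).hom) := by
  obtain ⟨-, P, c', hP, fl, ⟨e⟩, hT⟩ := hasFlatModel_of_hasTorAmplitudeIn hamp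
  exact flat_Wq_of_torVanish K hflat a c (torVanish_of_iso c' b hP hb fl hflat e hT)

lemma exists_free_model {a b : ℤ} {K : Dual.D R} (h : HasFlatModel a b K) :
    ∃ (F : Cx R) (c : ℤ), VanishesAbove F c ∧ (∀ i, Module.Free R (F.X i)) ∧
      Nonempty (toD F ≅ K) ∧ TorVanish a b F := by
  obtain ⟨-, P, c, hP, fl, ⟨e⟩, hT⟩ := h
  obtain ⟨F, ρ, hF, hfree, hρ⟩ := exists_free_resolution P c hP
  have := hρ
  exact ⟨F, c, hF, hfree, ⟨asIso (Q.map ρ) ≪≫ e⟩,
    torVanish_of_iso c c hP hF fl (free_flat F hfree) (asIso (Q.map ρ)).symm hT⟩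

lemma torVanish_mappingCone {E₁ E₂ : Cx R} (φ : E₁ ⟶ E₂) (a b : ℤ)
    (h₁ : TorVanish (a + 1) (b + 1) E₁) (h₂ : TorVanish a b E₂) :
    TorVanish a b (CochainComplex.mappingCone φ) := by
  intro N i hi
  have hc := exactAt_cone ((tF N).map φ) i (i + 1) rfl (h₂ N i hi) (h₁ N (i + 1) (by omega))
  exact hc.of_iso (CochainComplex.mappingCone.mapHomologicalComplexIso φ (tensorRight N)).symm

theorem hasFlatModel_obj₃ (T : Triangle (Dual.D R)) (hT : T ∈ distTriang _) (a b : ℤ)
    (h₁ : HasFlatModel (a + 1) (b + 1) T.obj₁) (h₂ : HasFlatModel a b T.obj₂) :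
    HasFlatModel a b T.obj₃ := by
  obtain ⟨F₁, c₁, v₁, p₁, ⟨e₁⟩, t₁⟩ := exists_free_model h₁
  obtain ⟨F₂, c₂, v₂, p₂, ⟨e₂⟩, t₂⟩ := exists_free_model h₂
  have := MPCoh.kprojective_of_free F₁ c₁ v₁ p₁
  obtain ⟨φ, hφ⟩ := H56.exists_chainMap_of_isKProjective F₁ F₂ (e₁.hom ≫ T.mor₁ ≫ e₂.inv)
  obtain ⟨e₃⟩ := H56.nonempty_obj₃_iso_mappingCone T hT e₁.symm e₂.symm φ hφ
  refine ⟨fun i hi => ?_, CochainComplex.mappingCone φ, _,
    vanishesAbove_mappingCone φ c₁ c₂ v₁ v₂,
    flat_mappingCone φ (free_flat F₁ p₁) (free_flat F₂ p₂), ⟨e₃.symm⟩,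
    torVanish_mappingCone φ a b t₁ t₂⟩
  exact isZero_H_obj₃ T hT i (i + 1) rfl (h₂.1 i hi) (h₁.1 (i + 1) (by omega))

lemma hasTorAmplitudeIn_of_iso {a b : ℤ} {K L : Dual.D R} (e : K ≅ L)
    (h : HasTorAmplitudeIn R a b K) : HasTorAmplitudeIn R a b L := by
  obtain ⟨E, hE, fl, ⟨e'⟩⟩ := h
  exact ⟨E, hE, fl, ⟨e' ≪≫ e⟩⟩

lemma hasTorAmplitudeIn_shift {a b : ℤ} {K : Dual.D R} (h : HasTorAmplitudeIn R a b K)
    (n a' b' : ℤ) (ha : a' + n = a) (hb : b' + n = b) :
    HasTorAmplitudeIn R a' b' (K⟦n⟧) := by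
  obtain ⟨E, hE, fl, ⟨e⟩⟩ := h
  refine ⟨E⟦n⟧, fun i hi => hE (i + n) (by omega), fun i => fl (i + n),
    ⟨(Q.commShiftIso n).app E ≪≫ (shiftFunctor (Dual.D R) n).mapIso e⟩⟩

lemma hasTorAmplitudeIn_mono {a b a' b' : ℤ} (ha : a' ≤ a) (hb : b ≤ b') {K : Dual.D R}
    (h : HasTorAmplitudeIn R a b K) : HasTorAmplitudeIn R a' b' K := by
  obtain ⟨E, hE, fl, he⟩ := h
  exact ⟨E, fun i hi => hE i (by omega), fl, he⟩

/-- S7027 (1). -/
theorem hasTorAmplitudeIn_obj₃ (T : Triangle (Dual.D R)) (hT : T ∈ distTriang _) (a b : ℤ)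
    (h₁ : HasTorAmplitudeIn R (a + 1) (b + 1) T.obj₁) (h₂ : HasTorAmplitudeIn R a b T.obj₂) :
    HasTorAmplitudeIn R a b T.obj₃ :=
  hasTorAmplitudeIn_iff.2 (hasFlatModel_obj₃ T hT a b (hasTorAmplitudeIn_iff.1 h₁)
    (hasTorAmplitudeIn_iff.1 h₂))

/-- S7027 (2). -/
theorem hasTorAmplitudeIn_obj₂ (T : Triangle (Dual.D R)) (hT : T ∈ distTriang _) (a b : ℤ)
    (h₁ : HasTorAmplitudeIn R a b T.obj₁) (h₃ : HasTorAmplitudeIn R a b T.obj₃) :
    HasTorAmplitudeIn R a b T.obj₂ :=
  hasTorAmplitudeIn_obj₃ T.invRotate (inv_rot_of_distTriang T hT) a b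
    (hasTorAmplitudeIn_shift h₃ (-1) (a + 1) (b + 1) (by omega) (by omega)) h₁

/-- S7027 (3). -/
theorem hasTorAmplitudeIn_obj₁ (T : Triangle (Dual.D R)) (hT : T ∈ distTriang _) (a b : ℤ)
    (h₂ : HasTorAmplitudeIn R (a + 1) (b + 1) T.obj₂) (h₃ : HasTorAmplitudeIn R a b T.obj₃) :
    HasTorAmplitudeIn R (a + 1) (b + 1) T.obj₁ := by
  have h := hasTorAmplitudeIn_obj₃ T.rotate (rot_of_distTriang T hT) a b h₂ h₃
  exact hasTorAmplitudeIn_of_iso
    ((shiftFunctorCompIsoId (Dual.D R) (1 : ℤ) (-1) (by norm_num)).app T.obj₁)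
    (hasTorAmplitudeIn_shift h (-1) (a + 1) (b + 1) (by omega) (by omega))

/-! ### direct summands -/

lemma nonempty_homotopy_of_Q_map_eq {E₁ E₂ : Cx R} [E₁.IsKProjective] (f g : E₁ ⟶ E₂)
    (h : Q.map f = Q.map g) : Nonempty (Homotopy f g) := by
  have hinj := (CochainComplex.IsKProjective.Qh_map_bijective E₁
    ((HomotopyCategory.quotient (ModuleCat.{u} R) (ComplexShape.up ℤ)).obj E₂)).injective
  have key : ∀ k : E₁ ⟶ E₂,
      Qh.map ((HomotopyCategory.quotient (ModuleCat.{u} R) (ComplexShape.up ℤ)).map k) =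
        (quotientCompQhIso (ModuleCat.{u} R)).hom.app E₁ ≫ Q.map k ≫
          (quotientCompQhIso (ModuleCat.{u} R)).inv.app E₂ := by
    intro k
    have nat := (quotientCompQhIso (ModuleCat.{u} R)).hom.naturality k
    have h1 : (HomotopyCategory.quotient (ModuleCat.{u} R) (ComplexShape.up ℤ) ⋙ Qh).map k =
        Qh.map ((HomotopyCategory.quotient (ModuleCat.{u} R) (ComplexShape.up ℤ)).map k) := rfl
    rw [← h1, ← Category.assoc, ← nat, Category.assoc, Iso.hom_inv_id_app, Category.comp_id]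
  have heq : (HomotopyCategory.quotient (ModuleCat.{u} R) (ComplexShape.up ℤ)).map f =
      (HomotopyCategory.quotient (ModuleCat.{u} R) (ComplexShape.up ℤ)).map g :=
    hinj (by rw [key f, key g, h])
  exact ⟨HomotopyCategory.homotopyOfEq _ _ heq⟩

lemma exactAt_tensor_of_retract {F₁ F₂ : Cx R} [F₁.IsKProjective] (ι : F₁ ⟶ F₂) (π : F₂ ⟶ F₁)
    (h : Q.map (ι ≫ π) = 𝟙 _) (N : ModuleCat.{u} R) (i : ℤ)
    (h₂ : (CohIII.tensorObj F₂ N).ExactAt i) : (CohIII.tensorObj F₁ N).ExactAt i := by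
  obtain ⟨H⟩ := nonempty_homotopy_of_Q_map_eq (ι ≫ π) (𝟙 F₁)
    (by rw [h, CategoryTheory.Functor.map_id])
  have e := ((tensorRight N).mapHomotopy H).homologyMap_eq i
  rw [HomologicalComplex.exactAt_iff_isZero_homology] at h₂ ⊢
  rw [IsZero.iff_id_eq_zero]
  have h3 : 𝟙 ((CohIII.tensorObj F₁ N).homology i) =
      HomologicalComplex.homologyMap ((tF N).map ι) i ≫
        HomologicalComplex.homologyMap ((tF N).map π) i := by
    rw [← HomologicalComplex.homologyMap_comp, ← CategoryTheory.Functor.map_comp, e,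
      CategoryTheory.Functor.map_id, HomologicalComplex.homologyMap_id]
  rw [h3, h₂.eq_of_tgt (HomologicalComplex.homologyMap ((tF N).map ι) i) 0, zero_comp]

/-- Tor amplitude passes to retracts. -/
theorem hasFlatModel_of_retract {a b : ℤ} {K M : Dual.D R} (i : K ⟶ M) (p : M ⟶ K)
    (hip : i ≫ p = 𝟙 K) (h : HasFlatModel a b M) : HasFlatModel a b K := by
  have hH : HVanish a b K := by
    intro j hj
    rw [IsZero.iff_id_eq_zero, ← CategoryTheory.Functor.map_id, ← hip,
      CategoryTheory.Functor.map_comp,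
      (h.1 j hj).eq_of_tgt ((homologyFunctor (ModuleCat.{u} R) j).map i) 0, zero_comp]
  have hKle : K.IsLE b := by
    rw [isLE_iff]
    intro j hj
    exact hH j (Or.inr hj)
  obtain ⟨F, hF, hfree, ⟨eF⟩⟩ := exists_free_model_of_isLE K b
  obtain ⟨G, c, hG, hGfree, ⟨eG⟩, hT⟩ := exists_free_model h
  have := MPCoh.kprojective_of_free F b hF hfree
  have := MPCoh.kprojective_of_free G c hG hGfree
  obtain ⟨ι, hι⟩ := H56.exists_chainMap_of_isKProjective F G (eF.hom ≫ i ≫ eG.inv)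
  obtain ⟨π, hπ⟩ := H56.exists_chainMap_of_isKProjective G F (eG.hom ≫ p ≫ eF.inv)
  have hιπ : Q.map (ι ≫ π) = 𝟙 _ := by
    rw [CategoryTheory.Functor.map_comp, hι, hπ]
    simp only [Category.assoc, Iso.inv_hom_id_assoc]
    rw [reassoc_of% hip, Iso.hom_inv_id]
  exact ⟨hH, F, b, hF, free_flat F hfree, ⟨eF⟩,
    fun N j hj => exactAt_tensor_of_retract ι π hιπ N j (hT N j hj)⟩

end Groth.Agent.H35.TorAmp
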