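import Mathlib
import Groth.Prelude.Def_KFlatSite
import Groth.Agent.H35.FlatBC
import Groth.Agent.H31.KFlatRing
import Groth.Agent.H31.TotFunctor

/-!
K-flatness is preserved by extension of scalars (helper35): S6906.
-/

set_option autoImplicit false
universe u
open CategoryTheory CategoryTheory.Limits MonoidalCategory TensorProduct HomologicalComplex
open ChangeOfRings

namespace Groth.Agent.H35.KFlatBC

open DRing Groth.Agent.H35.FlatBC Groth.Agent.H31 Groth.Agent.H31.KFlat

section Generic

variable {A B : Type*} [Category A] [Category B] [Abelian A] [Abelian B]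

/-- An exact functor preserves acyclic complexes. -/
theorem acyclic_map_of_exact (H : A ⥤ B) [H.Additive] [PreservesFiniteLimits H]
    [PreservesFiniteColimits H] (L : CochainComplex A ℤ) (hL : L.Acyclic) :
    ((H.mapHomologicalComplex (ComplexShape.up ℤ)).obj L).Acyclic := by
  intro n
  rw [exactAt_iff' _ (n - 1) n (n + 1) (by simp) (by simp)]
  have hex : (L.sc' (n - 1) n (n + 1)).Exact :=
    (L.exactAt_iff' _ _ _ (by simp) (by simp)).1 (hL n)
  exact hex.map H

/-- A faithful exact functor reflects acyclic complexes. -/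
theorem acyclic_of_acyclic_map (H : A ⥤ B) [H.Additive] [PreservesFiniteLimits H]
    [PreservesFiniteColimits H] [H.Faithful] (L : CochainComplex A ℤ)
    (hL : ((H.mapHomologicalComplex (ComplexShape.up ℤ)).obj L).Acyclic) : L.Acyclic := by
  intro n
  rw [exactAt_iff' _ (n - 1) n (n + 1) (by simp) (by simp)]
  have hex : (((H.mapHomologicalComplex (ComplexShape.up ℤ)).obj L).sc' (n - 1) n (n + 1)).Exact :=
    (exactAt_iff' _ _ _ _ (by simp) (by simp)).1 (hL n)
  exact (ShortComplex.exact_map_iff_of_faithful (L.sc' (n - 1) n (n + 1)) H).1 hex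

end Generic

variable {R R' : Type u} [CommRing R] [CommRing R'] (φ : R →+* R')

/-- restriction of scalars -/
noncomputable abbrev Res : ModuleCat.{u} R' ⥤ ModuleCat.{u} R := ModuleCat.restrictScalars.{u} φ

set_option backward.isDefEq.respectTransparency false in
/-- `M ⊗_{R'} (R' ⊗_R N) ≃ M ⊗_R N`, as `R`-modules. -/
noncomputable def cancelEquiv (M : ModuleCat.{u} R') (N : ModuleCat.{u} R) :
    ((Res φ).obj (M ⊗ (ext φ).obj N) : ModuleCat.{u} R) ≃ₗ[R]
      (((Res φ).obj M ⊗ N : ModuleCat.{u} R)) := by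
  letI := algOf φ
  letI : Module R M := Module.compHom M φ
  haveI : IsScalarTower R R' M := ⟨fun r s m => by
    show (φ r * s) • m = φ r • (s • m)
    rw [mul_smul]⟩
  exact (AlgebraTensorModule.cancelBaseChange R R' R' M N).restrictScalars R

set_option backward.isDefEq.respectTransparency false in
lemma cancelEquiv_tmul (M : ModuleCat.{u} R') (N : ModuleCat.{u} R) (m : M) (s : R') (n : N) :
    cancelEquiv φ M N (m ⊗ₜ (s ⊗ₜ[R,φ] n)) = (show ((Res φ).obj M) from (s • m)) ⊗ₜ n :=
  rfl

/-- The projection formula isomorphism. -/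
noncomputable def cancelIso (M : ModuleCat.{u} R') (N : ModuleCat.{u} R) :
    (Res φ).obj (M ⊗ (ext φ).obj N) ≅ (Res φ).obj M ⊗ N :=
  (cancelEquiv φ M N).toModuleIso

set_option backward.isDefEq.respectTransparency false in
lemma cancelIso_natural_left {M M' : ModuleCat.{u} R'} (f : M ⟶ M') (N : ModuleCat.{u} R) :
    (Res φ).map (f ▷ (ext φ).obj N) ≫ (cancelIso φ M' N).hom =
      (cancelIso φ M N).hom ≫ ((Res φ).map f ▷ N) := by
  apply ModuleCat.hom_ext
  apply LinearMap.ext
  intro (x : M ⊗[R'] ((ext φ).obj N))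
  induction x using TensorProduct.induction_on with
  | zero => simp
  | tmul m y =>
    induction y using TensorProduct.induction_on with
    | zero => simp
    | tmul s n =>
      show cancelEquiv φ M' N (f.hom m ⊗ₜ (s ⊗ₜ[R,φ] n)) =
        ((Res φ).map f).hom.rTensor N (cancelEquiv φ M N (m ⊗ₜ (s ⊗ₜ[R,φ] n)))
      rw [cancelEquiv_tmul, cancelEquiv_tmul]
      show _ = (show ((Res φ).obj M') from f.hom (s • m)) ⊗ₜ[R] n
      rw [map_smul]
    | add y₁ y₂ h₁ h₂ => simp only [tmul_add, map_add, h₁, h₂]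
  | add x₁ x₂ h₁ h₂ => simp only [map_add, h₁, h₂]

set_option backward.isDefEq.respectTransparency false in
lemma cancelIso_natural_right (M : ModuleCat.{u} R') {N N' : ModuleCat.{u} R} (g : N ⟶ N') :
    (Res φ).map (M ◁ (ext φ).map g) ≫ (cancelIso φ M N').hom =
      (cancelIso φ M N).hom ≫ ((Res φ).obj M ◁ g) := by
  apply ModuleCat.hom_ext
  apply LinearMap.ext
  intro (x : M ⊗[R'] ((ext φ).obj N))
  induction x using TensorProduct.induction_on with
  | zero => simp
  | tmul m y =>
    induction y using TensorProduct.induction_on with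
    | zero => simp
    | tmul s n =>
      show cancelEquiv φ M N' (m ⊗ₜ (s ⊗ₜ[R,φ] g.hom n)) =
        g.hom.lTensor ((Res φ).obj M) (cancelEquiv φ M N (m ⊗ₜ (s ⊗ₜ[R,φ] n)))
      rw [cancelEquiv_tmul, cancelEquiv_tmul]
      rfl
    | add y₁ y₂ h₁ h₂ => simp only [tmul_add, map_add, h₁, h₂]
  | add x₁ x₂ h₁ h₂ => simp only [map_add, h₁, h₂]

/-- Extension of scalars preserves K-flat complexes. -/
theorem isKFlat_extCx (K : Cx R) (hK : DRing.IsKFlat R K) :
    DRing.IsKFlat R' ((extCx φ).obj K) := by
  rw [KFlatRing.isKFlat_iff] at hK ⊢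
  intro L hL
  have hjL : (((Res φ).mapHomologicalComplex (ComplexShape.up ℤ)).obj L).Acyclic :=
    acyclic_map_of_exact (Res φ) L hL
  have h1 := hK _ hjL
  have e := totIso (curriedTensor (ModuleCat.{u} R')) (curriedTensor (ModuleCat.{u} R)) (Res φ) L
    ((extCx φ).obj K) (((Res φ).mapHomologicalComplex (ComplexShape.up ℤ)).obj L) K
    (fun p q => cancelIso φ (L.X p) (K.X q))
    (fun p q => cancelIso_natural_left φ (L.d p (p + 1)) (K.X q))
    (fun p q => cancelIso_natural_right φ (L.X p) (K.d q (q + 1)))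
  exact acyclic_of_acyclic_map (Res φ) _ (acyclic_of_iso e.symm h1)

end Groth.Agent.H35.KFlatBC
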