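import Mathlib
import Groth.Agent.H35.KFlatBC
import Groth.Agent.H35.TorAmp
import Groth.Agent.H53.LBaseChange
import Groth.Agent.S6945
import Groth.Agent.H12.FlatCxLES

/-!
Derived base change computed on K-flat models, and dévissage along nilpotent ideals (helper35).
-/

set_option autoImplicit false
universe u
open CategoryTheory CategoryTheory.Limits MonoidalCategory Pretriangulated TensorProduct
attribute [local instance] HasDerivedCategory.standard

namespace Groth.Agent.H35.LBC

open DRing DerivedCategory Groth.Agent.H31 Groth.Agent.H40.LTensorComp Groth.Agent.H35.TorAmp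
  Groth.Agent.H35.FlatBC Groth.Agent.H35.KFlatBC Groth.Agent.H12.FlatCx

variable {R : Type u} [CommRing R]

/-! ### K-flat models -/

lemma exists_kflat_model (K : Dual.D R) :
    ∃ P : Cx R, DRing.IsKFlat R P ∧ TermwiseFlat P ∧ Nonempty (toD P ≅ K) := by
  obtain ⟨P, f, hPK, hPfl, hf, -⟩ :=
    KFlatRing.exists_isKFlat_resolution (DerivedCategory.Q.objPreimage K)
  exact ⟨P, hPK, hPfl,
    ⟨asIso (DerivedCategory.Q.map f) ≪≫ DerivedCategory.Q.objObjPreimageIso K⟩⟩

/-! ### invariance of `H^i(P ⊗ N)` for K-flat `P` -/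

lemma exactAt_tensor_iff_of_quasiIso {P P' : Cx R} (α : P ⟶ P') (hα : QuasiIso α)
    (hP : DRing.IsKFlat R P) (hP' : DRing.IsKFlat R P') (N : ModuleCat.{u} R) (i : ℤ) :
    (CohIII.tensorObj P N).ExactAt i ↔ (CohIII.tensorObj P' N).ExactAt i := by
  have := KFlatRing.hasExactColimitsOfShape_nat (R := R)
  have h1 : QuasiIso (((tensorRight N).mapHomologicalComplex (ComplexShape.up ℤ)).map α) :=
    quasiIso_map_flip_obj (T := curriedTensor (ModuleCat.{u} R)) KFlatRing.tensorLike α hα
      ((KFlatRing.isKFlat_iff P).1 hP) ((KFlatRing.isKFlat_iff P').1 hP') N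
  rw [HomologicalComplex.exactAt_iff_isZero_homology,
    HomologicalComplex.exactAt_iff_isZero_homology]
  have h2 : IsIso (HomologicalComplex.homologyMap
      (((tensorRight N).mapHomologicalComplex (ComplexShape.up ℤ)).map α) i) :=
    (quasiIsoAt_iff_isIso_homologyMap _ i).1 (h1.quasiIsoAt i)
  exact (@asIso _ _ _ _ _ h2).isZero_iff

lemma exactAt_tensor_iff_of_iso {P P' : Cx R} (hP : DRing.IsKFlat R P)
    (hP' : DRing.IsKFlat R P') (e : toD P ≅ toD P') (N : ModuleCat.{u} R) (i : ℤ) :
    (CohIII.tensorObj P N).ExactAt i ↔ (CohIII.tensorObj P' N).ExactAt i := by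
  obtain ⟨Z, s, hs, g, hg⟩ := DerivedCategory.right_fac e.hom
  have hg' : Q.map g = Q.map s ≫ e.hom := by rw [hg, IsIso.hom_inv_id_assoc]
  have hgi : IsIso (Q.map g) := by rw [hg']; infer_instance
  obtain ⟨Z', r, hZ', -, hr, -⟩ := KFlatRing.exists_isKFlat_resolution Z
  have hs' : QuasiIso s := (isIso_Q_map_iff_quasiIso _ s).1 hs
  have hg'' : QuasiIso g := (isIso_Q_map_iff_quasiIso _ g).1 hgi
  have h1 : QuasiIso (r ≫ s) := inferInstance
  have h2 : QuasiIso (r ≫ g) := inferInstance
  exact (exactAt_tensor_iff_of_quasiIso (r ≫ s) h1 hZ' hP N i).symm.trans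
    (exactAt_tensor_iff_of_quasiIso (r ≫ g) h2 hZ' hP' N i)

lemma torVanish_of_hasTorAmplitudeIn {K : Dual.D R} {a b : ℤ} (h : HasTorAmplitudeIn R a b K)
    (P : Cx R) (hP : DRing.IsKFlat R P) (e : toD P ≅ K) : TorVanish a b P := by
  obtain ⟨E, hE, hfl, ⟨e'⟩⟩ := h
  have hEK : DRing.IsKFlat R E :=
    KFlatRing.isKFlat_of_bounded_above_flat E b (fun q hq => hE q (Or.inr hq)) hfl
  intro N i hi
  rw [exactAt_tensor_iff_of_iso hP hEK (e ≪≫ e'.symm) N i]
  exact ShortComplex.exact_of_isZero_X₂ _ ((tensorRight N).map_isZero (hE i hi))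

lemma exactAt_of_tensor_unit (P : Cx R) (i : ℤ)
    (h : (CohIII.tensorObj P (𝟙_ (ModuleCat.{u} R))).ExactAt i) : P.ExactAt i :=
  h.of_iso (Groth.Agent.S6945.unitIso P)

lemma hasTorAmplitudeIn_of_torVanish {K : Dual.D R} {a b : ℤ} (P : Cx R)
    (hP : DRing.IsKFlat R P) (e : toD P ≅ K) (h : TorVanish a b P) :
    HasTorAmplitudeIn R a b K := by
  have hH : HVanish a b K := by
    intro i hi
    have h3 : IsZero ((homologyFunctor (ModuleCat.{u} R) i).obj (Q.obj P)) :=
      (exactAt_iff_isZero_H _ i).1 (exactAt_of_tensor_unit P i (h _ i hi))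
    exact h3.of_iso ((homologyFunctor (ModuleCat.{u} R) i).mapIso e.symm)
  have hKle : K.IsLE b := by
    rw [isLE_iff]
    intro i hi
    exact hH i (Or.inr hi)
  obtain ⟨F, hF, hfree, ⟨eF⟩⟩ := exists_free_model_of_isLE K b
  have hflF := free_flat F hfree
  have hFK : DRing.IsKFlat R F := KFlatRing.isKFlat_of_bounded_above_flat F b hF hflF
  refine hasTorAmplitudeIn_iff.2 ⟨hH, F, b, hF, hflF, ⟨eF⟩, fun N i hi => ?_⟩
  rw [exactAt_tensor_iff_of_iso hFK hP (eF ≪≫ e.symm) N i]
  exact h N i hi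

/-! ### exact faithful functors and exactness at one degree -/

lemma exactAt_map_iff {A B : Type*} [Category A] [Category B] [Abelian A] [Abelian B]
    (H : A ⥤ B) [H.Additive] [PreservesFiniteLimits H] [PreservesFiniteColimits H] [H.Faithful]
    (L : CochainComplex A ℤ) (n : ℤ) :
    ((H.mapHomologicalComplex (ComplexShape.up ℤ)).obj L).ExactAt n ↔ L.ExactAt n := by
  rw [HomologicalComplex.exactAt_iff' _ (n - 1) n (n + 1) (by simp) (by simp),
    HomologicalComplex.exactAt_iff' L (n - 1) n (n + 1) (by simp) (by simp)]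
  exact ShortComplex.exact_map_iff_of_faithful (L.sc' (n - 1) n (n + 1)) H

lemma exactAt_tensor_iff_of_module_iso (P : Cx R) {N N' : ModuleCat.{u} R} (e : N ≅ N')
    (j : ℤ) : (CohIII.tensorObj P N).ExactAt j ↔ (CohIII.tensorObj P N').ExactAt j := by
  let E : CohIII.tensorObj P N ≅ CohIII.tensorObj P N' :=
    (NatIso.mapHomologicalComplex ((tensoringRight (ModuleCat.{u} R)).mapIso e)
      (ComplexShape.up ℤ)).app P
  exact ⟨fun h => h.of_iso E, fun h => h.of_iso E.symm⟩

/-! ### the short exact sequence argument -/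

lemma exactAt_tensor_of_shortExact (P : Cx R) (hP : TermwiseFlat P) {M' M M'' : ModuleCat.{u} R}
    (a : M' ⟶ M) (b : M ⟶ M'') (ha : Function.Injective a.hom) (hb : Function.Surjective b.hom)
    (hab : Function.Exact a.hom b.hom) (j : ℤ)
    (h1 : (CohIII.tensorObj P M').ExactAt j) (h3 : (CohIII.tensorObj P M'').ExactAt j) :
    (CohIII.tensorObj P M).ExactAt j := by
  rw [HomologicalComplex.exactAt_iff_isZero_homology] at h1 h3 ⊢
  have hex := T_exact₂ P hP a b ha hb hab j
  have s1 : Subsingleton ((CohIII.TFun P j).obj M') := ModuleCat.subsingleton_of_isZero h1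
  have s3 : Subsingleton ((CohIII.TFun P j).obj M'') := ModuleCat.subsingleton_of_isZero h3
  have : Subsingleton ((CohIII.TFun P j).obj M) := ⟨fun x y => by
    obtain ⟨x', hx'⟩ := (hex x).1 (Subsingleton.elim _ _)
    obtain ⟨y', hy'⟩ := (hex y).1 (Subsingleton.elim _ _)
    rw [← hx', ← hy', Subsingleton.elim x' y']⟩
  exact @ModuleCat.isZero_of_subsingleton _ _ ((CohIII.TFun P j).obj M) this

/-- Dévissage along the `I`-adic filtration. -/
lemma exactAt_tensor_of_pow (P : Cx R) (hP : TermwiseFlat P) (I : Ideal R) (j : ℤ)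
    (h : ∀ N : ModuleCat.{u} R, (∀ a ∈ I, ∀ x : N, a • x = 0) →
      (CohIII.tensorObj P N).ExactAt j) :
    ∀ (k : ℕ) (M : ModuleCat.{u} R), (∀ a ∈ I ^ k, ∀ x : M, a • x = 0) →
      (CohIII.tensorObj P M).ExactAt j := by
  intro k
  induction k with
  | zero =>
    intro M hM
    have hsub : ∀ x : M, x = 0 := fun x => by
      have := hM 1 (by rw [pow_zero, Ideal.one_eq_top]; exact Submodule.mem_top) x
      rwa [one_smul] at this
    exact h M (fun a _ x => by rw [hsub x, smul_zero])
  | succ k ih =>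
    intro M hM
    let M₁ : Submodule R M := I • (⊤ : Submodule R M)
    have h1 : (CohIII.tensorObj P (ModuleCat.of R M₁)).ExactAt j := ih _ (fun a ha x => by
      have hx : a • ((x : M₁) : M) = 0 := by
        refine Submodule.smul_induction_on (p := fun y => a • y = 0) (x : M₁).2
          (fun r hr m _ => ?_) (fun u v hu hv => ?_)
        · rw [smul_smul]
          exact hM (a * r) (by rw [pow_succ]; exact Ideal.mul_mem_mul ha hr) m
        · rw [smul_add, hu, hv, add_zero]
      exact Subtype.ext hx)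
    have h3 : (CohIII.tensorObj P (ModuleCat.of R (M ⧸ M₁))).ExactAt j := h _ (fun a ha x => by
      obtain ⟨y, rfl⟩ := Submodule.Quotient.mk_surjective M₁ x
      rw [← Submodule.Quotient.mk_smul, Submodule.Quotient.mk_eq_zero]
      exact Submodule.smul_mem_smul ha Submodule.mem_top)
    exact exactAt_tensor_of_shortExact P hP (ModuleCat.ofHom M₁.subtype) (ModuleCat.ofHom M₁.mkQ)
      M₁.injective_subtype M₁.mkQ_surjective (LinearMap.exact_subtype_mkQ M₁) j h1 h3

/-! ### base change -/

section BC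

variable {A B : Type u} [CommRing A] [CommRing B] (φ : A →+* B)

/-- `(P ⊗_A B) ⊗_B N ≅ P ⊗_A N` as complexes of `A`-modules. -/
noncomputable def tensorExtIso (P : Cx A) (N : ModuleCat.{u} B) :
    ((Res φ).mapHomologicalComplex (ComplexShape.up ℤ)).obj
        (CohIII.tensorObj ((extCx φ).obj P) N) ≅
      CohIII.tensorObj P ((Res φ).obj N) :=
  HomologicalComplex.Hom.isoOfComponents
    (fun j => (Res φ).mapIso (β_ ((ext φ).obj (P.X j)) N) ≪≫ cancelIso φ N (P.X j) ≪≫
      β_ ((Res φ).obj N) (P.X j))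
    (fun i j _ => by
      have h1 := BraidedCategory.braiding_naturality_left ((ext φ).map (P.d i j)) N
      have h2 := cancelIso_natural_right φ N (P.d i j)
      have h3 := BraidedCategory.braiding_naturality_right ((Res φ).obj N) (P.d i j)
      have h1' : (Res φ).map ((ext φ).map (P.d i j) ▷ N) ≫
          (Res φ).map (β_ ((ext φ).obj (P.X j)) N).hom =
          (Res φ).map (β_ ((ext φ).obj (P.X i)) N).hom ≫
            (Res φ).map (N ◁ (ext φ).map (P.d i j)) := by
        rw [← Functor.map_comp, ← Functor.map_comp, h1]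
      show ((Res φ).map (β_ ((ext φ).obj (P.X i)) N).hom ≫ (cancelIso φ N (P.X i)).hom ≫
          (β_ ((Res φ).obj N) (P.X i)).hom) ≫ (P.d i j ▷ (Res φ).obj N) =
        (Res φ).map ((ext φ).map (P.d i j) ▷ N) ≫
          ((Res φ).map (β_ ((ext φ).obj (P.X j)) N).hom ≫ (cancelIso φ N (P.X j)).hom ≫
            (β_ ((Res φ).obj N) (P.X j)).hom)
      calc ((Res φ).map (β_ ((ext φ).obj (P.X i)) N).hom ≫ (cancelIso φ N (P.X i)).hom ≫
          (β_ ((Res φ).obj N) (P.X i)).hom) ≫ (P.d i j ▷ (Res φ).obj N)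
          = (Res φ).map (β_ ((ext φ).obj (P.X i)) N).hom ≫ (cancelIso φ N (P.X i)).hom ≫
              (((Res φ).obj N ◁ P.d i j) ≫ (β_ ((Res φ).obj N) (P.X j)).hom) := by
            rw [h3]; simp only [Category.assoc]
        _ = (Res φ).map (β_ ((ext φ).obj (P.X i)) N).hom ≫
              (((cancelIso φ N (P.X i)).hom ≫ ((Res φ).obj N ◁ P.d i j)) ≫
                (β_ ((Res φ).obj N) (P.X j)).hom) := by
            simp only [Category.assoc]
        _ = (Res φ).map (β_ ((ext φ).obj (P.X i)) N).hom ≫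
              (((Res φ).map (N ◁ (ext φ).map (P.d i j)) ≫ (cancelIso φ N (P.X j)).hom) ≫
                (β_ ((Res φ).obj N) (P.X j)).hom) := by
            rw [h2]
        _ = ((Res φ).map (β_ ((ext φ).obj (P.X i)) N).hom ≫
              (Res φ).map (N ◁ (ext φ).map (P.d i j))) ≫ (cancelIso φ N (P.X j)).hom ≫
                (β_ ((Res φ).obj N) (P.X j)).hom := by
            simp only [Category.assoc]
        _ = _ := by
            rw [← h1']; simp only [Category.assoc])

lemma exactAt_tensor_ext_iff (P : Cx A) (N : ModuleCat.{u} B) (i : ℤ) :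
    (CohIII.tensorObj ((extCx φ).obj P) N).ExactAt i ↔
      (CohIII.tensorObj P ((Res φ).obj N)).ExactAt i := by
  rw [← exactAt_map_iff (Res φ)]
  exact ⟨fun h => h.of_iso (tensorExtIso φ P N), fun h => h.of_iso (tensorExtIso φ P N).symm⟩

/-- A module killed by the kernel of a surjection `φ : A → B` is restricted from `B`. -/
lemma exists_res_iso (hφ : Function.Surjective φ) (N : ModuleCat.{u} A)
    (hN : ∀ a ∈ RingHom.ker φ, ∀ x : N, a • x = 0) :
    ∃ N' : ModuleCat.{u} B, Nonempty ((Res φ).obj N' ≅ N) := by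
  letI : SMul B N := ⟨fun b x => (hφ b).choose • x⟩
  have hsmul : ∀ (c : A) (x : N), φ c • x = c • x := by
    intro c x
    show (hφ (φ c)).choose • x = c • x
    have h1 : (hφ (φ c)).choose - c ∈ RingHom.ker φ := by
      rw [RingHom.mem_ker, map_sub, (hφ (φ c)).choose_spec, sub_self]
    have h2 := hN _ h1 x
    rwa [sub_smul, sub_eq_zero] at h2
  letI : Module B N := Function.Surjective.moduleLeft φ hφ hsmul
  let N' : ModuleCat.{u} B := ModuleCat.of B N
  let e : ((Res φ).obj N') ≃ₗ[A] N :=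
    { toFun := fun x => x
      invFun := fun x => x
      map_add' := fun _ _ => rfl
      map_smul' := fun c x => hsmul c x
      left_inv := fun _ => rfl
      right_inv := fun _ => rfl }
  exact ⟨N', ⟨e.toModuleIso⟩⟩

/-- Dévissage along a surjection with nilpotent kernel. -/
theorem exactAt_tensor_of_nilpotent_ext (hφ : Function.Surjective φ)
    (hnil : IsNilpotent (RingHom.ker φ)) (P : Cx A) (hP : TermwiseFlat P) (j : ℤ)
    (h : ∀ N' : ModuleCat.{u} B, (CohIII.tensorObj ((extCx φ).obj P) N').ExactAt j)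
    (M : ModuleCat.{u} A) : (CohIII.tensorObj P M).ExactAt j := by
  obtain ⟨k, hk⟩ := hnil
  refine exactAt_tensor_of_pow P hP (RingHom.ker φ) j (fun N hN => ?_) k M (fun a ha x => ?_)
  · obtain ⟨N', ⟨e⟩⟩ := exists_res_iso φ hφ N hN
    rw [← exactAt_tensor_iff_of_module_iso P e j, ← exactAt_tensor_ext_iff φ P N' j]
    exact h N'
  · rw [hk] at ha
    have h0 : a = 0 := by simpa using ha
    rw [h0, zero_smul]

variable [DRing.HasLBaseChange φ]

/-- Tor amplitude descends along a surjection with nilpotent kernel. -/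
theorem hasTorAmplitudeIn_of_LBaseChange_nilpotent (hφ : Function.Surjective φ)
    (hnil : IsNilpotent (RingHom.ker φ)) (K' : Dual.D A) (a b : ℤ)
    (h : HasTorAmplitudeIn B a b ((DRing.LBaseChange φ).obj K')) :
    HasTorAmplitudeIn A a b K' := by
  obtain ⟨P, hPK, hPfl, ⟨e⟩⟩ := exists_kflat_model K'
  have hT : TorVanish a b ((extCx φ).obj P) :=
    torVanish_of_hasTorAmplitudeIn h _ (isKFlat_extCx φ P hPK)
      (Groth.Agent.H53.LBaseChange.objIso' φ P hPK e)
  refine hasTorAmplitudeIn_of_torVanish P hPK e (fun M i hi => ?_)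
  exact exactAt_tensor_of_nilpotent_ext φ hφ hnil P hPfl i (fun N' => hT N' i hi) M

/-- Boundedness above descends along a surjection with nilpotent kernel. -/
theorem isLE_of_LBaseChange_nilpotent (hφ : Function.Surjective φ)
    (hnil : IsNilpotent (RingHom.ker φ)) (K' : Dual.D A) (c : ℤ)
    (h : ((DRing.LBaseChange φ).obj K').IsLE c) : K'.IsLE c := by
  obtain ⟨P, hPK, hPfl, ⟨e⟩⟩ := exists_kflat_model K'
  haveI := h
  obtain ⟨E, hE, hEfree, ⟨eE⟩⟩ := exists_free_model_of_isLE ((DRing.LBaseChange φ).obj K') c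
  have hEK : DRing.IsKFlat B E :=
    KFlatRing.isKFlat_of_bounded_above_flat E c hE (free_flat E hEfree)
  have e' : toD ((extCx φ).obj P) ≅ toD E :=
    Groth.Agent.H53.LBaseChange.objIso' φ P hPK e ≪≫ eE.symm
  rw [isLE_iff]
  intro i hi
  have h1 : ∀ N' : ModuleCat.{u} B, (CohIII.tensorObj ((extCx φ).obj P) N').ExactAt i := by
    intro N'
    rw [exactAt_tensor_iff_of_iso (isKFlat_extCx φ P hPK) hEK e' N' i]
    exact ShortComplex.exact_of_isZero_X₂ _ ((tensorRight N').map_isZero (hE i hi))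
  have h2 := exactAt_of_tensor_unit P i
    (exactAt_tensor_of_nilpotent_ext φ hφ hnil P hPfl i h1 _)
  exact ((exactAt_iff_isZero_H P i).1 h2).of_iso
    ((homologyFunctor (ModuleCat.{u} A) i).mapIso e.symm)

end BC

end Groth.Agent.H35.LBC
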