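import Mathlib
import Groth.Agent.H56.DerCat

/-!
Dévissage in derived categories (helper35): a property of objects of `D(A)` which is invariant under
isomorphisms, holds for zero objects and is closed under extensions holds for a bounded complex as
soon as it holds for its terms (placed in the correct degrees), and for an object with bounded
cohomology as soon as it holds for its cohomology objects (placed in the correct degrees).
-/

set_option autoImplicit false
universe w v u
open CategoryTheory CategoryTheory.Limits Pretriangulated

namespace Groth.Agent.H35.Devissage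

open DerivedCategory DerivedCategory.TStructure

variable {A : Type u} [Category.{v} A] [Abelian A] [HasDerivedCategory.{w} A]

/-- Splitting off the top cell of a complex with `E^{d+1} = 0`, as a short exact sequence. -/
lemma exists_top_cell_ses (E : CochainComplex A ℤ) (d : ℤ) (hd : IsZero (E.X (d + 1))) :
    ∃ (E' : CochainComplex A ℤ)
      (g : (HomologicalComplex.single A (ComplexShape.up ℤ) d).obj (E.X d) ⟶ E) (p : E ⟶ E')
      (w : g ≫ p = 0), (ShortComplex.mk g p w).ShortExact ∧ IsZero (E'.X d) ∧
        ∀ i, i ≠ d → IsIso (p.f i) := by
  obtain ⟨g, hg⟩ : ∃ g : (HomologicalComplex.single A (ComplexShape.up ℤ) d).obj (E.X d) ⟶ E,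
      g.f d = (HomologicalComplex.singleObjXSelf (ComplexShape.up ℤ) d (E.X d)).hom ≫ 𝟙 _ :=
    ⟨HomologicalComplex.mkHomFromSingle (𝟙 (E.X d)) (fun k hk => by
      have hk' : d + 1 = k := hk
      subst hk'
      exact hd.eq_of_tgt _ _), HomologicalComplex.mkHomFromSingle_f _ _⟩
  have hiso : IsIso (g.f d) := by rw [hg]; infer_instance
  have hmono : Mono g := by
    apply HomologicalComplex.mono_of_mono_f
    intro i
    by_cases hi : i = d
    · subst hi; infer_instance
    · exact ⟨fun _ _ _ =>
        (HomologicalComplex.isZero_single_obj_X (ComplexShape.up ℤ) d (E.X d) i hi).eq_of_tgt _ _⟩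
  have hT : (ShortComplex.mk g (cokernel.π g) (cokernel.condition g)).ShortExact :=
    { exact := ShortComplex.exact_cokernel g
      mono_f := hmono
      epi_g := by dsimp; infer_instance }
  have hdeg := (HomologicalComplex.shortExact_iff_degreewise_shortExact _).1 hT
  refine ⟨cokernel g, g, cokernel.π g, cokernel.condition g, hT, ?_, ?_⟩
  · have hepi : Epi ((cokernel.π g).f d) := (hdeg d).epi_g
    have h0 : (cokernel.π g).f d = 0 := by
      rw [← cancel_epi (g.f d), comp_zero, ← HomologicalComplex.comp_f, cokernel.condition,
        HomologicalComplex.zero_f]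
    exact IsZero.of_epi_eq_zero _ h0
  · intro i hi
    have hz := HomologicalComplex.isZero_single_obj_X (ComplexShape.up ℤ) d (E.X d) i hi
    have hepi : Epi ((cokernel.π g).f i) := (hdeg i).epi_g
    have hmono' : Mono ((cokernel.π g).f i) := (hdeg i).exact.mono_g (hz.eq_of_src _ _)
    exact isIso_of_mono_of_epi _

/-- Properties of objects of `D(A)` stable under isomorphisms, containing zero objects and closed
under extensions. -/
structure IsExtClosed (Pr : DerivedCategory A → Prop) : Prop where
  iso : ∀ {K L : DerivedCategory A}, (K ≅ L) → Pr K → Pr L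
  zero : ∀ {K : DerivedCategory A}, IsZero K → Pr K
  ext : ∀ (T : Triangle (DerivedCategory A)), T ∈ distTriang _ → Pr T.obj₁ → Pr T.obj₃ → Pr T.obj₂

lemma isZero_of_forall_isZero_X (K : CochainComplex A ℤ) (h : ∀ i, IsZero (K.X i)) : IsZero K := by
  rw [IsZero.iff_id_eq_zero]
  ext i
  exact (h i).eq_of_src _ _

/-- Dévissage along the terms of a bounded complex. -/
theorem of_terms {Pr : DerivedCategory A → Prop} (hPr : IsExtClosed Pr) (c : ℤ) :
    ∀ (n : ℕ) (K : CochainComplex A ℤ) (d : ℤ),
      (∀ i, (i < c ∨ d < i) → IsZero (K.X i)) → d - c < n →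
      (∀ i, Pr ((singleFunctor A i).obj (K.X i))) → Pr (Q.obj K) := by
  have base : ∀ (K : CochainComplex A ℤ) (d : ℤ),
      (∀ i, (i < c ∨ d < i) → IsZero (K.X i)) → d < c → Pr (Q.obj K) := by
    intro K d hK hdc
    exact hPr.zero (Q.map_isZero (isZero_of_forall_isZero_X K (fun i => hK i (by omega))))
  intro n
  induction n with
  | zero =>
    intro K d hK hn _
    exact base K d hK (by omega)
  | succ n ih =>
    intro K d hK hn h
    by_cases hdc : d < c
    · exact base K d hK hdc
    · obtain ⟨K', g, p, w, hS, hz, hiso⟩ := exists_top_cell_ses K d (hK (d + 1) (Or.inr (by omega)))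
      have hK' : ∀ i, (i < c ∨ d - 1 < i) → IsZero (K'.X i) := by
        intro i hi
        by_cases hid : i = d
        · subst hid; exact hz
        · have := hiso i hid
          exact IsZero.of_iso (hK i (by omega)) (asIso (p.f i)).symm
      have h' : ∀ i, Pr ((singleFunctor A i).obj (K'.X i)) := by
        intro i
        by_cases hid : i = d
        · subst hid
          exact hPr.zero ((singleFunctor A i).map_isZero hz)
        · have := hiso i hid
          exact hPr.iso ((singleFunctor A i).mapIso (asIso (p.f i))) (h i)
      have h₃ : Pr (Q.obj K') := ih K' (d - 1) hK' (by push_cast at hn; omega) h'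
      have h₁ : Pr (Q.obj ((HomologicalComplex.single A (ComplexShape.up ℤ) d).obj (K.X d))) :=
        hPr.iso ((singleFunctorIsoCompQ A d).app (K.X d)) (h d)
      exact hPr.ext _ (triangleOfSES_distinguished hS) h₁ h₃

/-- Dévissage along the cohomology objects of an object with bounded cohomology. -/
theorem of_homology {Pr : DerivedCategory A → Prop} (hPr : IsExtClosed Pr) (c : ℤ) :
    ∀ (n : ℕ) (K : DerivedCategory A) (d : ℤ),
      (∀ i, (i < c ∨ d < i) → IsZero ((homologyFunctor A i).obj K)) → d - c < n →
      (∀ i, Pr ((singleFunctor A i).obj ((homologyFunctor A i).obj K))) → Pr K := by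
  have base : ∀ (K : DerivedCategory A) (d : ℤ),
      (∀ i, (i < c ∨ d < i) → IsZero ((homologyFunctor A i).obj K)) → d < c → Pr K := by
    intro K d hK hdc
    have h1 : K.IsLE (c - 1) := by
      rw [isLE_iff]
      intro i hi
      exact hK i (by omega)
    have h2 : K.IsGE c := by
      rw [isGE_iff]
      intro i hi
      exact hK i (Or.inl hi)
    exact hPr.zero (t.isZero K (c - 1) c (by omega))
  intro n
  induction n with
  | zero =>
    intro K d hK hn _
    exact base K d hK (by omega)
  | succ n ih =>
    intro K d hK hn h
    by_cases hdc : d < c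
    · exact base K d hK hdc
    · have hKle : K.IsLE d := by
        rw [isLE_iff]
        intro i hi
        exact hK i (Or.inr hi)
      have hT := t.triangleLTGE_distinguished d K
      -- the top piece
      have h₃ : Pr ((t.truncGE d).obj K) := by
        have g1 : ((t.truncGE d).obj K).IsGE d :=
          inferInstanceAs (t.IsGE ((t.truncGE d).obj K) d)
        have g2 : ((t.truncGE d).obj K).IsLE d :=
          inferInstanceAs (t.IsLE ((t.truncGE d).obj K) d)
        obtain ⟨eZ⟩ := H56.nonempty_iso_single ((t.truncGE d).obj K) d
        have hiso := H56.isIso_homologyMap_truncGEπ K d d le_rfl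
        exact hPr.iso ((singleFunctor A d).mapIso
          (asIso ((homologyFunctor A d).map ((t.truncGEπ d).app K))) ≪≫ eZ.symm) (h d)
      -- the lower piece
      have l1 : ((t.truncLT d).obj K).IsLE (d - 1) :=
        inferInstanceAs (t.IsLE ((t.truncLT d).obj K) (d - 1))
      have hiso : ∀ i, i < d →
          IsIso ((homologyFunctor A i).map ((t.truncLTι d).app K)) :=
        fun i hi => H56.isIso_homologyMap_truncLTι K d i hi
      have hK' : ∀ i, (i < c ∨ d - 1 < i) →
          IsZero ((homologyFunctor A i).obj ((t.truncLT d).obj K)) := by
        intro i hi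
        by_cases hid : i < d
        · have := hiso i hid
          exact IsZero.of_iso (hK i (by omega))
            (asIso ((homologyFunctor A i).map ((t.truncLTι d).app K)))
        · exact isZero_of_isLE _ (d - 1) i (by omega)
      have h' : ∀ i, Pr ((singleFunctor A i).obj
          ((homologyFunctor A i).obj ((t.truncLT d).obj K))) := by
        intro i
        by_cases hid : i < d
        · have := hiso i hid
          exact hPr.iso ((singleFunctor A i).mapIso
            (asIso ((homologyFunctor A i).map ((t.truncLTι d).app K))).symm) (h i)
        · exact hPr.zero ((singleFunctor A i).map_isZero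
            (isZero_of_isLE _ (d - 1) i (by omega)))
      have h₁ : Pr ((t.truncLT d).obj K) :=
        ih _ (d - 1) hK' (by push_cast at hn; omega) h'
      exact hPr.ext _ hT h₁ h₃

end Groth.Agent.H35.Devissage
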