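import Mathlib
import Groth.Prelude.Def_DRing4
import Groth.Agent.H53.LTensorCxObj
import Groth.Agent.H35.TorAmp
import Groth.Agent.H35.LBC
import Groth.Agent.H31.KFlatRing
import Groth.Agent.H31.KFlatCycles
import Groth.Agent.H31.TotFunctor
import Groth.Agent.H31.KFlatBounded
import Groth.Agent.H12.FlatCxEW

/-!
# Tools for `DRing.LTensorCx` (helper35)

* `quasiIso_whiskerLeft`: `P ◁ g` is a quasi-isomorphism for `P` K-flat and `g` a quasi-isomorphism;
* `nonempty_LTensorCx_iso`: `- ⊗^L K` only depends on the class of `K` in `D(A)` (objectwise);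
* `singleTensorIso`: `M[0] ⊗ P ≅ P ⊗ M` (termwise tensor);
* `isZero_H_single_iff`: `H^i(M[0] ⊗^L K) = 0 ↔ H^i(P ⊗ M) = 0` for a K-flat model `P` of `K`;
* `isKFlat_truncGE`: canonical truncations `τ_{≥ a} P` of K-flat termwise flat complexes with flat
  terms are K-flat.
-/

set_option autoImplicit false
universe u
open CategoryTheory CategoryTheory.Limits MonoidalCategory HomologicalComplex
attribute [local instance] HasDerivedCategory.standard

namespace Groth.Agent.H35.LTC

open DRing DerivedCategory Groth.Agent.H31 Groth.Agent.H31.KFlat Groth.Agent.H53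
  Groth.Agent.H35.TorAmp Groth.Agent.H35.LBC Groth.Agent.H12.FlatCx

variable {A : Type u} [CommRing A]

/-! ### whiskering on the left by a K-flat complex -/

lemma quasiIso_whiskerLeft (P : Cx A) (hP : DRing.IsKFlat A P) {Z E : Cx A} (g : Z ⟶ E)
    (hg : QuasiIso g) : QuasiIso (P ◁ g) := by
  have := KFlatRing.hasExactColimitsOfShape_nat (R := A)
  have hC : (CochainComplex.mappingCone g).Acyclic := (quasiIso_iff_acyclic_mappingCone g).1 hg
  have h1 : (mapBifunctor (CochainComplex.mappingCone g) P (LTensorCxObj.Tf A)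
      (ComplexShape.up ℤ)).Acyclic := LTensorCxObj.KF_Tf_of_isKFlat P hP _ hC
  have h2 : (mapBifunctor P (CochainComplex.mappingCone g) (LTensorCxObj.T A)
      (ComplexShape.up ℤ)).Acyclic :=
    acyclic_of_iso (mapBifunctorFlipIso P (CochainComplex.mappingCone g) (LTensorCxObj.T A)
      (ComplexShape.up ℤ)) h1
  have h3 : QuasiIso (mapBifunctorMap (𝟙 P) g (LTensorCxObj.T A) (ComplexShape.up ℤ)) :=
    quasiIso_mapBifunctorMap_right (LTensorCxObj.T A) P g h2
  rw [← MonoidalCategory.id_tensorHom]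
  exact h3

lemma nonempty_tensor_iso (P : Cx A) (hP : DRing.IsKFlat A P) {K E : Cx A}
    (e : toD K ≅ toD E) : Nonempty (toD (P ⊗ K) ≅ toD (P ⊗ E)) := by
  obtain ⟨Z, s, hs, g, hg⟩ := DerivedCategory.right_fac e.hom
  have hg' : Q.map g = Q.map s ≫ e.hom := by rw [hg, IsIso.hom_inv_id_assoc]
  have hgi : IsIso (Q.map g) := by rw [hg']; infer_instance
  have hs' : QuasiIso s := (isIso_Q_map_iff_quasiIso _ s).1 hs
  have hg'' : QuasiIso g := (isIso_Q_map_iff_quasiIso _ g).1 hgi
  have h1 := quasiIso_whiskerLeft P hP s hs'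
  have h2 := quasiIso_whiskerLeft P hP g hg''
  have i1 : IsIso (Q.map (P ◁ s)) := (isIso_Q_map_iff_quasiIso _ _).2 h1
  have i2 : IsIso (Q.map (P ◁ g)) := (isIso_Q_map_iff_quasiIso _ _).2 h2
  exact ⟨(asIso (Q.map (P ◁ s))).symm ≪≫ asIso (Q.map (P ◁ g))⟩

/-- `X ⊗^L K` only depends on the class of `K` in `D(A)`. -/
lemma nonempty_LTensorCx_iso {K E : Cx A} [DRing.HasLTensorCx A K] [DRing.HasLTensorCx A E]
    (e : toD K ≅ toD E) (X : Dual.D A) :
    Nonempty ((DRing.LTensorCx A K).obj X ≅ (DRing.LTensorCx A E).obj X) := by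
  obtain ⟨P, hPK, -, ⟨eP⟩⟩ := exists_kflat_model X
  obtain ⟨t⟩ := nonempty_tensor_iso P hPK e
  exact ⟨(DRing.LTensorCx A K).mapIso eP.symm ≪≫ LTensorCxObj.objIso K P hPK ≪≫ t ≪≫
    (LTensorCxObj.objIso E P hPK).symm ≪≫ (DRing.LTensorCx A E).mapIso eP⟩

/-! ### `M[0] ⊗ P` -/

/-- `M[0]`. -/
noncomputable abbrev sg (M : ModuleCat.{u} A) : Cx A :=
  (HomologicalComplex.single (ModuleCat.{u} A) (ComplexShape.up ℤ) 0).obj M

lemma isZero_sg_X (M : ModuleCat.{u} A) (p : ℤ) (hp : p ≠ 0) : IsZero ((sg M).X p) :=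
  HomologicalComplex.isZero_single_obj_X _ _ _ _ hp

/-- the inclusion of the only nonzero summand of `(M[0] ⊗ P)^n`. -/
noncomputable abbrev incl (M : ModuleCat.{u} A) (P : Cx A) (n : ℤ) :=
  ιMapBifunctor (sg M) P (curriedTensor (ModuleCat.{u} A)) (ComplexShape.up ℤ) 0 n n (zero_add n)

instance (M : ModuleCat.{u} A) (P : Cx A) (n : ℤ) : IsIso (incl M P n) :=
  isIso_ιMapBifunctor_of_isZero_left (curriedTensor (ModuleCat.{u} A)) _ P 0
    (fun p hp => isZero_sg_X M p hp) n n (zero_add n)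

theorem incl_d (M : ModuleCat.{u} A) (P : Cx A) (n : ℤ) :
    incl M P n ≫ (mapBifunctor (sg M) P (curriedTensor (ModuleCat.{u} A))
        (ComplexShape.up ℤ)).d n (n + 1) =
      ((curriedTensor (ModuleCat.{u} A)).obj ((sg M).X 0)).map (P.d n (n + 1)) ≫
        incl M P (n + 1) := by
  have h := ι_d (curriedTensor (ModuleCat.{u} A)) (sg M) P 0 n n (n + 1)
    (zero_add n) (by show (0 : ℤ) + 1 + n = n + 1; omega) (by show (0 : ℤ) + (n + 1) = n + 1; omega)
  have hε : ComplexShape.ε₂ (ComplexShape.up ℤ) (ComplexShape.up ℤ) (ComplexShape.up ℤ)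
      ((0 : ℤ), n) = 1 := rfl
  rw [hε, one_smul, HomologicalComplex.single_obj_d, Functor.map_zero, NatTrans.app_zero,
    zero_comp, smul_zero, zero_add] at h
  exact h

/-- `P^n ⊗ M ≅ (M[0] ⊗ P)^n`. -/
noncomputable def compIso (M : ModuleCat.{u} A) (P : Cx A) (n : ℤ) :
    (CohIII.tensorObj P M).X n ≅ (sg M ⊗ P).X n :=
  (β_ (P.X n) M) ≪≫
    ((curriedTensor (ModuleCat.{u} A)).mapIso
      (HomologicalComplex.singleObjXSelf (ComplexShape.up ℤ) 0 M).symm).app (P.X n) ≪≫
    asIso (incl M P n)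

/-- `P ⊗ M` (termwise) `≅ M[0] ⊗ P`. -/
noncomputable def singleTensorIso (M : ModuleCat.{u} A) (P : Cx A) :
    CohIII.tensorObj P M ≅ sg M ⊗ P :=
  HomologicalComplex.Hom.isoOfComponents (fun n => compIso M P n) (by
    rintro i j (rfl : i + 1 = j)
    have hnat : (M ◁ P.d i (i + 1)) ≫ ((curriedTensor (ModuleCat.{u} A)).map
        (HomologicalComplex.singleObjXSelf (ComplexShape.up ℤ) 0 M).inv).app (P.X (i + 1)) =
        ((curriedTensor (ModuleCat.{u} A)).map
          (HomologicalComplex.singleObjXSelf (ComplexShape.up ℤ) 0 M).inv).app (P.X i) ≫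
        ((curriedTensor (ModuleCat.{u} A)).obj ((sg M).X 0)).map (P.d i (i + 1)) :=
      ((curriedTensor (ModuleCat.{u} A)).map
        (HomologicalComplex.singleObjXSelf (ComplexShape.up ℤ) 0 M).inv).naturality (P.d i (i + 1))
    have hbr := BraidedCategory.braiding_naturality_left (P.d i (i + 1)) M
    show ((β_ (P.X i) M).hom ≫ ((curriedTensor (ModuleCat.{u} A)).map
          (HomologicalComplex.singleObjXSelf (ComplexShape.up ℤ) 0 M).inv).app (P.X i) ≫
          incl M P i) ≫
        (mapBifunctor (sg M) P (curriedTensor (ModuleCat.{u} A)) (ComplexShape.up ℤ)).d i (i + 1) =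
      (P.d i (i + 1) ▷ M) ≫ (β_ (P.X (i + 1)) M).hom ≫ ((curriedTensor (ModuleCat.{u} A)).map
          (HomologicalComplex.singleObjXSelf (ComplexShape.up ℤ) 0 M).inv).app (P.X (i + 1)) ≫
          incl M P (i + 1)
    rw [Category.assoc, Category.assoc, incl_d, ← reassoc_of% hnat, ← reassoc_of% hbr])

/-! ### Tor-vanishing through `LTensorCx` -/

/-- For a K-flat model `P` of `K`: `H^i(M[0] ⊗^L K) = 0 ↔ H^i(P ⊗ M) = 0`. -/
lemma isZero_H_single_iff {K P : Cx A} [DRing.HasLTensorCx A K] (hP : DRing.IsKFlat A P)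
    (e : toD P ≅ toD K) (M : ModuleCat.{u} A) (i : ℤ) :
    IsZero ((homologyFunctor (ModuleCat.{u} A) i).obj
      ((DRing.LTensorCx A K).obj (toD (sg M)))) ↔ (CohIII.tensorObj P M).ExactAt i := by
  haveI : DRing.HasLTensorCx A P := LTensorCxObj.hasLTensorCx P
  obtain ⟨t⟩ := nonempty_LTensorCx_iso e.symm (toD (sg M))
  haveI := LTensorCxObj.isIso_ε_of_isKFlat P hP
  let t2 : (DRing.LTensorCx A P).obj (toD (sg M)) ≅ toD (sg M ⊗ P) :=
    asIso ((LTensorCxObj.ε P).app (sg M))
  rw [exactAt_iff_isZero_H]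
  have t3 : toD (CohIII.tensorObj P M) ≅ toD (sg M ⊗ P) := Q.mapIso (singleTensorIso M P)
  exact ((homologyFunctor (ModuleCat.{u} A) i).mapIso (t ≪≫ t2 ≪≫ t3.symm)).isZero_iff

/-- flatness of the cokernel of `d^{a-1}` from Tor-vanishing in degree `a - 1`. -/
lemma flat_Wq_of_exactAt (P : Cx A) (fl : TermwiseFlat P) (a : ℤ)
    (h : ∀ N : ModuleCat.{u} A, (CohIII.tensorObj P N).ExactAt (a - 1)) :
    Module.Flat A (Wq P (a - 1) a) := by
  have hEpi : EpiAt P (a - 1 - 1) (a - 1) a := by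
    intro M N _ _ _ _ g _ y hy
    obtain ⟨y₁, hy₁⟩ := (exactAt_tensor_iff P (ModuleCat.of A N) (a - 1 - 1) (a - 1) a
      (by omega) (by omega)).1 (h (ModuleCat.of A N)) y hy
    exact ⟨0, by rw [map_zero], y₁, by rw [map_zero, zero_add, hy₁]⟩
  exact flat_of_monoAt P (a - 1) a (a + 1) (fl (a + 1))
    (monoAt_of_epiAt P (a - 1 - 1) (a - 1) a (a + 1) (fl a) hEpi)

/-! ### canonical truncations -/

lemma termwiseFlat_truncGE (P : Cx A) (hfl : TermwiseFlat P) (a : ℤ)
    (hW : Module.Flat A (Wq P (a - 1) a)) : TermwiseFlat (P.truncGE a) := by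
  intro i
  by_cases hia : i < a
  · have : Subsingleton ((P.truncGE a).X i) :=
      ModuleCat.subsingleton_of_isZero ((P.truncGE a).isZero_of_isStrictlyGE a i hia)
    infer_instance
  · by_cases hia' : i = a
    · subst hia'
      have e1 := (P.truncGEXIsoOpcycles i).toLinearEquiv
      have e2 := opcyclesEquiv P (i - 1) i
        ((ComplexShape.up ℤ).prev_eq' (show (i - 1) + 1 = i by omega))
      exact Module.Flat.of_linearEquiv (e1 ≪≫ₗ e2)
    · have e1 := (P.truncGEXIso a i (by omega)).toLinearEquiv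
      have := hfl i
      exact Module.Flat.of_linearEquiv e1

lemma isIso_πTruncGE_f (P : Cx A) (a i : ℤ) (hi : a < i) : IsIso ((P.πTruncGE a).f i) := by
  obtain ⟨k, hk⟩ : ∃ k : ℕ, a + k = i := ⟨(i - a).toNat, by omega⟩
  have hk0 : k ≠ 0 := by rintro rfl; omega
  have hk' : (ComplexShape.embeddingUpIntGE a).f k = i := hk
  show IsIso (((ComplexShape.embeddingUpIntGE a).liftExtend
    (P.restrictionToTruncGE' (ComplexShape.embeddingUpIntGE a))
    (P.restrictionToTruncGE'_hasLift _)).f i)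
  exact ((ComplexShape.embeddingUpIntGE a).isIso_liftExtend_f_iff _ _ hk').2
    (P.isIso_restrictionToTruncGE' _ k
      (by rw [ComplexShape.boundaryGE_embeddingUpIntGE_iff]; exact hk0))

/-- `τ_{≥ a} P` is K-flat if `P` is K-flat with flat terms and `τ_{≥ a} P` has flat terms. -/
lemma isKFlat_truncGE (P : Cx A) (hPK : DRing.IsKFlat A P) (hPfl : TermwiseFlat P) (a : ℤ)
    (hE : TermwiseFlat (P.truncGE a)) : DRing.IsKFlat A (P.truncGE a) := by
  let π := P.πTruncGE a
  haveI : Epi π :=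
    inferInstanceAs (Epi (HomologicalComplex.πTruncGE P (ComplexShape.embeddingUpIntGE a)))
  let S : ShortComplex (Cx A) := ShortComplex.mk (kernel.ι π) π (kernel.condition π)
  have hS : S.ShortExact :=
    { exact := ShortComplex.exact_of_f_is_kernel _ (kernelIsKernel π) }
  have hdeg : ∀ i, (S.map (HomologicalComplex.eval _ _ i)).ShortExact :=
    fun i => hS.map_of_exact _
  have hNfl : TermwiseFlat S.X₁ := by
    intro i
    have h := hdeg i
    have hinj : Function.Injective (S.f.f i).hom :=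
      (ModuleCat.mono_iff_injective (S.f.f i)).1 h.mono_f
    have hsurj : Function.Surjective (S.g.f i).hom :=
      (ModuleCat.epi_iff_surjective (S.g.f i)).1 h.epi_g
    have hex : Function.Exact (S.f.f i).hom (S.g.f i).hom :=
      (ShortComplex.ShortExact.moduleCat_exact_iff_function_exact _).1 h.exact
    haveI := hPfl i
    haveI := hE i
    haveI : Module.Flat A (P.X i ⧸ LinearMap.ker (S.g.f i).hom) :=
      Module.Flat.of_linearEquiv ((S.g.f i).hom.quotKerEquivOfSurjective hsurj)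
    haveI : Module.Flat A (LinearMap.ker (S.g.f i).hom) := flat_of_flat_quotient _
    have hr : LinearMap.range (S.f.f i).hom = LinearMap.ker (S.g.f i).hom :=
      (LinearMap.exact_iff.1 hex).symm
    exact Module.Flat.of_linearEquiv
      ((LinearEquiv.ofInjective _ hinj) ≪≫ₗ (LinearEquiv.ofEq _ _ hr))
  have hNz : VanishesAbove S.X₁ a := by
    intro i hi
    have h := hdeg i
    haveI : IsIso (π.f i) := isIso_πTruncGE_f P a i hi
    have hz : S.f.f i ≫ π.f i = 0 := by
      rw [← HomologicalComplex.comp_f]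
      have := S.zero
      rw [this]
      rfl
    have h0 : S.f.f i = 0 := (cancel_mono (π.f i)).1 (by rw [hz, zero_comp])
    haveI : Mono (S.f.f i) := h.mono_f
    exact IsZero.of_mono_eq_zero _ h0
  have hNK : DRing.IsKFlat A S.X₁ := KFlatRing.isKFlat_of_bounded_above_flat _ a hNz hNfl
  exact (KFlatRing.isKFlat_shortExact S hS hE).1 hNK hPK

end Groth.Agent.H35.LTC
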