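import Mathlib
import Groth.Prelude.Def_DRing4
import Groth.Prelude.Def_TotMap
import Groth.Agent.H35.LTensorCxLib
import Groth.Agent.H35.KFlatBC

/-!
# Tor amplitude of `Res_A (K ⊗^L_B L)` (helper35)

For `A → B`, `K ∈ D(B)` of tor amplitude `[a, b]` over `B` and a complex `L` of `B`-modules whose
restriction to `A` has tor amplitude `[c, d]`, the restriction of `K ⊗^L_B L` has tor amplitude
`[a + c, b + d]` over `A`.
-/

set_option autoImplicit false
universe u
open CategoryTheory CategoryTheory.Limits MonoidalCategory HomologicalComplex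
attribute [local instance] HasDerivedCategory.standard

namespace Groth.Agent.H35.LTC

open DRing DerivedCategory Groth.Agent.H31 Groth.Agent.H31.KFlat Groth.Agent.H53
  Groth.Agent.H35.TorAmp Groth.Agent.H35.FlatBC Groth.Agent.H35.KFlatBC

section OneRing

variable {A : Type u} [CommRing A]

/-- the symmetry of the tensor product of complexes. -/
noncomputable def braidCx (X Y : Cx A) : X ⊗ Y ≅ Y ⊗ X :=
  TotMap.mapBifunctorNatIso X Y (ComplexShape.up ℤ)
      (BraidedCategory.curriedBraidingNatIso (ModuleCat.{u} A)) ≪≫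
    mapBifunctorFlipIso Y X (curriedTensor (ModuleCat.{u} A)) (ComplexShape.up ℤ)

/-- Balancing: `H^i(X ⊗ F_M) = 0 ↔ H^i(G ⊗ M) = 0` for K-flat resolutions `G → X`, `F_M → M[0]`. -/
lemma exactAt_tensor_resolution_iff {X G F : Cx A} (hG : DRing.IsKFlat A G) (r : G ⟶ X)
    (hr : QuasiIso r) (hF : DRing.IsKFlat A F) (M : ModuleCat.{u} A) (s : F ⟶ sg M)
    (hs : QuasiIso s) (i : ℤ) :
    (X ⊗ F).ExactAt i ↔ (CohIII.tensorObj G M).ExactAt i := by
  have h1 : QuasiIso (r ▷ F) := by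
    have := DTenComp.quasiIso_tensorHom r (𝟙 F) hr inferInstance hF hF
    rwa [MonoidalCategory.tensorHom_id] at this
  have h2 : QuasiIso (G ◁ s) := quasiIso_whiskerLeft G hG s hs
  have e : G ⊗ sg M ≅ CohIII.tensorObj G M := braidCx G (sg M) ≪≫ (singleTensorIso M G).symm
  calc (X ⊗ F).ExactAt i ↔ (G ⊗ F).ExactAt i := (exactAt_iff_of_quasiIsoAt (r ▷ F) i).symm
    _ ↔ (G ⊗ sg M).ExactAt i := exactAt_iff_of_quasiIsoAt (G ◁ s) i
    _ ↔ (CohIII.tensorObj G M).ExactAt i := ⟨fun h => h.of_iso e, fun h => h.of_iso e.symm⟩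

/-- A term of `E ⊗ Y` vanishes if all its summands do. -/
lemma isZero_tensor_X (E Y : Cx A) (n : ℤ)
    (h : ∀ p q : ℤ, p + q = n → IsZero (E.X p) ∨ IsZero (Y.X q)) : IsZero ((E ⊗ Y).X n) := by
  rw [IsZero.iff_id_eq_zero]
  apply mapBifunctor.hom_ext
  intro p q hpq
  apply IsZero.eq_of_src
  rcases h p q hpq with h1 | h2
  · exact ((curriedTensor (ModuleCat.{u} A)).flip.obj (Y.X q)).map_isZero h1
  · exact ((curriedTensor (ModuleCat.{u} A)).obj (E.X p)).map_isZero h2

/-- `E ⊗ Y` is exact outside `[a + c, b + d]` for `E` a complex of flat modules in `[a, b]` and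
`Y` exact outside `[c, d]`. -/
lemma exactAt_tensor_of_bounded (E Y : Cx A) (a b c d : ℤ) (hE : VanishesOutside E a b)
    (hEfl : TermwiseFlat E) (hY : ∀ i, (i < c ∨ d < i) → Y.ExactAt i) (n : ℤ)
    (hn : n < a + c ∨ b + d < n) : (E ⊗ Y).ExactAt n := by
  have hEK : DRing.IsKFlat A E :=
    KFlatRing.isKFlat_of_bounded_above_flat E b (fun q hq => hE q (Or.inr hq)) hEfl
  haveI : Y.IsLE d := (Y.isLE_iff d).2 (fun i hi => hY i (Or.inr hi))
  haveI : Y.IsGE c := (Y.isGE_iff c).2 (fun i hi => hY i (Or.inl hi))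
  haveI : (Y.truncLE d).IsGE c :=
    (HomologicalComplex.isSupported_iff_of_quasiIso (Y.ιTruncLE d)
      (ComplexShape.embeddingUpIntGE c)).2 inferInstance
  have h1 : QuasiIso (E ◁ Y.ιTruncLE d) := quasiIso_whiskerLeft E hEK _ inferInstance
  have h2 : QuasiIso (E ◁ (Y.truncLE d).πTruncGE c) := quasiIso_whiskerLeft E hEK _ inferInstance
  have hz : IsZero ((E ⊗ ((Y.truncLE d).truncGE c)).X n) :=
    isZero_tensor_X _ _ n (fun p q hpq => by
      by_cases hp : p < a ∨ b < p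
      · exact Or.inl (hE p hp)
      · right
        have hq : q < c ∨ d < q := by omega
        rcases hq with h | h
        · exact ((Y.truncLE d).truncGE c).isZero_of_isStrictlyGE c q h
        · exact ((Y.truncLE d).truncGE c).isZero_of_isStrictlyLE d q h)
  have e3 : (E ⊗ ((Y.truncLE d).truncGE c)).ExactAt n := ShortComplex.exact_of_isZero_X₂ _ hz
  have e2 : (E ⊗ (Y.truncLE d)).ExactAt n :=
    (exactAt_iff_of_quasiIsoAt (E ◁ (Y.truncLE d).πTruncGE c) n).2 e3
  exact (exactAt_iff_of_quasiIsoAt (E ◁ Y.ιTruncLE d) n).1 e2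

end OneRing

section TwoRings

variable {A B : Type u} [CommRing A] [CommRing B] (φ : A →+* B)

/-- restriction of scalars on complexes -/
noncomputable abbrev resCx : Cx B ⥤ Cx A := (Res φ).mapHomologicalComplex (ComplexShape.up ℤ)

/-- `Res (X ⊗_B (B ⊗_A Y)) ≅ Res X ⊗_A Y`. -/
noncomputable def resTensorIso (X : Cx B) (Y : Cx A) :
    (resCx φ).obj (X ⊗ (extCx φ).obj Y) ≅ (resCx φ).obj X ⊗ Y :=
  totIso (curriedTensor (ModuleCat.{u} B)) (curriedTensor (ModuleCat.{u} A)) (Res φ) X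
    ((extCx φ).obj Y) ((resCx φ).obj X) Y
    (fun p q => cancelIso φ (X.X p) (Y.X q))
    (fun p q => cancelIso_natural_left φ (X.d p (p + 1)) (Y.X q))
    (fun p q => cancelIso_natural_right φ (X.X p) (Y.d q (q + 1)))

theorem hasTorAmplitudeIn_restrict_LTensorCx (K : Dual.D B) (a b c d : ℤ)
    (hK : HasTorAmplitudeIn B a b K) (L : Cx B)
    (hL : HasTorAmplitudeIn A c d (toD ((resCx φ).obj L))) [DRing.HasLTensorCx B L] :
    HasTorAmplitudeIn A (a + c) (b + d)
      ((DRing.restrictD φ).obj ((DRing.LTensorCx B L).obj K)) := by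
  obtain ⟨E, hE, hEfl, ⟨eE⟩⟩ := hK
  have hEK : DRing.IsKFlat B E :=
    KFlatRing.isKFlat_of_bounded_above_flat E b (fun q hq => hE q (Or.inr hq)) hEfl
  let e1 : (DRing.LTensorCx B L).obj K ≅ toD (E ⊗ L) :=
    (DRing.LTensorCx B L).mapIso eE.symm ≪≫ LTensorCxObj.objIso L E hEK
  let X : Cx A := (resCx φ).obj (E ⊗ L)
  let e2 : (DRing.restrictD φ).obj ((DRing.LTensorCx B L).obj K) ≅ toD X :=
    (DRing.restrictD φ).mapIso e1 ≪≫
      ((ModuleCat.restrictScalars.{u} φ).mapDerivedCategoryFactors.app (E ⊗ L))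
  obtain ⟨W, r, hWK, -, hr, -⟩ := KFlatRing.exists_isKFlat_resolution X
  obtain ⟨G, s, hGK, -, hs, -⟩ := KFlatRing.exists_isKFlat_resolution ((resCx φ).obj L)
  haveI := hr
  haveI := hs
  have hTG : TorVanish c d G :=
    Groth.Agent.H35.LBC.torVanish_of_hasTorAmplitudeIn hL G hGK (asIso (Q.map s))
  refine Groth.Agent.H35.LBC.hasTorAmplitudeIn_of_torVanish W hWK (asIso (Q.map r) ≪≫ e2.symm)
    (fun M i hi => ?_)
  obtain ⟨F, t, hFb, hFfree, ht⟩ := exists_free_resolution (sg M) 0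
    (fun i hi => isZero_sg_X M i (by omega))
  have hFK : DRing.IsKFlat A F :=
    KFlatRing.isKFlat_of_bounded_above_flat F 0 hFb (free_flat F hFfree)
  rw [← exactAt_tensor_resolution_iff hWK r hr hFK M t ht i]
  let Y : Cx B := L ⊗ (extCx φ).obj F
  have hY : ∀ j, (j < c ∨ d < j) → Y.ExactAt j := by
    intro j hj
    have h1 : (((resCx φ).obj L) ⊗ F).ExactAt j :=
      (exactAt_tensor_resolution_iff hGK s hs hFK M t ht j).2 (hTG M j hj)
    have h2 : ((resCx φ).obj Y).ExactAt j := h1.of_iso (resTensorIso φ L F).symm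
    exact (Groth.Agent.H35.LBC.exactAt_map_iff (Res φ) Y j).1 h2
  have h3 : (E ⊗ Y).ExactAt i := exactAt_tensor_of_bounded E Y a b c d hE hEfl hY i hi
  have h4 : ((E ⊗ L) ⊗ (extCx φ).obj F).ExactAt i :=
    h3.of_iso (α_ E L ((extCx φ).obj F)).symm
  have h5 : ((resCx φ).obj ((E ⊗ L) ⊗ (extCx φ).obj F)).ExactAt i :=
    (Groth.Agent.H35.LBC.exactAt_map_iff (Res φ) _ i).2 h4
  exact h5.of_iso (resTensorIso φ (E ⊗ L) F)

end TwoRings

end Groth.Agent.H35.LTC
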