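import Mathlib
import Groth.Agent.H35.MPCoh
import Groth.Agent.H56.ProjAmp

/-!
Basic examples of `m`-pseudo-coherent objects (helper35): bounded finite free complexes, objects of
`D^{≤ m}` with finitely generated top cohomology, finitely presented modules.
-/

set_option autoImplicit false
universe u
open CategoryTheory CategoryTheory.Limits Pretriangulated
attribute [local instance] HasDerivedCategory.standard

namespace Groth.Agent.H35.MPCoh

open DRing DerivedCategory DerivedCategory.TStructure

variable {R : Type u} [CommRing R]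

/-- Bounded complexes of finite free modules are `m`-pseudo-coherent for all `m`. -/
lemma isPseudoCoherent_of_bff (E : Cx R) (a b : ℤ) (hE : VanishesOutside E a b)
    (hff : TermwiseFiniteFree E) {K : Dual.D R} (e : toD E ≅ K) (m : ℤ) :
    IsPseudoCoherent R m K :=
  ⟨E, a, b, e.hom, hE, hff, fun i _ => inferInstance, inferInstance⟩

/-- The comparison isomorphism for single complexes, with a convenient type. -/
noncomputable def sIso (b : ℤ) (N : ModuleCat.{u} R) :
    (singleFunctor (ModuleCat.{u} R) b).obj N ≅
      Q.obj ((HomologicalComplex.single (ModuleCat.{u} R) (ComplexShape.up ℤ) b).obj N) :=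
  (singleFunctorIsoCompQ (ModuleCat.{u} R) b).app N

lemma single_props (n : ℤ) (F : ModuleCat.{u} R) [Module.Finite R F] [Module.Free R F] :
    VanishesOutside
        ((HomologicalComplex.single (ModuleCat.{u} R) (ComplexShape.up ℤ) n).obj F) n n ∧
      TermwiseFiniteFree
        ((HomologicalComplex.single (ModuleCat.{u} R) (ComplexShape.up ℤ) n).obj F) := by
  constructor
  · intro i hi
    exact HomologicalComplex.isZero_single_obj_X (ComplexShape.up ℤ) n F i (by omega)
  · intro i
    by_cases hi : i = n
    · subst hi
      have e : ((HomologicalComplex.single (ModuleCat.{u} R) (ComplexShape.up ℤ) i).obj F).X i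
          ≃ₗ[R] F := (HomologicalComplex.singleObjXSelf (ComplexShape.up ℤ) i F).toLinearEquiv
      exact ⟨Module.Finite.equiv e.symm, Module.Free.of_equiv e.symm⟩
    · have hz := HomologicalComplex.isZero_single_obj_X (ComplexShape.up ℤ) n F i hi
      have : Subsingleton
          (((HomologicalComplex.single (ModuleCat.{u} R) (ComplexShape.up ℤ) n).obj F).X i) :=
        ModuleCat.subsingleton_of_isZero hz
      exact ⟨inferInstance, Module.Free.of_subsingleton R _⟩

/-- An object of `D^{≤ m}` with finitely generated `H^m` is `m`-pseudo-coherent. -/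
theorem isPseudoCoherent_of_isLE_of_finite (K : Dual.D R) (m : ℤ) [K.IsLE m]
    (hfin : Module.Finite R ((homologyFunctor (ModuleCat.{u} R) m).obj K)) :
    IsPseudoCoherent R m K := by
  obtain ⟨n, f, hf⟩ := Module.Finite.exists_fin' R ((homologyFunctor (ModuleCat.{u} R) m).obj K)
  have hproj : Projective (ModuleCat.of R (Fin n → R)) :=
    (IsProjective.iff_projective _).mp
      (Module.Projective.of_free : Module.Projective R (Fin n → R))
  have hπ : Epi (ModuleCat.ofHom f) := (ModuleCat.epi_iff_surjective _).2 hf
  obtain ⟨g, hg⟩ := H56.exists_lift_single_projective_epi' K m (ModuleCat.of R (Fin n → R))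
    (ModuleCat.ofHom f)
  have hfin' : Module.Finite R (ModuleCat.of R (Fin n → R)) :=
    (inferInstance : Module.Finite R (Fin n → R))
  have hfree' : Module.Free R (ModuleCat.of R (Fin n → R)) :=
    (inferInstance : Module.Free R (Fin n → R))
  obtain ⟨h1, h2⟩ := single_props m (ModuleCat.of R (Fin n → R))
  refine ⟨_, m, m, (sIso m (ModuleCat.of R (Fin n → R))).inv ≫ g, h1, h2, ?_, ?_⟩
  · intro i hi
    exact H56.isIso_of_isZero' _ ((Q.obj _).isZero_of_isLE m i hi) (K.isZero_of_isLE m i hi)
  · rw [Functor.map_comp]
    exact epi_comp _ _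

/-- A finitely generated module placed in degree `n` is `n`-pseudo-coherent. -/
theorem isPseudoCoherent_single_of_finite (M : ModuleCat.{u} R) [Module.Finite R M] (n : ℤ) :
    IsPseudoCoherent R n ((singleFunctor (ModuleCat.{u} R) n).obj M) := by
  apply isPseudoCoherent_of_isLE_of_finite
  have e : ((homologyFunctor (ModuleCat.{u} R) n).obj
      ((singleFunctor (ModuleCat.{u} R) n).obj M)) ≃ₗ[R] M :=
    ((singleFunctorCompHomologyFunctorIso (ModuleCat.{u} R) n).app M).toLinearEquiv
  exact Module.Finite.equiv e.symm

/-- A finite free module placed in degree `n` is `m`-pseudo-coherent for all `m`. -/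
theorem isPseudoCoherent_single_of_finite_free (M : ModuleCat.{u} R) [Module.Finite R M]
    [Module.Free R M] (n m : ℤ) :
    IsPseudoCoherent R m ((singleFunctor (ModuleCat.{u} R) n).obj M) := by
  obtain ⟨h1, h2⟩ := single_props n M
  exact isPseudoCoherent_of_bff _ n n h1 h2 (sIso n M).symm m

/-- A finitely presented module placed in degree `0` is `(-1)`-pseudo-coherent. -/
theorem isPseudoCoherent_single_zero_of_finitePresentation (M : Type u) [AddCommGroup M]
    [Module R M] [Module.FinitePresentation R M] :
    IsPseudoCoherent R (-1) (Dual.inD R M) := by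
  obtain ⟨n, f, hf⟩ := Module.Finite.exists_fin' R M
  have hw : ModuleCat.ofHom (LinearMap.ker f).subtype ≫ ModuleCat.ofHom f = 0 := by
    ext x
    exact x.2
  have hS : (ShortComplex.mk _ _ hw).ShortExact := by
    have hex : (ShortComplex.mk _ _ hw).Exact := by
      rw [ShortComplex.moduleCat_exact_iff]
      intro x hx
      exact ⟨⟨x, hx⟩, rfl⟩
    have : Mono (ShortComplex.mk _ _ hw).f :=
      (ModuleCat.mono_iff_injective _).2 (LinearMap.ker f).injective_subtype
    have : Epi (ShortComplex.mk _ _ hw).g := (ModuleCat.epi_iff_surjective _).2 hf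
    exact ShortComplex.ShortExact.mk hex
  have hT := hS.singleTriangle_distinguished
  have hker : Module.Finite R (ModuleCat.of R (LinearMap.ker f)) :=
    Module.Finite.iff_fg.2 ((Module.FinitePresentation.fg_ker_iff f hf).2 inferInstance)
  have hfin' : Module.Finite R (ModuleCat.of R (Fin n → R)) :=
    (inferInstance : Module.Finite R (Fin n → R))
  have hfree' : Module.Free R (ModuleCat.of R (Fin n → R)) :=
    (inferInstance : Module.Free R (Fin n → R))
  have h₁ : IsPseudoCoherent R (-1 + 1) hS.singleTriangle.obj₁ :=
    isPseudoCoherent_single_of_finite (ModuleCat.of R (LinearMap.ker f)) 0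
  have h₂ : IsPseudoCoherent R (-1) hS.singleTriangle.obj₂ :=
    isPseudoCoherent_single_of_finite_free (ModuleCat.of R (Fin n → R)) 0 (-1)
  exact isPseudoCoherent_obj₃ _ hT (-1) h₁ h₂

/-- A finitely presented module placed in degree `n` is `(n-1)`-pseudo-coherent. -/
theorem isPseudoCoherent_single_of_finitePresentation (M : ModuleCat.{u} R)
    [Module.FinitePresentation R M] (n m' : ℤ) (h : m' + 1 = n) :
    IsPseudoCoherent R m' ((singleFunctor (ModuleCat.{u} R) n).obj M) := by
  have h0 : IsPseudoCoherent R (-1) ((singleFunctor (ModuleCat.{u} R) 0).obj M) :=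
    isPseudoCoherent_single_zero_of_finitePresentation (R := R) M
  have h1 := isPseudoCoherent_shift h0 (-n) m' (by omega)
  exact isPseudoCoherent_of_iso
    (((singleFunctors (ModuleCat.{u} R)).shiftIso (-n) n 0 (by omega)).app M) h1

/-- An object of `D^{≤ m+1}` with finitely presented `H^{m+1}` and finitely generated `H^m` is
`m`-pseudo-coherent. -/
theorem isPseudoCoherent_of_isLE_of_finitePresentation (K : Dual.D R) (m : ℤ) [K.IsLE (m + 1)]
    (hfp : Module.FinitePresentation R ((homologyFunctor (ModuleCat.{u} R) (m + 1)).obj K))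
    (hfin : Module.Finite R ((homologyFunctor (ModuleCat.{u} R) m).obj K)) :
    IsPseudoCoherent R m K := by
  have hT := t.triangleLTGE_distinguished (m + 1) K
  have h₁ : IsPseudoCoherent R m ((t.truncLT (m + 1)).obj K) := by
    have : ((t.truncLT (m + 1)).obj K).IsLE m :=
      inferInstanceAs (t.IsLE ((t.truncLT (m + 1)).obj K) m)
    apply isPseudoCoherent_of_isLE_of_finite
    have hiso := H56.isIso_homologyMap_truncLTι K (m + 1) m (by omega)
    have e : ((homologyFunctor (ModuleCat.{u} R) m).obj ((t.truncLT (m + 1)).obj K)) ≃ₗ[R]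
        ((homologyFunctor (ModuleCat.{u} R) m).obj K) :=
      (asIso ((homologyFunctor (ModuleCat.{u} R) m).map
        ((t.truncLTι (m + 1)).app K))).toLinearEquiv
    exact Module.Finite.equiv e.symm
  have h₃ : IsPseudoCoherent R m ((t.truncGE (m + 1)).obj K) := by
    have g1 : ((t.truncGE (m + 1)).obj K).IsGE (m + 1) :=
      inferInstanceAs (t.IsGE ((t.truncGE (m + 1)).obj K) (m + 1))
    have g2 : ((t.truncGE (m + 1)).obj K).IsLE (m + 1) :=
      inferInstanceAs (t.IsLE ((t.truncGE (m + 1)).obj K) (m + 1))
    obtain ⟨eZ⟩ := H56.nonempty_iso_single ((t.truncGE (m + 1)).obj K) (m + 1)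
    have hiso := H56.isIso_homologyMap_truncGEπ K (m + 1) (m + 1) le_rfl
    have e : ((homologyFunctor (ModuleCat.{u} R) (m + 1)).obj K) ≃ₗ[R]
        ((homologyFunctor (ModuleCat.{u} R) (m + 1)).obj ((t.truncGE (m + 1)).obj K)) :=
      (asIso ((homologyFunctor (ModuleCat.{u} R) (m + 1)).map
        ((t.truncGEπ (m + 1)).app K))).toLinearEquiv
    have : Module.FinitePresentation R
        ((homologyFunctor (ModuleCat.{u} R) (m + 1)).obj ((t.truncGE (m + 1)).obj K)) :=
      Module.FinitePresentation.of_equiv e
    exact isPseudoCoherent_of_iso eZ.symm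
      (isPseudoCoherent_single_of_finitePresentation _ (m + 1) m rfl)
  exact isPseudoCoherent_obj₂ _ hT m h₁ h₃

end Groth.Agent.H35.MPCoh
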