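import Mathlib
import Groth.Agent.H35.TorAmp
import Groth.Agent.H56.CyclesProj
import Groth.Agent.H56.PCohMore

/-!
Perfect amplitude (helper35): an `(a-1)`-pseudo-coherent object of tor amplitude in `[a, b]` is
represented by a complex of finite projective modules vanishing outside `[a, b]`.
-/

set_option autoImplicit false
universe u
open CategoryTheory CategoryTheory.Limits Pretriangulated
attribute [local instance] HasDerivedCategory.standard

namespace Groth.Agent.H35.TorAmp

open DRing DerivedCategory Groth.Agent.H12.FlatCx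

variable {R : Type u} [CommRing R]

lemma finite_projective_Wq (F : Cx R) (i j : ℤ) (h1 : Module.Finite R (F.X i))
    (h2 : Module.Finite R (F.X j)) (h3 : Module.Free R (F.X j))
    (hW : Module.Flat R (Wq F i j)) :
    Module.Finite R (Wq F i j) ∧ Module.Projective R (Wq F i j) := by
  have hfp : Module.FinitePresentation R (F.X j) := Module.finitePresentation_of_projective R _
  have hker : (LinearMap.ker (LinearMap.range (F.d i j).hom).mkQ).FG := by
    rw [Submodule.ker_mkQ, LinearMap.range_eq_map]
    exact (Module.Finite.fg_top (R := R) (M := F.X i)).map (F.d i j).hom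
  have hfp' : Module.FinitePresentation R (Wq F i j) :=
    Module.finitePresentation_of_surjective (LinearMap.range (F.d i j).hom).mkQ
      (Submodule.mkQ_surjective _) hker
  exact ⟨inferInstance, Module.Flat.projective_of_finitePresentation⟩

/-- An `(a-1)`-pseudo-coherent object with tor amplitude in `[a, b]` has perfect amplitude in
`[a, b]`. -/
theorem exists_perfect_model (K : Dual.D R) (a b : ℤ) (hpc : IsPseudoCoherent R (a - 1) K)
    (hamp : HasTorAmplitudeIn R a b K) :
    ∃ E : Cx R, VanishesOutside E a b ∧ TermwiseFiniteProjective E ∧ Nonempty (toD E ≅ K) := by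
  obtain ⟨F, c, hF, hfree, hfin, ⟨eF⟩⟩ := MPCoh.isPseudoCoherent_iff.1 hpc
  obtain ⟨hH, P, c', hP, fl, ⟨e⟩, hT⟩ := hasFlatModel_of_hasTorAmplitudeIn hamp
  have hflF := free_flat F hfree
  have hTF : TorVanish a b F := torVanish_of_iso c' c hP hF fl hflF (e ≪≫ eF.symm) hT
  have hFge : F.IsGE a := by
    rw [CochainComplex.isGE_iff]
    intro i hi
    rw [exactAt_iff_isZero_H]
    exact (hH i (Or.inl hi)).of_iso ((homologyFunctor (ModuleCat.{u} R) i).mapIso eF)
  have hW : Module.Flat R (Wq F (a - 1) a) := flat_Wq_of_torVanish F hflF a b hTF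
  have hWfp := finite_projective_Wq F (a - 1) a (hfin (a - 1) le_rfl) (hfin a (by omega))
    (hfree a) hW
  -- the first truncation
  let E₁ := F.truncGE a
  have e₁ : Q.obj E₁ ≅ K := (asIso (Q.map (F.πTruncGE a))).symm ≪≫ eF
  have hE₁lt : ∀ i, i < a → IsZero (E₁.X i) := fun i hi =>
    (F.truncGE a).isZero_of_isStrictlyGE a i hi
  have hE₁v : ∀ i : ℤ, c < i → IsZero (E₁.X i) := by
    intro i hi
    by_cases hia : i < a
    · exact hE₁lt i hia
    · by_cases hia' : i = a
      · subst hia'
        refine IsZero.of_iso ?_ (F.truncGEXIsoOpcycles i)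
        exact IsZero.of_epi (F.pOpcycles _) (hF _ hi)
      · exact IsZero.of_iso (hF _ hi) (F.truncGEXIso a i (by omega))
  have hE₁fp : ∀ i : ℤ, Module.Finite R (E₁.X i) ∧ Module.Projective R (E₁.X i) := by
    intro i
    by_cases hia : i < a
    · exact H56.moduleFinite_projective_of_isZero _ (hE₁lt i hia)
    · by_cases hia' : i = a
      · subst hia'
        have e1 := (F.truncGEXIsoOpcycles i).toLinearEquiv
        have e2 := opcyclesEquiv F (i - 1) i
          ((ComplexShape.up ℤ).prev_eq' (show (i - 1) + 1 = i by omega))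
        have := hWfp.1
        have := hWfp.2
        exact ⟨Module.Finite.equiv (e1 ≪≫ₗ e2).symm, Module.Projective.of_equiv (e1 ≪≫ₗ e2).symm⟩
      · have e1 := (F.truncGEXIso a i (by omega)).toLinearEquiv
        have := hfin i (by omega)
        have := hfree i
        exact ⟨Module.Finite.equiv e1.symm, Module.Projective.of_equiv e1.symm⟩
  have hE₁ex : ∀ i : ℤ, b < i → E₁.ExactAt i := by
    intro i hi
    rw [exactAt_iff_isZero_H]
    exact (hH i (Or.inr hi)).of_iso ((homologyFunctor (ModuleCat.{u} R) i).mapIso e₁)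
  have hE₁le : E₁.IsLE b := by
    rw [CochainComplex.isLE_iff]
    exact hE₁ex
  have hcyc := H56.finite_projective_cycles E₁ c hE₁v hE₁fp b hE₁ex (c - b + 1).toNat b le_rfl
    (by omega)
  -- the second truncation
  refine ⟨E₁.truncLE b, ?_, ?_, ⟨asIso (Q.map (E₁.ιTruncLE b)) ≪≫ e₁⟩⟩
  · intro i hi
    by_cases hib : b < i
    · exact (E₁.truncLE b).isZero_of_isStrictlyLE b i hib
    · have hia : i < a := by omega
      by_cases hib' : i = b
      · subst hib'
        refine IsZero.of_iso ?_ (E₁.truncLEXIsoCycles i)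
        exact IsZero.of_mono (E₁.iCycles _) (hE₁lt _ hia)
      · exact IsZero.of_iso (hE₁lt _ hia) (E₁.truncLEXIso b i (by omega))
  · intro i
    by_cases hib : b < i
    · exact H56.moduleFinite_projective_of_isZero _
        ((E₁.truncLE b).isZero_of_isStrictlyLE b i hib)
    · by_cases hib' : i = b
      · subst hib'
        have e1 := (E₁.truncLEXIsoCycles i).toLinearEquiv
        have := hcyc.1
        have := hcyc.2
        exact ⟨Module.Finite.equiv e1.symm, Module.Projective.of_equiv e1.symm⟩
      · have e1 := (E₁.truncLEXIso b i (by omega)).toLinearEquiv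
        have := (hE₁fp i).1
        have := (hE₁fp i).2
        exact ⟨Module.Finite.equiv e1.symm, Module.Projective.of_equiv e1.symm⟩

lemma flat_of_finiteProjective {E : Cx R} (h : TermwiseFiniteProjective E) : TermwiseFlat E :=
  fun i => by
    have := (h i).2
    infer_instance

/-- S6954. -/
theorem isPerfect_iff (K : Dual.D R) :
    IsPerfect R K ↔ IsPseudoCoherent' R K ∧ HasFiniteTorDimCx R K := by
  constructor
  · rintro ⟨E, a, b, hv, hp, ⟨e⟩⟩
    refine ⟨H56.isPseudoCoherent'_iff_forall.2 (fun m => ?_),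
      a, b, E, hv, flat_of_finiteProjective hp, ⟨e⟩⟩
    exact MPCoh.isPseudoCoherent_of_iso e
      (H56.isPseudoCoherent_of_bddAbove_finite_projective E b (fun i hi => hv i (Or.inr hi)) hp m)
  · rintro ⟨hpc, a, b, hamp⟩
    obtain ⟨E, hv, hp, he⟩ := exists_perfect_model K a b
      (H56.isPseudoCoherent_of_isPseudoCoherent' hpc (a - 1)) hamp
    exact ⟨E, a, b, hv, hp, he⟩

/-- S5611. -/
theorem perfectAmplitude_iff (K : Dual.D R) (m n : ℤ) :
    (IsPseudoCoherent R (m - 1) K ∧ HasTorAmplitudeIn R m n K) ↔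
      ∃ E : Cx R, VanishesOutside E m n ∧ TermwiseFiniteProjective E ∧ Nonempty (toD E ≅ K) := by
  constructor
  · rintro ⟨h1, h2⟩
    exact exists_perfect_model K m n h1 h2
  · rintro ⟨E, hv, hp, ⟨e⟩⟩
    exact ⟨MPCoh.isPseudoCoherent_of_iso e
      (H56.isPseudoCoherent_of_bddAbove_finite_projective E n (fun i hi => hv i (Or.inr hi)) hp
        (m - 1)), E, hv, flat_of_finiteProjective hp, ⟨e⟩⟩

/-- S6976. -/
theorem projectiveAmplitude_iff (K : Dual.D R) (hK : IsPseudoCoherent' R K) (a b : ℤ) :
    (∃ P : Cx R, VanishesOutside P a b ∧ (∀ i : ℤ, Module.Projective R (P.X i)) ∧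
        Nonempty (toD P ≅ K)) ↔ IsPerfect R K ∧ HasTorAmplitudeIn R a b K := by
  constructor
  · rintro ⟨P, hv, hp, he⟩
    have hamp : HasTorAmplitudeIn R a b K :=
      ⟨P, hv, fun i => by
        have := hp i
        infer_instance, he⟩
    exact ⟨(isPerfect_iff K).2 ⟨hK, a, b, hamp⟩, hamp⟩
  · rintro ⟨-, hamp⟩
    obtain ⟨E, hv, hp, he⟩ := exists_perfect_model K a b
      (H56.isPseudoCoherent_of_isPseudoCoherent' hK (a - 1)) hamp
    exact ⟨E, hv, fun i => (hp i).2, he⟩

end Groth.Agent.H35.TorAmp
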