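import Mathlib
import Groth.Agent.H35.LBC
import Groth.Agent.H35.MPCoh2
import Groth.Agent.H35.PerfAmp
import Groth.Agent.H56.RestrictPC
import Groth.Agent.S2068

/-!
Pseudo-coherence and perfectness descend along surjections with nilpotent kernel (helper35).
-/

set_option autoImplicit false
universe u
open CategoryTheory CategoryTheory.Limits MonoidalCategory Pretriangulated TensorProduct
attribute [local instance] HasDerivedCategory.standard

namespace Groth.Agent.H35.LBC

open DRing DerivedCategory Groth.Agent.H31 Groth.Agent.H35.TorAmp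
  Groth.Agent.H35.FlatBC Groth.Agent.H35.KFlatBC

/-! ### nilpotent Nakayama -/

section LA

variable {A B : Type u} [CommRing A] [CommRing B] [Algebra A B]

lemma tmul_one_surjective (hs : Function.Surjective (algebraMap A B)) (M : Type u)
    [AddCommGroup M] [Module A M] (t : B ⊗[A] M) : ∃ m : M, (1 : B) ⊗ₜ[A] m = t := by
  induction t using TensorProduct.induction_on with
  | zero => exact ⟨0, by simp⟩
  | tmul b m =>
    obtain ⟨a, rfl⟩ := hs b
    refine ⟨a • m, ?_⟩
    rw [TensorProduct.tmul_smul, TensorProduct.smul_tmul', Algebra.smul_def, mul_one]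
  | add x y hx hy =>
    obtain ⟨m, rfl⟩ := hx
    obtain ⟨m', rfl⟩ := hy
    exact ⟨m + m', by rw [TensorProduct.tmul_add]⟩

lemma mem_smul_top_of_tmul_eq_zero (hs : Function.Surjective (algebraMap A B)) (M : Type u)
    [AddCommGroup M] [Module A M] (x : M) (hx : (1 : B) ⊗ₜ[A] x = 0) :
    x ∈ RingHom.ker (algebraMap A B) • (⊤ : Submodule A M) := by
  set I : Ideal A := RingHom.ker (algebraMap A B) with hI
  have hex0 : Function.Exact (Submodule.subtype I) (Algebra.linearMap A B) := by
    intro a
    rw [Algebra.linearMap_apply]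
    constructor
    · intro h
      exact ⟨⟨a, (RingHom.mem_ker).2 h⟩, rfl⟩
    · rintro ⟨y, rfl⟩
      exact (RingHom.mem_ker).1 y.2
  have hex : Function.Exact ((Submodule.subtype I).rTensor M)
      ((Algebra.linearMap A B).rTensor M) := rTensor_exact M hex0 hs
  have h1 : (Algebra.linearMap A B).rTensor M ((1 : A) ⊗ₜ x) = 0 := by
    rw [LinearMap.rTensor_tmul, Algebra.linearMap_apply, map_one]
    exact hx
  have h2 : ∀ y : I ⊗[A] M, TensorProduct.lid A M ((Submodule.subtype I).rTensor M y) ∈
      I • (⊤ : Submodule A M) := by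
    intro y
    induction y using TensorProduct.induction_on with
    | zero => simp
    | tmul i m =>
      rw [LinearMap.rTensor_tmul, TensorProduct.lid_tmul]
      exact Submodule.smul_mem_smul i.2 Submodule.mem_top
    | add y y' h h' =>
      rw [map_add, map_add]
      exact Submodule.add_mem _ h h'
  obtain ⟨y, hy⟩ := (hex _).1 h1
  have h3 := h2 y
  rw [hy, TensorProduct.lid_tmul, one_smul] at h3
  exact h3

theorem finite_of_finite_tensor_nilpotent (hs : Function.Surjective (algebraMap A B))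
    (hn : IsNilpotent (RingHom.ker (algebraMap A B))) (M : Type u) [AddCommGroup M]
    [Module A M] (h : Module.Finite B (B ⊗[A] M)) : Module.Finite A M := by
  classical
  set I : Ideal A := RingHom.ker (algebraMap A B) with hI
  obtain ⟨S, hS⟩ := h.fg_top
  choose mOf hmOf using tmul_one_surjective hs M
  let N : Submodule A M := Submodule.span A (mOf '' (S : Set (B ⊗[A] M)))
  have hNfg : N.FG := Submodule.fg_span (Set.Finite.image _ S.finite_toSet)
  let T : Submodule B (B ⊗[A] M) :=
    { carrier := {t | ∃ n ∈ N, (1 : B) ⊗ₜ[A] n = t}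
      add_mem' := by
        rintro _ _ ⟨n, hn, rfl⟩ ⟨n', hn', rfl⟩
        exact ⟨n + n', N.add_mem hn hn', TensorProduct.tmul_add _ _ _⟩
      zero_mem' := ⟨0, N.zero_mem, TensorProduct.tmul_zero _ _⟩
      smul_mem' := by
        rintro b _ ⟨n, hn, rfl⟩
        obtain ⟨a, rfl⟩ := hs b
        refine ⟨a • n, N.smul_mem a hn, ?_⟩
        rw [TensorProduct.tmul_smul, algebraMap_smul] }
  have hT : T = ⊤ := by
    rw [eq_top_iff, ← hS, Submodule.span_le]
    intro s hs'
    exact ⟨mOf s, Submodule.subset_span ⟨s, hs', rfl⟩, hmOf s⟩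
  have hsup : N ⊔ I • (⊤ : Submodule A M) = ⊤ := by
    rw [eq_top_iff]
    intro x _
    obtain ⟨n, hn, hnx⟩ : (1 : B) ⊗ₜ[A] x ∈ T := by rw [hT]; trivial
    have h1 : x - n ∈ I • (⊤ : Submodule A M) :=
      mem_smul_top_of_tmul_eq_zero hs M _ (by rw [TensorProduct.tmul_sub, hnx, sub_self])
    have hx : x = n + (x - n) := by abel
    rw [hx]
    exact Submodule.add_mem_sup hn h1
  obtain ⟨k, hk⟩ := hn
  have key : ∀ j : ℕ, N ⊔ I ^ j • (⊤ : Submodule A M) = ⊤ := by
    intro j
    induction j with
    | zero => simp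
    | succ j ih =>
      have h1 : I ^ j • (⊤ : Submodule A M) ≤ N ⊔ I ^ (j + 1) • (⊤ : Submodule A M) :=
        calc I ^ j • (⊤ : Submodule A M) = I ^ j • (N ⊔ I • (⊤ : Submodule A M)) := by rw [hsup]
          _ = I ^ j • N ⊔ I ^ j • (I • (⊤ : Submodule A M)) := Submodule.smul_sup _ _ _
          _ ≤ N ⊔ I ^ (j + 1) • (⊤ : Submodule A M) :=
            sup_le_sup Submodule.smul_le_right (by rw [← Submodule.mul_smul, pow_succ])
      rw [eq_top_iff]
      calc (⊤ : Submodule A M) = N ⊔ I ^ j • (⊤ : Submodule A M) := ih.symm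
        _ ≤ N ⊔ I ^ (j + 1) • (⊤ : Submodule A M) := sup_le le_sup_left h1
  have hN : N = ⊤ := by
    have h1 := key k
    rw [hk] at h1
    simpa using h1
  exact ⟨hN ▸ hNfg⟩

end LA

/-! ### top cohomology -/

section Top

variable {R : Type u} [CommRing R]

lemma nonempty_H_iso_opcycles (X : Cx R) (c : ℤ) (h : IsZero (X.X (c + 1))) :
    Nonempty ((homologyFunctor (ModuleCat.{u} R) c).obj (toD X) ≅ X.opcycles c) := by
  have h1 : IsIso (X.homologyι c) := X.isIso_homologyι c (c + 1) (by simp) (h.eq_of_tgt _ _)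
  exact ⟨(homologyFunctorFactors (ModuleCat.{u} R) c).app X ≪≫ @asIso _ _ _ _ (X.homologyι c) h1⟩

lemma isLE_toD_of_vanishesAbove (F : Cx R) (c : ℤ) (hF : VanishesAbove F c) : (toD F).IsLE c := by
  rw [isLE_iff]
  intro i hi
  rw [← exactAt_iff_isZero_H]
  exact ShortComplex.exact_of_isZero_X₂ _ (hF i hi)

end Top

section BC

variable {A B : Type u} [CommRing A] [CommRing B] (φ : A →+* B)

lemma finite_ext_opcycles (F : Cx A) (c : ℤ)
    (h : Module.Finite B (((extCx φ).obj F).opcycles c)) :
    Module.Finite B ((ext φ).obj (F.opcycles c)) := by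
  let k : ((extCx φ).obj F).X c ⟶ (ext φ).obj (F.opcycles c) := (ext φ).map (F.pOpcycles c)
  have hk : ((extCx φ).obj F).d (c - 1) c ≫ k = 0 := by
    show (ext φ).map (F.d (c - 1) c) ≫ (ext φ).map (F.pOpcycles c) = 0
    rw [← Functor.map_comp, F.d_pOpcycles, Functor.map_zero]
  let q := ((extCx φ).obj F).descOpcycles k (c - 1) (by simp) hk
  have hq : ((extCx φ).obj F).pOpcycles c ≫ q = k :=
    HomologicalComplex.p_descOpcycles _ _ _ _ _
  have hkepi : Epi k := (ext φ).map_epi (F.pOpcycles c)
  have hqepi : Epi q := epi_of_epi_fac hq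
  exact Module.Finite.of_surjective q.hom ((ModuleCat.epi_iff_surjective _).1 hqepi)

set_option backward.isDefEq.respectTransparency false in
lemma finite_of_finite_ext_nilpotent (hφ : Function.Surjective φ)
    (hnil : IsNilpotent (RingHom.ker φ)) (M : ModuleCat.{u} A)
    (h : Module.Finite B ((ext φ).obj M)) : Module.Finite A M := by
  letI := algOf φ
  have hs : Function.Surjective (algebraMap A B) := fun b => hφ b
  have hk : RingHom.ker (algebraMap A B) = RingHom.ker φ := by
    ext a
    rw [RingHom.mem_ker, RingHom.mem_ker]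
    rfl
  have hn : IsNilpotent (RingHom.ker (algebraMap A B)) := by rw [hk]; exact hnil
  exact finite_of_finite_tensor_nilpotent hs hn M h

lemma finite_H_top (hφ : Function.Surjective φ) (hnil : IsNilpotent (RingHom.ker φ))
    (F : Cx A) (c : ℤ) (hF : VanishesAbove F c)
    (h : IsPseudoCoherent B c (toD ((extCx φ).obj F))) :
    Module.Finite A ((homologyFunctor (ModuleCat.{u} A) c).obj (toD F)) := by
  have hFB := vanishesAbove_ext φ F c hF
  have hzero : ∀ i : ℤ, c < i → IsZero ((homologyFunctor (ModuleCat.{u} B) i).obj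
      (toD ((extCx φ).obj F))) := fun i hi => by
    rw [← exactAt_iff_isZero_H]
    exact ShortComplex.exact_of_isZero_X₂ _ (hFB i hi)
  haveI h1 : Module.Finite B ((homologyFunctor (ModuleCat.{u} B) c).obj
      (toD ((extCx φ).obj F))) := (Groth.Agent.S2068.result _ c h).1 hzero
  obtain ⟨eB⟩ := nonempty_H_iso_opcycles ((extCx φ).obj F) c (hFB (c + 1) (by omega))
  have h2 : Module.Finite B (((extCx φ).obj F).opcycles c) :=
    Module.Finite.equiv eB.toLinearEquiv
  have h3 : Module.Finite B ((ext φ).obj (F.opcycles c)) := finite_ext_opcycles φ F c h2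
  haveI h4 : Module.Finite A (F.opcycles c) :=
    finite_of_finite_ext_nilpotent φ hφ hnil (F.opcycles c) h3
  obtain ⟨eA⟩ := nonempty_H_iso_opcycles F c (hF (c + 1) (by omega))
  exact Module.Finite.equiv eA.symm.toLinearEquiv

open CochainComplex in
lemma pc_descent_aux (hφ : Function.Surjective φ) (hnil : IsNilpotent (RingHom.ker φ)) (m : ℤ)
    (n : ℕ) :
    ∀ (F : Cx A) (c : ℤ), VanishesAbove F c → (∀ i, Module.Free A (F.X i)) → c < m + n →
      IsPseudoCoherent B m (toD ((extCx φ).obj F)) → IsPseudoCoherent A m (toD F) := by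
  induction n with
  | zero =>
    intro F c hF _ hc _
    exact H56.isPseudoCoherent_of_isLE (toD F) m c (by omega) (isLE_toD_of_vanishesAbove F c hF)
  | succ n ih =>
    intro F c hF hfree hc hpc
    have hle : (toD F).IsLE c := isLE_toD_of_vanishesAbove F c hF
    by_cases hcm : c < m
    · exact H56.isPseudoCoherent_of_isLE (toD F) m c hcm hle
    haveI := hle
    have hfin : Module.Finite A ((homologyFunctor (ModuleCat.{u} A) c).obj (toD F)) :=
      finite_H_top φ hφ hnil F c hF (MPCoh.isPseudoCoherent_mono (by omega) hpc)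
    obtain ⟨k, π, hπ⟩ :=
      Module.Finite.exists_fin' A ((homologyFunctor (ModuleCat.{u} A) c).obj (toD F))
    let F₀ : ModuleCat.{u} A := ModuleCat.of A (Fin k → A)
    haveI hπF : Epi (ModuleCat.ofHom π : F₀ ⟶ _) := (ModuleCat.epi_iff_surjective _).2 hπ
    haveI hF₀fin : Module.Finite A F₀ := (inferInstance : Module.Finite A (Fin k → A))
    haveI hF₀free : Module.Free A F₀ := (inferInstance : Module.Free A (Fin k → A))
    haveI hFproj : Projective F₀ := (IsProjective.iff_projective _).mp Module.Projective.of_free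
    obtain ⟨ζ, hζ⟩ := H56.exists_lift_single_projective_epi' (toD F) c F₀ (ModuleCat.ofHom π)
    let S₀ : Cx A := (HomologicalComplex.single (ModuleCat.{u} A) (ComplexShape.up ℤ) c).obj F₀
    obtain ⟨hS₀v, hS₀ff⟩ := MPCoh.single_props c F₀
    have hS₀free : ∀ i, Module.Free A (S₀.X i) := fun i => (hS₀ff i).2
    have hS₀above : VanishesAbove S₀ c := fun i hi => hS₀v i (Or.inr hi)
    haveI := MPCoh.kprojective_of_free S₀ c hS₀above hS₀free
    obtain ⟨z, hz⟩ := H56.exists_chainMap_of_isKProjective S₀ F ((MPCoh.sIso c F₀).inv ≫ ζ)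
    have hz_iso : ∀ i, c < i → IsIso ((homologyFunctor (ModuleCat.{u} A) i).map (Q.map z)) := by
      intro i hi
      have h1 : IsZero ((homologyFunctor (ModuleCat.{u} A) i).obj (Q.obj S₀)) := by
        rw [← exactAt_iff_isZero_H]
        exact ShortComplex.exact_of_isZero_X₂ _ (hS₀above i hi)
      have h2 : IsZero ((homologyFunctor (ModuleCat.{u} A) i).obj (Q.obj F)) :=
        isZero_of_isLE (toD F) c i hi
      exact ⟨⟨0, h1.eq_of_src _ _, h2.eq_of_src _ _⟩⟩
    have hz_epi : Epi ((homologyFunctor (ModuleCat.{u} A) c).map (Q.map z)) := by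
      rw [hz, Functor.map_comp]
      exact epi_comp _ _
    have hC : ∀ i, c ≤ i → IsZero ((homologyFunctor (ModuleCat.{u} A) i).obj
        (Q.obj (mappingCone z))) :=
      Groth.Agent.H53.LBaseChange.isZero_obj₃_of_nIso
        (Q.mapTriangle.obj (mappingCone.triangle z))
        (mappingCone_triangle_distinguished z) c hz_iso hz_epi
    have hCle : (Q.obj (mappingCone z)).IsLE (c - 1) := by
      rw [DerivedCategory.isLE_iff]
      intro i hi
      exact hC i (by omega)
    obtain ⟨F₁, hF₁, hF₁free, ⟨e₁⟩⟩ := exists_free_model_of_isLE (Q.obj (mappingCone z)) (c - 1)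
    haveI := MPCoh.kprojective_of_free F₁ (c - 1) hF₁ hF₁free
    obtain ⟨g, hg⟩ := H56.exists_chainMap_of_isKProjective F₁ (mappingCone z) e₁.hom
    have hgq : QuasiIso g := by
      rw [← isIso_Q_map_iff_quasiIso, hg]
      infer_instance
    have hF₁K : DRing.IsKFlat A F₁ :=
      KFlatRing.isKFlat_of_bounded_above_flat F₁ _ hF₁ (free_flat F₁ hF₁free)
    have hFK : DRing.IsKFlat A F :=
      KFlatRing.isKFlat_of_bounded_above_flat F c hF (free_flat F hfree)
    have hS₀K : DRing.IsKFlat A S₀ :=
      KFlatRing.isKFlat_of_bounded_above_flat S₀ c hS₀above (free_flat S₀ hS₀free)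
    have hCK : DRing.IsKFlat A (mappingCone z) := (KFlatRing.isKFlat_mappingCone z).1 hS₀K hFK
    haveI hbc : QuasiIso ((extCx φ).map g) :=
      Groth.Agent.H53.LBaseChange.quasiIso_extCx_map φ g hgq hF₁K hCK
    have hTB := mappingCone_triangle_distinguished ((extCx φ).map z)
    have h₁ : IsPseudoCoherent B (m + 1) (Q.obj ((extCx φ).obj S₀)) :=
      H56.isPseudoCoherent_Q_obj_of_bounded_ff _ c c (vanishesOutside_ext φ S₀ c c hS₀v)
        (fun i => ⟨haveI := (hS₀ff i).1; finite_ext φ _, haveI := (hS₀ff i).2; free_ext φ _⟩)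
        (m + 1)
    have h₃ : IsPseudoCoherent B m (Q.obj (mappingCone ((extCx φ).map z))) :=
      MPCoh.isPseudoCoherent_obj₃ _ hTB m h₁ hpc
    have h₃' : IsPseudoCoherent B m (toD ((extCx φ).obj F₁)) :=
      MPCoh.isPseudoCoherent_of_iso
        (Q.mapIso (mappingCone.mapHomologicalComplexIso z (ext φ)).symm ≪≫
          (asIso (Q.map ((extCx φ).map g))).symm) h₃
    have hF₁pc : IsPseudoCoherent A m (toD F₁) :=
      ih F₁ (c - 1) hF₁ hF₁free (by push_cast at hc; omega) h₃'
    have hCpc : IsPseudoCoherent A m (Q.obj (mappingCone z)) :=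
      MPCoh.isPseudoCoherent_of_iso e₁ hF₁pc
    have hS₀pc : IsPseudoCoherent A m (Q.obj S₀) :=
      H56.isPseudoCoherent_Q_obj_of_bounded_ff S₀ c c hS₀v hS₀ff m
    exact MPCoh.isPseudoCoherent_obj₂ _ (mappingCone_triangle_distinguished z) m hS₀pc hCpc

variable [DRing.HasLBaseChange φ]

/-- `m`-pseudo-coherence descends along a surjection with nilpotent kernel. -/
theorem isPseudoCoherent_of_LBaseChange_nilpotent (hφ : Function.Surjective φ)
    (hnil : IsNilpotent (RingHom.ker φ)) (K' : Dual.D A) (m : ℤ)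
    (h : IsPseudoCoherent B m ((DRing.LBaseChange φ).obj K')) : IsPseudoCoherent A m K' := by
  obtain ⟨c, hc⟩ := H56.exists_isLE_of_isPseudoCoherent h
  haveI : K'.IsLE c := isLE_of_LBaseChange_nilpotent φ hφ hnil K' c hc
  obtain ⟨F, hF, hfree, ⟨eF⟩⟩ := exists_free_model_of_isLE K' c
  have hFK : DRing.IsKFlat A F :=
    KFlatRing.isKFlat_of_bounded_above_flat F c hF (free_flat F hfree)
  have h' : IsPseudoCoherent B m (toD ((extCx φ).obj F)) :=
    MPCoh.isPseudoCoherent_of_iso (Groth.Agent.H53.LBaseChange.objIso' φ F hFK eF).symm h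
  exact MPCoh.isPseudoCoherent_of_iso eF
    (pc_descent_aux φ hφ hnil m (c + 1 - m).toNat F c hF hfree (by omega) h')

/-- Pseudo-coherence descends along a surjection with nilpotent kernel. -/
theorem isPseudoCoherent'_of_LBaseChange_nilpotent (hφ : Function.Surjective φ)
    (hnil : IsNilpotent (RingHom.ker φ)) (K' : Dual.D A)
    (h : IsPseudoCoherent' B ((DRing.LBaseChange φ).obj K')) : IsPseudoCoherent' A K' :=
  H56.isPseudoCoherent'_iff_forall.2 (fun m =>
    isPseudoCoherent_of_LBaseChange_nilpotent φ hφ hnil K' m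
      (H56.isPseudoCoherent'_iff_forall.1 h m))

/-- Perfectness descends along a surjection with nilpotent kernel. -/
theorem isPerfect_of_LBaseChange_nilpotent (hφ : Function.Surjective φ)
    (hnil : IsNilpotent (RingHom.ker φ)) (K' : Dual.D A)
    (h : IsPerfect B ((DRing.LBaseChange φ).obj K')) : IsPerfect A K' := by
  obtain ⟨hpc, a, b, hamp⟩ := (isPerfect_iff _).1 h
  exact (isPerfect_iff _).2 ⟨isPseudoCoherent'_of_LBaseChange_nilpotent φ hφ hnil K' hpc, a, b,
    hasTorAmplitudeIn_of_LBaseChange_nilpotent φ hφ hnil K' a b hamp⟩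

end BC

end Groth.Agent.H35.LBC
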