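import Mathlib
import Groth.Agent.H35.LBC
import Groth.Agent.H35.LBCpc
import Groth.Prelude.Def_DualSh

/-!
Base change squares `B₀ → C₀`, `B₀ → B₁`, `T = B₁ ⊗[B₀] C₀` (helper35):
restriction of scalars along a flat map preserves K-flatness, and flat base change for modules.
-/

set_option autoImplicit false
universe u
open CategoryTheory CategoryTheory.Limits MonoidalCategory TensorProduct HomologicalComplex
open ChangeOfRings
attribute [local instance] HasDerivedCategory.standard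

namespace Groth.Agent.H35.BCSquare

open DRing DerivedCategory Groth.Agent.H31 Groth.Agent.H31.KFlat Groth.Agent.H35.TorAmp
  Groth.Agent.H35.FlatBC Groth.Agent.H35.KFlatBC Groth.Agent.H35.LBC

section ResKFlat

variable {S T : Type u} [CommRing S] [CommRing T] (ψ : S →+* T)

/-- `Res (ext L ⊗_T P) ≅ L ⊗_S Res P`. -/
noncomputable def cancelIso' (L : ModuleCat.{u} S) (P : ModuleCat.{u} T) :
    (Res ψ).obj ((ext ψ).obj L ⊗ P) ≅ L ⊗ (Res ψ).obj P :=
  (Res ψ).mapIso (β_ ((ext ψ).obj L) P) ≪≫ cancelIso ψ P L ≪≫ β_ ((Res ψ).obj P) L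

lemma cancelIso'_natural_left {L L' : ModuleCat.{u} S} (f : L ⟶ L') (P : ModuleCat.{u} T) :
    (Res ψ).map ((ext ψ).map f ▷ P) ≫ (cancelIso' ψ L' P).hom =
      (cancelIso' ψ L P).hom ≫ (f ▷ (Res ψ).obj P) := by
  have h1 := BraidedCategory.braiding_naturality_left ((ext ψ).map f) P
  have h2 := cancelIso_natural_right ψ P f
  have h3 := BraidedCategory.braiding_naturality_right ((Res ψ).obj P) f
  show (Res ψ).map ((ext ψ).map f ▷ P) ≫ ((Res ψ).map (β_ ((ext ψ).obj L') P).hom ≫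
      (cancelIso ψ P L').hom ≫ (β_ ((Res ψ).obj P) L').hom) =
    ((Res ψ).map (β_ ((ext ψ).obj L) P).hom ≫ (cancelIso ψ P L).hom ≫
      (β_ ((Res ψ).obj P) L).hom) ≫ (f ▷ (Res ψ).obj P)
  rw [← Functor.map_comp_assoc, h1, Functor.map_comp_assoc, reassoc_of% h2, h3]
  simp only [Category.assoc]

lemma cancelIso'_natural_right (L : ModuleCat.{u} S) {P P' : ModuleCat.{u} T} (g : P ⟶ P') :
    (Res ψ).map ((ext ψ).obj L ◁ g) ≫ (cancelIso' ψ L P').hom =
      (cancelIso' ψ L P).hom ≫ (L ◁ (Res ψ).map g) := by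
  have h1 := BraidedCategory.braiding_naturality_right ((ext ψ).obj L) g
  have h2 := cancelIso_natural_left ψ g L
  have h3 := BraidedCategory.braiding_naturality_left ((Res ψ).map g) L
  show (Res ψ).map ((ext ψ).obj L ◁ g) ≫ ((Res ψ).map (β_ ((ext ψ).obj L) P').hom ≫
      (cancelIso ψ P' L).hom ≫ (β_ ((Res ψ).obj P') L).hom) =
    ((Res ψ).map (β_ ((ext ψ).obj L) P).hom ≫ (cancelIso ψ P L).hom ≫
      (β_ ((Res ψ).obj P) L).hom) ≫ (L ◁ (Res ψ).map g)
  rw [← Functor.map_comp_assoc, h1, Functor.map_comp_assoc, reassoc_of% h2, h3]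
  simp only [Category.assoc]

/-- Restriction of scalars along a flat ring map preserves K-flat complexes. -/
theorem isKFlat_resCx (hψ : ψ.Flat) (P : Cx T) (hP : DRing.IsKFlat T P) :
    DRing.IsKFlat S ((DRing.restrictCx ψ).obj P) := by
  rw [KFlatRing.isKFlat_iff] at hP ⊢
  intro L hL
  haveI : PreservesFiniteLimits (ext ψ) :=
    ModuleCat.preservesFiniteLimits_extendScalars_of_flat hψ
  haveI : PreservesFiniteColimits (ext ψ) := inferInstance
  have h1 : (((ext ψ).mapHomologicalComplex (ComplexShape.up ℤ)).obj L).Acyclic :=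
    acyclic_map_of_exact (ext ψ) L hL
  have h2 := hP _ h1
  have e := totIso (curriedTensor (ModuleCat.{u} T)) (curriedTensor (ModuleCat.{u} S)) (Res ψ)
    (((ext ψ).mapHomologicalComplex (ComplexShape.up ℤ)).obj L) P L
    (((Res ψ).mapHomologicalComplex (ComplexShape.up ℤ)).obj P)
    (fun p q => cancelIso' ψ (L.X p) (P.X q))
    (fun p q => cancelIso'_natural_left ψ (L.d p (p + 1)) (P.X q))
    (fun p q => cancelIso'_natural_right ψ (L.X p) (P.d q (q + 1)))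
  exact acyclic_of_iso e (acyclic_map_of_exact (Res ψ) _ h2)

end ResKFlat

section Square

variable {B₀ C₀ B₁ : Type u} [CommRing B₀] [CommRing C₀] [CommRing B₁] [Algebra B₀ C₀]
  [Algebra B₀ B₁]

attribute [local instance] Algebra.TensorProduct.rightAlgebra

/-- `C₀ → B₁ ⊗ C₀` -/
noncomputable abbrev incR : C₀ →+* B₁ ⊗[B₀] C₀ :=
  (Algebra.TensorProduct.includeRight : C₀ →ₐ[B₀] B₁ ⊗[B₀] C₀).toRingHom

/-- `B₁ → B₁ ⊗ C₀` -/
noncomputable abbrev incL : B₁ →+* B₁ ⊗[B₀] C₀ := algebraMap B₁ (B₁ ⊗[B₀] C₀)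

variable (X : ModuleCat.{u} C₀)

/-- the `B₀`-module structure on a `C₀`-module -/
@[reducible] def modX : Module B₀ X := Module.compHom X (algebraMap B₀ C₀)

lemma towerX : @IsScalarTower B₀ C₀ X _ _ (modX (B₀ := B₀) X).toSMul :=
  @IsScalarTower.mk B₀ C₀ X _ _ (modX (B₀ := B₀) X).toSMul (fun b c x => by
    show (b • c) • x = algebraMap B₀ C₀ b • (c • x)
    rw [Algebra.smul_def, mul_smul])

set_option backward.isDefEq.respectTransparency false in
/-- Mathlib's cancellation isomorphism. -/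
noncomputable def mE :
    letI := modX (B₀ := B₀) X
    (B₁ ⊗[B₀] C₀) ⊗[C₀] X ≃ₗ[B₁] B₁ ⊗[B₀] X :=
  letI := modX (B₀ := B₀) X
  haveI := towerX (B₀ := B₀) X
  Algebra.IsPushout.cancelBaseChange B₀ B₁ C₀ (B₁ ⊗[B₀] C₀) X

/-- identity bridge between the two `B₀`-module structures on `B₁` -/
noncomputable def e₀ :
    B₁ ≃ₗ[B₀] ((ModuleCat.restrictScalars (algebraMap B₀ B₁)).obj (ModuleCat.of B₁ B₁)) :=
  { toFun := fun b => b
    invFun := fun b => b
    map_add' := fun _ _ => rfl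
    map_smul' := fun r b => Algebra.smul_def r b
    left_inv := fun _ => rfl
    right_inv := fun _ => rfl }

set_option backward.isDefEq.respectTransparency false in
/-- the comparison map `B₁ ⊗[B₀] X → (B₁ ⊗ C₀) ⊗[C₀] X` as an additive equivalence -/
noncomputable def bcAdd :
    ((ext (algebraMap B₀ B₁)).obj ((Res (algebraMap B₀ C₀)).obj X) : ModuleCat.{u} B₁) ≃+
      ((Res (incL (B₀ := B₀) (C₀ := C₀) (B₁ := B₁))).obj
        ((ext (incR (B₀ := B₀) (C₀ := C₀) (B₁ := B₁))).obj X) : ModuleCat.{u} B₁) :=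
  letI := modX (B₀ := B₀) X
  ((TensorProduct.congr (e₀ (B₀ := B₀) (B₁ := B₁)) (LinearEquiv.refl B₀ X)).symm.toAddEquiv).trans
    (mE (B₀ := B₀) (B₁ := B₁) X).symm.toAddEquiv

set_option backward.isDefEq.respectTransparency false in
lemma bcAdd_tmul (b : B₁) (x : X) :
    bcAdd (B₀ := B₀) (B₁ := B₁) X (b ⊗ₜ[B₀, algebraMap B₀ B₁] x) =
      (incL (B₀ := B₀) (C₀ := C₀) (B₁ := B₁) b) ⊗ₜ[C₀, incR (B₀ := B₀) (C₀ := C₀) (B₁ := B₁)] x := by
  letI := modX (B₀ := B₀) X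
  haveI := towerX (B₀ := B₀) X
  show (Algebra.IsPushout.cancelBaseChange B₀ B₁ C₀ (B₁ ⊗[B₀] C₀) X).symm
    ((TensorProduct.congr (e₀ (B₀ := B₀) (B₁ := B₁)) (LinearEquiv.refl B₀ X)).symm (b ⊗ₜ x)) = _
  rw [TensorProduct.congr_symm_tmul]
  exact Algebra.IsPushout.cancelBaseChange_symm_tmul B₀ B₁ C₀ (B₁ ⊗[B₀] C₀) X b x

set_option backward.isDefEq.respectTransparency false in
lemma bcAdd_smul (b : B₁)
    (v : ((ext (algebraMap B₀ B₁)).obj ((Res (algebraMap B₀ C₀)).obj X) : ModuleCat.{u} B₁)) :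
    bcAdd (B₀ := B₀) (B₁ := B₁) X (b • v) = b • bcAdd (B₀ := B₀) (B₁ := B₁) X v := by
  induction v using TensorProduct.induction_on with
  | zero => rw [smul_zero, map_zero, smul_zero]
  | tmul b' x =>
    change B₁ at b'
    have h1 : b • (b' ⊗ₜ[B₀, algebraMap B₀ B₁] x :
        ((ext (algebraMap B₀ B₁)).obj ((Res (algebraMap B₀ C₀)).obj X) : ModuleCat.{u} B₁)) =
        (b * b') ⊗ₜ[B₀, algebraMap B₀ B₁] x := rfl
    rw [h1, bcAdd_tmul, bcAdd_tmul, map_mul]
    rfl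
  | add v w hv hw => rw [smul_add, map_add, hv, hw, map_add, smul_add]

/-- the comparison map as a linear equivalence -/
noncomputable def bcEquiv :
    ((ext (algebraMap B₀ B₁)).obj ((Res (algebraMap B₀ C₀)).obj X) : ModuleCat.{u} B₁) ≃ₗ[B₁]
      ((Res (incL (B₀ := B₀) (C₀ := C₀) (B₁ := B₁))).obj
        ((ext (incR (B₀ := B₀) (C₀ := C₀) (B₁ := B₁))).obj X) : ModuleCat.{u} B₁) :=
  { bcAdd (B₀ := B₀) (B₁ := B₁) X with
    map_smul' := fun b v => bcAdd_smul X b v }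

/-- flat base change for modules: `B₁ ⊗_{B₀} X ≅ (B₁ ⊗ C₀) ⊗_{C₀} X` -/
noncomputable def bcIso :
    (ext (algebraMap B₀ B₁)).obj ((Res (algebraMap B₀ C₀)).obj X) ≅
      (Res (incL (B₀ := B₀) (C₀ := C₀) (B₁ := B₁))).obj
        ((ext (incR (B₀ := B₀) (C₀ := C₀) (B₁ := B₁))).obj X) :=
  (bcEquiv (B₀ := B₀) (B₁ := B₁) X).toModuleIso

variable {X} in
set_option backward.isDefEq.respectTransparency false in
lemma bcIso_natural {X' : ModuleCat.{u} C₀} (f : X ⟶ X') :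
    (ext (algebraMap B₀ B₁)).map ((Res (algebraMap B₀ C₀)).map f) ≫
        (bcIso (B₀ := B₀) (B₁ := B₁) X').hom =
      (bcIso (B₀ := B₀) (B₁ := B₁) X).hom ≫
        (Res (incL (B₀ := B₀) (C₀ := C₀) (B₁ := B₁))).map
          ((ext (incR (B₀ := B₀) (C₀ := C₀) (B₁ := B₁))).map f) := by
  apply ModuleCat.hom_ext
  apply LinearMap.ext
  intro v
  induction v using TensorProduct.induction_on with
  | zero => simp only [map_zero]
  | tmul b x =>
    change B₁ at b
    change X at x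
    show bcAdd (B₀ := B₀) (B₁ := B₁) X' (b ⊗ₜ[B₀, algebraMap B₀ B₁] (f.hom x)) =
      ((ext (incR (B₀ := B₀) (C₀ := C₀) (B₁ := B₁))).map f).hom
        (bcAdd (B₀ := B₀) (B₁ := B₁) X (b ⊗ₜ[B₀, algebraMap B₀ B₁] x))
    rw [bcAdd_tmul, bcAdd_tmul]
    rfl
  | add v w hv hw => simp only [map_add, hv, hw]

/-- flat base change for complexes of modules -/
noncomputable def bcCxIso (P : Cx C₀) :
    (extCx (algebraMap B₀ B₁)).obj ((DRing.restrictCx (algebraMap B₀ C₀)).obj P) ≅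
      (DRing.restrictCx (incL (B₀ := B₀) (C₀ := C₀) (B₁ := B₁))).obj
        ((extCx (incR (B₀ := B₀) (C₀ := C₀) (B₁ := B₁))).obj P) :=
  HomologicalComplex.Hom.isoOfComponents (fun j => bcIso (B₀ := B₀) (B₁ := B₁) (P.X j))
    (fun i j _ => (bcIso_natural (B₀ := B₀) (B₁ := B₁) (P.d i j)).symm)

lemma exactAt_square_iff (P : Cx C₀) (N' : ModuleCat.{u} B₁) (i : ℤ) :
    (CohIII.tensorObj ((DRing.restrictCx (incL (B₀ := B₀) (C₀ := C₀) (B₁ := B₁))).obj
        ((extCx (incR (B₀ := B₀) (C₀ := C₀) (B₁ := B₁))).obj P)) N').ExactAt i ↔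
      (CohIII.tensorObj ((DRing.restrictCx (algebraMap B₀ C₀)).obj P)
        ((Res (algebraMap B₀ B₁)).obj N')).ExactAt i := by
  rw [← exactAt_tensor_ext_iff (algebraMap B₀ B₁) ((DRing.restrictCx (algebraMap B₀ C₀)).obj P) N' i]
  let E := ((tensorRight N').mapHomologicalComplex (ComplexShape.up ℤ)).mapIso
    (bcCxIso (B₀ := B₀) (B₁ := B₁) P)
  exact ⟨fun h => h.of_iso E.symm, fun h => h.of_iso E⟩

/-! ### the surjective case -/

lemma incR_surjective (hs : Function.Surjective (algebraMap B₀ B₁)) :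
    Function.Surjective (incR (B₀ := B₀) (C₀ := C₀) (B₁ := B₁)) := by
  intro t
  induction t using TensorProduct.induction_on with
  | zero => exact ⟨0, map_zero _⟩
  | tmul b c =>
    obtain ⟨r, rfl⟩ := hs b
    refine ⟨r • c, ?_⟩
    show (1 : B₁) ⊗ₜ[B₀] (r • c) = algebraMap B₀ B₁ r ⊗ₜ[B₀] c
    rw [← TensorProduct.smul_tmul, Algebra.smul_def, mul_one]
  | add x y hx hy =>
    obtain ⟨x', rfl⟩ := hx
    obtain ⟨y', rfl⟩ := hy
    exact ⟨x' + y', map_add _ _ _⟩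

lemma incR_ker_le (hs : Function.Surjective (algebraMap B₀ B₁)) :
    RingHom.ker (incR (B₀ := B₀) (C₀ := C₀) (B₁ := B₁)) ≤
      (RingHom.ker (algebraMap B₀ B₁)).map (algebraMap B₀ C₀) := by
  intro c hc
  let g : B₀ →ₗ[B₀] B₁ := Algebra.linearMap B₀ B₁
  have hg : Function.Surjective g := hs
  have hex := rTensor_exact C₀ (LinearMap.exact_subtype_ker_map g) hg
  have h1 : g.rTensor C₀ ((1 : B₀) ⊗ₜ[B₀] c) = 0 := by
    rw [LinearMap.rTensor_tmul]
    show algebraMap B₀ B₁ 1 ⊗ₜ[B₀] c = 0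
    rw [map_one]
    exact hc
  obtain ⟨z, hz⟩ := (hex _).1 h1
  have key : ∀ z : (LinearMap.ker g) ⊗[B₀] C₀,
      TensorProduct.lid B₀ C₀ ((LinearMap.ker g).subtype.rTensor C₀ z) ∈
        (RingHom.ker (algebraMap B₀ B₁)).map (algebraMap B₀ C₀) := by
    intro z
    induction z using TensorProduct.induction_on with
    | zero => simp
    | tmul i c' =>
      rw [LinearMap.rTensor_tmul, TensorProduct.lid_tmul, Algebra.smul_def]
      refine Ideal.mul_mem_right _ _ (Ideal.mem_map_of_mem _ ?_)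
      exact i.2
    | add x y hx hy =>
      rw [map_add, map_add]
      exact Ideal.add_mem _ hx hy
  have h2 := key z
  rw [hz, TensorProduct.lid_tmul, one_smul] at h2
  exact h2

lemma incR_ker_nilpotent (hs : Function.Surjective (algebraMap B₀ B₁))
    (hn : IsNilpotent (RingHom.ker (algebraMap B₀ B₁))) :
    IsNilpotent (RingHom.ker (incR (B₀ := B₀) (C₀ := C₀) (B₁ := B₁))) := by
  obtain ⟨n, hn⟩ := hn
  refine ⟨n, ?_⟩
  have h1 := Ideal.pow_right_mono (incR_ker_le (B₀ := B₀) (C₀ := C₀) (B₁ := B₁) hs) n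
  rw [← Ideal.map_pow, hn] at h1
  have h2 : Ideal.map (algebraMap B₀ C₀) (0 : Ideal B₀) = ⊥ := Ideal.map_bot
  rw [h2] at h1
  exact le_bot_iff.1 h1

/-! ### relative perfectness -/

section RelPerfect

variable [Module.Flat B₀ C₀]

lemma termwiseFlat_resCx (P : Cx C₀) (hP : TermwiseFlat P) :
    TermwiseFlat ((DRing.restrictCx (algebraMap B₀ C₀)).obj P) := by
  intro j
  letI := modX (B₀ := B₀) (P.X j)
  haveI := towerX (B₀ := B₀) (P.X j)
  haveI := hP j
  exact Module.Flat.trans B₀ C₀ (P.X j)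

variable [DRing.HasLBaseChange (incR (B₀ := B₀) (C₀ := C₀) (B₁ := B₁))]

/-- the two models of a restricted object and its derived base change -/
lemma models (K : Dual.D C₀) (P : Cx C₀) (hPK : DRing.IsKFlat C₀ P) (e : toD P ≅ K) :
    DRing.IsKFlat B₀ ((DRing.restrictCx (algebraMap B₀ C₀)).obj P) ∧
    Nonempty (toD ((DRing.restrictCx (algebraMap B₀ C₀)).obj P) ≅
      (DRing.restrictD (algebraMap B₀ C₀)).obj K) ∧
    DRing.IsKFlat B₁ ((DRing.restrictCx (incL (B₀ := B₀) (C₀ := C₀) (B₁ := B₁))).obj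
        ((extCx (incR (B₀ := B₀) (C₀ := C₀) (B₁ := B₁))).obj P)) ∧
    Nonempty (toD ((DRing.restrictCx (incL (B₀ := B₀) (C₀ := C₀) (B₁ := B₁))).obj
        ((extCx (incR (B₀ := B₀) (C₀ := C₀) (B₁ := B₁))).obj P)) ≅
      (DRing.restrictD (algebraMap B₁ (B₁ ⊗[B₀] C₀))).obj
        ((DRing.LBaseChange (incR (B₀ := B₀) (C₀ := C₀) (B₁ := B₁))).obj K)) := by
  have hι : (algebraMap B₀ C₀).Flat := RingHom.flat_algebraMap_iff.2 inferInstance
  have hι' : (incL (B₀ := B₀) (C₀ := C₀) (B₁ := B₁)).Flat :=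
    RingHom.flat_algebraMap_iff.2 inferInstance
  have hEP : DRing.IsKFlat (B₁ ⊗[B₀] C₀)
      ((extCx (incR (B₀ := B₀) (C₀ := C₀) (B₁ := B₁))).obj P) := isKFlat_extCx _ P hPK
  refine ⟨isKFlat_resCx _ hι P hPK, ⟨?_⟩, isKFlat_resCx _ hι' _ hEP, ⟨?_⟩⟩
  · exact ((ModuleCat.restrictScalars.{u} (algebraMap B₀ C₀)).mapDerivedCategoryFactors.app
      P).symm ≪≫ (DRing.restrictD (algebraMap B₀ C₀)).mapIso e
  · exact ((ModuleCat.restrictScalars.{u}
      (incL (B₀ := B₀) (C₀ := C₀) (B₁ := B₁))).mapDerivedCategoryFactors.app _).symm ≪≫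
      (DRing.restrictD (incL (B₀ := B₀) (C₀ := C₀) (B₁ := B₁))).mapIso
        (Groth.Agent.H53.LBaseChange.objIso' _ P hPK e)

/-- Relative perfectness is stable under base change. -/
theorem isRelPerfect_LBaseChange (K : Dual.D C₀) (hK : Dual2.IsRelPerfect B₀ C₀ K) :
    Dual2.IsRelPerfect B₁ (B₁ ⊗[B₀] C₀)
      ((DRing.LBaseChange (incR (B₀ := B₀) (C₀ := C₀) (B₁ := B₁))).obj K) := by
  obtain ⟨hpc, a, b, hamp⟩ := hK
  refine ⟨?_, a, b, ?_⟩
  · exact H56.isPseudoCoherent'_iff_forall.2 (fun m =>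
      Groth.Agent.H53.LBaseChange.isPseudoCoherent_LBaseChange _ K m
        (H56.isPseudoCoherent'_iff_forall.1 hpc m))
  · obtain ⟨P, hPK, -, ⟨e⟩⟩ := exists_kflat_model K
    obtain ⟨hRP, ⟨e1⟩, hQ, ⟨e2⟩⟩ := models (B₀ := B₀) (B₁ := B₁) K P hPK e
    have hT := torVanish_of_hasTorAmplitudeIn hamp _ hRP e1
    refine hasTorAmplitudeIn_of_torVanish _ hQ e2 (fun N' i hi => ?_)
    rw [exactAt_square_iff]
    exact hT _ i hi

/-- Relative perfectness descends along a nilpotent thickening of the base. -/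
theorem isRelPerfect_of_LBaseChange_nilpotent (hs : Function.Surjective (algebraMap B₀ B₁))
    (hn : IsNilpotent (RingHom.ker (algebraMap B₀ B₁))) (K : Dual.D C₀)
    (hK : Dual2.IsRelPerfect B₁ (B₁ ⊗[B₀] C₀)
      ((DRing.LBaseChange (incR (B₀ := B₀) (C₀ := C₀) (B₁ := B₁))).obj K)) :
    Dual2.IsRelPerfect B₀ C₀ K := by
  obtain ⟨hpc, a, b, hamp⟩ := hK
  refine ⟨isPseudoCoherent'_of_LBaseChange_nilpotent _ (incR_surjective hs)
    (incR_ker_nilpotent hs hn) K hpc, a, b, ?_⟩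
  obtain ⟨P, hPK, hPfl, ⟨e⟩⟩ := exists_kflat_model K
  obtain ⟨hRP, ⟨e1⟩, hQ, ⟨e2⟩⟩ := models (B₀ := B₀) (B₁ := B₁) K P hPK e
  have hT := torVanish_of_hasTorAmplitudeIn hamp _ hQ e2
  refine hasTorAmplitudeIn_of_torVanish _ hRP e1 (fun M i hi => ?_)
  refine exactAt_tensor_of_nilpotent_ext (algebraMap B₀ B₁) hs hn _
    (termwiseFlat_resCx P hPfl) i (fun N' => ?_) M
  rw [exactAt_tensor_ext_iff, ← exactAt_square_iff]
  exact hT N' i hi

end RelPerfect

end Square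

end Groth.Agent.H35.BCSquare
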