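import Groth.Prelude.Def_TrivBC
import Groth.Agent.H53.BaseAdj
import Groth.Agent.H35.BCSquare
import Groth.Agent.H35.LTensorCxTor

/-!
# Tor-independent base change on derived categories of rings (helper35)

* `IsUniv G m` : `m : X ⟶ G.obj Y` is a universal arrow from `X` to `G`;
  `isIso_homEquiv_symm_of_isUniv`, `IsUniv.of_iso`.
* `aLB φ`, `adj₀ φ` : the canonical counit `Q ⋙ LBaseChange φ ⟶ extCx φ ⋙ Q` and the canonical
  adjunction `LBaseChange φ ⊣ restrictD φ`, with `adj₀_unit_fac`, `isIso_aLB_app` (K-flat).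
* `resComm_hom_app_Q` : the canonical commutation isomorphism `TrivBC.resComm` on objects `Q Y`.
-/

set_option autoImplicit false
universe u
open CategoryTheory CategoryTheory.Limits
attribute [local instance] HasDerivedCategory.standard

namespace Groth.Agent.H35.TorIndBC

open DTen

/-! ### universal arrows -/

section Univ

variable {C D : Type*} [Category C] [Category D]

/-- `m : X ⟶ G.obj Y` is a universal arrow from `X` to `G`. -/
def IsUniv (G : D ⥤ C) {X : C} {Y : D} (m : X ⟶ G.obj Y) : Prop :=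
  ∀ Z : D, Function.Bijective (fun g : Y ⟶ Z => m ≫ G.map g)

lemma isIso_homEquiv_symm_of_isUniv {F : C ⥤ D} {G : D ⥤ C} (adj : F ⊣ G) {X : C} {Y : D}
    (m : X ⟶ G.obj Y) (hm : IsUniv G m) : IsIso ((adj.homEquiv X Y).symm m) := by
  rw [isIso_iff_coyoneda_map_bijective]
  intro Z
  have h1 : (fun g : Y ⟶ Z => (adj.homEquiv X Y).symm m ≫ g) =
      (adj.homEquiv X Z).symm ∘ (fun g : Y ⟶ Z => m ≫ G.map g) := by
    funext g
    exact (adj.homEquiv_naturality_right_symm m g).symm
  rw [h1]
  exact (adj.homEquiv X Z).symm.bijective.comp (hm Z)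

lemma isUniv_of_isIso_homEquiv_symm {F : C ⥤ D} {G : D ⥤ C} (adj : F ⊣ G) {X : C} {Y : D}
    (m : X ⟶ G.obj Y) (hm : IsIso ((adj.homEquiv X Y).symm m)) : IsUniv G m := by
  intro Z
  have h1 : (fun g : Y ⟶ Z => m ≫ G.map g) =
      (adj.homEquiv X Z) ∘ (fun g : Y ⟶ Z => (adj.homEquiv X Y).symm m ≫ g) := by
    funext g
    show _ = adj.homEquiv X Z ((adj.homEquiv X Y).symm m ≫ g)
    rw [adj.homEquiv_naturality_right, Equiv.apply_symm_apply]
  rw [h1]
  exact (adj.homEquiv X Z).bijective.comp ((isIso_iff_coyoneda_map_bijective _).1 hm Z)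

lemma IsUniv.of_iso {G : D ⥤ C} {X X' : C} {Y Y' : D} {m : X ⟶ G.obj Y} (hm : IsUniv G m)
    (i : X' ≅ X) (j : Y ≅ Y') (m' : X' ⟶ G.obj Y') (h : m' = i.hom ≫ m ≫ G.map j.hom) :
    IsUniv G m' := by
  intro Z
  have h1 : (fun g : Y' ⟶ Z => m' ≫ G.map g) =
      (fun t : X ⟶ G.obj Z => i.hom ≫ t) ∘ (fun g : Y ⟶ Z => m ≫ G.map g) ∘
        (fun g : Y' ⟶ Z => j.hom ≫ g) := by
    funext g
    simp only [Function.comp_apply, h, Functor.map_comp, Category.assoc]
  rw [h1]
  refine Function.Bijective.comp ?_ (Function.Bijective.comp (hm Z) ?_)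
  · exact ⟨fun a b hab => (cancel_epi i.hom).1 hab, fun t => ⟨i.inv ≫ t, by simp⟩⟩
  · exact ⟨fun a b hab => (cancel_epi j.hom).1 hab, fun t => ⟨j.inv ≫ t, by simp⟩⟩

end Univ

/-! ### the canonical adjunction for `DRing.LBaseChange` -/

section Canon

variable {R A : Type u} [CommRing R] [CommRing A] (φ : R →+* A) [DRing.HasLBaseChange φ]

/-- The canonical counit `Q ⋙ LBaseChange φ ⟶ extCx φ ⋙ Q`. -/
noncomputable def aLB : DerivedCategory.Q ⋙ DRing.LBaseChange φ ⟶ extCx φ ⋙ DerivedCategory.Q :=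
  Groth.Agent.H53.KanTransfer.ofK (Groth.Agent.H53.DTenComp.qq R) DerivedCategory.Qh
    DerivedCategory.Q (DerivedCategory.quotientCompQhIso _) (extCx φ ⋙ DerivedCategory.Q)
    (DRing.baseChangeKh φ) (Groth.Agent.H53.BaseAdj.eK φ) (DRing.LBaseChange φ)
    ((DRing.baseChangeKh φ).totalLeftDerivedCounit DerivedCategory.Qh
      (HomotopyCategory.quasiIso (ModuleCat.{u} R) (ComplexShape.up ℤ)))

instance isLeftDerivedFunctor_aLB :
    (DRing.LBaseChange φ).IsLeftDerivedFunctor (aLB φ) (DTen.qis R) := by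
  have hK : (DRing.LBaseChange φ).IsLeftDerivedFunctor
      (Groth.Agent.H53.KanTransfer.αK (Groth.Agent.H53.DTenComp.qq R)
        (Groth.Agent.H53.DTenComp.hEq R) DerivedCategory.Qh
        DerivedCategory.Q (DerivedCategory.quotientCompQhIso _)
        (extCx φ ⋙ DerivedCategory.Q) (DRing.baseChangeKh φ)
        (Groth.Agent.H53.BaseAdj.eK φ) (DRing.LBaseChange φ) (aLB φ))
      (HomotopyCategory.quasiIso (ModuleCat.{u} R) (ComplexShape.up ℤ)) := by
    unfold aLB
    rw [Groth.Agent.H53.KanTransfer.αK_ofK]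
    infer_instance
  exact Groth.Agent.H53.KanTransfer.isLeftDerivedFunctor_of_αK (Groth.Agent.H53.DTenComp.qq R)
    (Groth.Agent.H53.DTenComp.hEq R) DerivedCategory.Qh
    DerivedCategory.Q (DerivedCategory.quotientCompQhIso _)
    (extCx φ ⋙ DerivedCategory.Q) (DRing.baseChangeKh φ)
    (Groth.Agent.H53.BaseAdj.eK φ) (DRing.LBaseChange φ) (aLB φ) (DTen.qis R)
    (HomotopyCategory.quasiIso (ModuleCat.{u} R) (ComplexShape.up ℤ)) hK

/-- The canonical adjunction `LBaseChange φ ⊣ restrictD φ`. -/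
noncomputable def adj₀ : DRing.LBaseChange φ ⊣ DRing.restrictD φ :=
  Groth.Agent.H53.BaseAdj.derivedAdj φ (DRing.LBaseChange φ) (aLB φ)

lemma adj₀_unit_fac (K : DRing.Cx R) :
    (adj₀ φ).unit.app (DerivedCategory.Q.obj K) ≫ (DRing.restrictD φ).map ((aLB φ).app K) =
      DerivedCategory.Q.map ((unitCx φ).app K) ≫ (resFactors φ).inv.app ((extCx φ).obj K) :=
  Groth.Agent.H53.BaseAdj.derivedAdj_unit_fac φ (DRing.LBaseChange φ) (aLB φ) K

lemma isIso_aLB_app (K : DRing.Cx R) (hK : DRing.IsKFlat R K) : IsIso ((aLB φ).app K) :=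
  Groth.Agent.H53.BaseAdj.isIso_app_kflat φ (DRing.LBaseChange φ) (aLB φ) K hK

end Canon

/-! ### `resComm` on objects `Q Y` -/

section ResComm

section
variable {B C E : Type u} [CommRing B] [CommRing C] [CommRing E] (g : C →+* E) (f : B →+* C)

lemma liftingRes₂_iso_hom_app (Y : DRing.Cx E) :
    ((TrivBC.liftingRes₂ g f).iso).hom.app Y =
      (DRing.restrictD f).map ((resFactors g).hom.app Y) ≫ (resFactors f).hom.app _ := by
  unfold TrivBC.liftingRes₂
  simp

lemma liftingRes₂_iso_inv_app (Y : DRing.Cx E) :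
    ((TrivBC.liftingRes₂ g f).iso).inv.app Y =
      (resFactors f).inv.app _ ≫ (DRing.restrictD f).map ((resFactors g).inv.app Y) := by
  unfold TrivBC.liftingRes₂
  simp
end

variable {R A R' A' : Type u} [CommRing R] [CommRing A] [CommRing R'] [CommRing A']
  {φ : R →+* A} {ρ : R →+* R'} {α : A →+* A'} {φ' : R' →+* A'}

/-- The chain-level commutation isomorphism of restrictions. -/
noncomputable def κ (h : α.comp φ = φ'.comp ρ) : resCx α ⋙ resCx φ ≅ resCx φ' ⋙ resCx ρ :=
  Functor.mapHomologicalComplexCompIso (TrivBC.resCommMod h) (ComplexShape.up ℤ) ≪≫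
    (Functor.mapHomologicalComplexCompIso
      (Iso.refl (ModuleCat.restrictScalars.{u} φ' ⋙ ModuleCat.restrictScalars.{u} ρ))
      (ComplexShape.up ℤ)).symm

lemma resCommCx_hom_app (h : α.comp φ = φ'.comp ρ) (Y : DRing.Cx A') :
    (TrivBC.resCommCx h).hom.app Y = DerivedCategory.Q.map ((κ h).hom.app Y) := by
  unfold TrivBC.resCommCx κ
  simp

lemma resComm_hom_app_Q (h : α.comp φ = φ'.comp ρ) (Y : DRing.Cx A') :
    (TrivBC.resComm h).hom.app (DerivedCategory.Q.obj Y) =
      ((DRing.restrictD φ).map ((resFactors α).hom.app Y) ≫ (resFactors φ).hom.app _) ≫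
        DerivedCategory.Q.map ((κ h).hom.app Y) ≫
        (resFactors ρ).inv.app _ ≫ (DRing.restrictD ρ).map ((resFactors φ').inv.app Y) := by
  dsimp only [TrivBC.resComm, Localization.liftNatIso]
  rw [Localization.liftNatTrans_app, liftingRes₂_iso_hom_app, liftingRes₂_iso_inv_app,
    resCommCx_hom_app]

end ResComm


/-! ### the unit of the canonical adjunction followed by `resComm`, on `Q P` -/

section Compute

variable {R A R' A' : Type u} [CommRing R] [CommRing A] [CommRing R'] [CommRing A']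
  {φ : R →+* A} {ρ : R →+* R'} {α : A →+* A'} {φ' : R' →+* A'} (h : α.comp φ = φ'.comp ρ)

/-- The chain-level map `P|_R ⟶ ((P ⊗_A A')|_{R'})|_R`, `p ↦ 1 ⊗ p`. -/
noncomputable def uCx (P : DRing.Cx A) :
    (resCx φ).obj P ⟶ (resCx ρ).obj ((resCx φ').obj ((extCx α).obj P)) :=
  (resCx φ).map ((unitCx α).app P) ≫ (κ h).hom.app ((extCx α).obj P)

variable [DRing.HasLBaseChange α]

lemma m_compute (P : DRing.Cx A) :
    (DRing.restrictD φ).map ((adj₀ α).unit.app (DerivedCategory.Q.obj P)) ≫
      (TrivBC.resComm h).hom.app ((DRing.LBaseChange α).obj (DerivedCategory.Q.obj P)) ≫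
      (DRing.restrictD ρ).map ((DRing.restrictD φ').map ((aLB α).app P)) ≫
      (DRing.restrictD ρ).map ((resFactors φ').hom.app ((extCx α).obj P)) ≫
      (resFactors ρ).hom.app ((resCx φ').obj ((extCx α).obj P)) =
    (resFactors φ).hom.app P ≫ DerivedCategory.Q.map (uCx h P) := by
  have nat := (TrivBC.resComm h).hom.naturality ((aLB α).app P)
  have uf := adj₀_unit_fac α P
  have natφ := (resFactors φ).hom.naturality ((unitCx α).app P)
  dsimp at nat natφ
  calc _ = (DRing.restrictD φ).map ((adj₀ α).unit.app (DerivedCategory.Q.obj P) ≫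
          (DRing.restrictD α).map ((aLB α).app P)) ≫
        (TrivBC.resComm h).hom.app (DerivedCategory.Q.obj ((extCx α).obj P)) ≫
        (DRing.restrictD ρ).map ((resFactors φ').hom.app ((extCx α).obj P)) ≫
        (resFactors ρ).hom.app ((resCx φ').obj ((extCx α).obj P)) := by
        rw [Functor.map_comp, Category.assoc, reassoc_of% nat]
    _ = (DRing.restrictD φ).map (DerivedCategory.Q.map ((unitCx α).app P)) ≫
        (resFactors φ).hom.app _ ≫ DerivedCategory.Q.map ((κ h).hom.app ((extCx α).obj P)) := by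
        have c1 : (DRing.restrictD φ).map ((resFactors α).inv.app ((extCx α).obj P)) ≫
            (DRing.restrictD φ).map ((resFactors α).hom.app ((extCx α).obj P)) = 𝟙 _ := by
          rw [← Functor.map_comp, Iso.inv_hom_id_app, CategoryTheory.Functor.map_id]
        have c2 : (DRing.restrictD ρ).map ((resFactors φ').inv.app ((extCx α).obj P)) ≫
            (DRing.restrictD ρ).map ((resFactors φ').hom.app ((extCx α).obj P)) = 𝟙 _ := by
          rw [← Functor.map_comp, Iso.inv_hom_id_app, CategoryTheory.Functor.map_id]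
        rw [uf, resComm_hom_app_Q]
        simp only [Functor.map_comp, Category.assoc, reassoc_of% c1, reassoc_of% c2,
          Iso.inv_hom_id_app]
        erw [Category.comp_id]
        rfl
    _ = _ := by
        rw [uCx, Functor.map_comp, ← Category.assoc, ← Category.assoc]
        exact congrArg (fun t => t ≫ DerivedCategory.Q.map ((κ h).hom.app ((extCx α).obj P))) natφ

end Compute


/-! ### the key universality criterion -/

section Key

variable {R R' : Type u} [CommRing R] [CommRing R'] (ρ : R →+* R') [DRing.HasLBaseChange ρ]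

/-- If `π : F ⟶ X` is a K-flat resolution and the chain-level adjunct `F ⊗_R R' ⟶ W` of `π ≫ u` is
a quasi-isomorphism, then `Q u : Q X ⟶ (Q W)|_R` is a universal arrow to restriction. -/
lemma isUniv_of_quasiIso (X : DRing.Cx R) (W : DRing.Cx R') (u : X ⟶ (resCx ρ).obj W)
    (F : DRing.Cx R) (hF : DRing.IsKFlat R F) (π : F ⟶ X) (hπ : QuasiIso π)
    (hγ : QuasiIso (((Groth.Agent.H53.BaseAdj.adjCx ρ).homEquiv F W).symm (π ≫ u))) :
    IsUniv (DRing.restrictD ρ)
      (DerivedCategory.Q.map u ≫ (resFactors ρ).inv.app W) := by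
  apply isUniv_of_isIso_homEquiv_symm (adj₀ ρ)
  set γ := ((Groth.Agent.H53.BaseAdj.adjCx ρ).homEquiv F W).symm (π ≫ u) with hγdef
  set c := ((adj₀ ρ).homEquiv (DerivedCategory.Q.obj X) (DerivedCategory.Q.obj W)).symm
    (DerivedCategory.Q.map u ≫ (resFactors ρ).inv.app W) with hc
  have hu : (unitCx ρ).app F ≫ (resCx ρ).map γ = π ≫ u := by
    have := (Groth.Agent.H53.BaseAdj.adjCx ρ).homEquiv_unit (X := F) (Y := W) (f := γ)
    rw [hγdef, Equiv.apply_symm_apply] at this
    exact this.symm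
  have key : (DRing.LBaseChange ρ).map (DerivedCategory.Q.map π) ≫ c =
      (aLB ρ).app F ≫ DerivedCategory.Q.map γ := by
    apply ((adj₀ ρ).homEquiv _ _).injective
    rw [Adjunction.homEquiv_naturality_left, hc, Equiv.apply_symm_apply,
      Adjunction.homEquiv_unit, Functor.map_comp]
    have nat := (resFactors ρ).inv.naturality γ
    dsimp at nat
    have uf := adj₀_unit_fac ρ F
    calc DerivedCategory.Q.map π ≫ DerivedCategory.Q.map u ≫ (resFactors ρ).inv.app W
        = DerivedCategory.Q.map (π ≫ u) ≫ (resFactors ρ).inv.app W := by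
          rw [Functor.map_comp, Category.assoc]
      _ = DerivedCategory.Q.map ((unitCx ρ).app F ≫ (resCx ρ).map γ) ≫
            (resFactors ρ).inv.app W := by rw [hu]
      _ = DerivedCategory.Q.map ((unitCx ρ).app F) ≫
            DerivedCategory.Q.map ((resCx ρ).map γ) ≫ (resFactors ρ).inv.app W := by
          rw [Functor.map_comp, Category.assoc]
      _ = DerivedCategory.Q.map ((unitCx ρ).app F) ≫ (resFactors ρ).inv.app ((extCx ρ).obj F) ≫
            (DRing.restrictD ρ).map (DerivedCategory.Q.map γ) := by rw [nat]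
      _ = _ := by rw [← reassoc_of% uf]
  have h1 : IsIso (DerivedCategory.Q.map π) := by
    rw [DerivedCategory.isIso_Q_map_iff_quasiIso]
    exact hπ
  have h2 : IsIso ((aLB ρ).app F) := isIso_aLB_app ρ F hF
  have h3 : IsIso (DerivedCategory.Q.map γ) := by
    rw [DerivedCategory.isIso_Q_map_iff_quasiIso]
    exact hγ
  have h4 : IsIso ((DRing.LBaseChange ρ).map (DerivedCategory.Q.map π) ≫ c) := by
    rw [key]
    infer_instance
  exact IsIso.of_isIso_comp_left ((DRing.LBaseChange ρ).map (DerivedCategory.Q.map π)) c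

end Key

end Groth.Agent.H35.TorIndBC
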