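import Groth.Agent.H53.BaseAdj

/-!
# Derived base change exists along every ring map (helper35)
-/

set_option autoImplicit false
universe u
open CategoryTheory CategoryTheory.Limits
attribute [local instance] HasDerivedCategory.standard

namespace Groth.Agent.H35.HasLBC

open Groth.Agent.H53 Groth.Agent.H53.DTenComp Groth.Agent.H53.BaseAdj

/-- The binder `DRing.HasLBaseChange φ` holds for every ring map. -/
theorem hasLBaseChange {A B : Type u} [CommRing A] [CommRing B] (φ : A →+* B) :
    DRing.HasLBaseChange φ := by
  have := (good_Φfl A).isLeftDerivabilityStructure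
  have h := Groth.Agent.H53.LeftDerOp.hasLeftDerivedFunctor (Φfl A) (derives φ)
  unfold DRing.HasLBaseChange
  rw [HomotopyCategory.quasiIso_eq_trW_subcategoryAcyclic]
  exact h

end Groth.Agent.H35.HasLBC
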