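import Mathlib
import Groth.Agent.H35.FlatBC
import Groth.Agent.H35.TorAmp

/-!
Descent of tor amplitude along jointly faithfully flat families of ring maps (helper35):
S6949 (Zariski covers), S6950 (faithfully flat maps).
-/

set_option autoImplicit false
universe u
open CategoryTheory CategoryTheory.Limits Pretriangulated MonoidalCategory TensorProduct
attribute [local instance] HasDerivedCategory.standard

namespace Groth.Agent.H35.TorDescent

open DRing DerivedCategory Groth.Agent.H12.FlatCx Groth.Agent.H35.TorAmp Groth.Agent.H35.FlatBC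

/-! ### linear algebra: base change distributes over tensor products -/

section LA

variable {R : Type u} [CommRing R] {S : Type u} [CommRing S] [Algebra R S]
variable {F₁ F₂ F₃ N : Type u} [AddCommGroup F₁] [Module R F₁] [AddCommGroup F₂] [Module R F₂]
  [AddCommGroup F₃] [Module R F₃] [AddCommGroup N] [Module R N]

lemma distrib_natural (u : F₁ →ₗ[R] F₂) (t : S ⊗[R] (F₁ ⊗[R] N)) :
    AlgebraTensorModule.distribBaseChange R S F₂ N ((u.rTensor N).baseChange S t) =
      (u.baseChange S).rTensor (S ⊗[R] N) (AlgebraTensorModule.distribBaseChange R S F₁ N t) := by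
  induction t using TensorProduct.induction_on with
  | zero => simp
  | tmul s y =>
    induction y using TensorProduct.induction_on with
    | zero => simp
    | tmul x n => simp
    | add y₁ y₂ h₁ h₂ => simp only [tmul_add, map_add, h₁, h₂]
  | add t₁ t₂ h₁ h₂ => simp only [map_add, h₁, h₂]

lemma exact_of_exact_distrib (u : F₁ →ₗ[R] F₂) (v : F₂ →ₗ[R] F₃)
    (h : Function.Exact ((u.baseChange S).rTensor (S ⊗[R] N))
      ((v.baseChange S).rTensor (S ⊗[R] N))) :
    Function.Exact ((u.rTensor N).baseChange S) ((v.rTensor N).baseChange S) := by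
  intro y
  have hy := h (AlgebraTensorModule.distribBaseChange R S F₂ N y)
  constructor
  · intro h0
    have h1 : (v.baseChange S).rTensor (S ⊗[R] N)
        (AlgebraTensorModule.distribBaseChange R S F₂ N y) = 0 := by
      rw [← distrib_natural, h0, map_zero]
    obtain ⟨x, hx⟩ := hy.1 h1
    refine ⟨(AlgebraTensorModule.distribBaseChange R S F₁ N).symm x, ?_⟩
    apply (AlgebraTensorModule.distribBaseChange R S F₂ N).injective
    rw [distrib_natural, LinearEquiv.apply_symm_apply, hx]
  · rintro ⟨x, rfl⟩
    apply (AlgebraTensorModule.distribBaseChange R S F₃ N).injective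
    rw [distrib_natural, map_zero]
    exact hy.2 ⟨AlgebraTensorModule.distribBaseChange R S F₁ N x, (distrib_natural u x).symm⟩

end LA

variable {R : Type u} [CommRing R]

/-! ### bridging complexes and linear algebra -/

section Bridge

variable {S : Type u} [CommRing S] (φ : R →+* S)

lemma exact_of_exactAt_ext (P : Cx R) (i j k : ℤ) (hi : i + 1 = j) (hk : j + 1 = k)
    (h : ((extCx φ).obj P).ExactAt j) :
    Function.Exact ((ext φ).map (P.d i j)).hom ((ext φ).map (P.d j k)).hom := by
  intro y
  constructor
  · intro hy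
    exact (exactAt_iff_elem ((extCx φ).obj P) i j k hi hk).1 h y hy
  · rintro ⟨x, rfl⟩
    exact d_d_apply ((extCx φ).obj P) i j k x

set_option backward.isDefEq.respectTransparency false in
lemma exactAt_ext_tensor (F : Cx R) (N : ModuleCat.{u} R) (j : ℤ)
    (h : (CohIII.tensorObj ((extCx φ).obj F) ((ext φ).obj N)).ExactAt j) :
    ((extCx φ).obj (CohIII.tensorObj F N)).ExactAt j := by
  letI := algOf φ
  rw [exactAt_iff_elem _ (j - 1) j (j + 1) (by omega) rfl]
  rw [exactAt_tensor_iff _ _ (j - 1) j (j + 1) (by omega) rfl] at h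
  have h1 : Function.Exact
      (((F.d (j - 1) j).hom.baseChange S).rTensor (S ⊗[R] N))
      (((F.d j (j + 1)).hom.baseChange S).rTensor (S ⊗[R] N)) := by
    intro y
    constructor
    · intro hy
      exact h y hy
    · rintro ⟨x, rfl⟩
      exact dT_dT_apply ((extCx φ).obj F) ((ext φ).obj N) (j - 1) j (j + 1) x
  have h2 := exact_of_exact_distrib (N := N) (F.d (j - 1) j).hom (F.d j (j + 1)).hom h1
  intro x hx
  exact (h2 x).1 hx

end Bridge

/-! ### jointly faithfully flat families -/

/-- A family of ring maps `R → S j` jointly reflects exactness of three term sequences. -/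
def JointlyReflects {J : Type} {S : J → Type u} [∀ j, CommRing (S j)] (φ : ∀ j, R →+* S j) :
    Prop :=
  ∀ (M₁ M₂ M₃ : ModuleCat.{u} R) (f : M₁ ⟶ M₂) (g : M₂ ⟶ M₃),
    (∀ j, Function.Exact ((ext (φ j)).map f).hom ((ext (φ j)).map g).hom) →
      Function.Exact f.hom g.hom

section Family

variable {J : Type} {S : J → Type u} [∀ j, CommRing (S j)] (φ : ∀ j, R →+* S j)

lemma exactAt_of_forall_ext (hφ : JointlyReflects φ) (P : Cx R) (i : ℤ)
    (h : ∀ j, ((extCx (φ j)).obj P).ExactAt i) : P.ExactAt i := by
  rw [exactAt_iff_elem P (i - 1) i (i + 1) (by omega) rfl]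
  have hex := hφ _ _ _ (P.d (i - 1) i) (P.d i (i + 1))
    (fun j => exact_of_exactAt_ext (φ j) P (i - 1) i (i + 1) (by omega) rfl (h j))
  intro x hx
  exact (hex x).1 hx

/-- Descent of tor amplitude along a jointly faithfully flat family. -/
theorem hasTorAmplitudeIn_of_forall_ext (hflat : ∀ j, (φ j).Flat) (hφ : JointlyReflects φ)
    (K : Cx R) (a b : ℤ)
    (hK : ∀ j, HasTorAmplitudeIn (S j) a b (toD ((extCx (φ j)).obj K))) :
    HasTorAmplitudeIn R a b (toD K) := by
  have hfm := fun j => hasFlatModel_of_hasTorAmplitudeIn (hK j)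
  have hH : HVanish a b (toD K) := by
    intro i hi
    rw [← exactAt_iff_isZero_H]
    refine exactAt_of_forall_ext φ hφ K i (fun j => ?_)
    rw [exactAt_iff_isZero_H]
    exact (hfm j).1 i hi
  have hKle : (toD K).IsLE b := by
    rw [isLE_iff]
    intro i hi
    exact hH i (Or.inr hi)
  obtain ⟨F, hF, hfree, ⟨eF⟩⟩ := exists_free_model_of_isLE (toD K) b
  rw [hasTorAmplitudeIn_iff]
  refine ⟨hH, F, b, hF, free_flat F hfree, ⟨eF⟩, ?_⟩
  intro N i hi
  refine exactAt_of_forall_ext φ hφ _ i (fun j => exactAt_ext_tensor (φ j) F N i ?_)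
  obtain ⟨-, P', c', hP', fl', ⟨e'⟩, hT⟩ := hfm j
  haveI : PreservesFiniteLimits (ext (φ j)) :=
    ModuleCat.preservesFiniteLimits_extendScalars_of_flat (hflat j)
  haveI : PreservesFiniteColimits (ext (φ j)) := inferInstance
  have e1 : toD ((extCx (φ j)).obj F) ≅ toD ((extCx (φ j)).obj K) :=
    ((ext (φ j)).mapDerivedCategoryFactors.app F).symm ≪≫
      (ext (φ j)).mapDerivedCategory.mapIso eF ≪≫
      (ext (φ j)).mapDerivedCategoryFactors.app K
  have hT' : TorVanish a b ((extCx (φ j)).obj F) :=
    torVanish_of_iso c' b hP' (vanishesAbove_ext (φ j) F b hF) fl'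
      (fun i => by
        haveI := hfree i
        exact flat_ext (φ j) (F.X i)) (e' ≪≫ e1.symm) hT
  exact hT' _ i hi

end Family

/-! ### the two standard instances -/

section Instances

lemma algOf_eq' {S : Type u} [CommRing S] [Algebra R S] :
    algOf (algebraMap R S) = (inferInstance : Algebra R S) :=
  Algebra.algebra_ext _ _ (fun _ => rfl)

lemma exact_lTensor_of_exact_ext {S : Type u} [CommRing S] [Algebra R S]
    {M₁ M₂ M₃ : ModuleCat.{u} R} (f : M₁ ⟶ M₂) (g : M₂ ⟶ M₃)
    (h : Function.Exact ((ext (algebraMap R S)).map f).hom ((ext (algebraMap R S)).map g).hom) :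
    Function.Exact (f.hom.lTensor S) (g.hom.lTensor S) := by
  have h1 : letI := algOf (algebraMap R S)
      Function.Exact (f.hom.lTensor S) (g.hom.lTensor S) := by
    letI := algOf (algebraMap R S)
    rw [← LinearMap.baseChange_eq_ltensor, ← LinearMap.baseChange_eq_ltensor]
    exact h
  rw [algOf_eq'] at h1
  exact h1

theorem jointlyReflects_of_faithfullyFlat (R' : Type u) [CommRing R'] [Algebra R R']
    [Module.FaithfullyFlat R R'] :
    JointlyReflects (fun _ : Unit => algebraMap R R') := by
  intro M₁ M₂ M₃ f g h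
  exact Module.FaithfullyFlat.lTensor_reflects_exact R R' f.hom g.hom
    (exact_lTensor_of_exact_ext f g (h ()))

theorem jointlyReflects_of_span {r : ℕ} (f : Fin r → R) (hf : Ideal.span (Set.range f) = ⊤) :
    JointlyReflects (fun i => algebraMap R (Localization.Away (f i))) := by
  intro M₁ M₂ M₃ u v h
  haveI inst : ∀ (M : ModuleCat.{u} R) (x : Set.range f), IsLocalizedModule.Away x.1
      (TensorProduct.mk R (Localization.Away x.1) M 1) := fun M x =>
    (isLocalizedModule_iff_isBaseChange (Submonoid.powers x.1) (Localization.Away x.1) _).2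
      (TensorProduct.isBaseChange R M _)
  refine exact_of_isLocalized_span (Set.range f) hf
    (fun x => Localization.Away x.1 ⊗[R] M₁)
    (fun x => TensorProduct.mk R (Localization.Away x.1) M₁ 1)
    (fun x => Localization.Away x.1 ⊗[R] M₂)
    (fun x => TensorProduct.mk R (Localization.Away x.1) M₂ 1)
    (fun x => Localization.Away x.1 ⊗[R] M₃)
    (fun x => TensorProduct.mk R (Localization.Away x.1) M₃ 1) u.hom v.hom ?_
  rintro ⟨_, i, rfl⟩
  have key : ∀ {N₁ N₂ : ModuleCat.{u} R} (w : N₁ ⟶ N₂),
      IsLocalizedModule.map (Submonoid.powers (f i))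
        (TensorProduct.mk R (Localization.Away (f i)) N₁ 1)
        (TensorProduct.mk R (Localization.Away (f i)) N₂ 1) w.hom =
      w.hom.lTensor (Localization.Away (f i)) := by
    intro N₁ N₂ w
    refine IsLocalizedModule.linearMap_ext (Submonoid.powers (f i))
      (TensorProduct.mk R (Localization.Away (f i)) N₁ 1)
      (TensorProduct.mk R (Localization.Away (f i)) N₂ 1) ?_
    rw [IsLocalizedModule.map_comp]
    ext m
    simp
  show Function.Exact
    (IsLocalizedModule.map (Submonoid.powers (f i))
        (TensorProduct.mk R (Localization.Away (f i)) M₁ 1)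
        (TensorProduct.mk R (Localization.Away (f i)) M₂ 1) u.hom)
    (IsLocalizedModule.map (Submonoid.powers (f i))
        (TensorProduct.mk R (Localization.Away (f i)) M₂ 1)
        (TensorProduct.mk R (Localization.Away (f i)) M₃ 1) v.hom)
  rw [key u, key v]
  exact exact_lTensor_of_exact_ext u v (h i)

/-- S6950. -/
theorem hasTorAmplitudeIn_of_faithfullyFlat {R' : Type u} [CommRing R'] [Algebra R R']
    [Module.FaithfullyFlat R R'] (K : Cx R) (a b : ℤ)
    (hK : HasTorAmplitudeIn R' a b (toD ((extCx (algebraMap R R')).obj K))) :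
    HasTorAmplitudeIn R a b (toD K) :=
  hasTorAmplitudeIn_of_forall_ext (fun _ : Unit => algebraMap R R')
    (fun _ => RingHom.flat_algebraMap_iff.2 inferInstance)
    (jointlyReflects_of_faithfullyFlat R') K a b (fun _ => hK)

/-- S6949. -/
theorem hasTorAmplitudeIn_of_span {r : ℕ} (f : Fin r → R) (hf : Ideal.span (Set.range f) = ⊤)
    (K : Cx R) (a b : ℤ)
    (hK : ∀ i, HasTorAmplitudeIn (Localization.Away (f i)) a b
      (toD ((extCx (algebraMap R (Localization.Away (f i)))).obj K))) :
    HasTorAmplitudeIn R a b (toD K) :=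
  hasTorAmplitudeIn_of_forall_ext (fun i => algebraMap R (Localization.Away (f i)))
    (fun _ => RingHom.flat_algebraMap_iff.2 inferInstance)
    (jointlyReflects_of_span f hf) K a b hK

end Instances

end Groth.Agent.H35.TorDescent
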