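import Mathlib
import Groth.Agent.H35.TorDescent
import Groth.Agent.H35.PerfAmp
import Groth.Agent.H56.RestrictPC
import Groth.Agent.S2068

/-!
Descent of pseudo-coherence and perfectness along jointly faithfully flat finite families of ring
maps (helper35): S6941, S6960, S6961.
-/

set_option autoImplicit false
universe u
open CategoryTheory CategoryTheory.Limits Pretriangulated MonoidalCategory TensorProduct
attribute [local instance] HasDerivedCategory.standard

namespace Groth.Agent.H35.TorDescent

open DRing DerivedCategory Groth.Agent.H35.TorAmp Groth.Agent.H35.FlatBC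

variable {R : Type u} [CommRing R]

section Family

variable {J : Type} {S : J → Type u} [∀ j, CommRing (S j)] (φ : ∀ j, R →+* S j)

/-- Finiteness of modules descends along the family. -/
def FiniteDescends : Prop :=
  ∀ M : ModuleCat.{u} R, (∀ j, Module.Finite (S j) ((ext (φ j)).obj M)) → Module.Finite R M

lemma isZero_of_forall_ext (hφ : JointlyReflects φ) (M : ModuleCat.{u} R)
    (h : ∀ j, IsZero ((ext (φ j)).obj M)) : IsZero M := by
  have hex : Function.Exact (0 : M ⟶ M).hom (0 : M ⟶ M).hom := hφ M M M 0 0 (fun j => by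
    have : Subsingleton ((ext (φ j)).obj M) := ModuleCat.subsingleton_of_isZero (h j)
    intro y
    constructor
    · intro _
      exact ⟨0, Subsingleton.elim _ _⟩
    · intro _
      exact Subsingleton.elim _ _)
  have : Subsingleton M := ⟨fun x y => by
    obtain ⟨x', hx'⟩ := (hex x).1 (by simp)
    obtain ⟨y', hy'⟩ := (hex y).1 (by simp)
    rw [← hx', ← hy']
    simp⟩
  exact ModuleCat.isZero_of_subsingleton M

lemma isLE_map {S' : Type u} [CommRing S'] (ψ : R →+* S') [PreservesFiniteLimits (ext ψ)]
    (K : Dual.D R) (c : ℤ) [K.IsLE c] : (((ext ψ).mapDerivedCategory).obj K).IsLE c := by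
  rw [isLE_iff]
  intro i hi
  exact IsZero.of_iso ((ext ψ).map_isZero (isZero_of_isLE K c i hi))
    ((H56.mapDerivedCategoryHomologyIso (ext ψ) i).app K)

variable [∀ j, PreservesFiniteLimits (ext (φ j))]

lemma isLE_of_forall_ext (hφ : JointlyReflects φ) (K : Dual.D R) (c : ℤ)
    (h : ∀ j, (((ext (φ j)).mapDerivedCategory).obj K).IsLE c) : K.IsLE c := by
  rw [isLE_iff]
  intro i hi
  refine isZero_of_forall_ext φ hφ _ (fun j => ?_)
  haveI := h j
  exact IsZero.of_iso (isZero_of_isLE _ c i hi)
    ((H56.mapDerivedCategoryHomologyIso (ext (φ j)) i).app K).symm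

lemma isPseudoCoherent_descent_aux (hφ : JointlyReflects φ) (hfd : FiniteDescends φ) (m : ℤ)
    (n : ℕ) :
    ∀ (K : Dual.D R) (c : ℤ), K.IsLE c → c < m + n →
      (∀ j, IsPseudoCoherent (S j) m (((ext (φ j)).mapDerivedCategory).obj K)) →
      IsPseudoCoherent R m K := by
  induction n with
  | zero =>
    intro K c hK hc _
    exact H56.isPseudoCoherent_of_isLE K m c (by omega) hK
  | succ n ih =>
    intro K c hK hc hGK
    by_cases hcm : c < m
    · exact H56.isPseudoCoherent_of_isLE K m c hcm hK
    haveI := hK
    have hfin : Module.Finite R ((homologyFunctor (ModuleCat.{u} R) c).obj K) := by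
      apply hfd
      intro j
      haveI : (((ext (φ j)).mapDerivedCategory).obj K).IsLE c := isLE_map (φ j) K c
      have h1 : Module.Finite (S j) ((homologyFunctor (ModuleCat.{u} (S j)) c).obj
          (((ext (φ j)).mapDerivedCategory).obj K)) :=
        (Groth.Agent.S2068.result _ c (MPCoh.isPseudoCoherent_mono (by omega) (hGK j))).1
          (fun i hi => isZero_of_isLE _ c i hi)
      haveI h1' : Module.Finite (S j) (((ext (φ j)).mapDerivedCategory ⋙
          homologyFunctor (ModuleCat.{u} (S j)) c).obj K) := h1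
      exact Module.Finite.equiv
        ((H56.mapDerivedCategoryHomologyIso (ext (φ j)) c).app K).toLinearEquiv
    obtain ⟨k, π, hπ⟩ :=
      Module.Finite.exists_fin' R ((homologyFunctor (ModuleCat.{u} R) c).obj K)
    obtain ⟨F, hFfin, hFfree, πF, hπF⟩ : ∃ (F : ModuleCat.{u} R) (_ : Module.Finite R F)
        (_ : Module.Free R F) (πF : F ⟶ (homologyFunctor (ModuleCat.{u} R) c).obj K),
        Epi πF :=
      ⟨ModuleCat.of R (Fin k → R), inferInstance, inferInstance, ModuleCat.ofHom π,
        (ModuleCat.epi_iff_surjective _).2 hπ⟩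
    haveI hFproj : Projective F := (IsProjective.iff_projective _).mp Module.Projective.of_free
    haveI := hπF
    obtain ⟨ζ, hζ⟩ := H56.exists_lift_single_projective_epi' K c F πF
    obtain ⟨L, u, v, hT⟩ := distinguished_cocone_triangle ζ
    have hL : L.IsLE (c - 1) := H56.isLE_cone_of_homology ζ u v hT c (c - 1) (by omega)
      (fun i hi => ⟨⟨0, (isZero_of_isLE ((singleFunctor (ModuleCat.{u} R) c).obj F) c i
        hi).eq_of_src _ _, (isZero_of_isLE K c i hi).eq_of_src _ _⟩⟩) hζ
    have hGL : ∀ j, IsPseudoCoherent (S j) m (((ext (φ j)).mapDerivedCategory).obj L) := by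
      intro j
      have hT' := ((ext (φ j)).mapDerivedCategory).map_distinguished _ hT
      haveI := hFfin
      haveI := hFfree
      have h₁ : IsPseudoCoherent (S j) (m + 1) (((ext (φ j)).mapDerivedCategory).obj
          ((singleFunctor (ModuleCat.{u} R) c).obj F)) :=
        MPCoh.isPseudoCoherent_of_iso (((ext (φ j)).mapDerivedCategorySingleFunctor c).app F).symm
          (H56.isPseudoCoherent_single_free c _ (finite_ext (φ j) F) (free_ext (φ j) F) (m + 1))
      exact MPCoh.isPseudoCoherent_obj₃ _ hT' m h₁ (hGK j)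
    have hLpc : IsPseudoCoherent R m L := ih L (c - 1) hL (by push_cast at hc; omega) hGL
    exact MPCoh.isPseudoCoherent_obj₂ (Triangle.mk ζ u v) hT m
      (H56.isPseudoCoherent_single_free c F hFfin hFfree m) hLpc

variable [Finite J]

theorem isPseudoCoherent_of_forall_ext (hφ : JointlyReflects φ) (hfd : FiniteDescends φ)
    (K : Dual.D R) (m : ℤ)
    (h : ∀ j, IsPseudoCoherent (S j) m (((ext (φ j)).mapDerivedCategory).obj K)) :
    IsPseudoCoherent R m K := by
  choose c hc using fun j => H56.exists_isLE_of_isPseudoCoherent (h j)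
  obtain ⟨c₀, hc₀⟩ := Finite.exists_le c
  have hK : K.IsLE c₀ := isLE_of_forall_ext φ hφ K c₀ (fun j => by
    haveI := hc j
    rw [isLE_iff]
    intro i hi
    exact isZero_of_isLE _ (c j) i (by have := hc₀ j; omega))
  exact isPseudoCoherent_descent_aux φ hφ hfd m (c₀ + 1 - m).toNat K c₀ hK (by omega) h

theorem isPseudoCoherent_toD_of_forall_ext (hφ : JointlyReflects φ) (hfd : FiniteDescends φ)
    (K : Cx R) (m : ℤ)
    (h : ∀ j, IsPseudoCoherent (S j) m (toD ((extCx (φ j)).obj K))) :
    IsPseudoCoherent R m (toD K) :=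
  isPseudoCoherent_of_forall_ext φ hφ hfd (toD K) m (fun j =>
    MPCoh.isPseudoCoherent_of_iso ((ext (φ j)).mapDerivedCategoryFactors.app K).symm (h j))

theorem isPseudoCoherent'_toD_of_forall_ext (hφ : JointlyReflects φ) (hfd : FiniteDescends φ)
    (K : Cx R) (h : ∀ j, IsPseudoCoherent' (S j) (toD ((extCx (φ j)).obj K))) :
    IsPseudoCoherent' R (toD K) := by
  rw [H56.isPseudoCoherent'_iff_forall]
  intro m
  exact isPseudoCoherent_toD_of_forall_ext φ hφ hfd K m
    (fun j => H56.isPseudoCoherent'_iff_forall.1 (h j) m)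

omit [∀ j, PreservesFiniteLimits (ext (φ j))] in
theorem isPerfect_of_forall_ext (hflat : ∀ j, (φ j).Flat) (hφ : JointlyReflects φ)
    (hfd : FiniteDescends φ) (K : Cx R)
    (h : ∀ j, IsPerfect (S j) (toD ((extCx (φ j)).obj K))) : IsPerfect R (toD K) := by
  haveI : ∀ j, PreservesFiniteLimits (ext (φ j)) := fun j =>
    ModuleCat.preservesFiniteLimits_extendScalars_of_flat (hflat j)
  have h' := fun j => (isPerfect_iff _).1 (h j)
  rw [isPerfect_iff]
  constructor
  · exact isPseudoCoherent'_toD_of_forall_ext φ hφ hfd K (fun j => (h' j).1)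
  · choose a b hab using fun j =>
      (show ∃ a b : ℤ, HasTorAmplitudeIn (S j) a b (toD ((extCx (φ j)).obj K)) from (h' j).2)
    obtain ⟨b₀, hb₀⟩ := Finite.exists_le b
    obtain ⟨a₀, ha₀⟩ := Finite.exists_ge a
    exact ⟨a₀, b₀, hasTorAmplitudeIn_of_forall_ext φ hflat hφ K a₀ b₀
      (fun j => hasTorAmplitudeIn_mono (ha₀ j) (hb₀ j) (hab j))⟩

end Family

/-! ### the two standard instances -/

section Instances

set_option backward.isDefEq.respectTransparency false in
lemma finite_tensor_of_finite_ext {S : Type u} [CommRing S] [Algebra R S] (M : ModuleCat.{u} R)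
    (h : Module.Finite S ((ext (algebraMap R S)).obj M)) : Module.Finite S (S ⊗[R] M) := by
  have h1 : letI := algOf (algebraMap R S)
      Module.Finite S (S ⊗[R] M) := h
  rw [algOf_eq'] at h1
  exact h1

theorem finiteDescends_of_faithfullyFlat (R' : Type u) [CommRing R'] [Algebra R R']
    [Module.FaithfullyFlat R R'] :
    FiniteDescends (fun _ : Unit => algebraMap R R') := by
  intro M h
  haveI := finite_tensor_of_finite_ext M (h ())
  exact Module.Finite.of_finite_tensorProduct_of_faithfullyFlat R'

theorem finiteDescends_of_span {r : ℕ} (f : Fin r → R) (hf : Ideal.span (Set.range f) = ⊤) :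
    FiniteDescends (fun i => algebraMap R (Localization.Away (f i))) := by
  intro M h
  haveI inst : ∀ (x : Set.range f), IsLocalizedModule.Away x.1
      (TensorProduct.mk R (Localization.Away x.1) M 1) := fun x =>
    (isLocalizedModule_iff_isBaseChange (Submonoid.powers x.1) (Localization.Away x.1) _).2
      (TensorProduct.isBaseChange R M _)
  refine Module.Finite.of_localizationSpan' (Set.range f) hf
    (Mₚ := fun x => Localization.Away x.1 ⊗[R] M) (Rₚ := fun x => Localization.Away x.1)
    (fun x => TensorProduct.mk R (Localization.Away x.1) M 1) ?_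
  rintro ⟨_, i, rfl⟩
  exact finite_tensor_of_finite_ext M (h i)

/-- S6941. -/
theorem isPseudoCoherent_of_faithfullyFlat {R' : Type u} [CommRing R'] [Algebra R R']
    [Module.FaithfullyFlat R R'] (K : Cx R) (m : ℤ) :
    (IsPseudoCoherent R' m (toD ((extCx (algebraMap R R')).obj K)) →
        IsPseudoCoherent R m (toD K)) ∧
      (IsPseudoCoherent' R' (toD ((extCx (algebraMap R R')).obj K)) →
        IsPseudoCoherent' R (toD K)) := by
  haveI : PreservesFiniteLimits (ext (algebraMap R R')) :=
    ModuleCat.preservesFiniteLimits_extendScalars_of_flat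
      (RingHom.flat_algebraMap_iff.2 inferInstance)
  exact ⟨fun h => isPseudoCoherent_toD_of_forall_ext (fun _ : Unit => algebraMap R R')
      (jointlyReflects_of_faithfullyFlat R') (finiteDescends_of_faithfullyFlat R') K m
      (fun _ => h),
    fun h => isPseudoCoherent'_toD_of_forall_ext (fun _ : Unit => algebraMap R R')
      (jointlyReflects_of_faithfullyFlat R') (finiteDescends_of_faithfullyFlat R') K
      (fun _ => h)⟩

/-- S6961. -/
theorem isPerfect_of_faithfullyFlat {R' : Type u} [CommRing R'] [Algebra R R']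
    [Module.FaithfullyFlat R R'] (K : Cx R)
    (hK : IsPerfect R' (toD ((extCx (algebraMap R R')).obj K))) : IsPerfect R (toD K) :=
  isPerfect_of_forall_ext (fun _ : Unit => algebraMap R R')
    (fun _ => RingHom.flat_algebraMap_iff.2 inferInstance)
    (jointlyReflects_of_faithfullyFlat R') (finiteDescends_of_faithfullyFlat R') K (fun _ => hK)

/-- S6960. -/
theorem isPerfect_of_span {r : ℕ} (f : Fin r → R) (hf : Ideal.span (Set.range f) = ⊤)
    (K : Cx R)
    (hK : ∀ i, IsPerfect (Localization.Away (f i))
      (toD ((extCx (algebraMap R (Localization.Away (f i)))).obj K))) : IsPerfect R (toD K) :=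
  isPerfect_of_forall_ext (fun i => algebraMap R (Localization.Away (f i)))
    (fun _ => RingHom.flat_algebraMap_iff.2 inferInstance)
    (jointlyReflects_of_span f hf) (finiteDescends_of_span f hf) K hK

/-- Zariski descent of pseudo-coherence. -/
theorem isPseudoCoherent_of_span {r : ℕ} (f : Fin r → R) (hf : Ideal.span (Set.range f) = ⊤)
    (K : Cx R) (m : ℤ)
    (hK : ∀ i, IsPseudoCoherent (Localization.Away (f i)) m
      (toD ((extCx (algebraMap R (Localization.Away (f i)))).obj K))) :
    IsPseudoCoherent R m (toD K) := by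
  haveI : ∀ i : Fin r, PreservesFiniteLimits (ext (algebraMap R (Localization.Away (f i)))) :=
    fun _ => ModuleCat.preservesFiniteLimits_extendScalars_of_flat
      (RingHom.flat_algebraMap_iff.2 inferInstance)
  exact isPseudoCoherent_toD_of_forall_ext (fun i => algebraMap R (Localization.Away (f i)))
    (jointlyReflects_of_span f hf) (finiteDescends_of_span f hf) K m hK

end Instances

end Groth.Agent.H35.TorDescent
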