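import Mathlib
import Groth.Agent.H35.TorAmp
import Groth.Agent.H35.Devissage

/-!
Tor amplitude (helper35), continued: dévissage along terms and cohomology modules.
-/

set_option autoImplicit false
universe u
open CategoryTheory CategoryTheory.Limits Pretriangulated
attribute [local instance] HasDerivedCategory.standard

namespace Groth.Agent.H35.TorAmp

open DRing DerivedCategory ZeroObject

variable {R : Type u} [CommRing R]

lemma hasTorAmplitudeIn_of_isZero {a b : ℤ} {K : Dual.D R} (hK : IsZero K) :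
    HasTorAmplitudeIn R a b K := by
  have hz : ∀ i, IsZero ((0 : Cx R).X i) := fun i =>
    (HomologicalComplex.eval (ModuleCat.{u} R) (ComplexShape.up ℤ) i).map_isZero (isZero_zero _)
  refine ⟨0, fun i _ => hz i, fun i => ?_, ⟨(Q.map_isZero (isZero_zero _)).iso hK⟩⟩
  have : Subsingleton ((0 : Cx R).X i) := ModuleCat.subsingleton_of_isZero (hz i)
  infer_instance

lemma isExtClosed (a b : ℤ) :
    Devissage.IsExtClosed (fun K : Dual.D R => HasTorAmplitudeIn R a b K) where
  iso e h := hasTorAmplitudeIn_of_iso e h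
  zero h := hasTorAmplitudeIn_of_isZero h
  ext T hT h₁ h₃ := hasTorAmplitudeIn_obj₂ T hT a b h₁ h₃

lemma hasTorAmplitudeIn_single (M : ModuleCat.{u} R) (i a b : ℤ)
    (h : HasTorAmplitudeIn R (a - i) (b - i) ((singleFunctor (ModuleCat.{u} R) 0).obj M)) :
    HasTorAmplitudeIn R a b ((singleFunctor (ModuleCat.{u} R) i).obj M) :=
  hasTorAmplitudeIn_of_iso (((singleFunctors (ModuleCat.{u} R)).shiftIso (-i) i 0 (by omega)).app M)
    (hasTorAmplitudeIn_shift h (-i) a b (by omega) (by omega))

/-- S7032. -/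
theorem hasTorAmplitudeIn_of_bounded_termwise (a b : ℤ) (K : Cx R) (c d : ℤ)
    (hcd : VanishesOutside K c d)
    (hK : ∀ i : ℤ, HasTorAmplitudeIn R (a - i) (b - i) (Dual.inD R (K.X i))) :
    HasTorAmplitudeIn R a b (toD K) :=
  Devissage.of_terms (isExtClosed a b) c (d - c + 1).toNat K d hcd (by omega)
    (fun i => hasTorAmplitudeIn_single (K.X i) i a b (hK i))

/-- S7033. -/
theorem hasTorAmplitudeIn_of_bounded_homology (a b : ℤ) (K : Dual.D R)
    (hb : ∃ c d : ℤ, ∀ i : ℤ, (i < c ∨ d < i) → Subsingleton (Dual.HD R K i))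
    (hK : ∀ i : ℤ, HasTorAmplitudeIn R (a - i) (b - i) (Dual.inD R (Dual.HD R K i))) :
    HasTorAmplitudeIn R a b K := by
  obtain ⟨c, d, hcd⟩ := hb
  exact Devissage.of_homology (isExtClosed a b) c (d - c + 1).toNat K d
    (fun i hi => by
      have := hcd i hi
      exact ModuleCat.isZero_of_subsingleton _) (by omega)
    (fun i => hasTorAmplitudeIn_single _ i a b (hK i))

end Groth.Agent.H35.TorAmp
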