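import Mathlib
import Groth.Agent.H35.PerfAmp
import Groth.Agent.H35.TorAmp2
import Groth.Agent.H35.MPCoh2
import Groth.Agent.H82.TorLib

/-!
Tor amplitude of a module versus Mathlib's `Tor` (helper35): `DRing.HasTorDimLE R d M` iff `M[0]` has
tor amplitude in `[-d, 0]`; tor dimension `0` iff flat; consequences for rings all of whose modules
have finite tor dimension.
-/

set_option autoImplicit false
universe u
open CategoryTheory CategoryTheory.Limits Pretriangulated MonoidalCategory
attribute [local instance] HasDerivedCategory.standard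

namespace Groth.Agent.H35.TorAmp

open DRing DerivedCategory

variable {R : Type u} [CommRing R]

section Bridge

variable {X : ModuleCat.{u} R} (P : ProjectiveResolution X)

lemma exactAt_tensor_cochainComplex_iff (N : ModuleCat.{u} R) (m : ℕ) :
    (CohIII.tensorObj P.cochainComplex N).ExactAt (-((m + 1 : ℕ) : ℤ)) ↔
      (CohIII.tensorObj P.complex N).ExactAt (m + 1) := by
  rw [HomologicalComplex.exactAt_iff' _ (-((m + 2 : ℕ) : ℤ)) (-((m + 1 : ℕ) : ℤ)) (-((m : ℕ) : ℤ))
      ((ComplexShape.up ℤ).prev_eq'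
        (show -((m + 2 : ℕ) : ℤ) + 1 = -((m + 1 : ℕ) : ℤ) by push_cast; ring))
      ((ComplexShape.up ℤ).next_eq'
        (show -((m + 1 : ℕ) : ℤ) + 1 = -((m : ℕ) : ℤ) by push_cast; ring)),
    HomologicalComplex.exactAt_iff' _ (m + 2) (m + 1) m (by simp) (by simp)]
  refine ShortComplex.exact_iff_of_iso (ShortComplex.isoMk
    ((tensorRight N).mapIso (P.cochainComplexXIso _ (m + 2) rfl))
    ((tensorRight N).mapIso (P.cochainComplexXIso _ (m + 1) rfl))
    ((tensorRight N).mapIso (P.cochainComplexXIso _ m rfl)) ?_ ?_)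
  · show (tensorRight N).map _ ≫ (tensorRight N).map (P.complex.d _ _) =
      (tensorRight N).map (P.cochainComplex.d _ _) ≫ (tensorRight N).map _
    rw [← CategoryTheory.Functor.map_comp, ← CategoryTheory.Functor.map_comp,
      P.cochainComplex_d _ _ (m + 2) (m + 1) rfl rfl]
    simp
  · show (tensorRight N).map _ ≫ (tensorRight N).map (P.complex.d _ _) =
      (tensorRight N).map (P.cochainComplex.d _ _) ≫ (tensorRight N).map _
    rw [← CategoryTheory.Functor.map_comp, ← CategoryTheory.Functor.map_comp,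
      P.cochainComplex_d _ _ (m + 1) m rfl rfl]
    simp

lemma exactAt_tensor_complex_iff_tor (N : ModuleCat.{u} R) (n : ℕ) :
    (CohIII.tensorObj P.complex N).ExactAt n ↔
      IsZero (((Tor (ModuleCat.{u} R) n).obj X).obj N) := by
  rw [HomologicalComplex.exactAt_iff_isZero_homology]
  obtain ⟨e⟩ := H82.TorLib.nonempty_tor_iso_U P n N
  exact e.isZero_iff.symm

lemma vanishesAbove_cochainComplex : VanishesAbove P.cochainComplex 0 :=
  fun i hi => P.cochainComplex.isZero_of_isStrictlyLE 0 i hi

lemma flat_cochainComplex : TermwiseFlat P.cochainComplex := fun i => by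
  have h : Projective (P.cochainComplex.X i) := inferInstance
  have : Module.Projective R (P.cochainComplex.X i) := (IsProjective.iff_projective _).2 h
  infer_instance

/-- the cochain complex of a projective resolution represents the module in degree `0`. -/
noncomputable def cochainComplexIso :
    Q.obj P.cochainComplex ≅ (singleFunctor (ModuleCat.{u} R) 0).obj X :=
  asIso (Q.map P.π') ≪≫ ((singleFunctorIsoCompQ (ModuleCat.{u} R) 0).app X).symm

lemma torVanish_cochainComplex_iff (d : ℕ) :
    TorVanish (-(d : ℤ)) 0 P.cochainComplex ↔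
      ∀ (N : ModuleCat.{u} R) (p : ℕ), d < p →
        IsZero (((Tor (ModuleCat.{u} R) p).obj X).obj N) := by
  constructor
  · intro h N p hp
    obtain ⟨m, rfl⟩ : ∃ m, p = m + 1 := ⟨p - 1, by omega⟩
    rw [← exactAt_tensor_complex_iff_tor P, ← exactAt_tensor_cochainComplex_iff]
    exact h N _ (Or.inl (by push_cast; omega))
  · intro h N i hi
    rcases hi with hi | hi
    · obtain ⟨m, rfl⟩ : ∃ m : ℕ, i = -((m + 1 : ℕ) : ℤ) :=
        ⟨(-i - 1).toNat, by push_cast; omega⟩
      rw [exactAt_tensor_cochainComplex_iff, exactAt_tensor_complex_iff_tor]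
      exact h N (m + 1) (by push_cast at hi; omega)
    · exact ShortComplex.exact_of_isZero_X₂ _
        ((tensorRight N).map_isZero (vanishesAbove_cochainComplex P i hi))

end Bridge

lemma hasTorDimLE_mono {M : Type u} [AddCommGroup M] [Module R M] {d d' : ℕ} (h : d ≤ d')
    (hM : HasTorDimLE R d M) : HasTorDimLE R d' M :=
  fun N _ _ p hp => hM N p (by omega)

/-- S6946 (first part). -/
theorem hasTorDimLE_iff (M : Type u) [AddCommGroup M] [Module R M] (d : ℕ) :
    HasTorDimLE R d M ↔ HasTorAmplitudeIn R (-(d : ℤ)) 0 (Dual.inD R M) := by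
  let P := projectiveResolution (ModuleCat.of R M)
  have hC := vanishesAbove_cochainComplex P
  have hfl := flat_cochainComplex P
  have hTor : HasTorDimLE R d M ↔ ∀ (N : ModuleCat.{u} R) (p : ℕ), d < p →
      IsZero (((Tor (ModuleCat.{u} R) p).obj (ModuleCat.of R M)).obj N) := by
    constructor
    · intro h N p hp
      have hs : Subsingleton (((Tor (ModuleCat.{u} R) p).obj (ModuleCat.of R M)).obj N) :=
        h N p hp
      exact ModuleCat.isZero_of_subsingleton _
    · intro h N _ _ p hp
      exact ModuleCat.subsingleton_of_isZero (h (ModuleCat.of R N) p hp)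
  rw [hTor, ← torVanish_cochainComplex_iff P d, hasTorAmplitudeIn_iff]
  constructor
  · intro h
    refine ⟨?_, P.cochainComplex, 0, hC, hfl, ⟨cochainComplexIso P⟩, h⟩
    intro i hi
    rcases hi with hi | hi
    · exact isZero_of_isGE _ 0 i (by omega)
    · exact isZero_of_isLE _ 0 i hi
  · rintro ⟨-, P', c, hP', fl', ⟨e⟩, hT⟩
    exact torVanish_of_iso c 0 hP' hC fl' hfl (e ≪≫ (cochainComplexIso P).symm) hT

/-- S6946 (second part). -/
theorem hasTorDimLE_zero_iff_flat (M : Type u) [AddCommGroup M] [Module R M] :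
    HasTorDimLE R 0 M ↔ Module.Flat R M := by
  rw [hasTorDimLE_iff]
  constructor
  · rintro ⟨E, hE, fl, ⟨e⟩⟩
    have h1 : E.IsStrictlyGE 0 := by
      rw [CochainComplex.isStrictlyGE_iff]
      intro i hi
      exact hE i (Or.inl (by simpa using hi))
    have h2 : E.IsStrictlyLE 0 := by
      rw [CochainComplex.isStrictlyLE_iff]
      intro i hi
      exact hE i (Or.inr hi)
    obtain ⟨A, ⟨eA⟩⟩ := E.exists_iso_single 0
    have eX : E.X 0 ≅ A :=
      (HomologicalComplex.eval (ModuleCat.{u} R) (ComplexShape.up ℤ) 0).mapIso eA ≪≫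
        HomologicalComplex.singleObjXSelf (ComplexShape.up ℤ) 0 A
    have := fl 0
    have hA : Module.Flat R A := Module.Flat.of_linearEquiv eX.toLinearEquiv.symm
    have e' : (singleFunctor (ModuleCat.{u} R) 0).obj A ≅
        (singleFunctor (ModuleCat.{u} R) 0).obj (ModuleCat.of R M) :=
      MPCoh.sIso 0 A ≪≫ Q.mapIso eA.symm ≪≫ e
    have e'' : A ≅ ModuleCat.of R M :=
      ((singleFunctorCompHomologyFunctorIso (ModuleCat.{u} R) 0).app A).symm ≪≫
        (homologyFunctor (ModuleCat.{u} R) 0).mapIso e' ≪≫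
        (singleFunctorCompHomologyFunctorIso (ModuleCat.{u} R) 0).app (ModuleCat.of R M)
    have e3 : M ≃ₗ[R] A := e''.toLinearEquiv.symm
    exact Module.Flat.of_linearEquiv e3
  · intro h
    refine ⟨(HomologicalComplex.single (ModuleCat.{u} R) (ComplexShape.up ℤ) 0).obj
      (ModuleCat.of R M), ?_, ?_, ⟨(MPCoh.sIso 0 (ModuleCat.of R M)).symm⟩⟩
    · intro i hi
      refine HomologicalComplex.isZero_single_obj_X (ComplexShape.up ℤ) 0 _ i ?_
      rcases hi with hi | hi
      · have : i < 0 := by simpa using hi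
        omega
      · omega
    · intro i
      by_cases hi : i = 0
      · subst hi
        have e1 : ((HomologicalComplex.single (ModuleCat.{u} R) (ComplexShape.up ℤ) 0).obj
            (ModuleCat.of R M)).X 0 ≃ₗ[R] M :=
          (HomologicalComplex.singleObjXSelf (ComplexShape.up ℤ) 0
            (ModuleCat.of R M)).toLinearEquiv
        exact Module.Flat.of_linearEquiv e1
      · have hz := HomologicalComplex.isZero_single_obj_X (ComplexShape.up ℤ) 0
          (ModuleCat.of R M) i hi
        have : Subsingleton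
            (((HomologicalComplex.single (ModuleCat.{u} R) (ComplexShape.up ℤ) 0).obj
              (ModuleCat.of R M)).X i) := ModuleCat.subsingleton_of_isZero hz
        infer_instance

/-- S5612 (i). -/
theorem hasFiniteTorDimCx_iff_of_forall
    (hA : ∀ (M : Type u) [AddCommGroup M] [Module R M], HasFiniteTorDim R M) (K : Dual.D R) :
    HasFiniteTorDimCx R K ↔
      ∃ a b : ℤ, ∀ i : ℤ, i < a ∨ b < i → Subsingleton (Dual.HD R K i) := by
  constructor
  · rintro ⟨a, b, h⟩
    exact ⟨a, b, fun i hi =>
      ModuleCat.subsingleton_of_isZero ((hasFlatModel_of_hasTorAmplitudeIn h).1 i hi)⟩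
  · rintro ⟨a, b, hK⟩
    choose f hf using fun i : ℤ => hA (Dual.HD R K i)
    let n : ℕ := (Finset.Icc a b).sup f
    refine ⟨a - n, b, hasTorAmplitudeIn_of_bounded_homology (a - n) b K ⟨a, b, hK⟩ (fun i => ?_)⟩
    by_cases hi : i < a ∨ b < i
    · have := hK i hi
      exact hasTorAmplitudeIn_of_isZero
        ((singleFunctor (ModuleCat.{u} R) 0).map_isZero (ModuleCat.isZero_of_subsingleton _))
    · have hle : f i ≤ n := Finset.le_sup (f := f) (Finset.mem_Icc.2 ⟨by omega, by omega⟩)
      exact hasTorAmplitudeIn_mono (by omega) (by omega)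
        ((hasTorDimLE_iff _ n).1 (hasTorDimLE_mono hle (hf i)))

/-- S5612 (ii). -/
theorem isPerfect_iff_of_forall
    (hA : ∀ (M : Type u) [AddCommGroup M] [Module R M], HasFiniteTorDim R M) (K : Dual.D R) :
    IsPerfect R K ↔
      (∃ a b : ℤ, ∀ i : ℤ, i < a ∨ b < i → Subsingleton (Dual.HD R K i)) ∧
        IsPseudoCoherent' R K := by
  rw [isPerfect_iff, hasFiniteTorDimCx_iff_of_forall hA]
  exact and_comm

end Groth.Agent.H35.TorAmp
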