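import Mathlib

/-!
# Right exact functors and the top cohomology of a cochain complex (helper35)

If `θ : G ⟶ L` is a quasi-isomorphism in degree `0`, `G¹ = 0`, the differentials of `L` into and
out of degree `0` vanish, and `F` is an additive functor preserving finite colimits, then `F θ` is a
quasi-isomorphism in degree `0`.
-/

set_option autoImplicit false
open CategoryTheory CategoryTheory.Limits HomologicalComplex

namespace Groth.Agent.H35.DegZero

variable {C D : Type*} [Category C] [Abelian C] [Category D] [Abelian D]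

lemma quasiIsoAt_zero_iff_isIso_opcyclesMap {K L : CochainComplex C ℤ} (f : K ⟶ L)
    (hK : K.d 0 1 = 0) (hL : L.d 0 1 = 0) :
    QuasiIsoAt f 0 ↔ IsIso (opcyclesMap f 0) := by
  have h1 : IsIso (K.homologyι 0) := K.isIso_homologyι 0 1 (by simp) hK
  have h2 : IsIso (L.homologyι 0) := L.isIso_homologyι 0 1 (by simp) hL
  rw [quasiIsoAt_iff_isIso_homologyMap]
  have nat := homologyι_naturality f 0
  constructor
  · intro h
    have : IsIso (K.homologyι 0 ≫ opcyclesMap f 0) := by rw [← nat]; infer_instance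
    exact IsIso.of_isIso_comp_left (K.homologyι 0) _
  · intro h
    have : IsIso (homologyMap f 0 ≫ L.homologyι 0) := by rw [nat]; infer_instance
    exact IsIso.of_isIso_comp_right _ (L.homologyι 0)

variable (F : C ⥤ D) [F.Additive] [PreservesFiniteColimits F]

theorem quasiIsoAt_map_zero (G L : CochainComplex C ℤ) (hG : IsZero (G.X 1))
    (hL₁ : L.d (-1) 0 = 0) (hL₂ : L.d 0 1 = 0)
    (θ : G ⟶ L) (hθ : QuasiIsoAt θ 0) :
    QuasiIsoAt ((F.mapHomologicalComplex (ComplexShape.up ℤ)).map θ) 0 := by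
  have dG : G.d 0 1 = 0 := hG.eq_of_tgt _ _
  have dFG : ((F.mapHomologicalComplex (ComplexShape.up ℤ)).obj G).d 0 1 = 0 := by
    show F.map (G.d 0 1) = 0
    rw [dG, F.map_zero]
  have dFL₁ : ((F.mapHomologicalComplex (ComplexShape.up ℤ)).obj L).d (-1) 0 = 0 := by
    show F.map (L.d (-1) 0) = 0
    rw [hL₁, F.map_zero]
  have dFL₂ : ((F.mapHomologicalComplex (ComplexShape.up ℤ)).obj L).d 0 1 = 0 := by
    show F.map (L.d 0 1) = 0
    rw [hL₂, F.map_zero]
  have hiso : IsIso (opcyclesMap θ 0) :=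
    (quasiIsoAt_zero_iff_isIso_opcyclesMap θ dG hL₂).1 hθ
  have pL : IsIso (L.pOpcycles 0) := L.isIso_pOpcycles (-1) 0 (by simp) hL₁
  have pFL : IsIso (((F.mapHomologicalComplex (ComplexShape.up ℤ)).obj L).pOpcycles 0) :=
    HomologicalComplex.isIso_pOpcycles _ (-1) 0 (by simp) dFL₁
  rw [quasiIsoAt_zero_iff_isIso_opcyclesMap _ dFG dFL₂]
  have w : G.d (-1) 0 ≫ θ.f 0 = 0 := by rw [← θ.comm, hL₁, comp_zero]
  let e : G.opcycles 0 ≅ L.X 0 := asIso (opcyclesMap θ 0) ≪≫ (asIso (L.pOpcycles 0)).symm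
  have he : G.pOpcycles 0 ≫ e.hom = θ.f 0 := by
    show G.pOpcycles 0 ≫ opcyclesMap θ 0 ≫ inv (L.pOpcycles 0) = θ.f 0
    rw [p_opcyclesMap_assoc, IsIso.hom_inv_id, Category.comp_id]
  have hc : IsColimit (CokernelCofork.ofπ (θ.f 0) w) :=
    IsColimit.ofIsoColimit (G.opcyclesIsCokernel (-1) 0 (by simp)) (Cofork.ext e he)
  have w' : ((F.mapHomologicalComplex (ComplexShape.up ℤ)).obj G).d (-1) 0 ≫ F.map (θ.f 0) = 0 := by
    show F.map (G.d (-1) 0) ≫ F.map (θ.f 0) = 0
    rw [← F.map_comp, w, F.map_zero]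
  have hc' : IsColimit (CokernelCofork.ofπ
      (f := ((F.mapHomologicalComplex (ComplexShape.up ℤ)).obj G).d (-1) 0) (F.map (θ.f 0)) w') :=
    CokernelCofork.mapIsColimit _ hc F
  have hc'' := ((F.mapHomologicalComplex (ComplexShape.up ℤ)).obj G).opcyclesIsCokernel (-1) 0
    (by simp)
  let i : ((F.mapHomologicalComplex (ComplexShape.up ℤ)).obj G).opcycles 0 ≅
      ((F.mapHomologicalComplex (ComplexShape.up ℤ)).obj L).X 0 :=
    IsColimit.coconePointUniqueUpToIso hc'' hc'
  have hi : ((F.mapHomologicalComplex (ComplexShape.up ℤ)).obj G).pOpcycles 0 ≫ i.hom =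
      ((F.mapHomologicalComplex (ComplexShape.up ℤ)).map θ).f 0 :=
    IsColimit.comp_coconePointUniqueUpToIso_hom hc'' hc' WalkingParallelPair.one
  have key : opcyclesMap ((F.mapHomologicalComplex (ComplexShape.up ℤ)).map θ) 0 =
      i.hom ≫ ((F.mapHomologicalComplex (ComplexShape.up ℤ)).obj L).pOpcycles 0 := by
    rw [← cancel_epi (((F.mapHomologicalComplex (ComplexShape.up ℤ)).obj G).pOpcycles 0),
      p_opcyclesMap, ← Category.assoc, hi]
  rw [key]
  infer_instance

end Groth.Agent.H35.DegZero
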