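import Mathlib
import Groth.Prelude.Def_DRing2
import Groth.Prelude.Def_DDual2
import Groth.Agent.H35.TorBridge
import Groth.Agent.H35.FlatBC
import Groth.Agent.H35.DegZero

/-!
# Finite Tor dimension of a rational point of `K ⊗_A B` from a perfect diagonal (helper35, squad
piece (TI) for helper3, rows S2206 / S6503)

If `B` is flat over `A` and `B` has finite Tor dimension over `R = B ⊗_A B`, then for every `A`-algebra
`K` and every `K`-point `π : C = K ⊗_A B → K`, the `C`-module `K` has finite Tor dimension.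
Method: `C = K ⊗_{B} R` (pushout along the left factor, `χ b = π (1 ⊗ b)`), `R` is `B`-flat, so a
flat `R`-resolution `E` of `B` is a flat `B`-resolution of the flat `B`-module `B`, hence
`C ⊗_R E = K ⊗_B E` is a flat `C`-resolution of `C ⊗_R B = K`.
-/

set_option autoImplicit false
universe u
open TensorProduct
open CategoryTheory CategoryTheory.Limits
open ChangeOfRings
attribute [local instance] HasDerivedCategory.standard

namespace Groth.Agent.H35.PD_TI

open DRing DerivedCategory Groth.Agent.H35.FlatBC Groth.Agent.H35.TorAmp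

section Theta

variable {B R K C : Type u} [CommRing B] [CommRing R] [CommRing K] [CommRing C]
    [Algebra B R] [Algebra B K] [Algebra K C] [Algebra B C] [IsScalarTower B K C]
    (φ : R →+* C)
    (tower : letI := algOf φ; IsScalarTower B R C)
    (push : letI := algOf φ; Algebra.IsPushout B K R C)

variable (B R) in
/-- restriction along `B → R` -/
noncomputable abbrev resB : ModuleCat.{u} R ⥤ ModuleCat.{u} B :=
  ModuleCat.restrictScalars.{u} (algebraMap B R)

set_option backward.isDefEq.respectTransparency false in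
/-- `M ⊗_B K ≃ C ⊗_R M` for an `R`-module `M`, when `C = K ⊗_B R`. -/
noncomputable def Θ (X : ModuleCat.{u} R) :
    (((resB B R).obj X : ModuleCat.{u} B) ⊗[B] K) ≃+ ((ext φ).obj X : ModuleCat.{u} C) := by
  letI := algOf φ
  letI : Module B X := Module.compHom X (algebraMap B R)
  haveI : IsScalarTower B R X := ⟨fun b r m => by
    show (b • r) • m = algebraMap B R b • (r • m)
    rw [Algebra.smul_def, mul_smul]⟩
  haveI := tower
  haveI := push
  exact ((TensorProduct.comm B X K).toAddEquiv).trans
    (Algebra.IsPushout.cancelBaseChange B K R C X).symm.toAddEquiv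

set_option backward.isDefEq.respectTransparency false in
lemma Θ_tmul (X : ModuleCat.{u} R) (m : X) (k : K) :
    Θ φ tower push X ((show ((resB B R).obj X : ModuleCat.{u} B) from m) ⊗ₜ[B] k) =
      ((algebraMap K C k) ⊗ₜ[R,φ] m : (ext φ).obj X) := by
  letI := algOf φ
  letI : Module B X := Module.compHom X (algebraMap B R)
  haveI : IsScalarTower B R X := ⟨fun b r m => by
    show (b • r) • m = algebraMap B R b • (r • m)
    rw [Algebra.smul_def, mul_smul]⟩
  haveI := tower
  haveI := push
  exact Algebra.IsPushout.cancelBaseChange_symm_tmul B K R C X k m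


set_option backward.isDefEq.respectTransparency false in
lemma Θ_natural {X Y : ModuleCat.{u} R} (f : X ⟶ Y)
    (z : ((resB B R).obj X : ModuleCat.{u} B) ⊗[B] K) :
    ((ext φ).map f).hom (Θ φ tower push X z) =
      Θ φ tower push Y ((((resB B R).map f).hom.rTensor K) z) := by
  induction z using TensorProduct.induction_on with
  | zero => simp
  | add x y hx hy => simp only [map_add, hx, hy]
  | tmul m k =>
    have h1 := Θ_tmul φ tower push X m k
    have h2 := Θ_tmul φ tower push Y (f.hom m) k
    exact (congrArg ((ext φ).map f).hom h1).trans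
      ((ModuleCat.ExtendScalars.map_tmul φ f (algebraMap K C k) m).trans h2.symm)

include tower push in
lemma exactAt_ext_of_exactAt_tensor (E : Cx R) (i : ℤ)
    (h : (CohIII.tensorObj (((resB B R).mapHomologicalComplex (ComplexShape.up ℤ)).obj E)
      (ModuleCat.of B K)).ExactAt i) :
    ((extCx φ).obj E).ExactAt i := by
  rw [exactAt_iff_elem _ (i - 1) i (i + 1) (by omega) rfl]
  rw [exactAt_tensor_iff _ _ (i - 1) i (i + 1) (by omega) rfl] at h
  intro x hx
  have h1 : ∀ (p q : ℤ) (z : ((resB B R).obj (E.X p) : ModuleCat.{u} B) ⊗[B] K),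
      (((extCx φ).obj E).d p q).hom (Θ φ tower push (E.X p) z) =
        Θ φ tower push (E.X q) (Groth.Agent.H12.FlatCx.dT
          (((resB B R).mapHomologicalComplex (ComplexShape.up ℤ)).obj E) K p q z) :=
    fun p q z => Θ_natural φ tower push (E.d p q) z
  obtain ⟨y, hy⟩ := h ((Θ φ tower push (E.X i)).symm x) (by
    apply (Θ φ tower push (E.X (i + 1))).injective
    refine (h1 i (i + 1) _).symm.trans ?_
    refine (congrArg (((extCx φ).obj E).d i (i + 1)).hom
      ((Θ φ tower push (E.X i)).apply_symm_apply x)).trans ?_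
    exact hx.trans (map_zero _).symm)
  refine ⟨Θ φ tower push (E.X (i - 1)) y, ?_⟩
  refine (h1 (i - 1) i y).trans ?_
  exact (congrArg (Θ φ tower push (E.X i)) hy).trans
    ((Θ φ tower push (E.X i)).apply_symm_apply x)

end Theta


section ResSide

variable {B R : Type u} [CommRing B] [CommRing R] [Algebra B R] [Module.Flat B R]

set_option backward.isDefEq.respectTransparency false in
lemma flat_resB (X : ModuleCat.{u} R) [Module.Flat R X] :
    Module.Flat B ((resB B R).obj X) := by
  letI : Module B X := Module.compHom X (algebraMap B R)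
  haveI : IsScalarTower B R X := ⟨fun b r m => by
    show (b • r) • m = algebraMap B R b • (r • m)
    rw [Algebra.smul_def, mul_smul]⟩
  exact (Module.Flat.trans B R X : Module.Flat B X)

lemma flat_sg {A : Type u} [CommRing A] (M : Type u) [AddCommGroup M] [Module A M]
    [Module.Flat A M] :
    TermwiseFlat ((HomologicalComplex.single (ModuleCat.{u} A) (ComplexShape.up ℤ) 0).obj
      (ModuleCat.of A M)) := by
  intro i
  by_cases hi : i = 0
  · subst hi
    have e1 : ((HomologicalComplex.single (ModuleCat.{u} A) (ComplexShape.up ℤ) 0).obj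
        (ModuleCat.of A M)).X 0 ≃ₗ[A] M :=
      (HomologicalComplex.singleObjXSelf (ComplexShape.up ℤ) 0
        (ModuleCat.of A M)).toLinearEquiv
    exact Module.Flat.of_linearEquiv e1
  · have hz := HomologicalComplex.isZero_single_obj_X (ComplexShape.up ℤ) 0
      (ModuleCat.of A M) i hi
    have : Subsingleton
        (((HomologicalComplex.single (ModuleCat.{u} A) (ComplexShape.up ℤ) 0).obj
          (ModuleCat.of A M)).X i) := ModuleCat.subsingleton_of_isZero hz
    infer_instance

set_option backward.isDefEq.respectTransparency false in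
/-- the restriction of `M` along `B → R` is the given `B`-module `M`. -/
noncomputable def resM (M : Type u) [AddCommGroup M] [Module R M] [Module B M]
    [IsScalarTower B R M] : (resB B R).obj (ModuleCat.of R M) ≅ ModuleCat.of B M :=
  (show ((resB B R).obj (ModuleCat.of R M) : ModuleCat.{u} B) ≃ₗ[B] M from
    { toFun := fun m => m
      invFun := fun m => m
      map_add' := fun _ _ => rfl
      map_smul' := fun b m => algebraMap_smul R b (show M from m)
      left_inv := fun _ => rfl
      right_inv := fun _ => rfl }).toModuleIso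

lemma exactAt_tensor_res (E : Cx R) (hE : VanishesAbove E 0) (hfl : TermwiseFlat E)
    (M : Type u) [AddCommGroup M] [Module R M] [Module B M] [IsScalarTower B R M]
    [Module.Flat B M] (e : toD E ≅ Dual.inD R M) (N : ModuleCat.{u} B) (i : ℤ) (hi : i ≠ 0) :
    (CohIII.tensorObj (((resB B R).mapHomologicalComplex (ComplexShape.up ℤ)).obj E)
      N).ExactAt i := by
  have hPres : VanishesAbove (((resB B R).mapHomologicalComplex (ComplexShape.up ℤ)).obj E) 0 :=
    fun j hj => (resB B R).map_isZero (hE j hj)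
  have flPres : TermwiseFlat (((resB B R).mapHomologicalComplex (ComplexShape.up ℤ)).obj E) :=
    fun j => haveI := hfl j; flat_resB (E.X j)
  have hS : VanishesAbove ((HomologicalComplex.single (ModuleCat.{u} B) (ComplexShape.up ℤ) 0).obj
      (ModuleCat.of B M)) 0 :=
    fun j hj => HomologicalComplex.isZero_single_obj_X (ComplexShape.up ℤ) 0 _ j (by omega)
  have flS := flat_sg (A := B) M
  let ePres : Q.obj (((resB B R).mapHomologicalComplex (ComplexShape.up ℤ)).obj E) ≅
      Q.obj ((HomologicalComplex.single (ModuleCat.{u} B) (ComplexShape.up ℤ) 0).obj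
        (ModuleCat.of B M)) :=
    ((resB B R).mapDerivedCategoryFactors.app E).symm ≪≫
      (resB B R).mapDerivedCategory.mapIso e ≪≫
      ((resB B R).mapDerivedCategorySingleFunctor 0).app (ModuleCat.of R M) ≪≫
      (singleFunctor (ModuleCat.{u} B) 0).mapIso (resM M) ≪≫
      Groth.Agent.H35.MPCoh.sIso 0 (ModuleCat.of B M)
  rw [exactAt_tensor_iff_of_iso 0 0 hPres hS flPres flS ePres N i]
  exact ShortComplex.exact_of_isZero_X₂ _ ((MonoidalCategory.tensorRight N).map_isZero
    (HomologicalComplex.isZero_single_obj_X (ComplexShape.up ℤ) 0 _ i hi))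

end ResSide


section T1

variable {B R K C : Type u} [CommRing B] [CommRing R] [CommRing K] [CommRing C]
    [Algebra B R] [Algebra B K] [Algebra K C] [Algebra B C] [IsScalarTower B K C]
    [Module.Flat B R] (φ : R →+* C)
    (tower : letI := algOf φ; IsScalarTower B R C)
    (push : letI := algOf φ; Algebra.IsPushout B K R C)

include tower push in
theorem nonempty_iso_ext (E : Cx R) (a : ℤ) (hE : VanishesOutside E a 0) (hfl : TermwiseFlat E)
    (M : Type u) [AddCommGroup M] [Module R M] [Module B M] [IsScalarTower B R M]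
    [Module.Flat B M] (e : toD E ≅ Dual.inD R M) :
    Nonempty (toD ((extCx φ).obj E) ≅
      (singleFunctor (ModuleCat.{u} C) 0).obj ((ext φ).obj (ModuleCat.of R M))) := by
  have hE0 : VanishesAbove E 0 := fun i hi => hE i (Or.inr hi)
  have hex : ∀ i, i ≠ 0 → ((extCx φ).obj E).ExactAt i := fun i hi =>
    exactAt_ext_of_exactAt_tensor φ tower push E i
      (exactAt_tensor_res E hE0 hfl M e (ModuleCat.of B K) i hi)
  have hd : E.d 0 1 = 0 := (hE0 1 (by omega)).eq_of_tgt _ _
  let θ : E ⟶ (HomologicalComplex.single (ModuleCat.{u} R) (ComplexShape.up ℤ) 0).obj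
      (E.opcycles 0) :=
    HomologicalComplex.mkHomToSingle (E.pOpcycles 0) (fun i _ => E.d_pOpcycles i 0)
  have hθ : QuasiIsoAt θ 0 := by
    rw [DegZero.quasiIsoAt_zero_iff_isIso_opcyclesMap θ hd (by simp)]
    have hp : IsIso (((HomologicalComplex.single (ModuleCat.{u} R) (ComplexShape.up ℤ) 0).obj
        (E.opcycles 0)).pOpcycles 0) :=
      HomologicalComplex.isIso_pOpcycles _ (-1) 0 (by simp) (by simp)
    have key : HomologicalComplex.opcyclesMap θ 0 =
        (HomologicalComplex.singleObjXSelf (ComplexShape.up ℤ) 0 (E.opcycles 0)).inv ≫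
          ((HomologicalComplex.single (ModuleCat.{u} R) (ComplexShape.up ℤ) 0).obj
            (E.opcycles 0)).pOpcycles 0 := by
      rw [← cancel_epi (E.pOpcycles 0), HomologicalComplex.p_opcyclesMap,
        HomologicalComplex.mkHomToSingle_f, Category.assoc]
    rw [key]
    infer_instance
  have hq : QuasiIso ((extCx φ).map θ) := by
    rw [quasiIso_iff]
    intro i
    by_cases hi : i = 0
    · subst hi
      exact DegZero.quasiIsoAt_map_zero (ext φ) E _ (hE0 1 (by omega)) (by simp) (by simp) θ hθ
    · rw [quasiIsoAt_iff_exactAt _ _ (hex i hi)]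
      exact ShortComplex.exact_of_isZero_X₂ _ ((ext φ).map_isZero
        (HomologicalComplex.isZero_single_obj_X (ComplexShape.up ℤ) 0 _ i hi))
  have hι : IsIso (E.homologyι 0) := E.isIso_homologyι 0 1 (by simp) hd
  let eO : E.opcycles 0 ≅ ModuleCat.of R M :=
    (asIso (E.homologyι 0)).symm ≪≫
      ((homologyFunctorFactors (ModuleCat.{u} R) 0).app E).symm ≪≫
      (homologyFunctor (ModuleCat.{u} R) 0).mapIso e ≪≫
      (singleFunctorCompHomologyFunctorIso (ModuleCat.{u} R) 0).app (ModuleCat.of R M)
  exact ⟨asIso (Q.map ((extCx φ).map θ)) ≪≫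
    Q.mapIso ((HomologicalComplex.singleMapHomologicalComplex (ext φ) (ComplexShape.up ℤ) 0).app
      (E.opcycles 0)) ≪≫
    (Groth.Agent.H35.MPCoh.sIso 0 _).symm ≪≫
    (singleFunctor (ModuleCat.{u} C) 0).mapIso ((ext φ).mapIso eO)⟩

include tower push in
theorem hasTorAmplitudeIn_ext (M : Type u) [AddCommGroup M] [Module R M] [Module B M]
    [IsScalarTower B R M] [Module.Flat B M] (a : ℤ)
    (h : HasTorAmplitudeIn R a 0 (Dual.inD R M)) :
    HasTorAmplitudeIn C a 0
      ((singleFunctor (ModuleCat.{u} C) 0).obj ((ext φ).obj (ModuleCat.of R M))) := by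
  obtain ⟨E, hE, hfl, ⟨e⟩⟩ := h
  obtain ⟨e'⟩ := nonempty_iso_ext φ tower push E a hE hfl M e
  exact ⟨(extCx φ).obj E, vanishesOutside_ext φ E a 0 hE,
    fun i => haveI := hfl i; flat_ext φ (E.X i), ⟨e'⟩⟩

end T1


section Final

set_option backward.isDefEq.respectTransparency false in
theorem point_finiteTorDim {A B : Type u} [CommRing A] [CommRing B] [Algebra A B] [Module.Flat A B]
    [Algebra (B ⊗[A] B) B] (hmul : ∀ x y : B, algebraMap (B ⊗[A] B) B (x ⊗ₜ[A] y) = x * y)
    (h : DRing.HasFiniteTorDim (B ⊗[A] B) B)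
    (K : Type u) [CommRing K] [Algebra A K] (π : K ⊗[A] B →ₐ[K] K) :
    letI : Module (K ⊗[A] B) K := Module.compHom K π.toRingHom
    DRing.HasFiniteTorDim (K ⊗[A] B) K := by
  letI instCK : Module (K ⊗[A] B) K := Module.compHom K π.toRingHom
  obtain ⟨d, hd⟩ := h
  refine ⟨d, ?_⟩
  let χ : B →ₐ[A] K := (π.restrictScalars A).comp Algebra.TensorProduct.includeRight
  have hχ : ∀ b, χ b = π (1 ⊗ₜ b) := fun b => rfl
  letI algBK : Algebra B K := χ.toRingHom.toAlgebra
  have hBK : ∀ b : B, algebraMap B K b = χ b := fun b => rfl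
  haveI : IsScalarTower A B K := IsScalarTower.of_algebraMap_eq (fun a => (χ.commutes a).symm)
  let φ : (B ⊗[A] B) →+* (K ⊗[A] B) :=
    (Algebra.TensorProduct.map χ (AlgHom.id A B)).toRingHom
  have hφ : ∀ x y : B, φ (x ⊗ₜ y) = χ x ⊗ₜ y := fun x y => by
    simp [φ]
  letI algRC : Algebra (B ⊗[A] B) (K ⊗[A] B) := algOf φ
  have hRC : ∀ r : B ⊗[A] B, algebraMap (B ⊗[A] B) (K ⊗[A] B) r = φ r := fun r => rfl
  have tower : IsScalarTower B (B ⊗[A] B) (K ⊗[A] B) :=
    IsScalarTower.of_algebraMap_eq (fun b => by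
      rw [hRC, Algebra.TensorProduct.algebraMap_apply, Algebra.TensorProduct.algebraMap_apply,
        hφ, hBK]
      simp)
  have push : Algebra.IsPushout B K (B ⊗[A] B) (K ⊗[A] B) :=
    Algebra.IsPushout.tensorProduct_tensorProduct A B B K (by
      ext b
      show φ (1 ⊗ₜ b) = 1 ⊗ₜ b
      rw [hφ, map_one])
  haveI towerB : IsScalarTower B (B ⊗[A] B) B := ⟨fun b r x => by
    rw [Algebra.smul_def b r, Algebra.smul_def (_ * r) x, Algebra.smul_def r x, map_mul,
      Algebra.TensorProduct.algebraMap_apply, hmul]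
    simp [mul_assoc]⟩
  have h1 : HasTorAmplitudeIn (B ⊗[A] B) (-(d : ℤ)) 0 (Dual.inD (B ⊗[A] B) B) :=
    (hasTorDimLE_iff B d).1 hd
  have h2 := hasTorAmplitudeIn_ext φ tower push B (-(d : ℤ)) h1
  rw [hasTorDimLE_iff]
  -- the `C`-linear identification `C ⊗_R B ≃ K`
  have key : ∀ r : B ⊗[A] B, χ (algebraMap (B ⊗[A] B) B r) = π (φ r) := by
    intro r
    induction r using TensorProduct.induction_on with
    | zero => simp
    | add x y hx hy => rw [map_add, map_add, map_add, map_add, hx, hy]
    | tmul x y =>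
      rw [hmul, hφ, map_mul, hχ y]
      have : (χ x ⊗ₜ[A] y : K ⊗[A] B) = χ x • (1 ⊗ₜ[A] y) := by
        rw [TensorProduct.smul_tmul', smul_eq_mul, mul_one]
      rw [this, map_smul, smul_eq_mul]
  letI modRK : Module (B ⊗[A] B) K := Module.compHom K (π.toRingHom.comp φ)
  haveI : IsScalarTower (B ⊗[A] B) (K ⊗[A] B) K := ⟨fun r c k => by
    show π (r • c) * k = π (φ r) * (π c * k)
    rw [Algebra.smul_def, hRC, map_mul, mul_assoc]⟩
  let l : B →ₗ[B ⊗[A] B] K :=
    { toFun := fun b => χ b
      map_add' := fun x y => map_add χ x y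
      map_smul' := fun r b => by
        show χ (r • b) = π (φ r) * χ b
        rw [Algebra.smul_def, map_mul, key] }
  let μ₀ : (K ⊗[A] B) ⊗[B ⊗[A] B] B →ₗ[K ⊗[A] B] K := LinearMap.liftBaseChange (K ⊗[A] B) l
  have hμ₀ : ∀ (c : K ⊗[A] B) (b : B), μ₀ (c ⊗ₜ b) = π c * χ b := fun c b =>
    LinearMap.liftBaseChange_tmul (K ⊗[A] B) l c b
  have hμ : Function.Bijective μ₀ := by
    let Θ₀ := Θ φ tower push (ModuleCat.of (B ⊗[A] B) B)
    let ν : (((resB B (B ⊗[A] B)).obj (ModuleCat.of (B ⊗[A] B) B) : ModuleCat.{u} B) ⊗[B] K) ≃ₗ[B] K :=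
      TensorProduct.congr (resM (B := B) (R := B ⊗[A] B) B).toLinearEquiv (LinearEquiv.refl B K) ≪≫ₗ
        TensorProduct.lid B K
    have hcomp : ∀ z, μ₀ (Θ₀ z) = ν z := by
      intro z
      induction z using TensorProduct.induction_on with
      | zero => simp
      | add x y hx hy => rw [map_add, map_add, map_add, hx, hy]
      | tmul m k =>
        have h3 := Θ_tmul φ tower push (ModuleCat.of (B ⊗[A] B) B) m k
        refine (congrArg μ₀ h3).trans ?_
        refine (hμ₀ _ _).trans ?_
        have h4 : π (algebraMap K (K ⊗[A] B) k) = k := π.commutes k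
        rw [h4]
        show k * χ m = χ m * k
        exact mul_comm _ _
    have hfun : (μ₀ : _ → K) = ν ∘ Θ₀.symm := by
      funext w
      rw [Function.comp_apply, ← hcomp, AddEquiv.apply_symm_apply]
    rw [hfun]
    exact ν.bijective.comp Θ₀.symm.bijective
  let μ : ((K ⊗[A] B) ⊗[B ⊗[A] B] B) ≃ₗ[K ⊗[A] B] K := LinearEquiv.ofBijective μ₀ hμ
  exact hasTorAmplitudeIn_of_iso
    ((singleFunctor (ModuleCat.{u} (K ⊗[A] B)) 0).mapIso μ.toModuleIso) h2

end Final

end Groth.Agent.H35.PD_TI
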