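import Mathlib
import Groth.Agent.H35.TorBridge
import Groth.Agent.H82.FinFreeRes

/-!
Perfect modules and finite projective resolutions (helper35): S6955.
-/

set_option autoImplicit false
universe u
open CategoryTheory CategoryTheory.Limits Pretriangulated MonoidalCategory
attribute [local instance] HasDerivedCategory.standard

namespace Groth.Agent.H35.TorAmp

open DRing DerivedCategory

variable {R : Type u} [CommRing R]

/-- A complex of projectives concentrated in degrees `≤ 0` representing `M[0]` gives a projective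
resolution of `M` with the same terms. -/
theorem exists_projectiveResolution_of_model (M : ModuleCat.{u} R) (E : Cx R)
    (hE : VanishesAbove E 0) (hp : ∀ i, Projective (E.X i))
    (e : Q.obj E ≅ (singleFunctor (ModuleCat.{u} R) 0).obj M) :
    ∃ P : ProjectiveResolution M, ∀ n : ℕ, Nonempty (P.complex.X n ≅ E.X (-(n : ℤ))) := by
  let X : ℕ → ModuleCat.{u} R := fun n => E.X (-(n : ℤ))
  let d : ∀ n, X (n + 1) ⟶ X n := fun n => E.d (-((n + 1 : ℕ) : ℤ)) (-(n : ℤ))
  have sq : ∀ n, d (n + 1) ≫ d n = 0 := fun n => E.d_comp_d _ _ _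
  have hex : ∀ i : ℤ, i ≠ 0 → E.ExactAt i := by
    intro i hi
    rw [exactAt_iff_isZero_H]
    refine IsZero.of_iso ?_ ((homologyFunctor (ModuleCat.{u} R) i).mapIso e)
    rcases lt_or_gt_of_ne hi with h | h
    · exact isZero_of_isGE _ 0 i h
    · exact isZero_of_isLE _ 0 i h
  have hn : ∀ n, (ShortComplex.mk (d (n + 1)) (d n) (sq n)).Exact := by
    intro n
    have h := hex (-((n + 1 : ℕ) : ℤ)) (by push_cast; omega)
    rw [HomologicalComplex.exactAt_iff' _ (-((n + 1 + 1 : ℕ) : ℤ)) (-((n + 1 : ℕ) : ℤ))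
      (-(n : ℤ))
      ((ComplexShape.up ℤ).prev_eq'
        (show -((n + 1 + 1 : ℕ) : ℤ) + 1 = -((n + 1 : ℕ) : ℤ) by push_cast; ring))
      ((ComplexShape.up ℤ).next_eq'
        (show -((n + 1 : ℕ) : ℤ) + 1 = -((n : ℕ) : ℤ) by push_cast; ring))] at h
    exact h
  have hd01 : E.d 0 1 = 0 := (hE 1 (by omega)).eq_of_tgt _ _
  have hiso : IsIso (E.homologyι 0) := E.isIso_homologyι 0 1 (by simp) hd01
  let φ : E.homology 0 ≅ M :=
    ((homologyFunctorFactors (ModuleCat.{u} R) 0).app E).symm ≪≫
      (homologyFunctor (ModuleCat.{u} R) 0).mapIso e ≪≫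
      (singleFunctorCompHomologyFunctorIso (ModuleCat.{u} R) 0).app M
  let ψ : E.opcycles 0 ⟶ M := inv (E.homologyι 0) ≫ φ.hom
  have hψ : IsIso ψ := by
    show IsIso (inv (E.homologyι 0) ≫ φ.hom)
    infer_instance
  let ε : X 0 ⟶ M := E.pOpcycles 0 ≫ ψ
  have h1 : E.d (-1) 0 ≫ E.pOpcycles 0 = 0 := E.d_pOpcycles (-1) 0
  have hε : d 0 ≫ ε = 0 := by
    show E.d (-1) 0 ≫ E.pOpcycles 0 ≫ ψ = 0
    rw [reassoc_of% h1, zero_comp]
  have hepi : Epi ε := by
    show Epi (E.pOpcycles 0 ≫ ψ)
    infer_instance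
  let S0 : ShortComplex (ModuleCat.{u} R) := ShortComplex.mk (E.d (-1) 0) (E.pOpcycles 0) h1
  have hS0 : S0.Exact :=
    ShortComplex.exact_of_g_is_cokernel S0 (E.opcyclesIsCokernel (-1) 0 (by simp))
  have h0 : (ShortComplex.mk (d 0) ε hε).Exact := by
    rw [ShortComplex.moduleCat_exact_iff]
    intro x hx
    rw [ShortComplex.moduleCat_exact_iff] at hS0
    apply hS0 x
    have hmono : Mono ψ := inferInstance
    rw [ModuleCat.mono_iff_injective] at hmono
    apply hmono
    rw [map_zero]
    exact hx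
  exact ⟨H82.FinFreeRes.ofExact X d sq ε hε hepi h0 hn (fun n => hp _), fun n => ⟨Iso.refl _⟩⟩

/-- S6955. -/
theorem isPerfectModule_iff_resolution (M : Type u) [AddCommGroup M] [Module R M] :
    IsPerfectModule R M ↔
      ∃ (P : ProjectiveResolution (ModuleCat.of R M)) (d : ℕ),
        (∀ i : ℕ, d < i → IsZero (P.complex.X i)) ∧
          ∀ i : ℕ, Module.Finite R (P.complex.X i) := by
  constructor
  · intro h
    obtain ⟨hpc, a, b, hamp⟩ := (isPerfect_iff _).1 h
    let d : ℕ := (-a).toNat
    have hamp' : HasTorAmplitudeIn R (-(d : ℤ)) 0 (Dual.inD R M) := by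
      let P₀ := projectiveResolution (ModuleCat.of R M)
      have hC := vanishesAbove_cochainComplex P₀
      have hfl := flat_cochainComplex P₀
      obtain ⟨-, P', c, hP', fl', ⟨e'⟩, hT⟩ := hasTorAmplitudeIn_iff.1 hamp
      have hT₀ : TorVanish a b P₀.cochainComplex :=
        torVanish_of_iso c 0 hP' hC fl' hfl (e' ≪≫ (cochainComplexIso P₀).symm) hT
      rw [hasTorAmplitudeIn_iff]
      refine ⟨?_, P₀.cochainComplex, 0, hC, hfl, ⟨cochainComplexIso P₀⟩, ?_⟩
      · intro i hi
        rcases hi with hi | hi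
        · exact isZero_of_isGE _ 0 i (by omega)
        · exact isZero_of_isLE _ 0 i hi
      · intro N i hi
        rcases hi with hi | hi
        · exact hT₀ N i (Or.inl (by omega))
        · exact ShortComplex.exact_of_isZero_X₂ _ ((tensorRight N).map_isZero (hC i hi))
    have hpc' : IsPseudoCoherent R (-(d : ℤ) - 1) (Dual.inD R M) :=
      (H56.isPseudoCoherent'_iff_forall.1 hpc) _
    obtain ⟨E, hv, hfp, ⟨e⟩⟩ := exists_perfect_model _ (-(d : ℤ)) 0 hpc' hamp'
    obtain ⟨P, hP⟩ := exists_projectiveResolution_of_model (ModuleCat.of R M) E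
      (fun i hi => hv i (Or.inr hi))
      (fun i => by
        have := (hfp i).2
        exact (IsProjective.iff_projective _).1 this)
      e
    refine ⟨P, d, fun i hi => ?_, fun i => ?_⟩
    · obtain ⟨f⟩ := hP i
      exact IsZero.of_iso (hv _ (Or.inl (by omega))) f
    · obtain ⟨f⟩ := hP i
      have := (hfp (-(i : ℤ))).1
      exact Module.Finite.equiv f.toLinearEquiv.symm
  · rintro ⟨P, d, hz, hfin⟩
    refine ⟨P.cochainComplex, -(d : ℤ), 0, ?_, ?_, ⟨cochainComplexIso P⟩⟩
    · intro i hi
      rcases hi with hi | hi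
      · obtain ⟨n, rfl⟩ : ∃ n : ℕ, i = -(n : ℤ) := ⟨(-i).toNat, by omega⟩
        exact IsZero.of_iso (hz n (by omega)) (P.cochainComplexXIso _ n rfl)
      · exact vanishesAbove_cochainComplex P i hi
    · intro i
      by_cases hi : i ≤ 0
      · obtain ⟨n, rfl⟩ : ∃ n : ℕ, i = -(n : ℤ) := ⟨(-i).toNat, by omega⟩
        have e := P.cochainComplexXIso (-(n : ℤ)) n rfl
        have := hfin n
        have hproj : Module.Projective R (P.complex.X n) :=
          (IsProjective.iff_projective _).2 (P.projective n)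
        exact ⟨Module.Finite.equiv e.toLinearEquiv.symm,
          Module.Projective.of_equiv e.toLinearEquiv.symm⟩
      · have hz := vanishesAbove_cochainComplex P i (by omega)
        have : Subsingleton (P.cochainComplex.X i) := ModuleCat.subsingleton_of_isZero hz
        exact ⟨inferInstance, inferInstance⟩

end Groth.Agent.H35.TorAmp
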