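import Mathlib
import Groth.Agent.H35.PerfRes
import Groth.Agent.H82.TorBC2
import Groth.Agent.H82.TorSymm
import Groth.Agent.H56.RestrictPC

/-!
Restriction of scalars along `A → B` when `B` has finite tor dimension / is perfect over `A`
(helper35): S6947, S6956.
-/

set_option autoImplicit false
universe u
open CategoryTheory CategoryTheory.Limits Pretriangulated MonoidalCategory
attribute [local instance] HasDerivedCategory.standard

namespace Groth.Agent.H35.TorAmp

open DRing DerivedCategory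

/-- a module whose `M[0]` has tor amplitude in `[a, b]` has tor amplitude in `[-max(-a,0), 0]`. -/
lemma hasTorAmplitudeIn_inD_improve {R : Type u} [CommRing R] (M : Type u) [AddCommGroup M]
    [Module R M] {a b : ℤ} (hamp : HasTorAmplitudeIn R a b (Dual.inD R M)) :
    HasTorAmplitudeIn R (-(((-a).toNat : ℕ) : ℤ)) 0 (Dual.inD R M) := by
  let P₀ := projectiveResolution (ModuleCat.of R M)
  have hC := vanishesAbove_cochainComplex P₀
  have hfl := flat_cochainComplex P₀
  obtain ⟨-, P', c, hP', fl', ⟨e'⟩, hT⟩ := hasTorAmplitudeIn_iff.1 hamp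
  have hT₀ : TorVanish a b P₀.cochainComplex :=
    torVanish_of_iso c 0 hP' hC fl' hfl (e' ≪≫ (cochainComplexIso P₀).symm) hT
  rw [hasTorAmplitudeIn_iff]
  refine ⟨?_, P₀.cochainComplex, 0, hC, hfl, ⟨cochainComplexIso P₀⟩, ?_⟩
  · intro i hi
    rcases hi with hi | hi
    · exact isZero_of_isGE _ 0 i (by omega)
    · exact isZero_of_isLE _ 0 i hi
  · intro N i hi
    rcases hi with hi | hi
    · exact hT₀ N i (Or.inl (by omega))
    · exact ShortComplex.exact_of_isZero_X₂ _ ((tensorRight N).map_isZero (hC i hi))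

section

variable (A B : Type u) [CommRing A] [CommRing B] [Algebra A B]

open Groth.Agent.H82.TorLib Groth.Agent.H82.TorBC2 Groth.Agent.H82.LDer in
set_option backward.isDefEq.respectTransparency false in
/-- If `Tor_p^A(P, B) = 0` for `p > d` then `Tor_p^A(P, F) = 0` for `p > d` and every flat
`B`-module `F` (generalising `H82.TorBC2.isZero_tor_Rs_of_flat`). -/
theorem isZero_tor_Rs_of_flat_of_lt (P : ModuleCat.{u} A) (d : ℕ)
    (hP : ∀ p : ℕ, d < p → IsZero (((Tor (ModuleCat.{u} A) p).obj P).obj (ModuleCat.of A B)))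
    (p : ℕ) (hp : d < p) (Q' : ModuleCat.{u} B) [Module.Flat B Q'] :
    IsZero (((Tor (ModuleCat.{u} A) p).obj P).obj ((Rs A B).obj Q')) := by
  obtain ⟨n, rfl⟩ : ∃ n, p = n + 1 := ⟨p - 1, by omega⟩
  let F := projectiveResolution P
  obtain ⟨e⟩ := nonempty_tor_iso_U F (n+1) ((Rs A B).obj Q')
  refine IsZero.of_iso ?_ e
  obtain ⟨e'⟩ := nonempty_tor_iso_U F (n+1) (ModuleCat.of A B)
  have h0 : IsZero ((U F (n+1)).obj (ModuleCat.of A B)) := (hP (n + 1) hp).of_iso e'.symm
  have h0' : ((((tensorRight (ModuleCat.of A B)).mapHomologicalComplex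
      (ComplexShape.down ℕ)).obj F.complex).sc' (n+2) (n+1) n).Exact := by
    rw [← HomologicalComplex.exactAt_iff' _ (n+2) (n+1) n (by simp) (by simp),
      HomologicalComplex.exactAt_iff_isZero_homology]
    exact h0
  show IsZero ((((tensorRight ((Rs A B).obj Q')).mapHomologicalComplex
    (ComplexShape.down ℕ)).obj F.complex).homology (n+1))
  rw [← HomologicalComplex.exactAt_iff_isZero_homology,
    HomologicalComplex.exactAt_iff' _ (n+2) (n+1) n (by simp) (by simp)]
  rw [ShortComplex.ShortExact.moduleCat_exact_iff_function_exact] at h0' ⊢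
  haveI : Module.Flat B ((Rs A B).obj Q') := ‹Module.Flat B Q'›
  exact exact_rTensor_of_flat (F.complex.d (n+2) (n+1)).hom (F.complex.d (n+1) n).hom h0'
    ((Rs A B).obj Q')

/-- A flat `B`-module has tor dimension `≤ d` over `A` when `B` does. -/
theorem hasTorDimLE_restrictScalars_of_flat (d : ℕ) (hB : HasTorDimLE A d B)
    (F : ModuleCat.{u} B) [Module.Flat B F] :
    HasTorDimLE A d ((ModuleCat.restrictScalars.{u} (algebraMap A B)).obj F) := by
  intro N _ _ p hp
  obtain ⟨φ⟩ := H82.TorSymm.nonempty_tor_iso_flip (A := A) p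
  have hz : IsZero (((Tor (ModuleCat.{u} A) p).obj (ModuleCat.of A N)).obj
      ((ModuleCat.restrictScalars.{u} (algebraMap A B)).obj F)) := by
    refine isZero_tor_Rs_of_flat_of_lt A B (ModuleCat.of A N) d (fun q hq => ?_) p hp F
    obtain ⟨ψ⟩ := H82.TorSymm.nonempty_tor_iso_flip (A := A) q
    have hs : Subsingleton (((Tor (ModuleCat.{u} A) q).obj (ModuleCat.of A B)).obj
        (ModuleCat.of A N)) := hB N q hq
    have hz' : IsZero (((Tor (ModuleCat.{u} A) q).obj (ModuleCat.of A B)).obj
        (ModuleCat.of A N)) := ModuleCat.isZero_of_subsingleton _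
    exact IsZero.of_iso hz' ((ψ.app (ModuleCat.of A N)).app (ModuleCat.of A B))
  have e1 := (φ.app (ModuleCat.of A
    ((ModuleCat.restrictScalars.{u} (algebraMap A B)).obj F))).app (ModuleCat.of A N)
  exact ModuleCat.subsingleton_of_isZero (IsZero.of_iso hz e1)

/-- S6947. -/
theorem hasTorAmplitudeIn_restrictD (d : ℕ)
    (hB : HasTorAmplitudeIn A (-(d : ℤ)) 0 (Dual.inD A B)) (K : Dual.D B)
    (a b : ℤ) (hK : HasTorAmplitudeIn B a b K) :
    HasTorAmplitudeIn A (a - d) b ((restrictD (algebraMap A B)).obj K) := by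
  obtain ⟨E, hv, hfl, ⟨e⟩⟩ := hK
  have hB' : HasTorDimLE A d B := (hasTorDimLE_iff B d).2 hB
  refine hasTorAmplitudeIn_of_iso ((restrictD (algebraMap A B)).mapIso e) ?_
  refine hasTorAmplitudeIn_of_iso
    ((ModuleCat.restrictScalars.{u} (algebraMap A B)).mapDerivedCategoryFactors.app E).symm ?_
  show HasTorAmplitudeIn A (a - d) b (toD (((ModuleCat.restrictScalars.{u}
    (algebraMap A B)).mapHomologicalComplex (ComplexShape.up ℤ)).obj E))
  refine hasTorAmplitudeIn_of_bounded_termwise (a - d) b _ a b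
    (fun i hi => (ModuleCat.restrictScalars.{u} (algebraMap A B)).map_isZero (hv i hi))
    (fun i => ?_)
  by_cases hi : i < a ∨ b < i
  · exact hasTorAmplitudeIn_of_isZero ((singleFunctor (ModuleCat.{u} A) 0).map_isZero
      ((ModuleCat.restrictScalars.{u} (algebraMap A B)).map_isZero (hv i hi)))
  · have := hfl i
    have h1 := hasTorDimLE_restrictScalars_of_flat A B d hB' (E.X i)
    exact hasTorAmplitudeIn_mono (by omega) (by omega) ((hasTorDimLE_iff _ d).1 h1)

/-- S6956. -/
theorem isPerfect_restrictD (hB : IsPerfectModule A B) (K : Dual.D B) (hK : IsPerfect B K) :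
    IsPerfect A ((restrictD (algebraMap A B)).obj K) := by
  obtain ⟨hpcB, a₀, b₀, hampB⟩ := (isPerfect_iff _).1 hB
  obtain ⟨hpcK, a, b, hampK⟩ := (isPerfect_iff _).1 hK
  have hampB' := hasTorAmplitudeIn_inD_improve B hampB
  rw [isPerfect_iff]
  exact ⟨H56.isPseudoCoherent'_iff_forall.2 (fun m =>
      H56.isPseudoCoherent_restrictD hpcB K m (H56.isPseudoCoherent'_iff_forall.1 hpcK m)),
    a - ((-a₀).toNat : ℕ), b, hasTorAmplitudeIn_restrictD A B _ hampB' K a b hampK⟩

end

end Groth.Agent.H35.TorAmp
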