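import Groth.Agent.H35.DTenExact

/-!
# Shifts of the unit are invertible for `DTen.LTen₂`, and tensoring with them is an equivalence
(helper35)

* `associator_naturality` : naturality of `DTen.associator` in all three variables.
* `isKFlat_unit_shift`, `unitShiftIso m n h : A[m] ⊗^L A[n] ≅ A` for `m + n = 0`.
* `assocNatIso`, `cancelIso`, `isEquivalence_of_inverse`, `isEquivalence_LTen_unit_shift`.
-/

set_option autoImplicit false
set_option linter.unusedSectionVars false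
universe u
open CategoryTheory CategoryTheory.Limits MonoidalCategory Pretriangulated
attribute [local instance] HasDerivedCategory.standard

namespace Groth.Agent.H35.DTenUnit
open DTen Groth.Agent.H35.DTenExact

variable {A : Type u} [CommRing A]

/-! ### complex level -/

lemma isKFlat_unit_shift (n : ℤ) : DRing.IsKFlat A ((𝟙_ (DRing.Cx A))⟦n⟧) := by
  rw [Groth.Agent.H31.KFlatRing.isKFlat_iff]
  intro L hL
  let e1 := (((curriedTensor (ModuleCat.{u} A)).map₂CochainComplex.obj L).commShiftIso n).app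
    (𝟙_ (DRing.Cx A))
  let e2 : (L ⊗ 𝟙_ (DRing.Cx A))⟦n⟧ ≅ L⟦n⟧ :=
    (shiftFunctor (DRing.Cx A) n).mapIso (ρ_ L)
  exact (Groth.Agent.H31.KFlat.acyclic_iff_of_iso (e1 ≪≫ e2)).2
    ((Groth.Agent.H31.KFlat.acyclic_shift_iff L n).2 hL)

/-- `A[m] ⊗ A[n] ≅ A` as complexes, for `m + n = 0`. -/
noncomputable def cxIso (m n : ℤ) (h : m + n = 0) :
    ((𝟙_ (DRing.Cx A))⟦m⟧ ⊗ (𝟙_ (DRing.Cx A))⟦n⟧ : DRing.Cx A) ≅ 𝟙_ (DRing.Cx A) :=
  ((((curriedTensor (ModuleCat.{u} A)).map₂CochainComplex.obj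
      ((𝟙_ (DRing.Cx A))⟦m⟧)).commShiftIso n).app (𝟙_ (DRing.Cx A)) :) ≪≫
    (shiftFunctor (DRing.Cx A) n).mapIso (ρ_ ((𝟙_ (DRing.Cx A))⟦m⟧)) ≪≫
    (shiftFunctorCompIsoId (DRing.Cx A) m n h).app (𝟙_ (DRing.Cx A))

variable [DTen.HasLTen A]

/-- `A[m] ⊗^L A[n] ≅ A` in `D(A)`, for `m + n = 0`. -/
noncomputable def unitShiftIso (m n : ℤ) (h : m + n = 0) :
    (LTen₂ A).obj ((unit A)⟦m⟧, (unit A)⟦n⟧) ≅ unit A :=
  haveI := Groth.Agent.H53.DTenComp.isIso_ε_right A ((𝟙_ (DRing.Cx A))⟦m⟧)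
    ((𝟙_ (DRing.Cx A))⟦n⟧) (isKFlat_unit_shift n)
  (LTen₂ A).mapIso (Iso.prod ((DerivedCategory.Q.commShiftIso m).app (𝟙_ (DRing.Cx A))).symm
      ((DerivedCategory.Q.commShiftIso n).app (𝟙_ (DRing.Cx A))).symm) ≪≫
    asIso ((ε A).app ((𝟙_ (DRing.Cx A))⟦m⟧, (𝟙_ (DRing.Cx A))⟦n⟧)) ≪≫
    DerivedCategory.Q.mapIso (cxIso m n h)

/-! ### naturality of the associator -/

section
variable [DTen.HasLTen₃ A] [DTen.IsSymMonoidal A]

lemma associator_naturality {a a' b b' c c' : Dual.D A} (f : a ⟶ a') (g : b ⟶ b') (h : c ⟶ c') :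
    (LTen₂ A).map (Prod.mkHom ((LTen₂ A).map (Prod.mkHom f g)) h) ≫ (associator a' b' c').hom =
      (associator a b c).hom ≫
        (LTen₂ A).map (Prod.mkHom f ((LTen₂ A).map (Prod.mkHom g h))) := by
  rw [← cancel_mono ((assocR A).app (a', (b', c')))]
  rw [Category.assoc, Category.assoc, associator_hom_assocR]
  have h1 := (assocL A).naturality (X := (a, (b, c))) (Y := (a', (b', c')))
    (Prod.mkHom f (Prod.mkHom g h))
  have h2 := (assocR A).naturality (X := (a, (b, c))) (Y := (a', (b', c')))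
    (Prod.mkHom f (Prod.mkHom g h))
  have h3 : (LTenR A).map (X := (a, (b, c))) (Y := (a', (b', c')))
      (Prod.mkHom f (Prod.mkHom g h)) =
      (LTen₂ A).map (Prod.mkHom f ((LTen₂ A).map (Prod.mkHom g h))) := rfl
  have h4 : (LTenL A).map (X := (a, (b, c))) (Y := (a', (b', c')))
      (Prod.mkHom f (Prod.mkHom g h)) =
      (LTen₂ A).map (Prod.mkHom ((LTen₂ A).map (Prod.mkHom f g)) h) := rfl
  rw [← h3, h2, associator_hom_assocR_assoc, ← h4]
  exact h1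

/-- `V ⊗^L (U ⊗^L -) ≅ (V ⊗^L U) ⊗^L -`. -/
noncomputable def assocNatIso (V U : Dual.D A) :
    (LTen A).obj U ⋙ (LTen A).obj V ≅ (LTen A).obj ((LTen₂ A).obj (V, U)) :=
  NatIso.ofComponents (fun Y => (associator V U Y).symm) (by
    intro Y Y' g
    have h1 := associator_naturality (𝟙 V) (𝟙 U) g
    have h0 : (LTen₂ A).map (Prod.mkHom (𝟙 V) (𝟙 U)) = 𝟙 _ := (LTen₂ A).map_id (V, U)
    rw [h0] at h1
    show (LTen₂ A).map (Prod.mkHom (𝟙 V) ((LTen₂ A).map (Prod.mkHom (𝟙 U) g))) ≫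
        (associator V U Y').inv =
      (associator V U Y).inv ≫ (LTen₂ A).map (Prod.mkHom (𝟙 _) g)
    rw [Iso.comp_inv_eq, Category.assoc, h1, Iso.inv_hom_id_assoc])

/-- `V ⊗^L (U ⊗^L -) ≅ 𝟭` when `V ⊗^L U ≅ A`. -/
noncomputable def cancelIso {U V : Dual.D A} (c : (LTen₂ A).obj (V, U) ≅ unit A) :
    (LTen A).obj U ⋙ (LTen A).obj V ≅ 𝟭 (Dual.D A) :=
  assocNatIso V U ≪≫ (LTen A).mapIso c ≪≫ asIso (unitL A)

theorem isEquivalence_of_inverse {U V : Dual.D A} (c : (LTen₂ A).obj (V, U) ≅ unit A)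
    (c' : (LTen₂ A).obj (U, V) ≅ unit A) : ((LTen A).obj U).IsEquivalence :=
  (CategoryTheory.Equivalence.mk ((LTen A).obj U) ((LTen A).obj V) (cancelIso c).symm
    (cancelIso c')).isEquivalence_functor

theorem isEquivalence_LTen_unit_shift (n : ℤ) :
    ((LTen A).obj ((unit A)⟦n⟧)).IsEquivalence :=
  isEquivalence_of_inverse (V := (unit A)⟦-n⟧) (unitShiftIso (-n) n (by omega))
    (unitShiftIso n (-n) (by omega))

end

end Groth.Agent.H35.DTenUnit
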