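import Mathlib

/-!
# A five-lemma chase for natural transformations between "weakly exact" functors (helper35)

`DT p q` : the composable pair `p, q` extends to a distinguished triangle.
`WeakExact F` : `F` sends such pairs to pairs that are exact in the middle after `Hom(S, -)`.
`isIso_app_obj₃` : for `η : F ⟶ G` between weakly exact functors and a distinguished triangle `T`,
if `η` is an isomorphism at `T.obj₁`, `T.obj₂` and their shifts by `1`, it is one at `T.obj₃`.
No compatibility of `F`, `G`, `η` with shifts is needed.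
`PP η K` : `η` is an isomorphism at all shifts of `K`; closure properties (`iso`, `shift`, `tri₃`,
`ext`, `zero`, `retract`).
-/

set_option autoImplicit false
set_option linter.unusedSectionVars false
universe v v' v'' u u' u''
open CategoryTheory CategoryTheory.Limits Pretriangulated

namespace Groth.Agent.H35.TriChase

variable {C : Type u} [Category.{v} C] [Preadditive C] [HasZeroObject C] [HasShift C ℤ]
  [∀ n : ℤ, (shiftFunctor C n).Additive] [Pretriangulated C]
variable {D : Type u'} [Category.{v'} D] [Preadditive D]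

/-- The composable pair `p, q` extends to a distinguished triangle. -/
def DT {a b c : C} (p : a ⟶ b) (q : b ⟶ c) : Prop :=
  ∃ r : c ⟶ a⟦(1 : ℤ)⟧, Triangle.mk p q r ∈ distTriang C

lemma DT.of_dist (T : Triangle C) (hT : T ∈ distTriang C) : DT T.mor₁ T.mor₂ := ⟨T.mor₃, hT⟩

lemma DT.rot (T : Triangle C) (hT : T ∈ distTriang C) : DT T.mor₂ T.mor₃ :=
  DT.of_dist T.rotate (rot_of_distTriang T hT)

/-- The automorphism `-𝟙`. -/
def negIso (X : C) : X ≅ X := ⟨-𝟙 X, -𝟙 X, by simp, by simp⟩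

lemma DT.rot₂ (T : Triangle C) (hT : T ∈ distTriang C) : DT T.mor₃ (T.mor₁⟦(1 : ℤ)⟧') := by
  have h2 := rot_of_distTriang _ (rot_of_distTriang T hT)
  refine ⟨T.mor₂⟦(1 : ℤ)⟧', isomorphic_distinguished _ h2 _ ?_⟩
  refine Triangle.isoMk _ _ (Iso.refl _) (Iso.refl _) (negIso (T.obj₂⟦(1 : ℤ)⟧)) ?_ ?_ ?_
  · exact (Category.comp_id _).trans (Category.id_comp _).symm
  · dsimp [negIso]
    exact (show (shiftFunctor C (1 : ℤ)).map T.mor₁ ≫ (-𝟙 ((shiftFunctor C (1 : ℤ)).obj T.obj₂)) =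
      -((shiftFunctor C (1 : ℤ)).map T.mor₁) by
        rw [Preadditive.comp_neg, Category.comp_id]).trans (Category.id_comp _).symm
  · dsimp [negIso]
    refine ((congrArg (fun z => (shiftFunctor C (1 : ℤ)).map T.mor₂ ≫ z)
      ((shiftFunctor C (1 : ℤ)).map_id _)).trans (Category.comp_id _)).trans ?_
    show _ = (-𝟙 ((shiftFunctor C (1 : ℤ)).obj T.obj₂)) ≫ (-((shiftFunctor C (1 : ℤ)).map T.mor₂))
    rw [Preadditive.neg_comp, Preadditive.comp_neg, neg_neg, Category.id_comp]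

/-- `F` sends pairs extending to distinguished triangles to pairs which are exact in the middle
after applying `Hom(S, -)`. -/
structure WeakExact (F : C ⥤ D) : Prop where
  zero : ∀ {a b c : C} (p : a ⟶ b) (q : b ⟶ c), DT p q → F.map p ≫ F.map q = 0
  exact : ∀ {a b c : C} (p : a ⟶ b) (q : b ⟶ c), DT p q → ∀ {S : D} (u : S ⟶ F.obj b),
    u ≫ F.map q = 0 → ∃ v : S ⟶ F.obj a, v ≫ F.map p = u

lemma WeakExact.of_DT (F : C ⥤ C)
    (h : ∀ {a b c : C} (p : a ⟶ b) (q : b ⟶ c), DT p q → DT (F.map p) (F.map q)) :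
    WeakExact F where
  zero p q hpq := by
    obtain ⟨r, hr⟩ := h p q hpq
    exact comp_distTriang_mor_zero₁₂ _ hr
  exact p q hpq S u hu := by
    obtain ⟨r, hr⟩ := h p q hpq
    obtain ⟨v, hv⟩ := Triangle.coyoneda_exact₂ _ hr u hu
    exact ⟨v, hv.symm⟩

lemma WeakExact.comp_rightAdjoint {E : Type u''} [Category.{v''} E] [Preadditive E]
    {F : C ⥤ D} (hF : WeakExact F) {L : E ⥤ D} {R : D ⥤ E} (adj : L ⊣ R)
    [L.PreservesZeroMorphisms] [R.PreservesZeroMorphisms] : WeakExact (F ⋙ R) where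
  zero p q hpq := by
    dsimp
    rw [← R.map_comp, hF.zero p q hpq, R.map_zero]
  exact {a b c} p q hpq S u hu := by
    dsimp at u hu ⊢
    have h0 : (adj.homEquiv S (F.obj b)).symm u ≫ F.map q = 0 := by
      rw [← Adjunction.homEquiv_naturality_right_symm, hu, Adjunction.homEquiv_counit,
        L.map_zero, zero_comp]
    obtain ⟨v, hv⟩ := hF.exact p q hpq _ h0
    refine ⟨adj.homEquiv _ _ v, ?_⟩
    rw [← Adjunction.homEquiv_naturality_right, hv, Equiv.apply_symm_apply]

/-- The five-lemma chase. -/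
theorem isIso_app_obj₃ {F G : C ⥤ D} (η : F ⟶ G) (hF : WeakExact F) (hG : WeakExact G)
    (T : Triangle C) (hT : T ∈ distTriang C)
    (h1 : IsIso (η.app T.obj₁)) (h2 : IsIso (η.app T.obj₂))
    (h1' : IsIso (η.app (T.obj₁⟦(1 : ℤ)⟧))) (h2' : IsIso (η.app (T.obj₂⟦(1 : ℤ)⟧))) :
    IsIso (η.app T.obj₃) := by
  apply isIso_of_yoneda_map_bijective
  intro S
  have d12 := DT.of_dist T hT
  have d23 := DT.rot T hT
  have d31 := DT.rot₂ T hT
  constructor
  · intro u u' huu'
    dsimp only at huu'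
    have key : ∀ w : S ⟶ F.obj T.obj₃, w ≫ η.app T.obj₃ = 0 → w = 0 := by
      intro w hw
      have e1 : (w ≫ F.map T.mor₃) ≫ η.app (T.obj₁⟦(1 : ℤ)⟧) = 0 := by
        rw [Category.assoc, η.naturality, ← Category.assoc, hw, zero_comp]
      have e2 : w ≫ F.map T.mor₃ = 0 := by
        rw [← cancel_mono (η.app (T.obj₁⟦(1 : ℤ)⟧)), e1, zero_comp]
      obtain ⟨v, hv⟩ := hF.exact _ _ d23 w e2
      have e3 : (v ≫ η.app T.obj₂) ≫ G.map T.mor₂ = 0 := by
        rw [Category.assoc, ← η.naturality, ← Category.assoc, hv, hw]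
      obtain ⟨x, hx⟩ := hG.exact _ _ d12 _ e3
      have e4 : v = (x ≫ inv (η.app T.obj₁)) ≫ F.map T.mor₁ := by
        rw [← cancel_mono (η.app T.obj₂), Category.assoc, Category.assoc, η.naturality,
          IsIso.inv_hom_id_assoc, hx]
      rw [← hv, e4, Category.assoc, hF.zero _ _ d12, comp_zero]
    have := key (u - u') (by rw [Preadditive.sub_comp, huu', sub_self])
    exact sub_eq_zero.1 this
  · intro t
    dsimp only
    let a : S ⟶ F.obj (T.obj₁⟦(1 : ℤ)⟧) := t ≫ G.map T.mor₃ ≫ inv (η.app (T.obj₁⟦(1 : ℤ)⟧))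
    have ha : a ≫ η.app (T.obj₁⟦(1 : ℤ)⟧) = t ≫ G.map T.mor₃ := by
      simp only [a, Category.assoc, IsIso.inv_hom_id, Category.comp_id]
    have e1 : a ≫ F.map (T.mor₁⟦(1 : ℤ)⟧') = 0 := by
      rw [← cancel_mono (η.app (T.obj₂⟦(1 : ℤ)⟧)), zero_comp, Category.assoc, η.naturality,
        ← Category.assoc, ha, Category.assoc, hG.zero _ _ d31, comp_zero]
    obtain ⟨b, hb⟩ := hF.exact _ _ d31 a e1
    have e2 : (b ≫ η.app T.obj₃ - t) ≫ G.map T.mor₃ = 0 := by
      rw [Preadditive.sub_comp, Category.assoc, ← η.naturality, ← Category.assoc, hb, ha, sub_self]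
    obtain ⟨c, hc⟩ := hG.exact _ _ d23 _ e2
    refine ⟨b - (c ≫ inv (η.app T.obj₂)) ≫ F.map T.mor₂, ?_⟩
    rw [Preadditive.sub_comp, Category.assoc, Category.assoc, η.naturality,
      IsIso.inv_hom_id_assoc, hc, sub_sub_cancel]

/-! ### The class of objects at all of whose shifts `η` is an isomorphism -/

section PP

variable {F G : C ⥤ D} (η : F ⟶ G)

/-- `η` is an isomorphism at every shift of `K`. -/
def PP (K : C) : Prop := ∀ n : ℤ, IsIso (η.app (K⟦n⟧))

variable {η}

lemma PP.iso {K K' : C} (e : K ≅ K') (h : PP η K) : PP η K' := fun n =>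
  (NatTrans.isIso_app_iff_of_iso η ((shiftFunctor C n).mapIso e)).1 (h n)

lemma PP.shift {K : C} (h : PP η K) (m : ℤ) : PP η (K⟦m⟧) := fun n =>
  (NatTrans.isIso_app_iff_of_iso η ((shiftFunctorAdd C m n).app K)).1 (h (m + n))

lemma PP.self {K : C} (h : PP η K) : IsIso (η.app K) :=
  (NatTrans.isIso_app_iff_of_iso η ((shiftFunctorZero C ℤ).app K)).1 (h 0)

lemma PP.tri₃ (hF : WeakExact F) (hG : WeakExact G) (T : Triangle C) (hT : T ∈ distTriang C)
    (h1 : PP η T.obj₁) (h2 : PP η T.obj₂) : PP η T.obj₃ := fun n => by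
  have hTn := Triangle.shift_distinguished T hT n
  exact isIso_app_obj₃ η hF hG _ hTn (h1 n) (h2 n) ((h1.shift n) 1) ((h2.shift n) 1)

lemma PP.ext (hF : WeakExact F) (hG : WeakExact G) (T : Triangle C) (hT : T ∈ distTriang C)
    (h1 : PP η T.obj₁) (h3 : PP η T.obj₃) : PP η T.obj₂ :=
  PP.tri₃ hF hG T.invRotate (inv_rot_of_distTriang T hT) (h3.shift (-1)) h1

lemma PP.zero [F.PreservesZeroMorphisms] [G.PreservesZeroMorphisms] {K : C} (hK : IsZero K) :
    PP η K := fun n => by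
  have hz : IsZero (K⟦n⟧) := (shiftFunctor C n).map_isZero hK
  have h1 := F.map_isZero hz
  have h2 := G.map_isZero hz
  exact ⟨⟨0, h1.eq_of_src _ _, h2.eq_of_src _ _⟩⟩

lemma PP.retract {K K' : C} (i : K ⟶ K') (r : K' ⟶ K) (hir : i ≫ r = 𝟙 K) (h : PP η K') :
    PP η K := fun n => by
  have := h n
  have hir' : i⟦n⟧' ≫ r⟦n⟧' = 𝟙 _ := by rw [← Functor.map_comp, hir, CategoryTheory.Functor.map_id]
  refine ⟨⟨G.map (i⟦n⟧') ≫ inv (η.app (K'⟦n⟧)) ≫ F.map (r⟦n⟧'), ?_, ?_⟩⟩
  · rw [← Category.assoc, ← η.naturality, Category.assoc, IsIso.hom_inv_id_assoc, ← F.map_comp,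
      hir', F.map_id]
  · rw [Category.assoc, Category.assoc, η.naturality, IsIso.inv_hom_id_assoc, ← G.map_comp,
      hir', G.map_id]

lemma PP.biprod (hF : WeakExact F) (hG : WeakExact G) {K K' : C} (h : PP η K) (h' : PP η K') :
    PP η (K ⊞ K') :=
  PP.ext hF hG (binaryBiproductTriangle K K') (binaryBiproductTriangle_distinguished K K') h h'

end PP

end Groth.Agent.H35.TriChase
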