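import Groth.Agent.S13577
import Groth.Agent.H35.TriChase
import Groth.Prelude.Def_DTen3

/-!
# Weak exactness of the derived tensor product `DTen.LTen₂` in its first variable (helper35)

* `exists_ses_model` : a composable pair in `D(A)` extending to a distinguished triangle is
  isomorphic to `Q(S.f), Q(S.g)` for a degreewise split short exact sequence `S` of complexes.
* `DT_tensorRightD` : `- ⊗^L X` sends pairs extending to distinguished triangles to such pairs.
* `weakExact_tensorRightD`, `weakExact_tensorRightD_comp_RHomR`.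
No `CommShift` structure is constructed.
-/

set_option autoImplicit false
set_option linter.unusedSectionVars false
universe u
open CategoryTheory CategoryTheory.Limits MonoidalCategory Pretriangulated
attribute [local instance] HasDerivedCategory.standard

namespace Groth.Agent.H35.DTenExact
open DTen Groth.Agent.H35.TriChase

variable {A : Type u} [CommRing A]

lemma comm_aux₂ {C : Type*} [Category C] {X Y Z W : C} (t : X ⟶ Y) (d : Y ⟶ Z) (i : Z ≅ W) :
    (t ≫ d ≫ i.hom) ≫ i.inv = t ≫ d := by simp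

/-- Every composable pair extending to a distinguished triangle of `D(A)` comes from a degreewise
split short exact sequence of complexes. -/
lemma exists_ses_model {a b c : Dual.D A} (p : a ⟶ b) (q : b ⟶ c) (h : DT p q) :
    ∃ (S : ShortComplex (DRing.Cx A))
      (_ : ∀ n : ℤ, (S.map (HomologicalComplex.eval (ModuleCat.{u} A)
        (ComplexShape.up ℤ) n)).Splitting)
      (e₁ : a ≅ DerivedCategory.Q.obj S.X₁) (e₂ : b ≅ DerivedCategory.Q.obj S.X₂)
      (e₃ : c ≅ DerivedCategory.Q.obj S.X₃),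
      p ≫ e₂.hom = e₁.hom ≫ DerivedCategory.Q.map S.f ∧
      q ≫ e₃.hom = e₂.hom ≫ DerivedCategory.Q.map S.g := by
  obtain ⟨r, hT⟩ := h
  have hT' := inv_rot_of_distTriang _ hT
  obtain ⟨X, Y, f, ⟨e⟩⟩ := (DerivedCategory.mem_distTriang_iff _).1 hT'
  let e₁ : a ≅ DerivedCategory.Q.obj Y := Triangle.π₂.mapIso e
  let e₂ : b ≅ DerivedCategory.Q.obj (CochainComplex.mappingCone f) := Triangle.π₃.mapIso e
  let e₁' : c⟦(-1 : ℤ)⟧ ≅ DerivedCategory.Q.obj X := Triangle.π₁.mapIso e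
  let e₃ : c ≅ DerivedCategory.Q.obj (X⟦(1 : ℤ)⟧) :=
    ((shiftEquiv (Dual.D A) (1 : ℤ)).counitIso.app c).symm ≪≫
      (shiftFunctor (Dual.D A) (1 : ℤ)).mapIso e₁' ≪≫
      ((DerivedCategory.Q.commShiftIso (1 : ℤ)).app X).symm
  refine ⟨CochainComplex.mappingCone.triangleRotateShortComplex f,
    CochainComplex.mappingCone.triangleRotateShortComplexSplitting f, e₁, e₂, e₃,
    e.hom.comm₂, ?_⟩
  have c3 := e.hom.comm₃
  have c3' : (q ≫ (shiftEquiv (Dual.D A) (1 : ℤ)).counitIso.inv.app c) ≫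
      (shiftFunctor (Dual.D A) (1 : ℤ)).map e₁'.hom =
      e₂.hom ≫ DerivedCategory.Q.map (CochainComplex.mappingCone.triangle f).mor₃ ≫
        (DerivedCategory.Q.commShiftIso (1 : ℤ)).hom.app X := c3
  refine (Category.assoc _ _ _).symm.trans ((Category.assoc _ _ _).symm.trans
    ((congrArg (fun z => z ≫ (DerivedCategory.Q.commShiftIso (1 : ℤ)).inv.app X) c3').trans ?_))
  exact comm_aux₂ _ _ ((DerivedCategory.Q.commShiftIso (1 : ℤ)).app X)

lemma comm₃_aux {C D : Type*} [Category C] [Category D] (G : C ⥤ D) {X Y : D} {Z W : C}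
    (t : X ⟶ Y) (d : Y ⟶ G.obj Z) (i : W ≅ Z) :
    (t ≫ d ≫ G.map i.inv) ≫ G.map i.hom = t ≫ d := by
  rw [Category.assoc, Category.assoc, ← G.map_comp, Iso.inv_hom_id, G.map_id, Category.comp_id]

variable [DTen.HasLTen A]

lemma map_comp_mkHom {a a' a'' b b' b'' : Dual.D A} (f : a ⟶ a') (f' : a' ⟶ a'')
    (g : b ⟶ b') (g' : b' ⟶ b'') :
    (LTen₂ A).map (Prod.mkHom f g) ≫ (LTen₂ A).map (Prod.mkHom f' g') =
      (LTen₂ A).map (Prod.mkHom (f ≫ f') (g ≫ g')) := by
  rw [← Functor.map_comp]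
  rfl

lemma tensor₂_map_whiskerRight {K K' : DRing.Cx A} (f : K ⟶ K') (P : DRing.Cx A) :
    (tensor₂ A).map (X := (K, P)) (Y := (K', P)) (Prod.mkHom f (𝟙 P)) =
      DerivedCategory.Q.map (f ▷ P) := by
  dsimp
  simp

/-- For `P` K-flat, `a ≅ Q K` and `X ≅ Q P`: `a ⊗^L X ≅ Q(K ⊗ P)`. -/
noncomputable def θ {a X : Dual.D A} {K P : DRing.Cx A} (hP : DRing.IsKFlat A P)
    (e : a ≅ DerivedCategory.Q.obj K) (eX : X ≅ DerivedCategory.Q.obj P) :
    (tensorRightD A X).obj a ≅ DerivedCategory.Q.obj (K ⊗ P) :=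
  haveI := Groth.Agent.H53.DTenComp.isIso_ε_right A K P hP
  (LTen₂ A).mapIso (Iso.prod e eX) ≪≫ asIso ((ε A).app (K, P))

lemma θ_hom {a X : Dual.D A} {K P : DRing.Cx A} (hP : DRing.IsKFlat A P)
    (e : a ≅ DerivedCategory.Q.obj K) (eX : X ≅ DerivedCategory.Q.obj P) :
    (θ hP e eX).hom = (LTen₂ A).map (Prod.mkHom e.hom eX.hom) ≫ (ε A).app (K, P) := rfl

lemma θ_nat {a a' X : Dual.D A} {K K' P : DRing.Cx A} (hP : DRing.IsKFlat A P)
    (e : a ≅ DerivedCategory.Q.obj K) (e' : a' ≅ DerivedCategory.Q.obj K')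
    (eX : X ≅ DerivedCategory.Q.obj P) (p : a ⟶ a') (f : K ⟶ K')
    (hpf : p ≫ e'.hom = e.hom ≫ DerivedCategory.Q.map f) :
    (tensorRightD A X).map p ≫ (θ hP e' eX).hom =
      (θ hP e eX).hom ≫ DerivedCategory.Q.map (f ▷ P) := by
  have nat := (ε A).naturality (X := (K, P)) (Y := (K', P)) (Prod.mkHom f (𝟙 P))
  rw [tensor₂_map_whiskerRight] at nat
  have nat' : (LTen₂ A).map (Prod.mkHom (DerivedCategory.Q.map f)
      (𝟙 (DerivedCategory.Q.obj P))) ≫ (ε A).app (K', P) =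
      (ε A).app (K, P) ≫ DerivedCategory.Q.map (f ▷ P) := by
    rw [← nat]
    dsimp
    rw [CategoryTheory.Functor.map_id]
  rw [θ_hom, θ_hom, Category.assoc, ← nat']
  show (LTen₂ A).map (Prod.mkHom p (𝟙 X)) ≫ _ = _
  rw [← Category.assoc, ← Category.assoc, map_comp_mkHom, map_comp_mkHom, hpf, Category.id_comp,
    Category.comp_id]

/-- `- ⊗^L X` sends pairs extending to distinguished triangles to such pairs. -/
theorem DT_tensorRightD (X : Dual.D A) {a b c : Dual.D A} (p : a ⟶ b) (q : b ⟶ c) (h : DT p q) :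
    DT ((tensorRightD A X).map p) ((tensorRightD A X).map q) := by
  obtain ⟨P, hP, ⟨eX⟩⟩ := Groth.Agent.S13577.exists_kflat_model X
  obtain ⟨S, σ, e₁, e₂, e₃, c1, c2⟩ := exists_ses_model p q h
  have hS' : (S.map ((curriedTensor (ModuleCat.{u} A)).map₂CochainComplex.flip.obj P)).ShortExact :=
    Groth.Agent.H31.KFlat.shortExact_map_flip_obj_of_split _ S P (fun n => ⟨σ n⟩)
  have n1 := θ_nat hP e₁ e₂ eX.symm p S.f c1
  have n2 := θ_nat hP e₂ e₃ eX.symm q S.g c2
  have hd := DerivedCategory.triangleOfSES_distinguished hS'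
  refine ⟨(θ hP e₃ eX.symm).hom ≫ DerivedCategory.triangleOfSESδ hS' ≫
    (θ hP e₁ eX.symm).inv⟦(1 : ℤ)⟧', isomorphic_distinguished _ hd _ ?_⟩
  refine Triangle.isoMk _ _ (θ hP e₁ eX.symm) (θ hP e₂ eX.symm) (θ hP e₃ eX.symm) ?_ ?_ ?_
  · exact n1
  · exact n2
  · exact comm₃_aux _ _ _ _

theorem weakExact_tensorRightD (X : Dual.D A) : WeakExact (tensorRightD A X) :=
  WeakExact.of_DT _ (fun p q h => DT_tensorRightD X p q h)

theorem weakExact_tensorRightD_comp_RHomR [DTen.HasRHom A] (L M : Dual.D A) :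
    WeakExact (tensorRightD A L ⋙ RHomR A M) :=
  (weakExact_tensorRightD L).comp_rightAdjoint (rhomAdj A M)

end Groth.Agent.H35.DTenExact
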