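import Mathlib
import Groth.Prelude.Def_Cyc

/-!
# (SD) the points of top dimension of a closed subscheme form a locally finite family
(helper35, squad piece for helper34, S1924)
-/

set_option autoImplicit false
universe u
open CategoryTheory AlgebraicGeometry TopologicalSpace Opposite

namespace Groth.Agent.H35.StubSub_SD

variable {X Y : Scheme.{u}}

/-- (SD) The points of top dimension of a closed subscheme form a locally finite family. -/
theorem locallyFinite_top_points (ι : Y ⟶ X) [IsClosedImmersion ι] (δ : X → ℤ)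
    (hX : Cyc.IsSetup X δ) (k : ℤ) (hY : ∀ y : Y, δ (ι y) ≤ k + 1) (x : X) :
    ∃ U : Set X, IsOpen U ∧ x ∈ U ∧
      {y : Y | δ (ι y) = k + 1 ∧ (closure {ι y} ∩ U).Nonempty}.Finite := by
  obtain ⟨hLN, -, hdim⟩ := hX
  haveI := hLN
  obtain ⟨U, hU, hxU⟩ : ∃ U : X.Opens, IsAffineOpen U ∧ x ∈ U := by
    obtain ⟨_, ⟨V, hV, rfl⟩, hxV, -⟩ :=
      (X.isBasis_affineOpens).exists_subset_of_mem_open (Set.mem_univ x) isOpen_univ
    exact ⟨V, hV, hxV⟩
  haveI : IsNoetherianRing Γ(X, U) := IsLocallyNoetherian.component_noetherian ⟨U, hU⟩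
  haveI : NoetherianSpace U := noetherianSpace_of_isAffineOpen U hU
  haveI : NoetherianSpace ((U : Set X) : Type u) := ‹NoetherianSpace U›
  let W : Set Y := ι ⁻¹' (U : Set X)
  have hWo : IsOpen W := U.isOpen.preimage ι.continuous
  have hind : Topology.IsInducing (Set.restrictPreimage (U : Set X) ι) :=
    ι.isClosedEmbedding.isInducing.restrictPreimage _
  haveI : NoetherianSpace W := hind.noetherianSpace
  haveI : QuasiSober W := hWo.isOpenEmbedding_subtypeVal.quasiSober
  refine ⟨U, U.isOpen, hxU, ?_⟩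
  refine Set.Finite.subset (s := ⋃ C ∈ irreducibleComponents W,
    {y : Y | ∃ η : W, IsGenericPoint η C ∧ (η : Y) = y}) ?_ ?_
  · refine Set.Finite.biUnion NoetherianSpace.finite_irreducibleComponents
      (fun C _ => Set.Subsingleton.finite ?_)
    rintro y ⟨η, hη, rfl⟩ y' ⟨η', hη', rfl⟩
    rw [hη.eq hη']
  · rintro y ⟨hy, z, hz, hzU⟩
    have hyU : ι y ∈ (U : Set X) := by
      obtain ⟨w, hwU, hw⟩ := mem_closure_iff.1 hz U U.isOpen hzU
      rw [Set.mem_singleton_iff] at hw
      rwa [hw] at hwU
    let yW : W := ⟨y, hyU⟩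
    have hC := irreducibleComponent_mem_irreducibleComponents yW
    obtain ⟨η, hη⟩ := QuasiSober.sober (isIrreducible_irreducibleComponent (x := yW))
      isClosed_irreducibleComponent
    refine Set.mem_biUnion hC ⟨η, hη, ?_⟩
    have hspec : η ⤳ yW := hη.specializes mem_irreducibleComponent
    have hspec' : (η : Y) ⤳ y := hspec.map continuous_subtype_val
    have hspec'' : ι (η : Y) ⤳ ι y := hspec'.map ι.continuous
    by_contra hne
    have hne' : ι (η : Y) ≠ ι y := fun h => hne (ι.isClosedEmbedding.injective h)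
    have h1 := (hdim _ _ hspec'' hne').1
    have h2 := hY (η : Y)
    omega

end Groth.Agent.H35.StubSub_SD
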