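import Mathlib
import Groth.Agent.H35.FlatBC
import Groth.Agent.H35.TorIndBC

/-!
# Base change to a ring `B` with `B / I B = A / I`, reduced modulo `I` (helper35)

Let `φ : A → B` be a ring map, `I ⊆ A` an ideal and `ev : B → A/I` a ring map with `ev ∘ φ = mk`
and `ker ev ⊆ I B` (e.g. `B` the `I`-adic completion of `A`).  Then for every `A`-module `M` the
unit `M → B ⊗_A M` becomes an isomorphism after `A/I ⊗_A -`.

* `exists_lift_linear` : `A`-linear maps `N → N'` (`N` a `B`-module, `N'` an `A/I`-module) are
  `B`-linear;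
* `isIso_ext_unit` : `IsIso ((ext mk).map (unit_φ M))`.
-/

set_option autoImplicit false
universe u
open CategoryTheory CategoryTheory.Limits
attribute [local instance] HasDerivedCategory.standard

namespace Groth.Agent.H35.ComplBC

open Groth.Agent.H35.FlatBC

variable {A B : Type u} [CommRing A] [CommRing B] (I : Ideal A) (φ : A →+* B)
  (ev : B →+* A ⧸ I) (hev : ev.comp φ = Ideal.Quotient.mk I)
  (hker : RingHom.ker ev ≤ Ideal.map φ I)

/-- restriction of scalars -/
noncomputable abbrev res {R S : Type u} [CommRing R] [CommRing S] (f : R →+* S) :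
    ModuleCat.{u} S ⥤ ModuleCat.{u} R := ModuleCat.restrictScalars.{u} f

include hev hker in
lemma exists_lift_linear (N : ModuleCat.{u} B) (N' : ModuleCat.{u} (A ⧸ I))
    (h : (res φ).obj N ⟶ (res φ).obj ((res ev).obj N')) :
    ∃ h' : N ⟶ (res ev).obj N', (res φ).map h' = h := by
  -- `h` kills `(I B) N`
  have hI : ∀ z ∈ Ideal.map φ I, ∀ x : N, h.hom (z • x : N) = 0 := by
    intro z hz
    refine Submodule.span_induction (p := fun z _ => ∀ x : N, h.hom (z • x : N) = 0)
      ?_ ?_ ?_ ?_ hz
    · rintro _ ⟨i, hi, rfl⟩ x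
      have h1 : h.hom (φ i • x : N) = i • h.hom x := h.hom.map_smul i x
      rw [h1]
      let y : N' := h.hom x
      have h2 : (i • h.hom x : (res φ).obj ((res ev).obj N')) = ((ev (φ i)) • y : N') := rfl
      rw [h2]
      have h3 : ev (φ i) = 0 := by
        have := congrArg (fun f => f i) hev
        simp only [RingHom.comp_apply] at this
        rw [this]
        exact Ideal.Quotient.eq_zero_iff_mem.2 hi
      rw [h3, zero_smul]
      rfl
    · intro x
      rw [zero_smul]
      exact map_zero _
    · intro z w _ _ hz hw x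
      rw [add_smul]
      exact (map_add h.hom _ _).trans (by rw [hz x, hw x, add_zero])
    · intro b z _ hz x
      have : ((b • z) • x : N) = z • (b • x) := by
        rw [smul_eq_mul, mul_comm, mul_smul]
      rw [this]
      exact hz (b • x)
  refine ⟨ModuleCat.ofHom (Y := (res ev).obj N')
    { toFun := fun x => h.hom x
      map_add' := fun x y => map_add h.hom x y
      map_smul' := fun b x => ?_ }, ?_⟩
  · obtain ⟨a, ha⟩ := Ideal.Quotient.mk_surjective (ev b)
    have hz : b - φ a ∈ Ideal.map φ I := by
      apply hker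
      rw [RingHom.mem_ker, map_sub, sub_eq_zero, ← ha]
      have := congrArg (fun f => f a) hev
      simp only [RingHom.comp_apply] at this
      exact this.symm
    have h0 : (b • x : N) = φ a • x + (b - φ a) • x := by
      rw [← add_smul, add_sub_cancel]
    have h1 : h.hom (φ a • x : N) = a • h.hom x := h.hom.map_smul a x
    let y : N' := h.hom x
    have h2 : (a • h.hom x : (res φ).obj ((res ev).obj N')) = ((ev (φ a)) • y : N') := rfl
    have h3 : ev (φ a) = ev b := by
      have := congrArg (fun f => f a) hev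
      simp only [RingHom.comp_apply] at this
      rw [this, ha]
    show h.hom (b • x : N) = ((ev b) • y : N')
    rw [h0]
    refine (map_add h.hom _ _).trans ?_
    rw [hI _ hz x, add_zero, h1, h2, h3]
  · apply ModuleCat.hom_ext
    apply LinearMap.ext
    intro x
    rfl

include hev hker in
/-- After `A/I ⊗_A -`, the unit `M → B ⊗_A M` becomes an isomorphism. -/
theorem isIso_ext_unit (M : ModuleCat.{u} A) :
    IsIso ((ext (Ideal.Quotient.mk I)).map
      ((ModuleCat.extendRestrictScalarsAdj.{u, u, u} φ).unit.app M)) := by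
  let adjρ := ModuleCat.extendRestrictScalarsAdj.{u, u, u} (Ideal.Quotient.mk I)
  let adjφ := ModuleCat.extendRestrictScalarsAdj.{u, u, u} φ
  rw [isIso_iff_coyoneda_map_bijective]
  intro N'
  let κ : (res (Ideal.Quotient.mk I)).obj N' ≅ (res φ).obj ((res ev).obj N') :=
    ModuleCat.restrictScalarsComp'App φ ev (Ideal.Quotient.mk I) hev.symm N'
  -- the key bijection
  have key : Function.Bijective (fun k : (res φ).obj ((ext φ).obj M) ⟶
      (res φ).obj ((res ev).obj N') => adjφ.unit.app M ≫ k) := by
    constructor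
    · intro k₁ k₂ h12
      obtain ⟨h₁, rfl⟩ := exists_lift_linear I φ ev hev hker _ N' k₁
      obtain ⟨h₂, rfl⟩ := exists_lift_linear I φ ev hev hker _ N' k₂
      have : adjφ.homEquiv _ _ h₁ = adjφ.homEquiv _ _ h₂ := by
        rw [Adjunction.homEquiv_unit, Adjunction.homEquiv_unit]
        exact h12
      rw [(adjφ.homEquiv _ _).injective this]
    · intro x
      refine ⟨(res φ).map ((adjφ.homEquiv _ _).symm x), ?_⟩
      have := (adjφ.homEquiv M ((res ev).obj N')).apply_symm_apply x
      rw [Adjunction.homEquiv_unit] at this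
      exact this
  have h1 : (fun g : (ext (Ideal.Quotient.mk I)).obj ((res φ).obj ((ext φ).obj M)) ⟶ N' =>
      (ext (Ideal.Quotient.mk I)).map (adjφ.unit.app M) ≫ g) =
      (adjρ.homEquiv _ _).symm ∘ (fun k => k ≫ κ.inv) ∘
        (fun k : (res φ).obj ((ext φ).obj M) ⟶ (res φ).obj ((res ev).obj N') =>
          adjφ.unit.app M ≫ k) ∘ (fun k => k ≫ κ.hom) ∘ (adjρ.homEquiv _ _) := by
    funext g
    simp only [Function.comp_apply, Category.assoc, Iso.hom_inv_id, Category.comp_id]
    rw [Adjunction.homEquiv_naturality_left_symm]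
    erw [Equiv.symm_apply_apply]
  have hb : Function.Bijective ((adjρ.homEquiv _ _).symm ∘ (fun k => k ≫ κ.inv) ∘
        (fun k : (res φ).obj ((ext φ).obj M) ⟶ (res φ).obj ((res ev).obj N') =>
          adjφ.unit.app M ≫ k) ∘ (fun k => k ≫ κ.hom) ∘ (adjρ.homEquiv _ _)) := by
    refine (adjρ.homEquiv _ _).symm.bijective.comp (Function.Bijective.comp ?_
      (key.comp (Function.Bijective.comp ?_ (adjρ.homEquiv _ _).bijective)))
    · exact ⟨fun a b hab => (cancel_mono κ.inv).1 hab, fun t => ⟨t ≫ κ.hom, by simp⟩⟩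
    · exact ⟨fun a b hab => (cancel_mono κ.hom).1 hab, fun t => ⟨t ≫ κ.inv, by simp⟩⟩
  rw [← h1] at hb
  exact hb

end Groth.Agent.H35.ComplBC
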