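import Mathlib
import Groth.Agent.H56.RestrictPC

/-!
# Homology of the chain map induced by a natural transformation `𝟭 ⟶ T`, `T` exact (helper35)

For an exact endofunctor `T` of an abelian category and `U : 𝟭 ⟶ T`, the chain map
`uCx T U P : P ⟶ T(P)` induces on `H^n` the map `U.app (H^n P)` (under `H^n(T P) ≅ T(H^n P)`).

* `homologyMap_unit`, `uCx`, `homologyMap_uCx` (chain level);
* `exists_homology_iso` (derived category level).
-/

set_option autoImplicit false
universe u v w w'
open CategoryTheory CategoryTheory.Limits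
attribute [local instance] HasDerivedCategory.standard

namespace Groth.Agent.H35.ExactUnit

section Chain

variable {C : Type*} [Category C] [Abelian C]
  (T : C ⥤ C) [T.Additive] [PreservesFiniteLimits T] [PreservesFiniteColimits T]
  (U : 𝟭 C ⟶ T)

lemma homologyMap_unit (S : ShortComplex C) (ψ : S ⟶ S.map T) (h₁ : ψ.τ₁ = U.app S.X₁)
    (h₂ : ψ.τ₂ = U.app S.X₂) :
    ShortComplex.homologyMap ψ ≫ (S.mapHomologyIso T).hom = U.app S.homology := by
  let hl := S.leftHomologyData
  let γ : ShortComplex.LeftHomologyMapData ψ hl (hl.map T) :=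
    { φK := U.app hl.K
      φH := U.app hl.H
      commi := by
        have := U.naturality hl.i
        dsimp at this ⊢
        rw [h₂]
        exact this.symm
      commf' := by
        have := U.naturality hl.f'
        dsimp at this ⊢
        rw [h₁, ShortComplex.LeftHomologyData.map_f']
        exact this
      commπ := by
        have := U.naturality hl.π
        dsimp at this ⊢
        exact this }
  rw [γ.homologyMap_eq, hl.mapHomologyIso_eq T]
  have := U.naturality hl.homologyIso.inv
  dsimp only [Functor.id_obj, Functor.id_map] at this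
  have key : ∀ (X : C) (c : (S.map T).homology ≅ X) (b : hl.H ⟶ X) (d : X ⟶ T.obj S.homology),
      (hl.homologyIso.hom ≫ b ≫ c.inv) ≫ (c.hom ≫ d) = hl.homologyIso.hom ≫ b ≫ d := by
    intros; simp
  refine (key _ (hl.map T).homologyIso γ.φH (T.map hl.homologyIso.inv)).trans ?_
  show hl.homologyIso.hom ≫ U.app hl.H ≫ T.map hl.homologyIso.inv = U.app S.homology
  rw [← this, Iso.hom_inv_id_assoc]

/-- the chain map induced by `U` -/
noncomputable def uCx (P : CochainComplex C ℤ) :
    P ⟶ (T.mapHomologicalComplex (ComplexShape.up ℤ)).obj P where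
  f i := U.app (P.X i)
  comm' i j _ := by
    have := U.naturality (P.d i j)
    dsimp at this ⊢
    exact this.symm

@[simp] lemma uCx_f (P : CochainComplex C ℤ) (i : ℤ) : (uCx T U P).f i = U.app (P.X i) := rfl

lemma homologyMap_uCx (P : CochainComplex C ℤ) (n : ℤ) :
    HomologicalComplex.homologyMap (uCx T U P) n ≫
      ((Groth.Agent.H56.mapHCHomologyIso T n).hom.app P) = U.app (P.homology n) :=
  homologyMap_unit T U (P.sc n)
    ((HomologicalComplex.shortComplexFunctor C (ComplexShape.up ℤ) n).map (uCx T U P)) rfl rfl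

end Chain

section Derived

variable {C : Type v} [Category.{w} C] [Abelian C] [HasDerivedCategory.{w'} C]
  (T : C ⥤ C) [T.Additive] [PreservesFiniteLimits T] [PreservesFiniteColimits T]
  (U : 𝟭 C ⟶ T)

open DerivedCategory

/-- For `e : Q P ≅ K`, the map `K → Q (T P)` induced by `U` gives `U.app (H^n K)` on cohomology. -/
theorem exists_homology_iso (P : CochainComplex C ℤ) (K : DerivedCategory C) (e : Q.obj P ≅ K)
    (n : ℤ) :
    ∃ θ : (homologyFunctor C n).obj (Q.obj ((T.mapHomologicalComplex (ComplexShape.up ℤ)).obj P)) ≅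
        T.obj ((homologyFunctor C n).obj K),
      (homologyFunctor C n).map (e.inv ≫ Q.map (uCx T U P)) ≫ θ.hom =
        U.app ((homologyFunctor C n).obj K) := by
  let θ₀ : (homologyFunctor C n).obj
      (Q.obj ((T.mapHomologicalComplex (ComplexShape.up ℤ)).obj P)) ≅
      T.obj ((homologyFunctor C n).obj (Q.obj P)) :=
    (homologyFunctorFactors C n).app _ ≪≫ (Groth.Agent.H56.mapHCHomologyIso T n).app P ≪≫
      T.mapIso ((homologyFunctorFactors C n).app P).symm
  have key : ∀ {X₁ X₂ X₃ X₄ X₅ X₆ : C} (q : X₁ ⟶ X₂) (f₂ : X₂ ⟶ X₃) (f₁ : X₁ ⟶ X₄) (h : X₄ ⟶ X₃)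
      (m : X₃ ⟶ X₅) (u' : X₄ ⟶ X₅) (i : X₅ ⟶ X₆) (u : X₁ ⟶ X₆) (g : X₄ ⟶ X₁),
      q ≫ f₂ = f₁ ≫ h → h ≫ m = u' → g ≫ u = u' ≫ i → f₁ ≫ g = 𝟙 _ →
      q ≫ f₂ ≫ m ≫ i = u := by
    intro X₁ X₂ X₃ X₄ X₅ X₆ q f₂ f₁ h m u' i u g e1 e2 e3 e4
    rw [reassoc_of% e1, reassoc_of% e2, ← e3, reassoc_of% e4]
  have h₀ : (homologyFunctor C n).map (Q.map (uCx T U P)) ≫ θ₀.hom =
      U.app ((homologyFunctor C n).obj (Q.obj P)) :=
    key _ _ _ _ _ _ _ _ _ (homologyFunctorFactors_hom_naturality (uCx T U P) n)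
      (homologyMap_uCx T U P n) (U.naturality ((homologyFunctorFactors C n).inv.app P))
      (Iso.hom_inv_id_app (homologyFunctorFactors C n) P)
  refine ⟨θ₀ ≪≫ T.mapIso ((homologyFunctor C n).mapIso e), ?_⟩
  have n4 := U.naturality ((homologyFunctor C n).map e.hom)
  dsimp only [Functor.id_obj, Functor.id_map] at n4
  rw [Functor.map_comp, Category.assoc, Iso.trans_hom, reassoc_of% h₀, Functor.mapIso_hom,
    Functor.mapIso_hom, ← n4, ← Functor.map_comp_assoc, e.inv_hom_id,
    CategoryTheory.Functor.map_id, Category.id_comp]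

end Derived

end Groth.Agent.H35.ExactUnit
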