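import Mathlib
import Groth.Agent.H35.ComplBC
import Groth.Agent.H35.ExactUnit
import Groth.Agent.H35.BCSquare
import Groth.Agent.H35.KFlatBC

/-!
# The functor `M ↦ Â ⊗_A M` (as an `A`-module) for the `I`-adic completion `Â` (helper35)

* `T I = ext φ ⋙ res φ` with `φ : A → Â`, and the unit `U I : 𝟭 ⟶ T I`;
* exactness of `T I` for Noetherian `A`;
* `exists_theta` : for a finite module `M`, `T M ≃ₗ[A] AdicCompletion I M` carrying the unit to
  `AdicCompletion.of`;
* `isIso_ext_unit` : the unit becomes an isomorphism after `A/I ⊗_A -`;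
* `isKFlat_T` : `T` preserves K-flat complexes.
-/

set_option autoImplicit false
universe u
open CategoryTheory CategoryTheory.Limits TensorProduct
attribute [local instance] HasDerivedCategory.standard

namespace Groth.Agent.H35.AdicBC

open Groth.Agent.H35.FlatBC Groth.Agent.H35.ComplBC

section Gen

variable {A B : Type u} [CommRing A] [CommRing B] [Algebra A B]

lemma algOf_eq' : algOf (algebraMap A B) = (inferInstance : Algebra A B) :=
  Algebra.algebra_ext _ _ (fun _ => rfl)

set_option backward.isDefEq.respectTransparency false in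
theorem exists_resExt_equiv (M : ModuleCat.{u} A) :
    ∃ θ : ((res (algebraMap A B)).obj ((ext (algebraMap A B)).obj M)) ≃ₗ[A] (B ⊗[A] M),
      ∀ x : M, θ (((ModuleCat.extendRestrictScalarsAdj.{u, u, u} (algebraMap A B)).unit.app M).hom x) =
        (1 : B) ⊗ₜ[A] x := by
  have key : letI := algOf (algebraMap A B)
      ∃ θ : ((res (algebraMap A B)).obj ((ext (algebraMap A B)).obj M)) ≃ₗ[A] (B ⊗[A] M),
      ∀ x : M, θ (((ModuleCat.extendRestrictScalarsAdj.{u, u, u} (algebraMap A B)).unit.app M).hom x) =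
        (1 : B) ⊗ₜ[A] x := by
    let _ := algOf (algebraMap A B)
    refine ⟨{ toFun := fun x => x, invFun := fun x => x, map_add' := fun _ _ => rfl,
              map_smul' := fun a x => ?_, left_inv := fun _ => rfl, right_inv := fun _ => rfl },
            fun x => ?_⟩
    · show (algebraMap A B a • (show B ⊗[A] M from x)) = a • (show B ⊗[A] M from x)
      exact algebraMap_smul B a _
    · rfl
  rw [algOf_eq'] at key
  exact key

end Gen

variable {A : Type u} [CommRing A] (I : Ideal A)

/-- `A → Â` -/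
noncomputable abbrev φ : A →+* AdicCompletion I A := algebraMap A (AdicCompletion I A)

/-- `M ↦ Â ⊗_A M`, as an `A`-module -/
noncomputable abbrev T : ModuleCat.{u} A ⥤ ModuleCat.{u} A := ext (φ I) ⋙ res (φ I)

/-- the unit `M → Â ⊗_A M` -/
noncomputable abbrev U : 𝟭 (ModuleCat.{u} A) ⟶ T I :=
  (ModuleCat.extendRestrictScalarsAdj.{u, u, u} (φ I)).unit

lemma flat_φ [IsNoetherianRing A] : (φ I).Flat :=
  (RingHom.flat_algebraMap_iff).2 inferInstance

instance [IsNoetherianRing A] : PreservesFiniteLimits (ext (φ I)) :=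
  ModuleCat.preservesFiniteLimits_extendScalars_of_flat (flat_φ I)

instance [IsNoetherianRing A] : PreservesFiniteLimits (T I) := by
  unfold T
  infer_instance

instance : PreservesFiniteColimits (T I) := by
  unfold T
  infer_instance

theorem exists_theta [IsNoetherianRing A] (M : ModuleCat.{u} A) [Module.Finite A M] :
    ∃ θ : (T I).obj M ≃ₗ[A] AdicCompletion I M,
      ∀ x : M, θ (((U I).app M).hom x) = AdicCompletion.of I M x := by
  obtain ⟨θ, hθ⟩ := exists_resExt_equiv (A := A) (B := AdicCompletion I A) M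
  let θ' : (AdicCompletion I A ⊗[A] M) ≃ₗ[A] AdicCompletion I M :=
    (AdicCompletion.ofTensorProductEquivOfFiniteNoetherian I M).restrictScalars A
  have hθ' : ∀ x : M, θ' ((1 : AdicCompletion I A) ⊗ₜ[A] x) = AdicCompletion.of I M x := by
    intro x
    show (AdicCompletion.ofTensorProductEquivOfFiniteNoetherian I M) _ = _
    rw [AdicCompletion.ofTensorProductEquivOfFiniteNoetherian_apply,
      AdicCompletion.ofTensorProduct_tmul, one_smul]
  refine ⟨θ.trans θ', fun x => ?_⟩
  rw [LinearEquiv.trans_apply, hθ x, hθ' x]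

theorem isIso_ext_unit (hI : I.FG) (M : ModuleCat.{u} A) :
    IsIso ((ext (Ideal.Quotient.mk I)).map ((U I).app M)) :=
  ComplBC.isIso_ext_unit I (φ I) (AdicCompletion.evalOneₐ I).toRingHom
    (AdicCompletion.evalOneₐ_comp_algebraMap_eq_mk I)
    (le_of_eq (AdicCompletion.ker_evalOneₐ_eq_map I hI)) M

lemma mapHC_T_obj (P : DRing.Cx A) :
    ((T I).mapHomologicalComplex (ComplexShape.up ℤ)).obj P =
      (DRing.restrictCx (φ I)).obj ((extCx (φ I)).obj P) := rfl

theorem isKFlat_T [IsNoetherianRing A] (P : DRing.Cx A) (hP : DRing.IsKFlat A P) :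
    DRing.IsKFlat A (((T I).mapHomologicalComplex (ComplexShape.up ℤ)).obj P) := by
  rw [mapHC_T_obj]
  exact Groth.Agent.H35.BCSquare.isKFlat_resCx (φ I) (flat_φ I) _
    (Groth.Agent.H35.KFlatBC.isKFlat_extCx (φ I) P hP)

end Groth.Agent.H35.AdicBC
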