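import Mathlib
import Groth.Prelude.Def_BlowUp2
import Groth.Agent.S7894
import Groth.Agent.H22.FB_AFF

/-!
# (GLUEBU) blow-ups glue (helper35, squad piece for helper95, S8859)

`GLUEBU_core` takes the base change property (BCO) for open immersions as a hypothesis.
-/

set_option autoImplicit false
universe u
open CategoryTheory CategoryTheory.Limits AlgebraicGeometry

namespace Groth.Agent.H35.BUEX_GLUEBU

/-- the statement of (BCO), as a proposition. -/
def BCOStatement : Prop :=
  ∀ {U V B B' : Scheme.{u}} (J : V.IdealSheafData) (j : U ⟶ V) [Flat j]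
    (b : B ⟶ V) (_ : BlowUp.IsBlowUp b J) (b' : B' ⟶ U) (_ : BlowUp.IsBlowUp b' (J.comap j))
    (l : B' ⟶ B) (_ : l ≫ b = b' ≫ j), IsPullback l b' b j

set_option backward.isDefEq.respectTransparency false in
theorem GLUEBU_core (hBCO : BCOStatement.{u}) (Y : Scheme.{u}) (I : Y.IdealSheafData)
    (h : ∀ U : Y.affineOpens, ∃ (B : Scheme.{u}) (b : B ⟶ U.1.toScheme),
      BlowUp.IsBlowUp b (I.comap U.1.ι)) :
    ∃ (X' : Scheme.{u}) (b : X' ⟶ Y), BlowUp.IsBlowUp b I := by
  classical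
  choose B b hB using h
  -- the ideals agree
  have hcomap : ∀ {U V : Y.affineOpens} (hUV : U ≤ V),
      (I.comap V.1.ι).comap (Y.homOfLE hUV) = I.comap U.1.ι := by
    intro U V hUV
    rw [← Scheme.IdealSheafData.comap_comp, Scheme.homOfLE_ι]
  have hEC : ∀ {U V : Y.affineOpens} (hUV : U ≤ V),
      BlowUp.IsEffCartierIdeal ((I.comap V.1.ι).comap (b U ≫ Y.homOfLE hUV)) := by
    intro U V hUV
    rw [Scheme.IdealSheafData.comap_comp, hcomap hUV]
    exact (hB U).1
  -- the transition maps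
  let t : ∀ {U V : Y.affineOpens} (hUV : U ≤ V), B U ⟶ B V := fun {U V} hUV =>
    ((hB V).2 (B U) (b U ≫ Y.homOfLE hUV) (hEC hUV)).exists.choose
  have ht : ∀ {U V : Y.affineOpens} (hUV : U ≤ V), t hUV ≫ b V = b U ≫ Y.homOfLE hUV :=
    fun {U V} hUV => ((hB V).2 (B U) (b U ≫ Y.homOfLE hUV) (hEC hUV)).exists.choose_spec
  have huniq : ∀ {U V : Y.affineOpens} (hUV : U ≤ V) (m : B U ⟶ B V),
      m ≫ b V = b U ≫ Y.homOfLE hUV → m = t hUV := fun {U V} hUV m hm =>
    ((hB V).2 (B U) (b U ≫ Y.homOfLE hUV) (hEC hUV)).unique hm (ht hUV)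
  let 𝒰 := Y.directedAffineCover
  let F : 𝒰.I₀ ⥤ Scheme.{u} :=
    { obj := fun U => B U
      map := fun {U V} f => t (leOfHom f)
      map_id := fun U => by
        refine (huniq _ _ ?_).symm
        rw [Category.id_comp, Scheme.homOfLE_rfl, Category.comp_id]
      map_comp := fun {U V W} f g => by
        refine (huniq _ _ ?_).symm
        rw [Category.assoc, ht, ← Category.assoc, ht, Category.assoc, Scheme.homOfLE_homOfLE] }
  let α : F ⟶ 𝒰.functorOfLocallyDirected :=
    { app := fun U => b U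
      naturality := fun {U V} f => ht (leOfHom f) }
  have hα : NatTrans.Equifibered α := by
    intro U V f
    haveI : Flat (Y.homOfLE (leOfHom f)) := inferInstance
    exact hBCO (I.comap V.1.ι) (Y.homOfLE (leOfHom f)) (b V) (hB V) (b U)
      (by rw [hcomap (leOfHom f)]; exact hB U) (t (leOfHom f)) (ht (leOfHom f))
  let d : Scheme.Cover.RelativeGluingData 𝒰 := ⟨F, α, hα⟩
  refine ⟨d.glued, d.toBase, ?_⟩
  refine Groth.Agent.S7894.LOC d.toBase I (fun U : Y.affineOpens => U.1) ?_ ?_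
  · exact iSup_affineOpens_eq_top Y
  · intro U
    have sq1 := d.isPullback_natTrans_ι_toBase U
    have sq2 : IsPullback (d.toBase ∣_ U.1) (d.toBase ⁻¹ᵁ U.1).ι U.1.ι d.toBase :=
      isPullback_morphismRestrict d.toBase U.1
    let e : (d.toBase ⁻¹ᵁ U.1).toScheme ≅ B U := sq2.isoIsPullback _ _ sq1
    have he : e.hom ≫ b U = d.toBase ∣_ U.1 := sq2.isoIsPullback_hom_fst _ _ sq1
    have h1 := Groth.Agent.H22.FBAFF.ISO (b U) (d.toBase ∣_ U.1) e (Iso.refl _)
      (by rw [he, Iso.refl_hom, Category.comp_id]) (I.comap U.1.ι) (hB U)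
    rw [Iso.refl_hom, Scheme.IdealSheafData.comap_id] at h1
    exact h1

end Groth.Agent.H35.BUEX_GLUEBU
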