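import Mathlib
import Groth.Prelude.Def_BlowUp2
import Groth.Agent.H35.BUEX_GLUEBU
import Groth.Agent.H80.BUEX_BCO

/-! (GLUEBU) for the S8859 squad (helper95), exact statement (helper35). -/

set_option autoImplicit false
universe u
open CategoryTheory CategoryTheory.Limits AlgebraicGeometry

namespace Groth.Agent.H35.BUEX_GLUEBU2

theorem GLUEBU (Y : Scheme.{u}) (I : Y.IdealSheafData)
    (h : ∀ U : Y.affineOpens, ∃ (B : Scheme.{u}) (b : B ⟶ U.1.toScheme),
      BlowUp.IsBlowUp b (I.comap U.1.ι)) :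
    ∃ (X' : Scheme.{u}) (b : X' ⟶ Y), BlowUp.IsBlowUp b I :=
  Groth.Agent.H35.BUEX_GLUEBU.GLUEBU_core
    (fun J j _ b hb b' hb' l hl => Groth.Agent.H80.BUEX_BCO.BCO J j b hb b' hb' l hl) Y I h

end Groth.Agent.H35.BUEX_GLUEBU2
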