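import Mathlib
import Groth.Prelude.Def_DTen5

/-!
Extension of scalars across the tensor product of complexes (helper35): the chain-level
isomorphism `ext P ⊗_{R'} ext P' ≅ ext (P ⊗_R P')` and its compatibility with `unitCx`,
`resTenCx`.
-/

set_option autoImplicit false
set_option backward.isDefEq.respectTransparency false
universe u
open CategoryTheory CategoryTheory.Limits MonoidalCategory
attribute [local instance] HasDerivedCategory.standard

namespace Groth.Agent.H35.ExtTen

open DTen

variable {R R' : Type u} [CommRing R] [CommRing R'] (φ : R →+* R')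

/-- extension of scalars on modules -/
noncomputable abbrev extM : ModuleCat.{u} R ⥤ ModuleCat.{u} R' := ModuleCat.extendScalars.{u, u, u} φ

/-- `(M, N) ↦ ext M ⊗_{R'} ext N` -/
noncomputable abbrev extTenSrc : ModuleCat.{u} R ⥤ ModuleCat.{u} R ⥤ ModuleCat.{u} R' :=
  extM φ ⋙ curriedTensor (ModuleCat.{u} R') ⋙ (Functor.whiskeringLeft _ _ _).obj (extM φ)

/-- `(M, N) ↦ ext (M ⊗_R N)` -/
noncomputable abbrev extTenTgt : ModuleCat.{u} R ⥤ ModuleCat.{u} R ⥤ ModuleCat.{u} R' :=
  curriedTensor (ModuleCat.{u} R) ⋙ (Functor.whiskeringRight _ _ _).obj (extM φ)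

/-- The strong monoidal structure of extension of scalars, as an isomorphism of bifunctors. -/
noncomputable def extTen₀ : extTenSrc φ ≅ extTenTgt φ :=
  NatIso.ofComponents
    (fun M => NatIso.ofComponents (fun N => Functor.Monoidal.μIso (extM φ) M N)
      (fun {N N'} g => by
        dsimp
        exact Functor.LaxMonoidal.μ_natural_right (extM φ) M g))
    (fun {M M'} f => by
      ext N : 2
      dsimp
      exact Functor.LaxMonoidal.μ_natural_left (extM φ) f N)

@[simp]
lemma extTen₀_hom_app_app (M N : ModuleCat.{u} R) :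
    ((extTen₀ φ).hom.app M).app N = Functor.LaxMonoidal.μ (extM φ) M N := rfl

/-- The chain-level isomorphism `ext P ⊗_{R'} ext P' ≅ ext (P ⊗_R P')`. -/
noncomputable def extTenCx (P P' : DRing.Cx R) :
    (tensorT R').obj ((extCx φ).obj P, (extCx φ).obj P') ≅ (extCx φ).obj ((tensorT R).obj (P, P')) :=
  (HomologicalComplex₂.total.mapIso
      (TotMap.mapBifunctorPrecompIso (extM φ) (extM φ) (curriedTensor (ModuleCat.{u} R')) P P')
      (ComplexShape.up ℤ)) ≪≫
    TotMap.mapBifunctorNatIso P P' (ComplexShape.up ℤ) (extTen₀ φ) ≪≫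
    (HomologicalComplex₂.total.mapIso
      (TotMap.mapBifunctorPostcompIso (curriedTensor (ModuleCat.{u} R)) (extM φ) P P')
      (ComplexShape.up ℤ)) ≪≫
    (TotMap.mapTotalIso (extM φ) (tenBicx P P') (ComplexShape.up ℤ)).symm

/-- Summand formula of `extTenCx`. -/
@[reassoc]
lemma ι_extTenCx (P P' : DRing.Cx R) (p q n : ℤ) (h : p + q = n) :
    HomologicalComplex.ιTensorObj ((extCx φ).obj P) ((extCx φ).obj P') p q n h ≫
        (extTenCx φ P P').hom.f n =
      Functor.LaxMonoidal.μ (extM φ) (P.X p) (P'.X q) ≫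
        (extM φ).map (HomologicalComplex.ιTensorObj P P' p q n h) := by
  dsimp only [extTenCx, Iso.trans_hom, Iso.symm_hom]
  simp only [HomologicalComplex.comp_f, HomologicalComplex₂.total.mapIso_hom, HomologicalComplex.ιTensorObj,
    HomologicalComplex.ιMapBifunctor, TotMap.mapBifunctorNatIso_hom]
  erw [HomologicalComplex₂.ιTotal_map_assoc]
  erw [TotMap.ι_mapBifunctorNatMap_assoc (extTen₀ φ).hom P P' (ComplexShape.up ℤ) p q n h]
  erw [HomologicalComplex₂.ιTotal_map_assoc]
  erw [TotMap.ιTotal_mapTotalIso_inv_f (extM φ) (tenBicx P P') (ComplexShape.up ℤ) p q n h]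
  simp only [TotMap.mapBifunctorPrecompIso, HomologicalComplex.Hom.isoOfComponents_hom_f, Iso.refl_hom,
    Category.id_comp]
  rfl

lemma unit_tensor_module (M N : ModuleCat.{u} R) :
    ((ModuleCat.extendRestrictScalarsAdj.{u, u, u} φ).unit.app M ⊗ₘ
        (ModuleCat.extendRestrictScalarsAdj.{u, u, u} φ).unit.app N) ≫
      resTen₀app φ ((extM φ).obj M) ((extM φ).obj N) ≫
        (resM φ).map (Functor.LaxMonoidal.μ (extM φ) M N) =
      (ModuleCat.extendRestrictScalarsAdj.{u, u, u} φ).unit.app (M ⊗ N) := by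
  rw [resTen₀app_eq_μ]
  have h := (ModuleCat.extendRestrictScalarsAdj.{u, u, u} φ).unit_app_tensor_comp_map_δ M N
  rw [← Category.assoc, ← h, Category.assoc, ← Functor.map_comp]
  simp

lemma unit_tensor_cx (P P' : DRing.Cx R) :
    ((unitCx φ).app P ⊗ₘ (unitCx φ).app P') ≫ resTenCx φ ((extCx φ).obj P) ((extCx φ).obj P') ≫
      (resCx φ).map (extTenCx φ P P').hom = (unitCx φ).app ((tensorT R).obj (P, P')) := by
  change HomologicalComplex.mapBifunctorMap ((unitCx φ).app P) ((unitCx φ).app P') _ _ ≫ _ = _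
  refine HomologicalComplex.hom_ext _ _ (fun n => HomologicalComplex.mapBifunctor.hom_ext (fun p q h => ?_))
  erw [HomologicalComplex.comp_f, HomologicalComplex.comp_f, HomologicalComplex.ι_mapBifunctorMap_assoc,
    ι_resTenCx_assoc φ _ _ p q n h, Functor.mapHomologicalComplex_map_f,
    ← Functor.map_comp, ι_extTenCx φ P P' p q n h, Functor.map_comp]
  have h1 := unit_tensor_module φ (P.X p) (P'.X q)
  have h2 := (ModuleCat.extendRestrictScalarsAdj.{u, u, u} φ).unit.naturality
    (HomologicalComplex.ιTensorObj P P' p q n h)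
  refine Eq.trans (b := (((ModuleCat.extendRestrictScalarsAdj.{u, u, u} φ).unit.app (P.X p) ⊗ₘ
      (ModuleCat.extendRestrictScalarsAdj.{u, u, u} φ).unit.app (P'.X q)) ≫
      resTen₀app φ ((extM φ).obj (P.X p)) ((extM φ).obj (P'.X q)) ≫
        (resM φ).map (Functor.LaxMonoidal.μ (extM φ) (P.X p) (P'.X q))) ≫
      (resM φ).map ((extM φ).map (HomologicalComplex.ιTensorObj P P' p q n h))) ?_ ?_
  · rw [MonoidalCategory.tensorHom_def]
    simp only [Category.assoc]
    rfl
  · rw [h1]
    exact h2.symm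

end Groth.Agent.H35.ExtTen
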