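import Mathlib
import Groth.Prelude.Def_DTen5
import Groth.Agent.H35.ExtTen
import Groth.Agent.H35.KFlatBC
import Groth.Agent.S13577
import Groth.Agent.S13894

/-!
Derived base change is strong monoidal (helper35): the canonical comparison
`mon T K : (T ⊗^L K) ⊗^L_R R' ⟶ (T ⊗^L_R R') ⊗^L_{R'} (K ⊗^L_R R')` (adjunct of unit ⊗ unit followed
by `resPF`) is an isomorphism; consequence: `rhomBC` is an isomorphism.
-/

set_option autoImplicit false
set_option linter.style.haveILetI false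
universe u
open CategoryTheory CategoryTheory.Limits MonoidalCategory
attribute [local instance] HasDerivedCategory.standard

namespace Groth.Agent.H35.LBaseMon

open DTen Groth.Agent.H35.ExtTen

variable {R R' : Type u} [CommRing R] [CommRing R'] (φ : R →+* R')

section

variable [HasLTen R]

lemma map_comp_mkHom {a a' a'' b b' b'' : Dual.D R} (f : a ⟶ a') (f' : a' ⟶ a'')
    (g : b ⟶ b') (g' : b' ⟶ b'') :
    (LTen₂ R).map (Prod.mkHom f g) ≫ (LTen₂ R).map (Prod.mkHom f' g') =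
      (LTen₂ R).map (Prod.mkHom (f ≫ f') (g ≫ g')) := by
  rw [← Functor.map_comp]
  rfl

end

section
variable [HasLBase φ]
lemma baseγ_hom (K : DRing.Cx R) :
    (baseγ φ).app K ≫ (resFactors φ).hom.app ((extCx φ).obj K) =
      DerivedCategory.Q.map ((unitCx φ).app K) := by
  dsimp [baseγ]
  simp

lemma homEquiv_baseCmp (K : DRing.Cx R) :
    (baseAdj φ).homEquiv _ _ ((baseCmp φ).app K) = (baseγ φ).app K := by
  rw [Adjunction.homEquiv_unit]
  exact baseCmp_fac φ K
end

variable [HasLTen R] [HasLTen R'] [HasLBase φ] [HasResTen φ] [ResLegIso φ]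

/-- naturality of `resPF` in mkHom form -/
lemma resPF_nat {E E₁ F F₁ : Dual.D R'} (a : E ⟶ E₁) (b : F ⟶ F₁) :
    (LTen₂ R).map (Prod.mkHom ((DRing.restrictD φ).map a) ((DRing.restrictD φ).map b)) ≫
        (resPF φ).app (E₁, F₁) =
      (resPF φ).app (E, F) ≫ (DRing.restrictD φ).map ((LTen₂ R').map (Prod.mkHom a b)) :=
  (resPF φ).naturality (X := (E, F)) (Y := (E₁, F₁)) (Prod.mkHom a b)

/-- `T ⊗^L K ⟶ res (LBase T ⊗^L' LBase K)`: unit ⊗ unit followed by `resPF`. -/
noncomputable def monCore (T K : Dual.D R) :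
    (LTen₂ R).obj (T, K) ⟶
      (DRing.restrictD φ).obj ((LTen₂ R').obj ((LBase φ).obj T, (LBase φ).obj K)) :=
  (LTen₂ R).map (Prod.mkHom ((baseAdj φ).unit.app T) ((baseAdj φ).unit.app K)) ≫
    (resPF φ).app ((LBase φ).obj T, (LBase φ).obj K)

/-- The monoidal comparison of derived base change. -/
noncomputable def mon (T K : Dual.D R) :
    (LBase φ).obj ((LTen₂ R).obj (T, K)) ⟶ (LTen₂ R').obj ((LBase φ).obj T, (LBase φ).obj K) :=
  ((baseAdj φ).homEquiv _ _).symm (monCore φ T K)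

lemma homEquiv_mon (T K : Dual.D R) :
    (baseAdj φ).homEquiv _ _ (mon φ T K) = monCore φ T K :=
  Equiv.apply_symm_apply _ _

lemma monCore_nat {T T₁ K K₁ : Dual.D R} (a : T ⟶ T₁) (b : K ⟶ K₁) :
    (LTen₂ R).map (Prod.mkHom a b) ≫ monCore φ T₁ K₁ =
      monCore φ T K ≫ (DRing.restrictD φ).map
        ((LTen₂ R').map (Prod.mkHom ((LBase φ).map a) ((LBase φ).map b))) := by
  have ha := (baseAdj φ).unit.naturality a
  have hb := (baseAdj φ).unit.naturality b
  dsimp at ha hb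
  rw [monCore, monCore, Category.assoc, ← resPF_nat, ← Category.assoc, ← Category.assoc,
    map_comp_mkHom, map_comp_mkHom, ha, hb]

lemma mon_nat {T T₁ K K₁ : Dual.D R} (a : T ⟶ T₁) (b : K ⟶ K₁) :
    (LBase φ).map ((LTen₂ R).map (Prod.mkHom a b)) ≫ mon φ T₁ K₁ =
      mon φ T K ≫ (LTen₂ R').map (Prod.mkHom ((LBase φ).map a) ((LBase φ).map b)) := by
  apply ((baseAdj φ).homEquiv _ _).injective
  rw [Adjunction.homEquiv_naturality_left, Adjunction.homEquiv_naturality_right, homEquiv_mon,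
    homEquiv_mon]
  exact monCore_nat φ a b

lemma ε_nat_mkHom {P P₁ P' P₁' : DRing.Cx R} (f : P ⟶ P₁) (g : P' ⟶ P₁') :
    (LTen₂ R).map (Prod.mkHom (DerivedCategory.Q.map f) (DerivedCategory.Q.map g)) ≫
        (ε R).app (P₁, P₁') =
      (ε R).app (P, P') ≫ DerivedCategory.Q.map (f ⊗ₘ g) := by
  have h := (ε R).naturality (X := (P, P')) (Y := (P₁, P₁')) (Prod.mkHom f g)
  dsimp at h
  rw [← MonoidalCategory.tensorHom_def] at h
  exact h

lemma mon_Q_fac (P P' : DRing.Cx R) :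
    mon φ (DerivedCategory.Q.obj P) (DerivedCategory.Q.obj P') ≫
        (LTen₂ R').map (Prod.mkHom ((baseCmp φ).app P) ((baseCmp φ).app P')) ≫
          (ε R').app ((extCx φ).obj P, (extCx φ).obj P') ≫
            DerivedCategory.Q.map (extTenCx φ P P').hom =
      (LBase φ).map ((ε R).app (P, P')) ≫ (baseCmp φ).app ((tensorT R).obj (P, P')) := by
  apply ((baseAdj φ).homEquiv _ _).injective
  rw [Adjunction.homEquiv_naturality_left]
  erw [homEquiv_baseCmp]
  rw [Adjunction.homEquiv_naturality_right, homEquiv_mon]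
  rw [← cancel_mono ((resFactors φ).hom.app ((extCx φ).obj ((tensorT R).obj (P, P'))))]
  have hR : ((ε R).app (P, P') ≫ (baseγ φ).app ((tensorT R).obj (P, P'))) ≫
      (resFactors φ).hom.app ((extCx φ).obj ((tensorT R).obj (P, P'))) =
      (ε R).app (P, P') ≫ DerivedCategory.Q.map ((unitCx φ).app ((tensorT R).obj (P, P'))) := by
    rw [Category.assoc]
    exact (ε R).app (P, P') ≫= baseγ_hom φ _
  refine Eq.trans ?_ hR.symm
  -- ingredients
  have s1 : monCore φ (DerivedCategory.Q.obj P) (DerivedCategory.Q.obj P') ≫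
      (DRing.restrictD φ).map
        ((LTen₂ R').map (Prod.mkHom ((baseCmp φ).app P) ((baseCmp φ).app P'))) =
      (LTen₂ R).map (Prod.mkHom ((baseγ φ).app P) ((baseγ φ).app P')) ≫
        (resPF φ).app (DerivedCategory.Q.obj ((extCx φ).obj P),
          DerivedCategory.Q.obj ((extCx φ).obj P')) := by
    rw [monCore, Category.assoc]
    erw [← resPF_nat φ ((baseCmp φ).app P) ((baseCmp φ).app P')]
    rw [← Category.assoc, map_comp_mkHom]
    erw [baseCmp_fac φ P, baseCmp_fac φ P']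
    rfl
  have s2 : (resPF φ).app (DerivedCategory.Q.obj ((extCx φ).obj P),
        DerivedCategory.Q.obj ((extCx φ).obj P')) ≫
      (DRing.restrictD φ).map ((ε R').app ((extCx φ).obj P, (extCx φ).obj P')) ≫
        (resFactors φ).hom.app ((tensorT R').obj ((extCx φ).obj P, (extCx φ).obj P')) =
      (LTen₂ R).map (Prod.mkHom ((resFactors φ).hom.app ((extCx φ).obj P))
        ((resFactors φ).hom.app ((extCx φ).obj P'))) ≫
      (ε R).app ((resCx φ).obj ((extCx φ).obj P), (resCx φ).obj ((extCx φ).obj P')) ≫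
        DerivedCategory.Q.map (resTenCx φ ((extCx φ).obj P) ((extCx φ).obj P')) :=
    resPF_fac φ ((extCx φ).obj P, (extCx φ).obj P')
  have s3 : (DRing.restrictD φ).map (DerivedCategory.Q.map (extTenCx φ P P').hom) ≫
      (resFactors φ).hom.app ((extCx φ).obj ((tensorT R).obj (P, P'))) =
      (resFactors φ).hom.app ((tensorT R').obj ((extCx φ).obj P, (extCx φ).obj P')) ≫
        DerivedCategory.Q.map ((resCx φ).map (extTenCx φ P P').hom) :=
    (resFactors φ).hom.naturality (extTenCx φ P P').hom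
  have s4 : (LTen₂ R).map (Prod.mkHom ((baseγ φ).app P) ((baseγ φ).app P')) ≫
      (LTen₂ R).map (Prod.mkHom ((resFactors φ).hom.app ((extCx φ).obj P))
        ((resFactors φ).hom.app ((extCx φ).obj P'))) =
      (LTen₂ R).map (Prod.mkHom (DerivedCategory.Q.map ((unitCx φ).app P))
        (DerivedCategory.Q.map ((unitCx φ).app P'))) := by
    rw [map_comp_mkHom, baseγ_hom, baseγ_hom]
  have s5 := ε_nat_mkHom (R := R) ((unitCx φ).app P) ((unitCx φ).app P')
  have s6 : DerivedCategory.Q.map ((unitCx φ).app P ⊗ₘ (unitCx φ).app P') ≫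
      DerivedCategory.Q.map (resTenCx φ ((extCx φ).obj P) ((extCx φ).obj P')) ≫
        DerivedCategory.Q.map ((resCx φ).map (extTenCx φ P P').hom) =
      DerivedCategory.Q.map ((unitCx φ).app ((tensorT R).obj (P, P'))) := by
    rw [← Functor.map_comp, ← Functor.map_comp, unit_tensor_cx]
  rw [Functor.map_comp, Functor.map_comp]
  simp only [Category.assoc]
  rw [reassoc_of% s1, s3, reassoc_of% s2, reassoc_of% s4, reassoc_of% s5, s6]


lemma isIso_mon_Q (P P' : DRing.Cx R) (hP : DRing.IsKFlat R P) (hP' : DRing.IsKFlat R P') :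
    IsIso (mon φ (DerivedCategory.Q.obj P) (DerivedCategory.Q.obj P')) := by
  have h := mon_Q_fac φ P P'
  haveI i1 : IsIso ((baseCmp φ).app P) := Groth.Agent.S13894.result R R' φ P hP
  haveI i2 : IsIso ((baseCmp φ).app P') := Groth.Agent.S13894.result R R' φ P' hP'
  haveI i3 : IsIso ((LTen₂ R').map (Prod.mkHom ((baseCmp φ).app P) ((baseCmp φ).app P'))) :=
    Groth.Agent.S13577.isIso_map_mkHom _ _
  haveI i4 : IsIso ((ε R').app ((extCx φ).obj P, (extCx φ).obj P')) :=
    Groth.Agent.H53.DTenComp.isIso_ε_right R' _ _ (Groth.Agent.H35.KFlatBC.isKFlat_extCx φ P' hP')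
  haveI i5 : IsIso ((ε R).app (P, P')) := Groth.Agent.H53.DTenComp.isIso_ε_right R P P' hP'
  haveI i6 : IsIso ((baseCmp φ).app ((tensorT R).obj (P, P'))) :=
    Groth.Agent.S13894.result R R' φ _ (Groth.Agent.H53.DTenComp.isKFlat_tensor hP hP')
  haveI i7 : IsIso ((LBase φ).map ((ε R).app (P, P')) ≫
      (baseCmp φ).app ((tensorT R).obj (P, P'))) := inferInstance
  rw [← h] at i7
  exact IsIso.of_isIso_comp_right _ ((LTen₂ R').map (Prod.mkHom ((baseCmp φ).app P)
    ((baseCmp φ).app P')) ≫ (ε R').app ((extCx φ).obj P, (extCx φ).obj P') ≫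
      DerivedCategory.Q.map (extTenCx φ P P').hom)

theorem isIso_mon (T K : Dual.D R) : IsIso (mon φ T K) := by
  obtain ⟨P, hP, ⟨e⟩⟩ := Groth.Agent.S13577.exists_kflat_model T
  obtain ⟨P', hP', ⟨e'⟩⟩ := Groth.Agent.S13577.exists_kflat_model K
  haveI := isIso_mon_Q φ P P' hP hP'
  have h := mon_nat φ e.hom e'.hom
  haveI j1 : IsIso ((LTen₂ R).map (Prod.mkHom e.hom e'.hom)) :=
    Groth.Agent.S13577.isIso_map_mkHom _ _
  haveI j2 : IsIso ((LTen₂ R').map (Prod.mkHom ((LBase φ).map e.hom) ((LBase φ).map e'.hom))) :=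
    Groth.Agent.S13577.isIso_map_mkHom _ _
  haveI j3 : IsIso ((LBase φ).map ((LTen₂ R).map (Prod.mkHom e.hom e'.hom)) ≫ mon φ T K) := by
    rw [h]; infer_instance
  exact IsIso.of_isIso_comp_left ((LBase φ).map ((LTen₂ R).map (Prod.mkHom e.hom e'.hom))) _


section RHom

variable [HasRHom R] [HasRHom R']

lemma comp_rhomBC (K : Dual.D R) (M : Dual.D R') (T : Dual.D R)
    (g : (LTen₂ R').obj ((LBase φ).obj T, (LBase φ).obj K) ⟶ M) :
    ((baseAdj φ).homEquiv T _ (rhomHomEquiv ((LBase φ).obj T) ((LBase φ).obj K) M g)) ≫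
        rhomBC φ K M =
      rhomHomEquiv T K ((DRing.restrictD φ).obj M)
        ((baseAdj φ).homEquiv _ _ (mon φ T K ≫ g)) := by
  apply (rhomHomEquiv T K ((DRing.restrictD φ).obj M)).symm.injective
  rw [Equiv.symm_apply_apply, Adjunction.homEquiv_naturality_right, homEquiv_mon]
  set gb := rhomHomEquiv ((LBase φ).obj T) ((LBase φ).obj K) M g with hgb
  have hg : (LTen₂ R').map (Prod.mkHom gb (𝟙 ((LBase φ).obj K))) ≫ ev ((LBase φ).obj K) M = g := by
    have := (rhomHomEquiv ((LBase φ).obj T) ((LBase φ).obj K) M).symm_apply_apply g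
    rw [← hgb] at this
    rw [← this]
    exact ((rhomAdj R' ((LBase φ).obj K)).homEquiv_counit _ _ gb).symm
  have h1 : (rhomHomEquiv T K ((DRing.restrictD φ).obj M)).symm
      (((baseAdj φ).homEquiv T _ gb) ≫ rhomBC φ K M) =
      (LTen₂ R).map (Prod.mkHom ((baseAdj φ).homEquiv T _ gb) (𝟙 K)) ≫ rhomBCCore φ K M := by
    rw [← rhomBC_fac]
    erw [(rhomAdj R K).homEquiv_counit]
    rw [Functor.map_comp, Category.assoc]
    rfl
  rw [h1, rhomBCCore, ← Category.assoc, map_comp_mkHom, Category.comp_id, Category.id_comp,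
    Adjunction.homEquiv_unit]
  have h2 : (LTen₂ R).map (Prod.mkHom ((baseAdj φ).unit.app T ≫ (DRing.restrictD φ).map gb)
      ((baseAdj φ).unit.app K)) =
      (LTen₂ R).map (Prod.mkHom ((baseAdj φ).unit.app T) ((baseAdj φ).unit.app K)) ≫
      (LTen₂ R).map (Prod.mkHom ((DRing.restrictD φ).map gb)
        ((DRing.restrictD φ).map (𝟙 ((LBase φ).obj K)))) := by
    rw [map_comp_mkHom, CategoryTheory.Functor.map_id]
    erw [Category.comp_id]
  rw [h2, Category.assoc, reassoc_of% (resPF_nat φ gb (𝟙 ((LBase φ).obj K))), ← Functor.map_comp, hg,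
    monCore, Category.assoc]

theorem isIso_rhomBC (K : Dual.D R) (M : Dual.D R') : IsIso (rhomBC φ K M) := by
  rw [isIso_iff_yoneda_map_bijective]
  intro T
  haveI := isIso_mon φ T K
  let Φ₁ : ((LTen₂ R').obj ((LBase φ).obj T, (LBase φ).obj K) ⟶ M) ≃
      (T ⟶ (DRing.restrictD φ).obj ((RHomR R' ((LBase φ).obj K)).obj M)) :=
    (rhomHomEquiv ((LBase φ).obj T) ((LBase φ).obj K) M).trans ((baseAdj φ).homEquiv T _)
  let Φ₂ : ((LBase φ).obj ((LTen₂ R).obj (T, K)) ⟶ M) ≃
      (T ⟶ (RHomR R K).obj ((DRing.restrictD φ).obj M)) :=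
    ((baseAdj φ).homEquiv _ _).trans (rhomHomEquiv T K ((DRing.restrictD φ).obj M))
  let Ψ : ((LTen₂ R').obj ((LBase φ).obj T, (LBase φ).obj K) ⟶ M) ≃
      ((LBase φ).obj ((LTen₂ R).obj (T, K)) ⟶ M) := (asIso (mon φ T K)).symm.homFromEquiv
  have key : (fun x : T ⟶ (DRing.restrictD φ).obj ((RHomR R' ((LBase φ).obj K)).obj M) =>
      x ≫ rhomBC φ K M) = (Φ₁.symm.trans (Ψ.trans Φ₂)) := by
    funext x
    obtain ⟨g, rfl⟩ := Φ₁.surjective x
    show _ = Φ₂ (Ψ (Φ₁.symm (Φ₁ g)))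
    rw [Equiv.symm_apply_apply]
    exact comp_rhomBC φ K M T g
  rw [key]
  exact (Φ₁.symm.trans (Ψ.trans Φ₂)).bijective

end RHom

end Groth.Agent.H35.LBaseMon
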