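import Mathlib
import Groth.Prelude.Def_DTen3
import Groth.Agent.H35.DTenUnit

/-!
Binder-free: tensoring on the right with a shift of the unit is an equivalence of `D(A)`
(isomorphic to the shift functor) (helper35).
-/

set_option autoImplicit false
set_option linter.style.haveILetI false
universe u
open CategoryTheory CategoryTheory.Limits MonoidalCategory
attribute [local instance] HasDerivedCategory.standard

namespace Groth.Agent.H35.UnitShiftEquiv

open DTen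

variable {A : Type u} [CommRing A]

/-- `K ⊗ 𝟙⟦n⟧ ≅ K⟦n⟧`. -/
noncomputable def cIso (K : DRing.Cx A) (n : ℤ) :
    (K ⊗ (𝟙_ (DRing.Cx A))⟦n⟧ : DRing.Cx A) ≅ K⟦n⟧ :=
  ((((curriedTensor (ModuleCat.{u} A)).map₂CochainComplex.obj K).commShiftIso n).app
      (𝟙_ (DRing.Cx A)) :) ≪≫ (shiftFunctor (DRing.Cx A) n).mapIso (ρ_ K)

lemma cIso_nat {K K' : DRing.Cx A} (f : K ⟶ K') (n : ℤ) :
    f ▷ ((𝟙_ (DRing.Cx A))⟦n⟧) ≫ (cIso K' n).hom = (cIso K n).hom ≫ f⟦n⟧' := by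
  have h1 := NatTrans.shift_app_comm
    ((curriedTensor (ModuleCat.{u} A)).map₂CochainComplex.map f) n (𝟙_ (DRing.Cx A))
  have h2 : f ▷ 𝟙_ (DRing.Cx A) ≫ (ρ_ K').hom = (ρ_ K).hom ≫ f := rightUnitor_naturality f
  have h3 : (shiftFunctor (DRing.Cx A) n).map (f ▷ 𝟙_ (DRing.Cx A)) ≫
      (shiftFunctor (DRing.Cx A) n).map (ρ_ K').hom =
      (shiftFunctor (DRing.Cx A) n).map (ρ_ K).hom ≫ (shiftFunctor (DRing.Cx A) n).map f := by
    rw [← Functor.map_comp, h2, Functor.map_comp]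
  refine (Category.assoc _ _ _).symm.trans ?_
  refine (h1.symm =≫ (shiftFunctor (DRing.Cx A) n).map (ρ_ K').hom).trans ?_
  refine (Category.assoc _ _ _).trans ?_
  refine ((((curriedTensor (ModuleCat.{u} A)).map₂CochainComplex.obj K).commShiftIso n).hom.app
      (𝟙_ (DRing.Cx A)) ≫= h3).trans ?_
  exact (Category.assoc _ _ _).symm

/-- `K ⊗ 𝟙⟦n⟧ ≅ K⟦n⟧`, naturally in the complex `K`. -/
noncomputable def tensorUnitShiftIso (n : ℤ) :
    tensorRight ((𝟙_ (DRing.Cx A))⟦n⟧) ≅ shiftFunctor (DRing.Cx A) n :=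
  NatIso.ofComponents (fun K => cIso K n) (fun f => cIso_nat f n)

variable [DTen.HasLTen A]

lemma isIso_εRight_of_isKFlat (E : DRing.Cx A) (hE : DRing.IsKFlat A E) :
    IsIso (DTen.εRight A E) := by
  haveI : ∀ K, IsIso ((DTen.εRight A E).app K) := fun K =>
    Groth.Agent.H53.DTenComp.isIso_ε_right A K E hE
  exact NatIso.isIso_of_isIso_app _

/-- `- ⊗^L Q(𝟙⟦n⟧) ≅ ⟦n⟧` on `D(A)`. -/
noncomputable def tensorRightDUnitShiftIso (n : ℤ) :
    tensorRightD A (DerivedCategory.Q.obj ((𝟙_ (DRing.Cx A))⟦n⟧)) ≅ shiftFunctor (Dual.D A) n :=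
  haveI := isIso_εRight_of_isKFlat (A := A) ((𝟙_ (DRing.Cx A))⟦n⟧)
    (Groth.Agent.H35.DTenUnit.isKFlat_unit_shift n)
  letI : Localization.Lifting (DerivedCategory.Q : DRing.Cx A ⥤ Dual.D A)
      (HomologicalComplex.quasiIso (ModuleCat.{u} A) (ComplexShape.up ℤ))
      (DerivedCategory.Q ⋙ tensorRightD A (DerivedCategory.Q.obj ((𝟙_ (DRing.Cx A))⟦n⟧)))
      (tensorRightD A (DerivedCategory.Q.obj ((𝟙_ (DRing.Cx A))⟦n⟧))) := ⟨Iso.refl _⟩
  letI : Localization.Lifting (DerivedCategory.Q : DRing.Cx A ⥤ Dual.D A)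
      (HomologicalComplex.quasiIso (ModuleCat.{u} A) (ComplexShape.up ℤ))
      (DerivedCategory.Q ⋙ shiftFunctor (Dual.D A) n) (shiftFunctor (Dual.D A) n) := ⟨Iso.refl _⟩
  Localization.liftNatIso (DerivedCategory.Q : DRing.Cx A ⥤ Dual.D A)
    (HomologicalComplex.quasiIso (ModuleCat.{u} A) (ComplexShape.up ℤ))
    (DerivedCategory.Q ⋙ tensorRightD A (DerivedCategory.Q.obj ((𝟙_ (DRing.Cx A))⟦n⟧)))
    (DerivedCategory.Q ⋙ shiftFunctor (Dual.D A) n) _ _
    (asIso (DTen.εRight A ((𝟙_ (DRing.Cx A))⟦n⟧)) ≪≫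
      Functor.isoWhiskerRight (tensorUnitShiftIso n) DerivedCategory.Q ≪≫
      (DerivedCategory.Q.commShiftIso n))

/-- Tensoring on the right with an object isomorphic to `Q(𝟙⟦n⟧)` is an equivalence. -/
theorem isEquivalence_tensorRightD_of_iso (X : Dual.D A) (n : ℤ)
    (e : X ≅ DerivedCategory.Q.obj ((𝟙_ (DRing.Cx A))⟦n⟧)) :
    (tensorRightD A X).IsEquivalence :=
  Functor.isEquivalence_of_iso
    ((LTen A).flip.mapIso e ≪≫ tensorRightDUnitShiftIso n).symm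

end Groth.Agent.H35.UnitShiftEquiv
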