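import Mathlib
import Groth.Prelude.Def_DTen5
import Groth.Agent.H35.LBaseMon
import Groth.Agent.H35.UnitShiftEquiv
import Groth.Agent.H35.FlatBC
import Groth.Agent.S13576
import Groth.Agent.H33.DTenClosed

/-!
Base change for derived hom (helper35): naturality of `rhomBC`, `bcRHom` in `K`, the compatibility
of `bcRHom` with evaluation, exactness of `LBase`, and `bcRHom` is an isomorphism for perfect `K`.
-/

set_option autoImplicit false
set_option linter.style.haveILetI false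
set_option linter.unusedSectionVars false
universe u
open CategoryTheory CategoryTheory.Limits MonoidalCategory Pretriangulated Opposite
attribute [local instance] HasDerivedCategory.standard

namespace Groth.Agent.H35.BcRHom

open DTen Groth.Agent.H35.TriChase Groth.Agent.H33.RHomExact Groth.Agent.H33.RelChase
  Groth.Agent.H35.LBaseMon Groth.Agent.H33.DTenClosed DerivedCategory

section OneRing

variable {A : Type u} [CommRing A] [HasLTen A] [HasRHom A]

lemma map_comp_mkHom' {a a' a'' b b' b'' : Dual.D A} (f : a ⟶ a') (f' : a' ⟶ a'')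
    (g : b ⟶ b') (g' : b' ⟶ b'') :
    (LTen₂ A).map (Prod.mkHom f g) ≫ (LTen₂ A).map (Prod.mkHom f' g') =
      (LTen₂ A).map (Prod.mkHom (f ≫ f') (g ≫ g')) := by
  rw [← Functor.map_comp]
  rfl

/-- `X ⊗^L Z = 0` for `Z = 0` (binder-free, through the symmetry). -/
lemma isZero_LTen₂_right (X : Dual.D A) {Z : Dual.D A} (hZ : IsZero Z) :
    IsZero ((LTen₂ A).obj (X, Z)) := by
  haveI := Groth.Agent.S13576.result A X Z
  have h0 : IsZero ((tensorRightD A X).obj Z) := (tensorRightD A X).map_isZero hZ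
  exact h0.of_iso (asIso ((DTen.symm A).app (X, Z))).symm

/-- `RHom(Z, M) = 0` for `Z = 0` (binder-free). -/
lemma isZero_RHomR_left {Z : Dual.D A} (hZ : IsZero Z) (M : Dual.D A) :
    IsZero ((RHomR A Z).obj M) := by
  rw [IsZero.iff_id_eq_zero]
  apply ((rhomAdj A Z).homEquiv _ _).symm.injective
  exact (isZero_LTen₂_right _ hZ).eq_of_src _ _

end OneRing

variable {R R' : Type u} [CommRing R] [CommRing R'] (φ : R →+* R')

section Tri

variable [HasLBase φ]

/-- `LBase` sends pairs extending to distinguished triangles to such pairs. -/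
lemma DT_LBase {a b c : Dual.D R} (p : a ⟶ b) (q : b ⟶ c) (h : DT p q) :
    DT ((LBase φ).map p) ((LBase φ).map q) := by
  letI := (baseAdj φ).leftAdjointCommShift ℤ
  haveI := (baseAdj φ).commShift_of_rightAdjoint ℤ
  haveI : (LBase φ).IsTriangulated := (baseAdj φ).isTriangulated_leftAdjoint
  obtain ⟨r, hr⟩ := h
  exact ⟨_, (LBase φ).map_distinguished _ hr⟩

/-- `LBase` preserves "represented by a bounded above complex of projectives". -/
lemma BP_LBase {x : Dual.D R} (h : BP x) : BP ((LBase φ).obj x) := by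
  obtain ⟨E, hE, ⟨e⟩⟩ := h
  haveI : IsIso ((baseCmp φ).app E) := Groth.Agent.S13894.result R R' φ E hE.isKFlat
  obtain ⟨⟨b, hb⟩, hp⟩ := hE
  refine ⟨(extCx φ).obj E, ⟨⟨b, Groth.Agent.H35.FlatBC.vanishesAbove_ext φ E b hb⟩, fun i => ?_⟩,
    ⟨(LBase φ).mapIso e ≪≫ asIso ((baseCmp φ).app E)⟩⟩
  haveI := hp i
  exact Groth.Agent.H35.FlatBC.projective_ext φ (E.X i)

end Tri

section OneRing'

variable {A : Type u} [CommRing A] [HasLTen A] [HasRHom A]

/-- naturality of the hom-equivalence in the `RHom` variable (binder-free). -/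
lemma homEquiv_symm_comp_RHomMap' {L L' : Dual.D A} (ρ : L' ⟶ L) {S M : Dual.D A}
    (v : S ⟶ (RHomR A L).obj M) :
    ((rhomAdj A L').homEquiv S M).symm (v ≫ RHomMap ρ M) =
      (LTen₂ A).map (Prod.mkHom (𝟙 S) ρ) ≫ ((rhomAdj A L).homEquiv S M).symm v := by
  rw [Adjunction.homEquiv_counit, Adjunction.homEquiv_counit]
  show (LTen₂ A).map (Prod.mkHom (v ≫ RHomMap ρ M) (𝟙 L')) ≫ ev L' M =
    (LTen₂ A).map (Prod.mkHom (𝟙 S) ρ) ≫ (LTen₂ A).map (Prod.mkHom v (𝟙 L)) ≫ ev L M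
  have h1 : (LTen₂ A).map (Prod.mkHom (v ≫ RHomMap ρ M) (𝟙 L')) =
      (LTen₂ A).map (Prod.mkHom v (𝟙 L')) ≫ (LTen₂ A).map (Prod.mkHom (RHomMap ρ M) (𝟙 L')) := by
    rw [map_comp_mkHom', Category.id_comp]
  rw [h1, Category.assoc, RHom_map_ev, ← Category.assoc, ← Category.assoc, map_comp_mkHom',
    map_comp_mkHom', Category.id_comp, Category.comp_id, Category.id_comp, Category.comp_id]

end OneRing'

variable {R R' : Type u} [CommRing R] [CommRing R'] (φ : R →+* R')
  [HasLTen R] [HasLTen R'] [HasRHom R] [HasRHom R'] [HasLBase φ] [HasResTen φ] [ResLegIso φ]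

lemma homEquiv_symm_rhomBC (K : Dual.D R) (M : Dual.D R') :
    ((rhomAdj R K).homEquiv _ _).symm (rhomBC φ K M) = rhomBCCore φ K M :=
  Equiv.symm_apply_apply _ _

lemma rhomBC_natural {K₁ K : Dual.D R} (g : K₁ ⟶ K) (M : Dual.D R') :
    (DRing.restrictD φ).map (RHomMap ((LBase φ).map g) M) ≫ rhomBC φ K₁ M =
      rhomBC φ K M ≫ RHomMap g ((DRing.restrictD φ).obj M) := by
  apply ((rhomAdj R K₁).homEquiv _ _).symm.injective
  rw [homEquiv_symm_comp_RHomMap', homEquiv_symm_rhomBC,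
    Adjunction.homEquiv_naturality_left_symm, homEquiv_symm_rhomBC]
  show (LTen₂ R).map (Prod.mkHom ((DRing.restrictD φ).map (RHomMap ((LBase φ).map g) M)) (𝟙 K₁)) ≫
    rhomBCCore φ K₁ M = _
  have hu := (baseAdj φ).unit.naturality g
  dsimp at hu
  have L1 : (LTen₂ R).map (Prod.mkHom ((DRing.restrictD φ).map (RHomMap ((LBase φ).map g) M)) (𝟙 K₁)) ≫
      (LTen₂ R).map (Prod.mkHom (𝟙 _) ((baseAdj φ).unit.app K₁)) =
      (LTen₂ R).map (Prod.mkHom (𝟙 _) ((baseAdj φ).unit.app K₁)) ≫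
      (LTen₂ R).map (Prod.mkHom ((DRing.restrictD φ).map (RHomMap ((LBase φ).map g) M))
        ((DRing.restrictD φ).map (𝟙 ((LBase φ).obj K₁)))) := by
    rw [map_comp_mkHom, map_comp_mkHom, CategoryTheory.Functor.map_id, Category.id_comp,
      Category.comp_id, Category.id_comp]
    erw [Category.comp_id]
  have R1 : (LTen₂ R).map (Prod.mkHom
        (𝟙 ((DRing.restrictD φ).obj ((RHomR R' ((LBase φ).obj K)).obj M))) g) ≫
      (LTen₂ R).map (Prod.mkHom (𝟙 _) ((baseAdj φ).unit.app K)) =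
      (LTen₂ R).map (Prod.mkHom (𝟙 _) ((baseAdj φ).unit.app K₁)) ≫
      (LTen₂ R).map (Prod.mkHom ((DRing.restrictD φ).map (𝟙 ((RHomR R' ((LBase φ).obj K)).obj M)))
        ((DRing.restrictD φ).map ((LBase φ).map g))) := by
    rw [map_comp_mkHom, map_comp_mkHom, CategoryTheory.Functor.map_id, Category.id_comp, hu]
  rw [rhomBCCore, rhomBCCore, reassoc_of% L1, reassoc_of% R1,
    reassoc_of% (resPF_nat φ (RHomMap ((LBase φ).map g) M) (𝟙 ((LBase φ).obj K₁))),
    reassoc_of% (resPF_nat φ (𝟙 ((RHomR R' ((LBase φ).obj K)).obj M)) ((LBase φ).map g)),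
    ← Functor.map_comp, ← Functor.map_comp, RHom_map_ev]


/-- `bcRHom` with its instance hypothesis discharged by `isIso_rhomBC`. -/
noncomputable def bc (K M : Dual.D R) :
    (LBase φ).obj ((RHomR R K).obj M) ⟶ (RHomR R' ((LBase φ).obj K)).obj ((LBase φ).obj M) :=
  haveI := isIso_rhomBC φ K ((LBase φ).obj M)
  bcRHom φ K M

lemma bcRHom_eq_bc (K M : Dual.D R) [IsIso (rhomBC φ K ((LBase φ).obj M))] :
    bcRHom φ K M = bc φ K M := rfl

lemma homEquiv_bc (K M : Dual.D R) :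
    (baseAdj φ).homEquiv _ _ (bc φ K M) =
      haveI := isIso_rhomBC φ K ((LBase φ).obj M)
      (RHomR R K).map ((baseAdj φ).unit.app M) ≫ inv (rhomBC φ K ((LBase φ).obj M)) := by
  haveI := isIso_rhomBC φ K ((LBase φ).obj M)
  rw [Adjunction.homEquiv_unit]
  exact bcRHom_fac φ K M

lemma bc_natural {K₁ K : Dual.D R} (g : K₁ ⟶ K) (M : Dual.D R) :
    (LBase φ).map (RHomMap g M) ≫ bc φ K₁ M =
      bc φ K M ≫ RHomMap ((LBase φ).map g) ((LBase φ).obj M) := by
  haveI := isIso_rhomBC φ K ((LBase φ).obj M)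
  haveI := isIso_rhomBC φ K₁ ((LBase φ).obj M)
  apply ((baseAdj φ).homEquiv _ _).injective
  rw [Adjunction.homEquiv_naturality_left, Adjunction.homEquiv_naturality_right, homEquiv_bc,
    homEquiv_bc]
  have n1 := rhomBC_natural φ g ((LBase φ).obj M)
  have n2 : RHomMap g M ≫ (RHomR R K₁).map ((baseAdj φ).unit.app M) =
      (RHomR R K).map ((baseAdj φ).unit.app M) ≫ RHomMap g ((DRing.restrictD φ).obj ((LBase φ).obj M)) :=
    (((RHom R).map g.op).naturality ((baseAdj φ).unit.app M)).symm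
  have n3 : inv (rhomBC φ K ((LBase φ).obj M)) ≫
      (DRing.restrictD φ).map (RHomMap ((LBase φ).map g) ((LBase φ).obj M)) =
      RHomMap g ((DRing.restrictD φ).obj ((LBase φ).obj M)) ≫ inv (rhomBC φ K₁ ((LBase φ).obj M)) := by
    rw [IsIso.inv_comp_eq, ← Category.assoc, IsIso.eq_comp_inv, n1]
  rw [Category.assoc, n3, reassoc_of% n2]

/-- Compatibility of `bc` with the evaluations. -/
lemma mon_bc_ev (K M : Dual.D R) :
    mon φ ((RHomR R K).obj M) K ≫
        (LTen₂ R').map (Prod.mkHom (bc φ K M) (𝟙 ((LBase φ).obj K))) ≫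
          ev ((LBase φ).obj K) ((LBase φ).obj M) =
      (LBase φ).map (ev K M) := by
  haveI := isIso_rhomBC φ K ((LBase φ).obj M)
  apply ((baseAdj φ).homEquiv _ _).injective
  rw [Adjunction.homEquiv_naturality_right, homEquiv_mon, Adjunction.homEquiv_unit]
  have hu := (baseAdj φ).unit.naturality (ev K M)
  dsimp at hu
  rw [← hu]
  -- LHS
  rw [monCore, Functor.map_comp, Category.assoc]
  have s1 : (LTen₂ R).map (Prod.mkHom ((DRing.restrictD φ).map (bc φ K M))
      ((DRing.restrictD φ).map (𝟙 ((LBase φ).obj K)))) ≫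
      (resPF φ).app ((RHomR R' ((LBase φ).obj K)).obj ((LBase φ).obj M), (LBase φ).obj K) =
      (resPF φ).app ((LBase φ).obj ((RHomR R K).obj M), (LBase φ).obj K) ≫
      (DRing.restrictD φ).map ((LTen₂ R').map (Prod.mkHom (bc φ K M) (𝟙 ((LBase φ).obj K)))) :=
    resPF_nat φ (bc φ K M) (𝟙 ((LBase φ).obj K))
  rw [← reassoc_of% s1, ← Category.assoc, map_comp_mkHom, CategoryTheory.Functor.map_id]
  have s2 : (baseAdj φ).unit.app ((RHomR R K).obj M) ≫ (DRing.restrictD φ).map (bc φ K M) =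
      (RHomR R K).map ((baseAdj φ).unit.app M) ≫ inv (rhomBC φ K ((LBase φ).obj M)) :=
    bcRHom_fac φ K M
  rw [s2]
  have s3 : (LTen₂ R).map (Prod.mkHom ((RHomR R K).map ((baseAdj φ).unit.app M) ≫
        inv (rhomBC φ K ((LBase φ).obj M)))
      ((baseAdj φ).unit.app K ≫ 𝟙 _)) =
      (LTen₂ R).map (Prod.mkHom ((RHomR R K).map ((baseAdj φ).unit.app M)) (𝟙 K)) ≫
      (LTen₂ R).map (Prod.mkHom (inv (rhomBC φ K ((LBase φ).obj M))) (𝟙 K)) ≫
      (LTen₂ R).map (Prod.mkHom (𝟙 _) ((baseAdj φ).unit.app K)) := by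
    rw [map_comp_mkHom, map_comp_mkHom, Category.comp_id, Category.id_comp, Category.id_comp,
      Category.comp_id]
  erw [s3]
  simp only [Category.assoc]
  have s4 : (LTen₂ R).map (Prod.mkHom (𝟙 _) ((baseAdj φ).unit.app K)) ≫
      (resPF φ).app ((RHomR R' ((LBase φ).obj K)).obj ((LBase φ).obj M), (LBase φ).obj K) ≫
      (DRing.restrictD φ).map (ev ((LBase φ).obj K) ((LBase φ).obj M)) =
      rhomBCCore φ K ((LBase φ).obj M) := rfl
  rw [s4, ← rhomBC_fac]
  have s5 : (LTen₂ R).map (Prod.mkHom (inv (rhomBC φ K ((LBase φ).obj M))) (𝟙 K)) ≫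
      (tensorRightD R K).map (rhomBC φ K ((LBase φ).obj M)) = 𝟙 _ := by
    show (LTen₂ R).map (Prod.mkHom (inv (rhomBC φ K ((LBase φ).obj M))) (𝟙 K)) ≫
      (LTen₂ R).map (Prod.mkHom (rhomBC φ K ((LBase φ).obj M)) (𝟙 K)) = 𝟙 _
    rw [map_comp_mkHom, IsIso.inv_hom_id, Category.comp_id]
    exact (LTen₂ R).map_id _
  rw [reassoc_of% s5]
  exact (rhomAdj R K).counit.naturality ((baseAdj φ).unit.app M)

/-- the base case: `bc` is an isomorphism when tensoring with `U` and `LBase U` are equivalences. -/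
lemma isIso_bc_of_isEquivalence (U M : Dual.D R) [(tensorRightD R U).IsEquivalence]
    [(tensorRightD R' ((LBase φ).obj U)).IsEquivalence] : IsIso (bc φ U M) := by
  have : (RHomR R U).IsEquivalence := (rhomAdj R U).isEquivalence_right_of_isEquivalence_left
  have : (RHomR R' ((LBase φ).obj U)).IsEquivalence :=
    (rhomAdj R' ((LBase φ).obj U)).isEquivalence_right_of_isEquivalence_left
  have h1 : IsIso (ev U M) := inferInstanceAs (IsIso ((rhomAdj R U).counit.app M))
  have h2 : IsIso (ev ((LBase φ).obj U) ((LBase φ).obj M)) :=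
    inferInstanceAs (IsIso ((rhomAdj R' ((LBase φ).obj U)).counit.app ((LBase φ).obj M)))
  have h3 := isIso_mon φ ((RHomR R U).obj M) U
  have h4 : IsIso (mon φ ((RHomR R U).obj M) U ≫
      (LTen₂ R').map (Prod.mkHom (bc φ U M) (𝟙 ((LBase φ).obj U))) ≫
        ev ((LBase φ).obj U) ((LBase φ).obj M)) := by
    rw [mon_bc_ev]; infer_instance
  have h5 : IsIso ((LTen₂ R').map (Prod.mkHom (bc φ U M) (𝟙 ((LBase φ).obj U))) ≫
        ev ((LBase φ).obj U) ((LBase φ).obj M)) := IsIso.of_isIso_comp_left (mon φ _ U) _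
  have h6 : IsIso ((LTen₂ R').map (Prod.mkHom (bc φ U M) (𝟙 ((LBase φ).obj U)))) :=
    IsIso.of_isIso_comp_right _ (ev ((LBase φ).obj U) ((LBase φ).obj M))
  have h7 : IsIso ((tensorRightD R' ((LBase φ).obj U)).map (bc φ U M)) := h6
  exact isIso_of_reflects_iso (bc φ U M) (tensorRightD R' ((LBase φ).obj U))


omit [HasLTen R] [HasLTen R'] [HasRHom R] [HasRHom R'] [HasLBase φ] [HasResTen φ] [ResLegIso φ] in
/-- `ext (𝟙⟦n⟧) ≅ 𝟙⟦n⟧` as complexes. -/
noncomputable def extUnitShiftIso (n : ℤ) :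
    (extCx φ).obj ((𝟙_ (DRing.Cx R))⟦n⟧) ≅ (𝟙_ (DRing.Cx R'))⟦n⟧ :=
  ((ModuleCat.extendScalars.{u, u, u} φ).mapCochainComplexShiftIso n).app (𝟙_ (DRing.Cx R)) ≪≫
    (shiftFunctor (DRing.Cx R') n).mapIso
      ((HomologicalComplex.singleMapHomologicalComplex (ModuleCat.extendScalars.{u, u, u} φ)
          (ComplexShape.up ℤ) 0).app (𝟙_ (ModuleCat.{u} R)) ≪≫
        (HomologicalComplex.single (ModuleCat.{u} R') (ComplexShape.up ℤ) 0).mapIso
          (Functor.Monoidal.εIso (ModuleCat.extendScalars.{u, u, u} φ)).symm)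

/-- `LBase` of an object isomorphic to `Q(𝟙⟦n⟧)` is isomorphic to `Q(𝟙⟦n⟧)`. -/
noncomputable def LBaseUnitShiftIso (X : Dual.D R) (n : ℤ)
    (e : X ≅ DerivedCategory.Q.obj ((𝟙_ (DRing.Cx R))⟦n⟧)) :
    (LBase φ).obj X ≅ DerivedCategory.Q.obj ((𝟙_ (DRing.Cx R'))⟦n⟧) :=
  haveI : IsIso ((baseCmp φ).app ((𝟙_ (DRing.Cx R))⟦n⟧)) :=
    Groth.Agent.S13894.result R R' φ _ (Groth.Agent.H35.DTenUnit.isKFlat_unit_shift n)
  (LBase φ).mapIso e ≪≫ asIso ((baseCmp φ).app ((𝟙_ (DRing.Cx R))⟦n⟧)) ≪≫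
    DerivedCategory.Q.mapIso (extUnitShiftIso φ n)

lemma isIso_bc_of_iso_unit_shift (X M : Dual.D R) (n : ℤ)
    (e : X ≅ DerivedCategory.Q.obj ((𝟙_ (DRing.Cx R))⟦n⟧)) : IsIso (bc φ X M) := by
  haveI := Groth.Agent.H35.UnitShiftEquiv.isEquivalence_tensorRightD_of_iso X n e
  haveI := Groth.Agent.H35.UnitShiftEquiv.isEquivalence_tensorRightD_of_iso ((LBase φ).obj X) n
    (LBaseUnitShiftIso φ X n e)
  exact isIso_bc_of_isEquivalence φ X M


/-! ### dévissage on perfect `K` -/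

/-- `K ↦ LBase (RHom(K, M))`. -/
noncomputable abbrev Fc (M : Dual.D R) : (Dual.D R)ᵒᵖ ⥤ Dual.D R' :=
  (RHom R).flip.obj M ⋙ LBase φ

/-- `K ↦ RHom(LBase K, LBase M)`. -/
noncomputable abbrev Gc (M : Dual.D R) : (Dual.D R)ᵒᵖ ⥤ Dual.D R' :=
  (LBase φ).op ⋙ (RHom R').flip.obj ((LBase φ).obj M)

/-- `bc φ - M` as a natural transformation of contravariant functors. -/
noncomputable def bcNat (M : Dual.D R) : Fc φ M ⟶ Gc φ M where
  app X := bc φ (unop X) M
  naturality _ _ g := bc_natural φ g.unop M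

lemma DT_Fc (M : Dual.D R) {a b c : Dual.D R} (p : a ⟶ b) (q : b ⟶ c) (h : DT p q) (ha : BP a)
    (hc : BP c) : DT ((Fc φ M).map q.op) ((Fc φ M).map p.op) :=
  DT_LBase φ _ _ (DT_RHomMap p q h ha hc M)

lemma DT_Gc (M : Dual.D R) {a b c : Dual.D R} (p : a ⟶ b) (q : b ⟶ c) (h : DT p q) (ha : BP a)
    (hc : BP c) : DT ((Gc φ M).map q.op) ((Gc φ M).map p.op) :=
  DT_RHomMap ((LBase φ).map p) ((LBase φ).map q) (DT_LBase φ p q h) (BP_LBase φ ha)
    (BP_LBase φ hc) _

/-- The natural transformation on which the chase runs. -/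
noncomputable abbrev η' (M : Dual.D R) : (Gc φ M).rightOp ⟶ (Fc φ M).rightOp :=
  NatTrans.rightOp (bcNat φ M)

lemma hG' (M : Dual.D R) : WeakExactOn BP (Gc φ M).rightOp :=
  weakExactOn_rightOp (Gc φ M) (fun p q h ha hc => DT_Gc φ M p q h ha hc)

lemma hF' (M : Dual.D R) : WeakExactOn BP (Fc φ M).rightOp :=
  weakExactOn_rightOp (Fc φ M) (fun p q h ha hc => DT_Fc φ M p q h ha hc)

lemma hG0 (M : Dual.D R) (x : Dual.D R) (hx : IsZero x) : IsZero ((Gc φ M).rightOp.obj x) :=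
  (isZero_RHomR_left ((LBase φ).map_isZero hx) _).op

lemma hF0 (M : Dual.D R) (x : Dual.D R) (hx : IsZero x) : IsZero ((Fc φ M).rightOp.obj x) :=
  ((LBase φ).map_isZero (isZero_RHomR_left hx M)).op

lemma extClosed (M : Dual.D R) :
    Groth.Agent.H35.Devissage.IsExtClosed (Pr BP (η' φ M)) where
  iso e h := h.iso stable_BP e
  zero hK := Pr.zero stable_BP (hG0 φ M) (hF0 φ M) hK
  ext T hT h1 h3 := Pr.ext stable_BP (hG' φ M) (hF' φ M) T hT h1 h3

lemma Pr_unit (M : Dual.D R) :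
    Pr BP (η' φ M) ((singleFunctor (ModuleCat.{u} R) 0).obj (ModuleCat.of R R)) := by
  refine ⟨BP_single (ModuleCat.of R R) 0, ?_⟩
  have h : PP (η' φ M) (DTen.unit R) := fun n => by
    have := isIso_bc_of_iso_unit_shift φ ((DTen.unit R)⟦n⟧) M n
      ((DerivedCategory.Q.commShiftIso n).app (𝟙_ (DRing.Cx R))).symm
    show IsIso (bc φ ((DTen.unit R)⟦n⟧) M).op
    infer_instance
  exact h.iso ((singleFunctorIsoCompQ (ModuleCat.{u} R) 0).app (ModuleCat.of R R)).symm

lemma Pr_free (M : Dual.D R) (m : ℕ) :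
    Pr BP (η' φ M)
      ((singleFunctor (ModuleCat.{u} R) 0).obj (ModuleCat.of R (Fin m → R))) := by
  induction m with
  | zero =>
    apply (extClosed φ M).zero
    apply Functor.map_isZero
    exact ModuleCat.isZero_of_subsingleton _
  | succ m ih =>
    let F := singleFunctor (ModuleCat.{u} R) 0
    have h2 := Pr.biprod stable_BP (hG' φ M) (hF' φ M) (Pr_unit φ M) ih
    let e0 : ModuleCat.of R (Fin (m + 1) → R) ≅
        (ModuleCat.of R R ⊞ ModuleCat.of R (Fin m → R) : ModuleCat.{u} R) :=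
      (Fin.consLinearEquiv R (fun _ : Fin (m + 1) => R)).symm.toModuleIso ≪≫
        (ModuleCat.biprodIsoProd (ModuleCat.of R R) (ModuleCat.of R (Fin m → R))).symm
    haveI : PreservesBinaryBiproducts F := preservesBinaryBiproducts_of_preservesBiproducts F
    exact h2.iso stable_BP ((F.mapIso e0 ≪≫ F.mapBiprod _ _).symm)

lemma Pr_finiteProjective (M : Dual.D R) (N : ModuleCat.{u} R) [Module.Finite R N]
    [Module.Projective R N] (i : ℤ) :
    Pr BP (η' φ M) ((singleFunctor (ModuleCat.{u} R) i).obj N) := by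
  obtain ⟨m, f, g, -, -, hfg⟩ := Module.Finite.exists_comp_eq_id_of_projective R N
  let F := singleFunctor (ModuleCat.{u} R) 0
  have h0 : Pr BP (η' φ M) (F.obj N) := by
    refine Pr.retract stable_BP (F.map (ModuleCat.ofHom g)) (F.map (ModuleCat.ofHom f)) ?_
      (BP_single N 0) (Pr_free φ M m)
    rw [← F.map_comp, ← ModuleCat.ofHom_comp, hfg]
    exact F.map_id N
  have e := ((singleFunctors (ModuleCat.{u} R)).shiftIso (-i) i 0 (by omega)).app N
  exact (h0.shift stable_BP (-i)).iso stable_BP e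

/-- `bcRHom` is an isomorphism for perfect `K`. -/
theorem isIso_bc_of_isPerfect (K M : Dual.D R) (hK : DRing.IsPerfect R K) : IsIso (bc φ K M) := by
  obtain ⟨E, a, b, hE, hfp, ⟨e⟩⟩ := hK
  have h : Pr BP (η' φ M) (Q.obj E) := by
    refine Groth.Agent.H35.Devissage.of_terms (extClosed φ M) a ((b - a).toNat + 1) E b hE
      (by omega) (fun i => ?_)
    have := (hfp i).1
    have := (hfp i).2
    exact Pr_finiteProjective φ M (E.X i) i
  have h2 : IsIso ((η' φ M).app K) := (h.2.iso e).self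
  have h3 : IsIso (bc φ K M).op := h2
  exact isIso_of_op _

end Groth.Agent.H35.BcRHom
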