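import Groth.Agent.H35.TorIndBC

/-!
# The chain-level base change map of a pushout square of rings is an isomorphism (helper35)
-/

set_option autoImplicit false
universe u
open CategoryTheory CategoryTheory.Limits TensorProduct
open ChangeOfRings
attribute [local instance] HasDerivedCategory.standard

namespace Groth.Agent.H35.PushoutBC

open DTen Groth.Agent.H35.TorIndBC
open Groth.Agent.H35.BCSquare (modX towerX e₀)

variable {R A R' A' : Type u} [CommRing R] [CommRing A] [CommRing R'] [CommRing A']
  [Algebra R A] [Algebra R R'] [Algebra A A'] [Algebra R' A'] [Algebra R A']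
  [IsScalarTower R A A'] [IsScalarTower R R' A'] [Algebra.IsPushout R A R' A']

section Mod

variable (X : ModuleCat.{u} A)

set_option backward.isDefEq.respectTransparency false in
/-- Mathlib's cancellation isomorphism `A' ⊗[A] X ≃ R' ⊗[R] X`. -/
noncomputable def mE :
    letI := modX (B₀ := R) X
    A' ⊗[A] X ≃ₗ[R'] R' ⊗[R] X :=
  letI := modX (B₀ := R) X
  haveI := towerX (B₀ := R) X
  haveI : Algebra.IsPushout R R' A A' := Algebra.IsPushout.symm inferInstance
  Algebra.IsPushout.cancelBaseChange R R' A A' X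

set_option backward.isDefEq.respectTransparency false in
/-- the comparison map `R' ⊗[R] X → A' ⊗[A] X` as an additive equivalence -/
noncomputable def bcAdd :
    ((ModuleCat.extendScalars.{u, u, u} (algebraMap R R')).obj
        ((ModuleCat.restrictScalars.{u} (algebraMap R A)).obj X) : ModuleCat.{u} R') ≃+
      ((ModuleCat.restrictScalars.{u} (algebraMap R' A')).obj
        ((ModuleCat.extendScalars.{u, u, u} (algebraMap A A')).obj X) : ModuleCat.{u} R') :=
  letI := modX (B₀ := R) X
  ((TensorProduct.congr (e₀ (B₀ := R) (B₁ := R')) (LinearEquiv.refl R X)).symm.toAddEquiv).trans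
    ((mE (R := R) (R' := R') (A' := A') X).symm.toAddEquiv.trans
      (TensorProduct.congr (e₀ (B₀ := A) (B₁ := A')) (LinearEquiv.refl A X)).toAddEquiv)

set_option backward.isDefEq.respectTransparency false in
lemma bcAdd_tmul (b : R') (x : X) :
    bcAdd (R := R) (R' := R') (A' := A') X (b ⊗ₜ[R, algebraMap R R'] x) =
      (algebraMap R' A' b) ⊗ₜ[A, algebraMap A A'] x := by
  let _ := modX (B₀ := R) X
  have := towerX (B₀ := R) X
  have : Algebra.IsPushout R R' A A' := Algebra.IsPushout.symm inferInstance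
  show (TensorProduct.congr (e₀ (B₀ := A) (B₁ := A')) (LinearEquiv.refl A X))
    ((Algebra.IsPushout.cancelBaseChange R R' A A' X).symm
      ((TensorProduct.congr (e₀ (B₀ := R) (B₁ := R')) (LinearEquiv.refl R X)).symm (b ⊗ₜ x))) = _
  rw [TensorProduct.congr_symm_tmul]
  erw [Algebra.IsPushout.cancelBaseChange_symm_tmul R R' A A' X b x]
  rw [TensorProduct.congr_tmul]
  rfl

end Mod

section Cx

variable (h : (algebraMap A A').comp (algebraMap R A) = (algebraMap R' A').comp (algebraMap R R'))

/-- The chain-level base change map `(P|_R) ⊗_R R' ⟶ (P ⊗_A A')|_{R'}`. -/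
noncomputable def βCx (P : DRing.Cx A) :
    (extCx (algebraMap R R')).obj ((resCx (algebraMap R A)).obj P) ⟶
      (resCx (algebraMap R' A')).obj ((extCx (algebraMap A A')).obj P) :=
  ((Groth.Agent.H53.BaseAdj.adjCx (algebraMap R R')).homEquiv _ _).symm (uCx h P)

lemma βCx_f (P : DRing.Cx A) (i : ℤ) :
    (βCx h P).f i =
      (ModuleCat.extendScalars.{u, u, u} (algebraMap R R')).map ((uCx h P).f i) ≫
        (ModuleCat.extendRestrictScalarsAdj.{u, u, u} (algebraMap R R')).counit.app _ := by
  unfold βCx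
  rw [Adjunction.homEquiv_counit]
  rfl

lemma uCx_f_apply (P : DRing.Cx A) (i : ℤ) (x : P.X i) :
    ((uCx h P).f i).hom x = (1 : A') ⊗ₜ[A, algebraMap A A'] x := by
  rfl

lemma addHom_eq_of_tmul {M N T : Type*} [AddCommGroup M] [Module R M] [AddCommGroup N] [Module R N]
    [AddCommGroup T] (f g : M ⊗[R] N →+ T) (hfg : ∀ m n, f (m ⊗ₜ n) = g (m ⊗ₜ n)) (v : M ⊗[R] N) :
    f v = g v := by
  induction v using TensorProduct.induction_on with
  | zero => rw [map_zero, map_zero]
  | tmul m n => exact hfg m n
  | add v w hv hw => rw [map_add, map_add, hv, hw]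

lemma βCx_f_tmul (P : DRing.Cx A) (i : ℤ) (b : R') (x : P.X i) :
    ((βCx h P).f i).hom (b ⊗ₜ[R, algebraMap R R'] x) =
      bcAdd (R := R) (R' := R') (A' := A') (P.X i) (b ⊗ₜ[R, algebraMap R R'] x) := by
  rw [bcAdd_tmul, βCx_f]
  show ((algebraMap R' A' b) * (1 : A')) ⊗ₜ[A, algebraMap A A'] x = _
  rw [mul_one]

lemma βCx_f_apply (P : DRing.Cx A) (i : ℤ)
    (v : ((ModuleCat.extendScalars.{u, u, u} (algebraMap R R')).obj
        ((ModuleCat.restrictScalars.{u} (algebraMap R A)).obj (P.X i)) : ModuleCat.{u} R')) :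
    ((βCx h P).f i).hom v = bcAdd (R := R) (R' := R') (A' := A') (P.X i) v :=
  addHom_eq_of_tmul (R := R)
    (M := ((ModuleCat.restrictScalars.{u} (algebraMap R R')).obj (ModuleCat.of R' R')))
    (N := ((ModuleCat.restrictScalars.{u} (algebraMap R A)).obj (P.X i)))
    (AddMonoidHomClass.toAddMonoidHom ((βCx h P).f i).hom)
    (bcAdd (R := R) (R' := R') (A' := A') (P.X i)).toAddMonoidHom
    (fun b x => βCx_f_tmul h P i b x) v

lemma isIso_βCx (P : DRing.Cx A) : IsIso (βCx h P) := by
  have : ∀ i, IsIso ((βCx h P).f i) := fun i => by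
    apply (ConcreteCategory.isIso_iff_bijective _).2
    have : ⇑(ConcreteCategory.hom ((βCx h P).f i)) =
        ⇑(bcAdd (R := R) (R' := R') (A' := A') (P.X i)) := funext (βCx_f_apply h P i)
    rw [this]
    exact (bcAdd (R := R) (R' := R') (A' := A') (P.X i)).bijective
  exact HomologicalComplex.Hom.isIso_of_components _

end Cx

end Groth.Agent.H35.PushoutBC
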