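import Mathlib
import Groth.Agent.H35.BCSquare
import Groth.Agent.H35.LTensorCxTor
import Groth.Agent.H35.TorBridge
import Groth.Agent.H35.DegZero

/-!
# Tor independence and termwise base change of restricted K-flat complexes (helper35)

For `φ : R → A`, `ρ : R → R'` with `Tor_n^R(A, R') = 0` for `n ≥ 1`, a K-flat complex `P` over `A`
and a K-flat resolution `π : F ⟶ P|_R` over `R`, the map `π ⊗_R R'` is a quasi-isomorphism.
-/

set_option autoImplicit false
universe u
open CategoryTheory CategoryTheory.Limits MonoidalCategory HomologicalComplex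
attribute [local instance] HasDerivedCategory.standard

namespace Groth.Agent.H35.TorIndQis

open DRing DerivedCategory Groth.Agent.H31 Groth.Agent.H31.KFlat Groth.Agent.H35.TorAmp
  Groth.Agent.H35.FlatBC Groth.Agent.H35.KFlatBC Groth.Agent.H35.LBC Groth.Agent.H35.LTC
  Groth.Agent.H35.BCSquare

section

variable {R A : Type u} [CommRing R] [CommRing A] (φ : R →+* A)

/-- `A` as an `R`-module. -/
noncomputable abbrev AR : ModuleCat.{u} R := (Res φ).obj (𝟙_ (ModuleCat.{u} A))

lemma exactAt_ext_iff (X : Cx R) (i : ℤ) :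
    ((FlatBC.extCx φ).obj X).ExactAt i ↔ (CohIII.tensorObj X (AR φ)).ExactAt i := by
  rw [← exactAt_tensor_ext_iff φ X (𝟙_ _) i]
  exact ⟨fun h => h.of_iso (Groth.Agent.S6945.unitIso _).symm,
    fun h => exactAt_of_tensor_unit _ i h⟩

/-- If `L ⊗_R A` is acyclic and `P` is K-flat over `A` then `L ⊗_R P|_R` is acyclic. -/
theorem acyclic_tensor_resCx (P : Cx A) (hP : DRing.IsKFlat A P) (L : Cx R)
    (hL : ((FlatBC.extCx φ).obj L).Acyclic) :
    (mapBifunctor L ((DRing.restrictCx φ).obj P) (curriedTensor (ModuleCat.{u} R))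
      (ComplexShape.up ℤ)).Acyclic := by
  rw [KFlatRing.isKFlat_iff] at hP
  have h2 := hP _ hL
  have e := totIso (curriedTensor (ModuleCat.{u} A)) (curriedTensor (ModuleCat.{u} R)) (Res φ)
    (((ext φ).mapHomologicalComplex (ComplexShape.up ℤ)).obj L) P L
    (((Res φ).mapHomologicalComplex (ComplexShape.up ℤ)).obj P)
    (fun p q => cancelIso' φ (L.X p) (P.X q))
    (fun p q => cancelIso'_natural_left φ (L.d p (p + 1)) (P.X q))
    (fun p q => cancelIso'_natural_right φ (L.X p) (P.d q (q + 1)))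
  exact acyclic_of_iso e (acyclic_map_of_exact (Res φ) _ h2)

end

section Tor

variable {R : Type u} [CommRing R]

lemma isKFlat_cochainComplex {X : ModuleCat.{u} R} (P : ProjectiveResolution X) :
    DRing.IsKFlat R P.cochainComplex :=
  KFlatRing.isKFlat_of_bounded_above_flat P.cochainComplex 0 (vanishesAbove_cochainComplex P)
    (flat_cochainComplex P)

/-- Balancing: `H^{-(m+1)}(P_N ⊗ M) = 0` if `Tor_{m+1}(M, N) = 0`. -/
lemma exactAt_tensor_cochainComplex_of_tor {M N : ModuleCat.{u} R} (PM : ProjectiveResolution M)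
    (PN : ProjectiveResolution N) (m : ℕ)
    (h : IsZero (((Tor (ModuleCat.{u} R) (m + 1)).obj M).obj N)) :
    (CohIII.tensorObj PN.cochainComplex M).ExactAt (-((m + 1 : ℕ) : ℤ)) := by
  have h1 : (CohIII.tensorObj PM.complex N).ExactAt (m + 1) :=
    (exactAt_tensor_complex_iff_tor PM N (m + 1)).2 h
  have h2 : (CohIII.tensorObj PM.cochainComplex N).ExactAt (-((m + 1 : ℕ) : ℤ)) :=
    (exactAt_tensor_cochainComplex_iff PM N m).2 h1
  have h3 : (sg N ⊗ PM.cochainComplex).ExactAt (-((m + 1 : ℕ) : ℤ)) :=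
    h2.of_iso (singleTensorIso N PM.cochainComplex)
  have hqN : QuasiIso PN.π' := inferInstance
  have hqM : QuasiIso PM.π' := inferInstance
  exact (exactAt_tensor_resolution_iff (isKFlat_cochainComplex PN) PN.π' hqN
    (isKFlat_cochainComplex PM) M PM.π' hqM _).1 h3

end Tor

section Main

variable {R A R' : Type u} [CommRing R] [CommRing A] [CommRing R'] (φ : R →+* A) (ρ : R →+* R')

lemma quasiIso_ext_π' {N : ModuleCat.{u} R} (PN : ProjectiveResolution N)
    (htor : ∀ n : ℕ, IsZero (((Tor (ModuleCat.{u} R) (n + 1)).obj (AR φ)).obj N)) :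
    QuasiIso ((FlatBC.extCx φ).map PN.π') := by
  rw [quasiIso_iff]
  intro i
  have hL : ∀ j : ℤ, j ≠ 0 → ((FlatBC.extCx φ).obj
      ((CochainComplex.singleFunctor (ModuleCat.{u} R) 0).obj N)).ExactAt j := fun j hj =>
    ShortComplex.exact_of_isZero_X₂ _ ((ext φ).map_isZero (isZero_sg_X N j hj))
  rcases lt_trichotomy i 0 with hi | hi | hi
  · obtain ⟨m, rfl⟩ : ∃ m : ℕ, i = -((m + 1 : ℕ) : ℤ) :=
      ⟨(-i - 1).toNat, by push_cast; omega⟩
    have hK : ((FlatBC.extCx φ).obj PN.cochainComplex).ExactAt (-((m + 1 : ℕ) : ℤ)) :=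
      (exactAt_ext_iff φ _ _).2
        (exactAt_tensor_cochainComplex_of_tor (projectiveResolution (AR φ)) PN m (htor m))
    exact (quasiIsoAt_iff_exactAt _ _ hK).2 (hL _ (by omega))
  · subst hi
    have : PreservesFiniteColimits (ext φ) := inferInstance
    refine Groth.Agent.H35.DegZero.quasiIsoAt_map_zero (ext φ) PN.cochainComplex _
      (vanishesAbove_cochainComplex PN 1 (by omega)) ?_ ?_ PN.π' (inferInstance)
    · exact HomologicalComplex.single_obj_d _ _ _ _ _
    · exact HomologicalComplex.single_obj_d _ _ _ _ _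
  · have hK : ((FlatBC.extCx φ).obj PN.cochainComplex).ExactAt i :=
      ShortComplex.exact_of_isZero_X₂ _
        ((ext φ).map_isZero (vanishesAbove_cochainComplex PN i hi))
    exact (quasiIsoAt_iff_exactAt _ _ hK).2 (hL _ (by omega))

/-- Tor independent base change at the level of complexes. -/
theorem quasiIso_ext_map_of_tor
    (htor : ∀ n : ℕ, IsZero (((Tor (ModuleCat.{u} R) (n + 1)).obj (AR φ)).obj (AR ρ)))
    (P : Cx A) (hP : DRing.IsKFlat A P) (F : Cx R) (hF : DRing.IsKFlat R F)
    (π : F ⟶ (DRing.restrictCx φ).obj P) (hπ : QuasiIso π) :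
    QuasiIso ((FlatBC.extCx ρ).map π) := by
  let PN := projectiveResolution (AR ρ)
  let G : Cx R := PN.cochainComplex
  let θ : G ⟶ sg (AR ρ) := PN.π'
  have hG : DRing.IsKFlat R G := isKFlat_cochainComplex PN
  have hθ : QuasiIso θ := inferInstanceAs (QuasiIso PN.π')
  have hT : (CochainComplex.mappingCone θ).Acyclic := (quasiIso_iff_acyclic_mappingCone θ).1 hθ
  have hextT : ((FlatBC.extCx φ).obj (CochainComplex.mappingCone θ)).Acyclic :=
    acyclic_of_iso (CochainComplex.mappingCone.mapHomologicalComplexIso θ (ext φ)).symm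
      ((quasiIso_iff_acyclic_mappingCone _).1 (quasiIso_ext_π' φ PN htor))
  have h3 := acyclic_tensor_resCx φ P hP _ hextT
  have h4 := (KFlatRing.isKFlat_iff F).1 hF _ hT
  have hC : (CochainComplex.mappingCone π).Acyclic := (quasiIso_iff_acyclic_mappingCone π).1 hπ
  have h5 := (acyclic_mappingCone_right (curriedTensor (ModuleCat.{u} R))
    (CochainComplex.mappingCone θ) π).1 h4 h3
  have h6 : ((CochainComplex.mappingCone π) ⊗ (CochainComplex.mappingCone θ)).Acyclic :=
    acyclic_of_iso (braidCx (CochainComplex.mappingCone θ) (CochainComplex.mappingCone π)) h5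
  have h7 := (KFlatRing.isKFlat_iff G).1 hG _ hC
  have h8 := (acyclic_mappingCone_right (curriedTensor (ModuleCat.{u} R))
    (CochainComplex.mappingCone π) θ).2.1 h7 h6
  have h9 : (CohIII.tensorObj (CochainComplex.mappingCone π) (AR ρ)).Acyclic :=
    acyclic_of_iso (braidCx (CochainComplex.mappingCone π) (sg (AR ρ)) ≪≫
      (singleTensorIso (AR ρ) (CochainComplex.mappingCone π)).symm) h8
  have h10 : ((FlatBC.extCx ρ).obj (CochainComplex.mappingCone π)).Acyclic :=
    fun i => (exactAt_ext_iff ρ _ i).2 (h9 i)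
  have h11 := acyclic_of_iso (CochainComplex.mappingCone.mapHomologicalComplexIso π (ext ρ)) h10
  exact (quasiIso_iff_acyclic_mappingCone _).2 h11

end Main

end Groth.Agent.H35.TorIndQis
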