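import Groth.Agent.H35.TorIndBC
import Groth.Agent.H35.TorIndQis
import Groth.Agent.H35.PushoutBC

/-!
# Tor independent base change: the comparison map `TrivBC.cmp` is an isomorphism (helper35)
-/

set_option autoImplicit false
universe u
open CategoryTheory CategoryTheory.Limits
attribute [local instance] HasDerivedCategory.standard

namespace Groth.Agent.H35.TorIndMain

open DTen Groth.Agent.H35.TorIndBC Groth.Agent.H35.TorIndQis Groth.Agent.H35.PushoutBC
  Groth.Agent.H31

variable (R A R' A' : Type u) [CommRing R] [CommRing A] [CommRing R'] [CommRing A']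
  [Algebra R A] [Algebra R R'] [Algebra A A'] [Algebra R' A'] [Algebra R A']
  [IsScalarTower R A A'] [IsScalarTower R R' A'] [Algebra.IsPushout R A R' A']

/-- `B` as an `R`-module, two ways. -/
noncomputable def unitResIso (B : Type u) [CommRing B] [Algebra R B] :
    ModuleCat.of R B ≅ AR (algebraMap R B) :=
  (Groth.Agent.H35.BCSquare.e₀ (B₀ := R) (B₁ := B)).toModuleIso

lemma isZero_tor (htor : ∀ p : ℕ, 1 ≤ p → Subsingleton (DRing.Tor R p A R')) (n : ℕ) :
    IsZero (((Tor (ModuleCat.{u} R) (n + 1)).obj (AR (algebraMap R A))).obj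
      (AR (algebraMap R R'))) := by
  have h1 : IsZero (((Tor (ModuleCat.{u} R) (n + 1)).obj (ModuleCat.of R A)).obj
      (ModuleCat.of R R')) := by
    have := htor (n + 1) (by omega)
    exact ModuleCat.isZero_of_subsingleton _
  exact h1.of_iso (((Tor (ModuleCat.{u} R) (n + 1)).mapIso (unitResIso R A)).app _ ≪≫
    ((Tor (ModuleCat.{u} R) (n + 1)).obj _).mapIso (unitResIso R R')).symm

theorem isIso_cmp (htor : ∀ p : ℕ, 1 ≤ p → Subsingleton (DRing.Tor R p A R'))
    [DRing.HasLBaseChange (algebraMap R R')] [DRing.HasLBaseChange (algebraMap A A')]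
    (adjρ : DRing.LBaseChange (algebraMap R R') ⊣ DRing.restrictD (algebraMap R R'))
    (adjα : DRing.LBaseChange (algebraMap A A') ⊣ DRing.restrictD (algebraMap A A'))
    (h : (algebraMap A A').comp (algebraMap R A) = (algebraMap R' A').comp (algebraMap R R'))
    (K : Dual.D A) : IsIso (TrivBC.cmp adjρ adjα h K) := by
  obtain ⟨P, hP, -, ⟨e⟩⟩ := Groth.Agent.H35.LBC.exists_kflat_model K
  obtain ⟨F, π, hF, -, hπ, -⟩ :=
    KFlatRing.exists_isKFlat_resolution ((resCx (algebraMap R A)).obj P)
  -- the chain level
  have h1 : QuasiIso ((extCx (algebraMap R R')).map π) :=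
    quasiIso_ext_map_of_tor (algebraMap R A) (algebraMap R R') (isZero_tor R A R' htor) P hP F hF π hπ
  have h2 : IsIso (βCx h P) := isIso_βCx h P
  have hγ : QuasiIso (((Groth.Agent.H53.BaseAdj.adjCx (algebraMap R R')).homEquiv F
      ((resCx (algebraMap R' A')).obj ((extCx (algebraMap A A')).obj P))).symm (π ≫ uCx h P)) := by
    rw [Adjunction.homEquiv_naturality_left_symm]
    have : QuasiIso (βCx h P) := inferInstance
    exact quasiIso_comp _ (βCx h P)
  have hm₁ := isUniv_of_quasiIso (algebraMap R R') _ _ (uCx h P) F hF π hπ hγ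
  -- universality of `m₀`
  have ia : IsIso ((aLB (algebraMap A A')).app P) := isIso_aLB_app _ P hP
  let j₀ : (DRing.restrictD (algebraMap R' A')).obj
      ((DRing.LBaseChange (algebraMap A A')).obj (DerivedCategory.Q.obj P)) ≅
      DerivedCategory.Q.obj ((resCx (algebraMap R' A')).obj ((extCx (algebraMap A A')).obj P)) :=
    (DRing.restrictD (algebraMap R' A')).mapIso (asIso ((aLB (algebraMap A A')).app P)) ≪≫
      (resFactors (algebraMap R' A')).app _
  have hm₀ : IsUniv (DRing.restrictD (algebraMap R R'))
      ((DRing.restrictD (algebraMap R A)).map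
          ((adj₀ (algebraMap A A')).unit.app (DerivedCategory.Q.obj P)) ≫
        (TrivBC.resComm h).hom.app
          ((DRing.LBaseChange (algebraMap A A')).obj (DerivedCategory.Q.obj P))) := by
    refine hm₁.of_iso ((resFactors (algebraMap R A)).app P) j₀.symm _ ?_
    have mc := m_compute h P
    have hj : (DRing.restrictD (algebraMap R R')).map
        ((DRing.restrictD (algebraMap R' A')).map ((aLB (algebraMap A A')).app P)) ≫
        (DRing.restrictD (algebraMap R R')).map
          ((resFactors (algebraMap R' A')).hom.app ((extCx (algebraMap A A')).obj P)) ≫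
        (DRing.restrictD (algebraMap R R')).map j₀.inv = 𝟙 _ := by
      rw [← Functor.map_comp, ← Functor.map_comp]
      have : (DRing.restrictD (algebraMap R' A')).map ((aLB (algebraMap A A')).app P) ≫
          (resFactors (algebraMap R' A')).hom.app ((extCx (algebraMap A A')).obj P) ≫ j₀.inv =
          𝟙 _ := by
        rw [← Category.assoc]
        exact j₀.hom_inv_id
      rw [this, CategoryTheory.Functor.map_id]
    calc _ = ((DRing.restrictD (algebraMap R A)).map
          ((adj₀ (algebraMap A A')).unit.app (DerivedCategory.Q.obj P)) ≫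
        (TrivBC.resComm h).hom.app
          ((DRing.LBaseChange (algebraMap A A')).obj (DerivedCategory.Q.obj P)) ≫
        (DRing.restrictD (algebraMap R R')).map
          ((DRing.restrictD (algebraMap R' A')).map ((aLB (algebraMap A A')).app P)) ≫
        (DRing.restrictD (algebraMap R R')).map
          ((resFactors (algebraMap R' A')).hom.app ((extCx (algebraMap A A')).obj P)) ≫
        (resFactors (algebraMap R R')).hom.app _) ≫
        (resFactors (algebraMap R R')).inv.app _ ≫
        (DRing.restrictD (algebraMap R R')).map j₀.inv := by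
          simp only [Category.assoc, Iso.hom_inv_id_app_assoc]
          rw [hj]
          erw [Category.comp_id]
      _ = _ := by
          rw [mc]
          simp only [Category.assoc, Iso.app_hom, Iso.symm_hom]
  -- transport to `K` and to the given adjunction
  let τ := (adj₀ (algebraMap A A')).leftAdjointUniq adjα
  let jK : (DRing.LBaseChange (algebraMap A A')).obj (DerivedCategory.Q.obj P) ≅
      (DRing.LBaseChange (algebraMap A A')).obj K :=
    (DRing.LBaseChange (algebraMap A A')).mapIso e ≪≫ τ.app K
  have hmK : IsUniv (DRing.restrictD (algebraMap R R'))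
      ((DRing.restrictD (algebraMap R A)).map (adjα.unit.app K) ≫
        (TrivBC.resComm h).hom.app ((DRing.LBaseChange (algebraMap A A')).obj K)) := by
    refine hm₀.of_iso ((DRing.restrictD (algebraMap R A)).mapIso e.symm)
      ((DRing.restrictD (algebraMap R' A')).mapIso jK) _ ?_
    have hu : adjα.unit.app K = e.inv ≫ (adj₀ (algebraMap A A')).unit.app (DerivedCategory.Q.obj P) ≫
        (DRing.restrictD (algebraMap A A')).map jK.hom := by
      have n1 := (adj₀ (algebraMap A A')).unit.naturality e.hom
      have n2 := Adjunction.unit_leftAdjointUniq_hom_app (adj₀ (algebraMap A A')) adjα K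
      dsimp at n1
      rw [← n2]
      show _ = e.inv ≫ (adj₀ (algebraMap A A')).unit.app (DerivedCategory.Q.obj P) ≫
        (DRing.restrictD (algebraMap A A')).map
          ((DRing.LBaseChange (algebraMap A A')).map e.hom ≫ τ.hom.app K)
      rw [Functor.map_comp, ← reassoc_of% n1, Iso.inv_hom_id_assoc]
    have nat := (TrivBC.resComm h).hom.naturality jK.hom
    dsimp at nat
    rw [hu]
    simp only [Functor.map_comp, Category.assoc, Functor.mapIso_hom, Iso.symm_hom]
    rw [nat]
  unfold TrivBC.cmp
  exact isIso_homEquiv_symm_of_isUniv adjρ _ hmK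

end Groth.Agent.H35.TorIndMain
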