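import Mathlib
import Groth.Agent.H35.LTensorCxTor
import Groth.Agent.H35.PerfAmp
import Groth.Agent.H56.PCohMore
import Groth.Prelude.Def_DualSh

/-!
# Derived tensor products of perfect / pseudo-coherent complexes (helper35)

Terms of `P ⊗ E` for bounded above complexes of finite projective modules, and consequences for
`DRing.LTensorCx`: S6959, S7037, S7102.
-/

set_option autoImplicit false
universe u
open CategoryTheory CategoryTheory.Limits MonoidalCategory HomologicalComplex
attribute [local instance] HasDerivedCategory.standard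

namespace Groth.Agent.H35.LTC

open DRing DerivedCategory Groth.Agent.H31 Groth.Agent.H31.KFlat Groth.Agent.H53
  Groth.Agent.H35.TorAmp

section Cofan

variable {A : Type u} [CommRing A]

/-- the summands of a coproduct of modules generate it. -/
lemma iSup_range_inj_eq_top {J : Type} (f : J → ModuleCat.{u} A) (c : Cofan f) (hc : IsColimit c) :
    ⨆ j, LinearMap.range (c.inj j).hom = ⊤ := by
  let q : c.pt ⟶ ModuleCat.of A (c.pt ⧸ ⨆ j, LinearMap.range (c.inj j).hom) :=
    ModuleCat.ofHom (Submodule.mkQ _)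
  have hq : q = 0 := by
    apply Cofan.IsColimit.hom_ext hc
    intro j
    rw [comp_zero]
    ext x
    show Submodule.mkQ _ ((c.inj j).hom x) = 0
    rw [Submodule.mkQ_apply, Submodule.Quotient.mk_eq_zero]
    exact (le_iSup (fun j => LinearMap.range (c.inj j).hom) j) ⟨x, rfl⟩
  rw [eq_top_iff]
  intro x _
  have h : Submodule.mkQ (⨆ j, LinearMap.range (c.inj j).hom) x = 0 :=
    congrArg (fun g : c.pt ⟶ _ => g.hom x) hq
  rwa [Submodule.mkQ_apply, Submodule.Quotient.mk_eq_zero] at h

lemma finite_of_cofan {J : Type} (f : J → ModuleCat.{u} A) (c : Cofan f) (hc : IsColimit c)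
    (S : Finset J) (hS : ∀ j, j ∉ S → IsZero (f j)) (hfin : ∀ j ∈ S, Module.Finite A (f j)) :
    Module.Finite A c.pt := by
  have h1 := iSup_range_inj_eq_top f c hc
  have h2 : ⨆ j, LinearMap.range (c.inj j).hom = ⨆ j ∈ S, LinearMap.range (c.inj j).hom := by
    apply le_antisymm
    · apply iSup_le
      intro j
      by_cases hj : j ∈ S
      · exact le_iSup₂_of_le j hj le_rfl
      · have : Subsingleton (f j) := ModuleCat.subsingleton_of_isZero (hS j hj)
        rintro _ ⟨x, rfl⟩
        rw [Subsingleton.elim x 0, map_zero]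
        exact Submodule.zero_mem _
    · exact iSup₂_le (fun j _ => le_iSup (fun j => LinearMap.range (c.inj j).hom) j)
  rw [Module.finite_def, ← h1, h2]
  apply Submodule.fg_biSup
  intro j hj
  haveI := hfin j hj
  rw [LinearMap.range_eq_map]
  exact (Module.Finite.fg_top).map _

lemma projective_of_cofan {C : Type*} [Category C] {J : Type*} (f : J → C) (c : Cofan f)
    (hc : IsColimit c) (h : ∀ j, Projective (f j)) : Projective c.pt where
  factors {X Y} g e _ := by
    refine ⟨Cofan.IsColimit.desc hc (fun j => Projective.factorThru (c.inj j ≫ g) e), ?_⟩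
    apply Cofan.IsColimit.hom_ext hc
    intro j
    rw [← Category.assoc, Cofan.IsColimit.fac, Projective.factorThru_comp]

/-- Terms of the tensor product of two bounded above complexes of finite projective modules are
finite projective. -/
lemma finiteProjective_tensor_X (P E : Cx A) (c₁ c₂ : ℤ) (hP : VanishesAbove P c₁)
    (hE : VanishesAbove E c₂) (hPp : TermwiseFiniteProjective P)
    (hEp : TermwiseFiniteProjective E) (n : ℤ) :
    Module.Finite A ((P ⊗ E).X n) ∧ Module.Projective A ((P ⊗ E).X n) := by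
  classical
  let T := curriedTensor (ModuleCat.{u} A)
  let c := (gr T P E).cofanMapObj pp n
  have hc : IsColimit c := (gr T P E).isColimitCofanMapObj pp n
  have hterm : ∀ j : pp ⁻¹' {n}, Module.Finite A ((gr T P E).mapObjFun pp n j) ∧
      Module.Projective A ((gr T P E).mapObjFun pp n j) := by
    rintro ⟨⟨p, q⟩, hpq⟩
    haveI := (hPp p).1
    haveI := (hPp p).2
    haveI := (hEp q).1
    haveI := (hEp q).2
    exact ⟨inferInstanceAs (Module.Finite A (TensorProduct A (P.X p) (E.X q))),
      inferInstanceAs (Module.Projective A (TensorProduct A (P.X p) (E.X q)))⟩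
  let S : Finset (pp ⁻¹' {n}) := (Finset.Icc (n - c₂) c₁).image
    (fun p => if h : True then (⟨(p, n - p), by show p + (n - p) = n; omega⟩ : pp ⁻¹' {n}) else
      ⟨(p, n - p), by show p + (n - p) = n; omega⟩)
  have hS : ∀ j, j ∉ S → IsZero ((gr T P E).mapObjFun pp n j) := by
    rintro ⟨⟨p, q⟩, hpq⟩ hj
    have hpq' : p + q = n := hpq
    by_cases hp : c₁ < p
    · exact ((curriedTensor (ModuleCat.{u} A)).flip.obj (E.X q)).map_isZero (hP p hp)
    · by_cases hq : c₂ < q
      · exact ((curriedTensor (ModuleCat.{u} A)).obj (P.X p)).map_isZero (hE q hq)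
      · exfalso
        apply hj
        rw [Finset.mem_image]
        refine ⟨p, Finset.mem_Icc.2 ⟨by omega, by omega⟩, ?_⟩
        rw [dif_pos trivial]
        apply Subtype.ext
        show (p, n - p) = (p, q)
        rw [show n - p = q by omega]
  constructor
  · exact finite_of_cofan _ c hc S hS (fun j _ => (hterm j).1)
  · have : Projective c.pt := projective_of_cofan _ c hc (fun j =>
      (IsProjective.iff_projective _).1 (hterm j).2)
    exact (IsProjective.iff_projective _).2 this

lemma vanishesAbove_tensor (P E : Cx A) (c₁ c₂ : ℤ) (hP : VanishesAbove P c₁)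
    (hE : VanishesAbove E c₂) : VanishesAbove (P ⊗ E) (c₁ + c₂) := by
  intro n hn
  refine isZero_tensor_X P E n (fun p q hpq => ?_)
  by_cases hp : c₁ < p
  · exact Or.inl (hP p hp)
  · exact Or.inr (hE q (by omega))

lemma vanishesOutside_tensor (P E : Cx A) (a₁ b₁ a₂ b₂ : ℤ) (hP : VanishesOutside P a₁ b₁)
    (hE : VanishesOutside E a₂ b₂) : VanishesOutside (P ⊗ E) (a₁ + a₂) (b₁ + b₂) := by
  intro n hn
  refine isZero_tensor_X P E n (fun p q hpq => ?_)
  by_cases hp : p < a₁ ∨ b₁ < p
  · exact Or.inl (hP p hp)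
  · exact Or.inr (hE q (by omega))

lemma finiteProjective_of_free {P : Cx A} (h : TermwiseFiniteFree P) : TermwiseFiniteProjective P :=
  fun i => ⟨(h i).1, by have := (h i).2; infer_instance⟩

lemma isKFlat_of_bddAbove_finiteProjective (P : Cx A) (c : ℤ) (hP : VanishesAbove P c)
    (hPp : TermwiseFiniteProjective P) : DRing.IsKFlat A P :=
  KFlatRing.isKFlat_of_bounded_above_flat P c hP (flat_of_finiteProjective hPp)

/-- S7037: pseudo-coherent `⊗^L` pseudo-coherent is pseudo-coherent. -/
theorem isPseudoCoherent'_LTensorCx (K : Dual.D A) (hK : DRing.IsPseudoCoherent' A K) (L : Cx A)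
    (hL : DRing.IsPseudoCoherent' A (toD L)) [DRing.HasLTensorCx A L] :
    DRing.IsPseudoCoherent' A ((DRing.LTensorCx A L).obj K) := by
  obtain ⟨P, c₁, hP, hPff, ⟨eP⟩⟩ := hK
  obtain ⟨E, c₂, hE, hEff, ⟨eE⟩⟩ := hL
  have hPp := finiteProjective_of_free hPff
  have hEp := finiteProjective_of_free hEff
  have hPK := isKFlat_of_bddAbove_finiteProjective P c₁ hP hPp
  haveI : DRing.HasLTensorCx A E := LTensorCxObj.hasLTensorCx E
  obtain ⟨t⟩ := nonempty_LTensorCx_iso eE K
  have e : toD (P ⊗ E) ≅ (DRing.LTensorCx A L).obj K :=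
    (LTensorCxObj.objIso E P hPK).symm ≪≫ (DRing.LTensorCx A E).mapIso eP ≪≫ t
  refine H56.isPseudoCoherent'_iff_forall.2 (fun m => MPCoh.isPseudoCoherent_of_iso e ?_)
  exact H56.isPseudoCoherent_of_bddAbove_finite_projective (P ⊗ E) (c₁ + c₂)
    (vanishesAbove_tensor P E c₁ c₂ hP hE)
    (fun n => finiteProjective_tensor_X P E c₁ c₂ hP hE hPp hEp n) m

/-- S6959: perfect `⊗^L` perfect is perfect. -/
theorem isPerfect_LTensorCx (K : Dual.D A) (hK : DRing.IsPerfect A K) (L : Cx A)
    (hL : DRing.IsPerfect A (toD L)) [DRing.HasLTensorCx A L] :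
    DRing.IsPerfect A ((DRing.LTensorCx A L).obj K) := by
  obtain ⟨P, a₁, b₁, hP, hPp, ⟨eP⟩⟩ := hK
  obtain ⟨E, a₂, b₂, hE, hEp, ⟨eE⟩⟩ := hL
  have hPa : VanishesAbove P b₁ := fun i hi => hP i (Or.inr hi)
  have hEa : VanishesAbove E b₂ := fun i hi => hE i (Or.inr hi)
  have hPK := isKFlat_of_bddAbove_finiteProjective P b₁ hPa hPp
  haveI : DRing.HasLTensorCx A E := LTensorCxObj.hasLTensorCx E
  obtain ⟨t⟩ := nonempty_LTensorCx_iso eE K
  have e : toD (P ⊗ E) ≅ (DRing.LTensorCx A L).obj K :=
    (LTensorCxObj.objIso E P hPK).symm ≪≫ (DRing.LTensorCx A E).mapIso eP ≪≫ t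
  exact ⟨P ⊗ E, a₁ + a₂, b₁ + b₂, vanishesOutside_tensor P E a₁ b₁ a₂ b₂ hP hE,
    fun n => finiteProjective_tensor_X P E b₁ b₂ hPa hEa hPp hEp n, ⟨e⟩⟩

end Cofan

section Rel

variable {R A : Type u} [CommRing R] [CommRing A] [Algebra R A]

/-- S7102. -/
theorem isRelPerfect_LTensorCx (E : Cx A) (a b : ℤ) (hEb : VanishesOutside E a b)
    (hEp : TermwiseFiniteProjective E) [DRing.HasLTensorCx A E] (M : Dual.D A)
    (hM : Dual2.IsRelPerfect R A M) :
    Dual2.IsRelPerfect R A ((DRing.LTensorCx A E).obj M) := by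
  obtain ⟨hpc, c, d, hT⟩ := hM
  refine ⟨isPseudoCoherent'_LTensorCx M hpc E ?_, a + c, b + d, ?_⟩
  · exact ((isPerfect_iff _).1 ⟨E, a, b, hEb, hEp, ⟨Iso.refl _⟩⟩).1
  · obtain ⟨P, c₁, hP, hPff, ⟨eP⟩⟩ := hpc
    have hPK := isKFlat_of_bddAbove_finiteProjective P c₁ hP (finiteProjective_of_free hPff)
    have hEK := isKFlat_of_bddAbove_finiteProjective E b (fun i hi => hEb i (Or.inr hi)) hEp
    haveI : DRing.HasLTensorCx A P := LTensorCxObj.hasLTensorCx P
    have hL : HasTorAmplitudeIn R c d (toD ((resCx (algebraMap R A)).obj P)) :=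
      hasTorAmplitudeIn_of_iso
        ((DRing.restrictD (algebraMap R A)).mapIso eP.symm ≪≫
          ((ModuleCat.restrictScalars.{u} (algebraMap R A)).mapDerivedCategoryFactors.app P)) hT
    have hK : HasTorAmplitudeIn A a b (toD E) :=
      ⟨E, hEb, flat_of_finiteProjective hEp, ⟨Iso.refl _⟩⟩
    have h := hasTorAmplitudeIn_restrict_LTensorCx (algebraMap R A) (toD E) a b c d hK P hL
    have e : (DRing.LTensorCx A P).obj (toD E) ≅ (DRing.LTensorCx A E).obj M :=
      LTensorCxObj.objIso P E hEK ≪≫ Q.mapIso (braidCx E P) ≪≫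
        (LTensorCxObj.objIso E P hPK).symm ≪≫ (DRing.LTensorCx A E).mapIso eP
    exact hasTorAmplitudeIn_of_iso ((DRing.restrictD (algebraMap R A)).mapIso e) h

end Rel

end Groth.Agent.H35.LTC
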