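import Groth.Agent.H35.WayOut
import Groth.Agent.H35.LTensorCxPerf
import Groth.Agent.H35.LBCpc

/-!
# t-structure estimates for `DTen.LTen₂` and `DTen.RHomR` (helper35)

* `isLE_LTen₂` : `D^{≤ p} ⊗^L D^{≤ q} ⊆ D^{≤ p+q}`;
* `isGE_RHomR` : `RHom(D^{≤ p}, D^{≥ n}) ⊆ D^{≥ n-p}`;
* `isLE_RHomR_of_injAmp` : `RHom(D^{≥ m}, M) ⊆ D^{≤ b-m}` for `M` of injective amplitude `[a, b]`.
-/

set_option autoImplicit false
set_option linter.style.haveILetI false
set_option linter.unusedSectionVars false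
universe u
open CategoryTheory CategoryTheory.Limits Pretriangulated MonoidalCategory
attribute [local instance] HasDerivedCategory.standard

namespace Groth.Agent.H35.WayOutDTen

open DRing DTen DerivedCategory DerivedCategory.TStructure Groth.Agent.H35.WayOut

variable {A : Type u} [CommRing A]

lemma isZero_tgt_of_isIso_zero {C : Type*} [Category C] [HasZeroMorphisms C] {X Y : C}
    (f : X ⟶ Y) [IsIso f] (h : f = 0) : IsZero Y := by
  rw [IsZero.iff_id_eq_zero]
  exact (IsIso.inv_hom_id f).symm.trans ((congrArg (fun z => inv f ≫ z) h).trans comp_zero)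

/-- if all maps from `D^{≤ m-1}` to `Z` vanish then `Z ∈ D^{≥ m}`. -/
lemma isGE_of_hom_zero (Z : Dual.D A) (m : ℤ)
    (h : ∀ (T : Dual.D A), T.IsLE (m - 1) → ∀ g : T ⟶ Z, g = 0) : Z.IsGE m := by
  rw [isGE_iff]
  intro i hi
  have hle : ((t.truncLT m).obj Z).IsLE (m - 1) :=
    inferInstanceAs (t.IsLE ((t.truncLT m).obj Z) (m - 1))
  have h0 : (t.truncLTι m).app Z = 0 := h _ hle _
  have iso := Groth.Agent.H33.isIso_homology_truncLTι Z m i hi
  have h1 : (homologyFunctor (ModuleCat.{u} A) i).map ((t.truncLTι m).app Z) = 0 := by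
    rw [h0, Functor.map_zero]
  exact isZero_tgt_of_isIso_zero _ h1

/-- maps from `tst n` vanish implies `H^n = 0`. -/
lemma isZero_H_of_hom_tst (Z : Dual.D A) (n : ℤ) (h : ∀ g : tst A n ⟶ Z, g = 0) :
    IsZero ((homologyFunctor (ModuleCat.{u} A) n).obj Z) := by
  obtain ⟨e⟩ := Groth.Agent.H12.HomSingleRing.nonempty_linearEquiv_Hi Z n
  have hs : Subsingleton (sA A ⟶ Z⟦n⟧) := by
    refine ⟨fun x y => ?_⟩
    have hx : ∀ x : sA A ⟶ Z⟦n⟧, x = 0 := by
      intro x
      have h1 := h (((shAdj n).homEquiv (sA A) Z).symm x)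
      have h2 := congrArg ((shAdj n).homEquiv (sA A) Z) h1
      rw [Equiv.apply_symm_apply] at h2
      rw [h2, Adjunction.homEquiv_unit, Functor.map_zero, comp_zero]
    rw [hx x, hx y]
  have : Subsingleton ((homologyFunctor (ModuleCat.{u} A) n).obj Z) :=
    e.symm.injective.subsingleton
  exact ModuleCat.isZero_of_subsingleton _

lemma exists_Q_map_eq_of_isKInjective (W I : Cx A) [I.IsKInjective]
    (g : Q.obj W ⟶ Q.obj I) : ∃ φ : W ⟶ I, Q.map φ = g := by
  obtain ⟨ψ, hψ⟩ := (CochainComplex.IsKInjective.Qh_map_bijective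
    ((HomotopyCategory.quotient (ModuleCat.{u} A) (ComplexShape.up ℤ)).obj W) I).surjective
    ((quotientCompQhIso (ModuleCat.{u} A)).hom.app W ≫ g ≫
      (quotientCompQhIso (ModuleCat.{u} A)).inv.app I)
  obtain ⟨φ, rfl⟩ :=
    (HomotopyCategory.quotient (ModuleCat.{u} A) (ComplexShape.up ℤ)).map_surjective ψ
  refine ⟨φ, ?_⟩
  have nat := (quotientCompQhIso (ModuleCat.{u} A)).hom.naturality φ
  have h1 : (HomotopyCategory.quotient (ModuleCat.{u} A) (ComplexShape.up ℤ) ⋙ Qh).map φ =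
      Qh.map ((HomotopyCategory.quotient (ModuleCat.{u} A) (ComplexShape.up ℤ)).map φ) := rfl
  rw [← cancel_epi ((quotientCompQhIso (ModuleCat.{u} A)).hom.app W), ← nat, h1, hψ,
    Category.assoc, Category.assoc, Iso.inv_hom_id_app, Category.comp_id]

/-- maps in `D(A)` from a complex vanishing in degrees `≤ b` to a complex of injectives
concentrated in `[a, b]` vanish. -/
lemma hom_eq_zero_of_injective (W I : Cx A) (a b : ℤ) (hW : ∀ k, k ≤ b → IsZero (W.X k))
    (hI : VanishesOutside I a b) (hinj : TermwiseInjective I) (g : Q.obj W ⟶ Q.obj I) : g = 0 := by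
  haveI : I.IsStrictlyGE a := by
    rw [CochainComplex.isStrictlyGE_iff]
    intro j hj
    exact hI j (Or.inl hj)
  haveI : ∀ n, Injective (I.X n) := fun n => by
    have := hinj n
    exact Module.injective_object_of_injective_module A (I.X n)
  haveI : I.IsKInjective := CochainComplex.isKInjective_of_injective I a
  obtain ⟨φ, rfl⟩ := exists_Q_map_eq_of_isKInjective W I g
  have hφ : φ = 0 := by
    apply HomologicalComplex.hom_ext
    intro k
    by_cases hk : k ≤ b
    · exact (hW k hk).eq_of_src _ _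
    · exact (hI k (Or.inr (by omega))).eq_of_tgt _ _
  rw [hφ, Functor.map_zero]

section Ten

variable [DTen.HasLTen A]

/-- `D^{≤ p} ⊗^L D^{≤ q} ⊆ D^{≤ p+q}`. -/
lemma isLE_LTen₂ (a X : Dual.D A) (p q : ℤ) [a.IsLE p] [X.IsLE q] :
    ((LTen₂ A).obj (a, X)).IsLE (p + q) := by
  obtain ⟨K, hK, ⟨e⟩⟩ := a.exists_iso_Q_obj_of_isLE p
  have hKv : VanishesAbove K p := fun i hi => K.isZero_of_isStrictlyLE p i hi
  obtain ⟨P, hPv, hPfree, ⟨eP⟩⟩ := Groth.Agent.H35.TorAmp.exists_free_model_of_isLE X q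
  have hPK : DRing.IsKFlat A P := Groth.Agent.H31.KFlatRing.isKFlat_of_bounded_above_flat P _ hPv
    (Groth.Agent.H35.TorAmp.free_flat P hPfree)
  have hv := Groth.Agent.H35.LTC.vanishesAbove_tensor K P p q hKv hPv
  have := Groth.Agent.H35.LBC.isLE_toD_of_vanishesAbove (K ⊗ P) (p + q) hv
  exact t.isLE_of_iso (Groth.Agent.H35.DTenExact.θ hPK e eP.symm).symm (p + q)

variable [DTen.HasRHom A]

/-- `RHom(D^{≤ p}, D^{≥ n}) ⊆ D^{≥ n-p}`. -/
lemma isGE_RHomR (X L : Dual.D A) (p n : ℤ) [X.IsLE p] [L.IsGE n] :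
    ((RHomR A X).obj L).IsGE (n - p) := by
  apply isGE_of_hom_zero
  intro T hT g
  have hle : ((LTen₂ A).obj (T, X)).IsLE (n - p - 1 + p) := isLE_LTen₂ T X (n - p - 1) p
  have hle' : ((LTen₂ A).obj (T, X)).IsLE (n - 1) := t.isLE_of_le _ (n - p - 1 + p) (n - 1) (by omega)
  have h0 : ((rhomAdj A X).homEquiv T L).symm g = 0 :=
    t.zero_of_isLE_of_isGE _ (n - 1) n (by omega) hle' inferInstance
  apply ((rhomAdj A X).homEquiv T L).symm.injective
  rw [h0, Adjunction.homEquiv_counit, Functor.map_zero, zero_comp]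

/-- `RHom(D^{≥ m}, M) ⊆ D^{≤ b-m}` for `M` of injective amplitude `[a, b]`. -/
lemma isLE_RHomR_of_injAmp [DTen.HasLTen₃ A] [DTen.IsSymMonoidal A] (Y M : Dual.D A) (m a b : ℤ)
    [Y.IsGE m] (hM : DRing.HasInjAmplitudeIn A a b M) : ((RHomR A Y).obj M).IsLE (b - m) := by
  obtain ⟨I, hI, hinj, ⟨eI⟩⟩ := hM
  rw [isLE_iff]
  intro i hi
  apply isZero_H_of_hom_tst
  intro g
  -- models
  obtain ⟨Y', hY', ⟨eY⟩⟩ := Y.exists_iso_Q_obj_of_isGE m
  let Sg : Cx A := (HomologicalComplex.single (ModuleCat.{u} A) (ComplexShape.up ℤ) i).obj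
    (ModuleCat.of A A)
  have hSgv : VanishesAbove Sg i := fun j hj =>
    HomologicalComplex.isZero_single_obj_X (ComplexShape.up ℤ) i _ j (by omega)
  have hSgfl : TermwiseFlat Sg := by
    intro j
    by_cases hj : j = i
    · subst hj
      exact Module.Flat.of_linearEquiv
        (HomologicalComplex.singleObjXSelf (ComplexShape.up ℤ) j
          (ModuleCat.of A A)).toLinearEquiv
    · have hz := HomologicalComplex.isZero_single_obj_X (ComplexShape.up ℤ) i
        (ModuleCat.of A A) j hj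
      haveI : Subsingleton (Sg.X j) := ModuleCat.subsingleton_of_isZero hz
      infer_instance
  have hSgK : DRing.IsKFlat A Sg :=
    Groth.Agent.H31.KFlatRing.isKFlat_of_bounded_above_flat Sg i hSgv hSgfl
  let eSg : tst A i ≅ Q.obj Sg :=
    ((singleFunctors (ModuleCat.{u} A)).shiftIso (-i) i 0 (by omega)).app (ModuleCat.of A A) ≪≫
      (singleFunctorIsoCompQ (ModuleCat.{u} A) i).app _
  -- `tst i ⊗^L Y ≅ Q(Y' ⊗ Sg)`
  let W : Cx A := Y' ⊗ Sg
  let θ : (LTen₂ A).obj (tst A i, Y) ≅ Q.obj W :=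
    braiding Y (tst A i) ≪≫ Groth.Agent.H35.DTenExact.θ hSgK eY eSg
  have hW : ∀ k, k ≤ b → IsZero (W.X k) := by
    intro k hk
    refine Groth.Agent.H35.LTC.isZero_tensor_X Y' Sg k (fun p q hpq => ?_)
    by_cases hp : p < m
    · exact Or.inl (Y'.isZero_of_isStrictlyGE m p hp)
    · refine Or.inr (HomologicalComplex.isZero_single_obj_X (ComplexShape.up ℤ) i _ q ?_)
      omega
  have h0 : θ.inv ≫ ((rhomAdj A Y).homEquiv (tst A i) M).symm g ≫ eI.inv = 0 :=
    hom_eq_zero_of_injective W I a b hW hI hinj _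
  have h1 : ((rhomAdj A Y).homEquiv (tst A i) M).symm g = 0 := by
    have h2 : ((rhomAdj A Y).homEquiv (tst A i) M).symm g ≫ eI.inv = 0 :=
      (cancel_epi θ.inv).1 (h0.trans comp_zero.symm)
    exact (cancel_mono eI.inv).1 (h2.trans zero_comp.symm)
  apply ((rhomAdj A Y).homEquiv (tst A i) M).symm.injective
  rw [h1, Adjunction.homEquiv_counit, Functor.map_zero, zero_comp]

end Ten

end Groth.Agent.H35.WayOutDTen
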