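import Mathlib
import Groth.Agent.H35.BcRHom
import Groth.Agent.H35.WayOutDTen
import Groth.Agent.H35.TorIndMain
import Groth.Agent.H35.TorBridge
import Groth.Agent.H35.LBCpc

/-!
Base change for derived hom, the way-out step (helper35): amplitude estimates for `LBase` and the
contravariant way-out lemma; `bcRHom` is an isomorphism for pseudo-coherent `K`, bounded below `M`
and `R'` of finite tor dimension over `R`.
-/

set_option autoImplicit false
set_option linter.style.haveILetI false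
set_option linter.unusedSectionVars false
universe u
open CategoryTheory CategoryTheory.Limits MonoidalCategory Pretriangulated Opposite
attribute [local instance] HasDerivedCategory.standard

namespace Groth.Agent.H35.BcRHomWayOut

open DTen DRing DerivedCategory DerivedCategory.TStructure
  Groth.Agent.H35.TriChase Groth.Agent.H33.RHomExact Groth.Agent.H33.RelChase
  Groth.Agent.H35.LBaseMon Groth.Agent.H33.DTenClosed Groth.Agent.H35.BcRHom
  Groth.Agent.H35.WayOut Groth.Agent.H35.WayOutDTen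

section OneRing

variable {A : Type u} [CommRing A] [HasLTen A]

/-- `X ⊗^L Y ∈ D^{≥ a - d}` for `X ∈ D^{≥ a}` and `Y` of tor amplitude in `[-d, 0]`. -/
lemma isGE_LTen₂_of_torAmp (X Y : Dual.D A) (a d : ℤ) [X.IsGE a]
    (hY : HasTorAmplitudeIn A (-d) 0 Y) : ((LTen₂ A).obj (X, Y)).IsGE (a - d) := by
  obtain ⟨E, hE, hfl, ⟨eY⟩⟩ := hY
  obtain ⟨P, hP, ⟨eP⟩⟩ := X.exists_iso_Q_obj_of_isGE a
  have hEK : DRing.IsKFlat A E :=
    Groth.Agent.H31.KFlatRing.isKFlat_of_bounded_above_flat E 0 (fun q hq => hE q (Or.inr hq)) hfl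
  let θ := Groth.Agent.H35.DTenExact.θ hEK eP eY.symm
  have hz : ∀ k : ℤ, k < a - d → IsZero ((P ⊗ E).X k) := by
    intro k hk
    refine Groth.Agent.H35.LTC.isZero_tensor_X P E k (fun p q hpq => ?_)
    by_cases hp : p < a
    · exact Or.inl (P.isZero_of_isStrictlyGE a p hp)
    · exact Or.inr (hE q (Or.inl (by omega)))
  haveI : (P ⊗ E).IsStrictlyGE (a - d) := by
    rw [CochainComplex.isStrictlyGE_iff]
    exact hz
  have h1 : (Q.obj (P ⊗ E)).IsGE (a - d) := inferInstance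
  exact t.isGE_of_iso θ.symm (a - d)

/-- For `P` K-flat with `Q P ∈ D^{≥ a}` and a module `N` with `N[0]` of tor amplitude in `[-d, 0]`,
`P ⊗ N` is exact in degrees `< a - d`. -/
lemma exactAt_tensorObj_of_isGE (P : Cx A) (hPK : DRing.IsKFlat A P) (a d : ℤ) [(Q.obj P).IsGE a]
    (N : ModuleCat.{u} A)
    (hN : HasTorAmplitudeIn A (-d) 0 ((singleFunctor (ModuleCat.{u} A) 0).obj N))
    (i : ℤ) (hi : i < a - d) : (CohIII.tensorObj P N).ExactAt i := by
  have hN' : HasTorAmplitudeIn A (-d) 0 (Q.obj (Groth.Agent.H35.LTC.sg N)) := by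
    obtain ⟨E, hE, hfl, ⟨e⟩⟩ := hN
    exact ⟨E, hE, hfl, ⟨e ≪≫ (singleFunctorIsoCompQ (ModuleCat.{u} A) 0).app N⟩⟩
  have h1 : ((LTen₂ A).obj (Q.obj P, Q.obj (Groth.Agent.H35.LTC.sg N))).IsGE (a - d) :=
    isGE_LTen₂_of_torAmp (Q.obj P) _ a d hN'
  haveI := Groth.Agent.S13576.result A (Q.obj P) (Q.obj (Groth.Agent.H35.LTC.sg N))
  let θ := Groth.Agent.H35.DTenExact.θ hPK (Iso.refl (Q.obj (Groth.Agent.H35.LTC.sg N)))
    (Iso.refl (Q.obj P))
  have h2 : (Q.obj (Groth.Agent.H35.LTC.sg N ⊗ P)).IsGE (a - d) :=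
    t.isGE_of_iso ((asIso ((DTen.symm A).app (Q.obj P, Q.obj (Groth.Agent.H35.LTC.sg N)))).symm ≪≫ θ)
      (a - d)
  have h3 : (Groth.Agent.H35.LTC.sg N ⊗ P).ExactAt i := by
    rw [Groth.Agent.H35.TorAmp.exactAt_iff_isZero_H]
    exact (isGE_iff _ _).1 h2 i hi
  exact h3.of_iso (Groth.Agent.H35.LTC.singleTensorIso N P).symm

end OneRing

section LBaseAmp

variable {R R' : Type u} [CommRing R] [CommRing R']

/-- derived base change is right t-exact. -/
lemma isLE_LBase (φ : R →+* R') [HasLBase φ] (X : Dual.D R) (p : ℤ) [X.IsLE p] :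
    ((LBase φ).obj X).IsLE p := by
  obtain ⟨P, hPv, hPfree, ⟨eP⟩⟩ := Groth.Agent.H35.TorAmp.exists_free_model_of_isLE X p
  have hPK : DRing.IsKFlat R P := Groth.Agent.H31.KFlatRing.isKFlat_of_bounded_above_flat P _ hPv
    (Groth.Agent.H35.TorAmp.free_flat P hPfree)
  haveI : IsIso ((baseCmp φ).app P) := Groth.Agent.S13894.result R R' φ P hPK
  have h1 : (Q.obj ((extCx φ).obj P)).IsLE p :=
    Groth.Agent.H35.LBC.isLE_toD_of_vanishesAbove _ p
      (Groth.Agent.H35.FlatBC.vanishesAbove_ext φ P p hPv)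
  have e : (LBase φ).obj X ≅ Q.obj ((extCx φ).obj P) :=
    (LBase φ).mapIso eP.symm ≪≫ asIso ((baseCmp φ).app P)
  exact t.isLE_of_iso e.symm p

variable [Algebra R R'] [HasLTen R] [HasLBase (algebraMap R R')]

/-- derived base change along a map of tor dimension `≤ d` sends `D^{≥ a}` to `D^{≥ a - d}`. -/
lemma isGE_LBase (d : ℕ) (hd : HasTorDimLE R d R') (Y : Dual.D R) (a : ℤ) [Y.IsGE a] :
    ((LBase (algebraMap R R')).obj Y).IsGE (a - d) := by
  obtain ⟨P, hPK, ⟨eP⟩⟩ := Groth.Agent.S13577.exists_kflat_model Y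
  haveI : IsIso ((baseCmp (algebraMap R R')).app P) :=
    Groth.Agent.S13894.result R R' (algebraMap R R') P hPK
  haveI : (Q.obj P).IsGE a := t.isGE_of_iso eP.symm a
  have hamp : HasTorAmplitudeIn R (-(d : ℤ)) 0 (Dual.inD R R') :=
    (Groth.Agent.H35.TorAmp.hasTorDimLE_iff R' d).1 hd
  have h1 : (Q.obj ((extCx (algebraMap R R')).obj P)).IsGE (a - d) := by
    rw [isGE_iff]
    intro i hi
    rw [← Groth.Agent.H35.TorAmp.exactAt_iff_isZero_H]
    show ((Groth.Agent.H35.FlatBC.extCx (algebraMap R R')).obj P).ExactAt i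
    rw [Groth.Agent.H35.TorIndQis.exactAt_ext_iff,
      ← Groth.Agent.H35.LBC.exactAt_tensor_iff_of_module_iso P
        (Groth.Agent.H35.TorIndMain.unitResIso R R') i]
    exact exactAt_tensorObj_of_isGE P hPK a d (ModuleCat.of R R') hamp i hi
  have e : (LBase (algebraMap R R')).obj Y ≅ Q.obj ((extCx (algebraMap R R')).obj P) :=
    (LBase (algebraMap R R')).mapIso eP.symm ≪≫ asIso ((baseCmp (algebraMap R R')).app P)
  exact t.isGE_of_iso e.symm (a - d)

end LBaseAmp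

section WayOutContra

variable {A B : Type u} [CommRing A] [CommRing B]

lemma hom_tst_eq_zero_of_isGE (n : ℤ) (Z : Dual.D B) (hZ : Z.IsGE (n + 1)) (g : tst B n ⟶ Z) :
    g = 0 := by
  haveI : t.IsLE (sA B) 0 := inferInstanceAs ((sA B).IsLE 0)
  have h1 : t.IsLE (tst B n) n := t.isLE_shift (sA B) 0 (-n) n (by omega)
  exact t.zero_of_isLE_of_isGE g n (n + 1) (by omega) h1 inferInstance

/-- The contravariant way-out lemma. -/
theorem wayOutContra {F G : (Dual.D A)ᵒᵖ ⥤ Dual.D B} (η : F ⟶ G)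
    (hF : ∀ {a b c : Dual.D A} (p : a ⟶ b) (q : b ⟶ c), DT p q → BP a → BP c →
      DT (F.map q.op) (F.map p.op))
    (hG : ∀ {a b c : Dual.D A} (p : a ⟶ b) (q : b ⟶ c), DT p q → BP a → BP c →
      DT (G.map q.op) (G.map p.op))
    (c₀ : ℤ)
    (hFb : ∀ (X : Dual.D A) (p : ℤ), BP X → X.IsLE p → (F.obj (op X)).IsGE (c₀ - p))
    (hGb : ∀ (X : Dual.D A) (p : ℤ), BP X → X.IsLE p → (G.obj (op X)).IsGE (c₀ - p))
    (hperf : ∀ P : Dual.D A, DRing.IsPerfect A P → IsIso (η.app (op P)))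
    (K : Dual.D A) (hK : DRing.IsPseudoCoherent' A K) : IsIso (η.app (op K)) := by
  apply isIso_of_bijective_tst
  intro n
  obtain ⟨E, a, b, α, hv, hf, hiso, hepi⟩ :=
    Groth.Agent.H56.isPseudoCoherent_of_isPseudoCoherent' hK (c₀ - n - 1)
  have hPperf : DRing.IsPerfect A (toD E) :=
    ⟨E, a, b, hv, fun i => ⟨(hf i).1, by have := (hf i).2; infer_instance⟩, ⟨Iso.refl _⟩⟩
  obtain ⟨C, g, δ, hT⟩ := distinguished_cocone_triangle α
  have hCle : C.IsLE (c₀ - n - 2) :=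
    Groth.Agent.H56.isLE_cone_of_homology α g δ hT (c₀ - n - 1) (c₀ - n - 2) (by omega) hiso hepi
  have hKB : BP K := BP_of_isPseudoCoherent' hK
  have hPB : BP (toD E) := BP_of_isPerfect hPperf
  have hCB : BP C := BP.of_DT g δ (DT.rot _ hT) hKB (hPB.shift 1)
  have hC1B : BP (C⟦(-1 : ℤ)⟧) := hCB.shift (-1)
  have hC1le : (C⟦(-1 : ℤ)⟧).IsLE (c₀ - n - 1) :=
    t.isLE_shift C (c₀ - n - 2) (-1) (c₀ - n - 1) (by omega)
  have d1 : DT α g := ⟨δ, hT⟩
  have hT' := inv_rot_of_distTriang _ hT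
  let δ' : C⟦(-1 : ℤ)⟧ ⟶ toD E := (Triangle.mk α g δ).invRotate.mor₁
  have d0 : DT δ' α := DT.of_dist _ hT'
  -- bounds
  have bF1 : (F.obj (op C)).IsGE (n + 1) := by
    have := hFb C (c₀ - n - 2) hCB hCle
    exact t.isGE_of_ge _ (n + 1) (c₀ - (c₀ - n - 2)) (by omega)
  have bF0 : (F.obj (op (C⟦(-1 : ℤ)⟧))).IsGE (n + 1) := by
    have := hFb (C⟦(-1 : ℤ)⟧) (c₀ - n - 1) hC1B hC1le
    exact t.isGE_of_ge _ (n + 1) (c₀ - (c₀ - n - 1)) (by omega)
  have bG1 : (G.obj (op C)).IsGE (n + 1) := by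
    have := hGb C (c₀ - n - 2) hCB hCle
    exact t.isGE_of_ge _ (n + 1) (c₀ - (c₀ - n - 2)) (by omega)
  have bG0 : (G.obj (op (C⟦(-1 : ℤ)⟧))).IsGE (n + 1) := by
    have := hGb (C⟦(-1 : ℤ)⟧) (c₀ - n - 1) hC1B hC1le
    exact t.isGE_of_ge _ (n + 1) (c₀ - (c₀ - n - 1)) (by omega)
  -- injectivity and surjectivity along `α`
  have injF : ∀ w : tst B n ⟶ F.obj (op K), w ≫ F.map α.op = 0 → w = 0 := by
    intro w hw
    obtain ⟨r, hr⟩ := hF α g d1 hPB hCB
    obtain ⟨v, hv⟩ : ∃ v : tst B n ⟶ F.obj (op C), w = v ≫ F.map g.op :=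
      Triangle.coyoneda_exact₂ _ hr w hw
    rw [hv, hom_tst_eq_zero_of_isGE n _ bF1 v, zero_comp]
  have surjF : ∀ x : tst B n ⟶ F.obj (op (toD E)),
      ∃ v : tst B n ⟶ F.obj (op K), v ≫ F.map α.op = x := by
    intro x
    obtain ⟨r, hr⟩ := hF δ' α d0 hC1B hKB
    obtain ⟨v, hv⟩ : ∃ v : tst B n ⟶ F.obj (op K), x = v ≫ F.map α.op :=
      Triangle.coyoneda_exact₂ _ hr x
        (hom_tst_eq_zero_of_isGE n (F.obj (op (C⟦(-1 : ℤ)⟧))) bF0 (x ≫ F.map δ'.op))
    exact ⟨v, hv.symm⟩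
  have injG : ∀ w : tst B n ⟶ G.obj (op K), w ≫ G.map α.op = 0 → w = 0 := by
    intro w hw
    obtain ⟨r, hr⟩ := hG α g d1 hPB hCB
    obtain ⟨v, hv⟩ : ∃ v : tst B n ⟶ G.obj (op C), w = v ≫ G.map g.op :=
      Triangle.coyoneda_exact₂ _ hr w hw
    rw [hv, hom_tst_eq_zero_of_isGE n _ bG1 v, zero_comp]
  have iP : IsIso (η.app (op (toD E))) := hperf _ hPperf
  have nat : F.map α.op ≫ η.app (op (toD E)) = η.app (op K) ≫ G.map α.op := η.naturality α.op
  constructor
  · intro x y hxy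
    have hxy' : x ≫ η.app (op K) = y ≫ η.app (op K) := hxy
    have key : ∀ w : tst B n ⟶ F.obj (op K), w ≫ η.app (op K) = 0 → w = 0 := by
      intro w hw
      apply injF
      rw [← cancel_mono (η.app (op (toD E))), Category.assoc, nat, ← Category.assoc, hw, zero_comp,
        zero_comp]
    have := key (x - y) (by rw [Preadditive.sub_comp, hxy', sub_self])
    exact sub_eq_zero.1 this
  · intro x
    obtain ⟨v, hv⟩ := surjF ((x ≫ G.map α.op) ≫ inv (η.app (op (toD E))))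
    refine ⟨v, ?_⟩
    show v ≫ η.app (op K) = x
    have h1 : (v ≫ η.app (op K) - x) ≫ G.map α.op = 0 := by
      rw [Preadditive.sub_comp, Category.assoc, ← nat, ← Category.assoc, hv, Category.assoc,
        IsIso.inv_hom_id, Category.comp_id, sub_self]
    exact sub_eq_zero.1 (injG _ h1)

end WayOutContra

section Main

variable {R R' : Type u} [CommRing R] [CommRing R'] [Algebra R R']
  [HasLTen R] [HasLTen R'] [HasRHom R] [HasRHom R'] [HasLBase (algebraMap R R')]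
  [HasResTen (algebraMap R R')] [ResLegIso (algebraMap R R')]

/-- `bcRHom` is an isomorphism for `K` pseudo-coherent, `M` bounded below and `R'` of finite tor
dimension over `R`. -/
theorem isIso_bc_of_isPseudoCoherent' (K M : Dual.D R) (d : ℕ) (hd : HasTorDimLE R d R')
    (hK : DRing.IsPseudoCoherent' R K) (n : ℤ) (hM : M.IsGE n) :
    IsIso (bc (algebraMap R R') K M) := by
  have hFb : ∀ (X : Dual.D R) (p : ℤ), BP X → X.IsLE p →
      ((Fc (algebraMap R R') M).obj (op X)).IsGE (n - d - p) := by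
    intro X p _ hX
    haveI := hX
    haveI := hM
    have h1 : ((RHomR R X).obj M).IsGE (n - p) := isGE_RHomR X M p n
    have h2 : t.IsGE ((Fc (algebraMap R R') M).obj (op X)) (n - p - d) :=
      isGE_LBase d hd ((RHomR R X).obj M) (n - p)
    exact t.isGE_of_ge _ (n - d - p) (n - p - d) (by omega)
  have hGb : ∀ (X : Dual.D R) (p : ℤ), BP X → X.IsLE p →
      ((Gc (algebraMap R R') M).obj (op X)).IsGE (n - d - p) := by
    intro X p _ hX
    haveI := hX
    haveI := hM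
    haveI h1 : ((LBase (algebraMap R R')).obj X).IsLE p := isLE_LBase (algebraMap R R') X p
    haveI h2 : ((LBase (algebraMap R R')).obj M).IsGE (n - d) := isGE_LBase d hd M n
    exact isGE_RHomR ((LBase (algebraMap R R')).obj X) ((LBase (algebraMap R R')).obj M) p (n - d)
  exact wayOutContra (bcNat (algebraMap R R') M)
    (fun p q h ha hc => DT_Fc (algebraMap R R') M p q h ha hc)
    (fun p q h ha hc => DT_Gc (algebraMap R R') M p q h ha hc) (n - d) hFb hGb
    (fun P hP => isIso_bc_of_isPerfect (algebraMap R R') P M hP) K hK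

end Main

end Groth.Agent.H35.BcRHomWayOut
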