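import Mathlib

/-!
# Functors on complexes preserving degreewise split sequences and contractibility send cone
sequences to distinguished triangles of the derived category (helper35)
-/

set_option autoImplicit false
universe u
open CategoryTheory CategoryTheory.Limits HomologicalComplex Pretriangulated

namespace Groth.Agent.H35.ConeDT

open CochainComplex DerivedCategory

section General

variable {ℬ : Type*} [Category ℬ] [Abelian ℬ] [HasDerivedCategory ℬ]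

/-- A morphism of short exact sequences of complexes `ψ : S₁ ⟶ S₂` with `S₁.X₂` acyclic and
`ψ.τ₃` a quasi-isomorphism exhibits `Q S₂.X₂` as a cone of `Q ψ.τ₁`. -/
theorem exists_distTriang_of_ses {S₁ S₂ : ShortComplex (CochainComplex ℬ ℤ)}
    (hS₁ : S₁.ShortExact) (hS₂ : S₂.ShortExact) (ψ : S₁ ⟶ S₂)
    (hz : IsZero (Q.obj S₁.X₂)) (ht : IsIso (Q.map ψ.τ₃)) :
    ∃ δ : Q.obj S₂.X₂ ⟶ (Q.obj S₁.X₁)⟦(1 : ℤ)⟧,
      Triangle.mk (Q.map ψ.τ₁) (Q.map S₂.f) δ ∈ distTriang (DerivedCategory ℬ) := by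
  have nat := triangleOfSESδ_naturality hS₁ hS₂ ψ
  have hd₁ := triangleOfSES_distinguished hS₁
  have hd₂ := triangleOfSES_distinguished hS₂
  have hiso : IsIso (triangleOfSESδ hS₁) := (Triangle.isZero₂_iff_isIso₃ _ hd₁).1 hz
  refine ⟨-(Q.map S₂.g ≫ inv (Q.map ψ.τ₃) ≫ triangleOfSESδ hS₁), ?_⟩
  rw [rotate_distinguished_triangle]
  refine isomorphic_distinguished _ hd₂ _ ?_
  let e₃ : (Q.obj S₁.X₁)⟦(1 : ℤ)⟧ ≅ Q.obj S₂.X₃ :=
    { hom := -(inv (triangleOfSESδ hS₁) ≫ Q.map ψ.τ₃)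
      inv := -(inv (Q.map ψ.τ₃) ≫ triangleOfSESδ hS₁)
      hom_inv_id := by simp
      inv_hom_id := by simp }
  refine Triangle.isoMk _ _ (Iso.refl _) (Iso.refl _) e₃ ?_ ?_ ?_
  · exact (Category.comp_id _).trans (Category.id_comp _).symm
  · refine Eq.trans ?_ (Category.id_comp _).symm
    show (-(Q.map S₂.g ≫ inv (Q.map ψ.τ₃) ≫ triangleOfSESδ hS₁)) ≫
      (-(inv (triangleOfSESδ hS₁) ≫ Q.map ψ.τ₃)) = Q.map S₂.g
    simp
  · refine (congrArg (fun z => (-(Q.map ψ.τ₁)⟦(1 : ℤ)⟧') ≫ z)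
      (CategoryTheory.Functor.map_id _ _)).trans ((Category.comp_id _).trans ?_)
    show -(Q.map ψ.τ₁)⟦(1 : ℤ)⟧' =
      (-(inv (triangleOfSESδ hS₁) ≫ Q.map ψ.τ₃)) ≫ triangleOfSESδ hS₂
    rw [Preadditive.neg_comp, Category.assoc, ← nat, IsIso.inv_hom_id_assoc]

end General

variable {𝒜 ℬ : Type*} [Category 𝒜] [Abelian 𝒜] [Category ℬ] [Abelian ℬ] [HasDerivedCategory ℬ]
  (T : CochainComplex 𝒜 ℤ ⥤ CochainComplex ℬ ℤ) [T.PreservesZeroMorphisms]

theorem exists_distTriang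
    (hT₁ : ∀ (S : ShortComplex (CochainComplex 𝒜 ℤ)),
      (∀ n, Nonempty ((S.map (eval 𝒜 (ComplexShape.up ℤ) n)).Splitting)) → (S.map T).ShortExact)
    (hT₂ : ∀ K : CochainComplex 𝒜 ℤ, Nonempty (Homotopy (𝟙 K) 0) → (T.obj K).Acyclic)
    {A B : CochainComplex 𝒜 ℤ} (f : A ⟶ B) :
    ∃ δ : Q.obj (T.obj (mappingCone f)) ⟶ (Q.obj (T.obj A))⟦(1 : ℤ)⟧,
      Triangle.mk (Q.map (T.map f)) (Q.map (T.map (mappingCone.inr f))) δ ∈
        distTriang (DerivedCategory ℬ) := by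
  have hS₁ : ((mappingCone.triangleRotateShortComplex (𝟙 A)).map T).ShortExact :=
    hT₁ _ (fun n => ⟨mappingCone.triangleRotateShortComplexSplitting (𝟙 A) n⟩)
  have hS₂ : ((mappingCone.triangleRotateShortComplex f).map T).ShortExact :=
    hT₁ _ (fun n => ⟨mappingCone.triangleRotateShortComplexSplitting f n⟩)
  let tm := mappingCone.triangleMap (𝟙 A) f (𝟙 A) f rfl
  let ψ : mappingCone.triangleRotateShortComplex (𝟙 A) ⟶
      mappingCone.triangleRotateShortComplex f :=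
    { τ₁ := f
      τ₂ := mappingCone.map (𝟙 A) f (𝟙 A) f rfl
      τ₃ := (𝟙 A)⟦(1 : ℤ)⟧'
      comm₁₂ := tm.comm₂.symm
      comm₂₃ := tm.comm₃.symm }
  let ψ' : (mappingCone.triangleRotateShortComplex (𝟙 A)).map T ⟶
      (mappingCone.triangleRotateShortComplex f).map T := T.mapShortComplex.map ψ
  have hz : IsZero (Q.obj ((mappingCone.triangleRotateShortComplex (𝟙 A)).map T).X₂) := by
    have hac := hT₂ (mappingCone (𝟙 A)) ⟨mappingCone.homotopyToZeroOfId A⟩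
    haveI : (T.obj (mappingCone (𝟙 A))).IsLE 0 := by
      rw [CochainComplex.isLE_iff]
      intro i _
      exact hac i
    haveI : (T.obj (mappingCone (𝟙 A))).IsGE 1 := by
      rw [CochainComplex.isGE_iff]
      intro i _
      exact hac i
    exact DerivedCategory.TStructure.t.isZero (Q.obj (T.obj (mappingCone (𝟙 A)))) 0 1 (by omega)
  have ht : IsIso (Q.map ψ'.τ₃) := by
    have h1 : IsIso ((𝟙 A)⟦(1 : ℤ)⟧') := inferInstance
    have h2 : IsIso (T.map ((𝟙 A)⟦(1 : ℤ)⟧')) := inferInstance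
    exact (inferInstance : IsIso (Q.map (T.map ((𝟙 A)⟦(1 : ℤ)⟧'))))
  exact exists_distTriang_of_ses hS₁ hS₂ ψ' hz ht

end Groth.Agent.H35.ConeDT
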