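import Mathlib
import Groth.Prelude.Def_DRing3

/-!
Helpers for derived completeness (`DRing.IsDerivedComplete`): vanishing of `Hom(P, K[n])` along
distinguished triangles, the projective dimension of `A_f`, and short exact sequences of modules.
-/

set_option autoImplicit false
universe u

namespace Groth.Agent.H35

open CategoryTheory CategoryTheory.Limits CategoryTheory.Pretriangulated

section General

variable {C : Type*} [Category C] [HasZeroObject C] [HasShift C ℤ] [Preadditive C]
  [∀ n : ℤ, (shiftFunctor C n).Additive] [Pretriangulated C]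

lemma subsingleton_hom_of_iso {P X Y : C} (e : X ≅ Y) (h : Subsingleton (P ⟶ X)) :
    Subsingleton (P ⟶ Y) :=
  ⟨fun a b => by
    have h1 : a ≫ e.inv = b ≫ e.inv := h.elim _ _
    have h2 := congrArg (· ≫ e.hom) h1
    simpa using h2⟩

/-- `Hom(P, K[n]) = 0`. -/
def HomVanish (P K : C) (n : ℤ) : Prop := Subsingleton (P ⟶ K⟦n⟧)

lemma homVanish_shift_one {P K : C} {n m : ℤ} (hnm : n + 1 = m) :
    Subsingleton (P ⟶ (K⟦n⟧)⟦(1 : ℤ)⟧) ↔ HomVanish P K m :=
  ⟨subsingleton_hom_of_iso ((shiftFunctorAdd' C n 1 m hnm).app K).symm,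
    subsingleton_hom_of_iso ((shiftFunctorAdd' C n 1 m hnm).app K)⟩

theorem homVanish_obj₂ (T : Triangle C) (hT : T ∈ distTriang C) (P : C) (n : ℤ)
    (h₁ : HomVanish P T.obj₁ n) (h₃ : HomVanish P T.obj₃ n) : HomVanish P T.obj₂ n := by
  have hT' := Triangle.shift_distinguished _ hT n
  refine ⟨fun a b => ?_⟩
  suffices H : ∀ a : P ⟶ T.obj₂⟦n⟧, a = 0 by rw [H a, H b]
  intro a
  obtain ⟨g, hg⟩ := Triangle.coyoneda_exact₂ _ hT' a (@Subsingleton.elim _ h₃ _ _)
  have hg0 : g = 0 := @Subsingleton.elim _ h₁ g 0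
  rw [hg, hg0]
  exact zero_comp

theorem homVanish_obj₃ (T : Triangle C) (hT : T ∈ distTriang C) (P : C) (n : ℤ)
    (h₂ : HomVanish P T.obj₂ n) (h₁ : HomVanish P T.obj₁ (n + 1)) : HomVanish P T.obj₃ n := by
  have hT' := Triangle.shift_distinguished _ hT n
  have h₁' : Subsingleton (P ⟶ (T.obj₁⟦n⟧)⟦(1 : ℤ)⟧) := (homVanish_shift_one rfl).2 h₁
  refine ⟨fun a b => ?_⟩
  suffices H : ∀ a : P ⟶ T.obj₃⟦n⟧, a = 0 by rw [H a, H b]
  intro a
  obtain ⟨g, hg⟩ := Triangle.coyoneda_exact₃ _ hT' a (@Subsingleton.elim _ h₁' _ _)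
  have hg0 : g = 0 := @Subsingleton.elim _ h₂ g 0
  rw [hg, hg0]
  exact zero_comp

theorem homVanish_obj₁ (T : Triangle C) (hT : T ∈ distTriang C) (P : C) (n : ℤ)
    (h₃ : HomVanish P T.obj₃ n) (h₂ : HomVanish P T.obj₂ (n + 1)) :
    HomVanish P T.obj₁ (n + 1) := by
  have hT' := Triangle.shift_distinguished _ hT n
  have h₂' : Subsingleton (P ⟶ (T.obj₂⟦n⟧)⟦(1 : ℤ)⟧) := (homVanish_shift_one rfl).2 h₂
  rw [← homVanish_shift_one (n := n) rfl]
  refine ⟨fun a b => ?_⟩
  suffices H : ∀ a : P ⟶ (T.obj₁⟦n⟧)⟦(1 : ℤ)⟧, a = 0 by rw [H a, H b]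
  intro a
  obtain ⟨g, hg⟩ := Triangle.coyoneda_exact₁ _ hT' a (@Subsingleton.elim _ h₂' _ _)
  have hg0 : g = 0 := @Subsingleton.elim _ h₃ g 0
  rw [hg, hg0]
  exact zero_comp

end General

section Modules

attribute [local instance] HasDerivedCategory.standard

open DerivedCategory

variable {A : Type u} [CommRing A]

/-- Negative Ext groups between modules vanish. -/
theorem homVanish_single_of_neg (X L : ModuleCat.{u} A) (n : ℤ) (hn : n < 0) :
    HomVanish ((singleFunctor (ModuleCat.{u} A) 0).obj X)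
      ((singleFunctor (ModuleCat.{u} A) 0).obj L) n := by
  haveI : (((singleFunctor (ModuleCat.{u} A) 0).obj L)⟦n⟧).IsGE (-n) :=
    TStructure.t.isGE_shift _ 0 n (-n)
  exact ⟨fun a b => by
    rw [TStructure.t.zero a 0 (-n), TStructure.t.zero b 0 (-n)]⟩

/-- `Ext^n(X, L) = 0` for `n ≥ d` when `X` has projective dimension `< d`. -/
theorem homVanish_single_of_hasProjectiveDimensionLT (X L : ModuleCat.{u} A) (d : ℕ)
    [HasProjectiveDimensionLT X d] (n : ℤ) (hn : (d : ℤ) ≤ n) :
    HomVanish ((singleFunctor (ModuleCat.{u} A) 0).obj X)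
      ((singleFunctor (ModuleCat.{u} A) 0).obj L) n := by
  obtain ⟨k, rfl⟩ : ∃ k : ℕ, n = k := ⟨n.toNat, (Int.toNat_of_nonneg (by omega)).symm⟩
  letI := HasExt.standard (ModuleCat.{u} A)
  haveI : Subsingleton (Abelian.Ext X L k) :=
    HasProjectiveDimensionLT.subsingleton X d k (by exact_mod_cast hn) L
  exact (Abelian.Ext.homEquiv (X := X) (Y := L) (n := k)).symm.subsingleton

/-- The short exact sequence `M₁ → M → M / M₁`. -/
noncomputable def submoduleShortComplex {M : Type u} [AddCommGroup M] [Module A M]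
    (M₁ : Submodule A M) : ShortComplex (ModuleCat.{u} A) :=
  ShortComplex.mk (ModuleCat.ofHom M₁.subtype) (ModuleCat.ofHom M₁.mkQ) (by ext x; simp)

theorem submoduleShortComplex_shortExact {M : Type u} [AddCommGroup M] [Module A M]
    (M₁ : Submodule A M) : (submoduleShortComplex M₁).ShortExact := by
  have hex : (submoduleShortComplex M₁).Exact := by
    rw [ShortComplex.moduleCat_exact_iff]
    intro x hx
    have hx' : M₁.mkQ x = 0 := hx
    rw [Submodule.mkQ_apply, Submodule.Quotient.mk_eq_zero] at hx'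
    exact ⟨⟨x, hx'⟩, rfl⟩
  have : Mono (submoduleShortComplex M₁).f :=
    (ModuleCat.mono_iff_injective _).2 M₁.injective_subtype
  have : Epi (submoduleShortComplex M₁).g :=
    (ModuleCat.epi_iff_surjective _).2 M₁.mkQ_surjective
  exact ShortComplex.ShortExact.mk hex

/-- The short exact sequence `ker u → M → range u`. -/
noncomputable def kerShortComplex {M N : Type u} [AddCommGroup M] [Module A M] [AddCommGroup N]
    [Module A N] (u : M →ₗ[A] N) : ShortComplex (ModuleCat.{u} A) :=
  ShortComplex.mk (ModuleCat.ofHom (LinearMap.ker u).subtype) (ModuleCat.ofHom u.rangeRestrict)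
    (by
      refine ModuleCat.hom_ext (LinearMap.ext fun x => ?_)
      apply Subtype.ext
      exact LinearMap.mem_ker.1 x.2)

theorem kerShortComplex_shortExact {M N : Type u} [AddCommGroup M] [Module A M] [AddCommGroup N]
    [Module A N] (u : M →ₗ[A] N) : (kerShortComplex u).ShortExact := by
  have hex : (kerShortComplex u).Exact := by
    rw [ShortComplex.moduleCat_exact_iff]
    intro x hx
    have hx' : u.rangeRestrict x = 0 := hx
    have hx'' : u x = 0 := congrArg Subtype.val hx'
    exact ⟨⟨x, hx''⟩, rfl⟩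
  have : Mono (kerShortComplex u).f :=
    (ModuleCat.mono_iff_injective _).2 (LinearMap.ker u).injective_subtype
  have : Epi (kerShortComplex u).g :=
    (ModuleCat.epi_iff_surjective _).2 u.surjective_rangeRestrict
  exact ShortComplex.ShortExact.mk hex

section Away

open Polynomial

variable (A) (f : A)

/-- The free resolution `0 → A[X] → A[X] → A_f → 0` of `A_f`. -/
noncomputable def awayShortComplex : ShortComplex (ModuleCat.{u} A) :=
  ShortComplex.mk (ModuleCat.ofHom (LinearMap.mulLeft A (C f * X - 1 : A[X])))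
    (ModuleCat.ofHom ((Localization.awayEquivAdjoin f).symm.toLinearMap ∘ₗ
      (AdjoinRoot.mkₐ (C f * X - 1 : A[X])).toLinearMap)) (by
    refine ModuleCat.hom_ext (LinearMap.ext fun x => ?_)
    show (Localization.awayEquivAdjoin f).symm
      (AdjoinRoot.mk (C f * X - 1 : A[X]) ((C f * X - 1) * x)) = 0
    rw [map_mul, AdjoinRoot.mk_self, zero_mul, map_zero])

theorem awayShortComplex_shortExact : (awayShortComplex A f).ShortExact := by
  have hex : (awayShortComplex A f).Exact := by
    rw [ShortComplex.moduleCat_exact_iff]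
    intro x hx
    have hx' : (Localization.awayEquivAdjoin f).symm
      (AdjoinRoot.mk (C f * X - 1 : A[X]) x) = 0 := hx
    rw [map_eq_zero_iff _ (Localization.awayEquivAdjoin f).symm.injective,
      AdjoinRoot.mk_eq_zero] at hx'
    obtain ⟨q, rfl⟩ := hx'
    exact ⟨q, rfl⟩
  have hinj : Function.Injective (LinearMap.mulLeft A (C f * X - 1 : A[X])) := by
    intro p q hpq
    have h : (C f * X - 1 : A[X]) * (p - q) = 0 := by
      rw [mul_sub]
      exact sub_eq_zero.2 hpq
    have hu : IsUnit ((C f * X - 1 : A[X]) : PowerSeries A) := by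
      rw [PowerSeries.isUnit_iff_constantCoeff]
      simp
    have h' : ((C f * X - 1 : A[X]) : PowerSeries A) * ((p - q : A[X]) : PowerSeries A) = 0 := by
      rw [← Polynomial.coe_mul, h, Polynomial.coe_zero]
    have h'' := hu.mul_right_eq_zero.1 h'
    exact sub_eq_zero.1 (Polynomial.coe_injective A (by rw [h'', Polynomial.coe_zero]))
  have : Mono (awayShortComplex A f).f := (ModuleCat.mono_iff_injective _).2 hinj
  have : Epi (awayShortComplex A f).g := (ModuleCat.epi_iff_surjective _).2
    ((Localization.awayEquivAdjoin f).symm.surjective.comp AdjoinRoot.mk_surjective)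
  exact ShortComplex.ShortExact.mk hex

instance hasProjectiveDimensionLT_away :
    HasProjectiveDimensionLT (ModuleCat.of A (Localization.Away f)) 2 := by
  haveI : Projective (awayShortComplex A f).X₁ :=
    inferInstanceAs (Projective (ModuleCat.of A A[X]))
  haveI : Projective (awayShortComplex A f).X₂ :=
    inferInstanceAs (Projective (ModuleCat.of A A[X]))
  exact (awayShortComplex_shortExact A f).hasProjectiveDimensionLT_X₃ 1 inferInstance inferInstance

end Away

/-- Derived completeness in terms of `HomVanish`. -/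
theorem isDerivedComplete_iff (I : Ideal A) (K : Dual.D A) :
    DRing.IsDerivedComplete I K ↔
      ∀ f ∈ I, ∀ n : ℤ, HomVanish (Dual.inD A (Localization.Away f)) K n :=
  Iff.rfl

end Modules

end Groth.Agent.H35
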