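import Mathlib
import Groth.Prelude.Def_DRing3
import Groth.Agent.H35.DerComp

/-!
The module-theoretic criterion for derived completeness of a module placed in degree `0`:
`M[0]` is derived complete with respect to `I` iff for every `f ∈ I` the operator
`(m_n) ↦ (m_n - f m_{n+1})` on sequences in `M` is bijective.
-/

set_option autoImplicit false
universe u

namespace Groth.Agent.H35

open CategoryTheory CategoryTheory.Limits CategoryTheory.Pretriangulated

attribute [local instance] HasDerivedCategory.standard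

open DerivedCategory Polynomial

section Criterion

variable (A : Type u) [CommRing A]

/-- For a two-term resolution `0 → X₁ → X₂ → X₃ → 0` with `X₂` projective and `X₃` of projective
dimension `< 2`: all `Ext^n(X₃, L)` vanish iff `Hom(X₂, L) → Hom(X₁, L)` is bijective. -/
theorem homVanish_iff_of_resolution (S : ShortComplex (ModuleCat.{u} A)) (hS : S.ShortExact)
    [Projective S.X₂] [HasProjectiveDimensionLT S.X₃ 2] (L : ModuleCat.{u} A) :
    (∀ n : ℤ, HomVanish ((singleFunctor (ModuleCat.{u} A) 0).obj S.X₃)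
        ((singleFunctor (ModuleCat.{u} A) 0).obj L) n) ↔
      Function.Bijective (fun φ : S.X₂ ⟶ L => S.f ≫ φ) := by
  have hT := hS.singleTriangle_distinguished
  constructor
  · intro hv
    have hv0 : Subsingleton ((singleFunctor (ModuleCat.{u} A) 0).obj S.X₃ ⟶
        (singleFunctor (ModuleCat.{u} A) 0).obj L) :=
      subsingleton_hom_of_iso ((shiftFunctorZero (DerivedCategory (ModuleCat.{u} A)) ℤ).app
        ((singleFunctor (ModuleCat.{u} A) 0).obj L)) (hv 0)
    constructor
    · intro φ φ' hφ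
      have hφ' : S.f ≫ φ = S.f ≫ φ' := hφ
      have h0 : S.f ≫ (φ - φ') = 0 := by
        rw [Preadditive.comp_sub]
        exact sub_eq_zero.2 hφ'
      have h1 : hS.singleTriangle.mor₁ ≫ (singleFunctor (ModuleCat.{u} A) 0).map (φ - φ') = 0 := by
        show (singleFunctor (ModuleCat.{u} A) 0).map S.f ≫
          (singleFunctor (ModuleCat.{u} A) 0).map (φ - φ') = 0
        rw [← Functor.map_comp, h0, Functor.map_zero]
      obtain ⟨g, hg⟩ := Triangle.yoneda_exact₂ _ hT _ h1
      have hg0 : g = 0 := @Subsingleton.elim _ hv0 g 0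
      rw [hg0, Limits.comp_zero] at hg
      have h2 : φ - φ' = 0 :=
        (singleFunctor (ModuleCat.{u} A) 0).map_injective
          (Eq.trans (b := (0 : (singleFunctor (ModuleCat.{u} A) 0).obj S.X₂ ⟶
            (singleFunctor (ModuleCat.{u} A) 0).obj L)) hg
            (Functor.map_zero (singleFunctor (ModuleCat.{u} A) 0) S.X₂ L).symm)
      exact sub_eq_zero.1 h2
    · intro χ
      have hv1 := hv 1
      have hrot := rot_of_distTriang _ hT
      have h1 : hS.singleTriangle.rotate.mor₂ ≫
          ((singleFunctor (ModuleCat.{u} A) 0).map χ)⟦(1 : ℤ)⟧' = 0 :=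
        @Subsingleton.elim _ hv1 _ _
      obtain ⟨g, hg⟩ := Triangle.yoneda_exact₃ _ hrot _ h1
      have hg' : ∃ g' : ((singleFunctor (ModuleCat.{u} A) 0).obj S.X₂)⟦(1 : ℤ)⟧ ⟶
          ((singleFunctor (ModuleCat.{u} A) 0).obj L)⟦(1 : ℤ)⟧,
          ((singleFunctor (ModuleCat.{u} A) 0).map χ)⟦(1 : ℤ)⟧' =
            (-((singleFunctor (ModuleCat.{u} A) 0).map S.f)⟦(1 : ℤ)⟧') ≫ g' := ⟨g, hg⟩
      obtain ⟨g', hg'⟩ := hg'
      obtain ⟨g₀, hg₀⟩ :=
        (shiftFunctor (DerivedCategory (ModuleCat.{u} A)) (1 : ℤ)).map_surjective g'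
      obtain ⟨γ, hγ⟩ := (singleFunctor (ModuleCat.{u} A) 0).map_surjective g₀
      have h2 : (singleFunctor (ModuleCat.{u} A) 0).map χ =
          (singleFunctor (ModuleCat.{u} A) 0).map (S.f ≫ (-γ)) := by
        apply (shiftFunctor (DerivedCategory (ModuleCat.{u} A)) (1 : ℤ)).map_injective
        rw [hg', ← hg₀, ← hγ, Functor.map_comp, Functor.map_comp, Functor.map_neg,
          Functor.map_neg, Preadditive.neg_comp, Preadditive.comp_neg]
      exact ⟨-γ, ((singleFunctor (ModuleCat.{u} A) 0).map_injective h2).symm⟩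
  · intro hb n
    by_cases h0 : n < 0
    · exact homVanish_single_of_neg _ _ n h0
    by_cases h2 : 2 ≤ n
    · exact homVanish_single_of_hasProjectiveDimensionLT S.X₃ L 2 n (by exact_mod_cast h2)
    have hn : n = 0 ∨ n = 1 := by omega
    rcases hn with rfl | rfl
    · have hmod : ∀ α : S.X₃ ⟶ L, α = 0 := by
        intro α
        have h3 : S.g ≫ α = 0 := hb.1 (by
          show S.f ≫ S.g ≫ α = S.f ≫ 0
          rw [S.zero_assoc, Limits.zero_comp, Limits.comp_zero])
        have := hS.epi_g
        exact (cancel_epi S.g).1 (by rw [h3, Limits.comp_zero])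
      have hss : Subsingleton
          ((singleFunctor (ModuleCat.{u} A) 0).obj S.X₃ ⟶
          (singleFunctor (ModuleCat.{u} A) 0).obj L) := ⟨fun a b => by
        obtain ⟨α, rfl⟩ := (singleFunctor (ModuleCat.{u} A) 0).map_surjective a
        obtain ⟨β, rfl⟩ := (singleFunctor (ModuleCat.{u} A) 0).map_surjective b
        rw [hmod α, hmod β]⟩
      exact subsingleton_hom_of_iso
        ((shiftFunctorZero (DerivedCategory (ModuleCat.{u} A)) ℤ).app
          ((singleFunctor (ModuleCat.{u} A) 0).obj L)).symm hss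
    · refine ⟨fun a b => ?_⟩
      suffices H : ∀ a : (singleFunctor (ModuleCat.{u} A) 0).obj S.X₃ ⟶
          ((singleFunctor (ModuleCat.{u} A) 0).obj L)⟦(1 : ℤ)⟧, a = 0 by
        exact (H a).trans (H b).symm
      intro a
      have hP : HomVanish ((singleFunctor (ModuleCat.{u} A) 0).obj S.X₂)
          ((singleFunctor (ModuleCat.{u} A) 0).obj L) 1 :=
        homVanish_single_of_hasProjectiveDimensionLT S.X₂ L 1 1 (by norm_num)
      have h1 : hS.singleTriangle.mor₂ ≫ a = 0 := @Subsingleton.elim _ hP _ _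
      obtain ⟨g, hg⟩ := Triangle.yoneda_exact₃ _ hT a h1
      have hg' : ∃ g' : ((singleFunctor (ModuleCat.{u} A) 0).obj S.X₁)⟦(1 : ℤ)⟧ ⟶
          ((singleFunctor (ModuleCat.{u} A) 0).obj L)⟦(1 : ℤ)⟧,
          a = hS.singleTriangle.mor₃ ≫ g' := ⟨g, hg⟩
      obtain ⟨g', hg'⟩ := hg'
      obtain ⟨g₀, hg₀⟩ :=
        (shiftFunctor (DerivedCategory (ModuleCat.{u} A)) (1 : ℤ)).map_surjective g'
      obtain ⟨γ, hγ⟩ := (singleFunctor (ModuleCat.{u} A) 0).map_surjective g₀
      obtain ⟨φ, hφ⟩ := hb.2 γ
      have hφ' : S.f ≫ φ = γ := hφ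
      have h3 : hS.singleTriangle.mor₃ ≫ ((singleFunctor (ModuleCat.{u} A) 0).map S.f)⟦(1 : ℤ)⟧'
          = 0 := comp_distTriang_mor_zero₃₁ _ hT
      rw [hg', ← hg₀, ← hγ, ← hφ', Functor.map_comp, Functor.map_comp]
      exact (Category.assoc _ _ _).symm.trans
        ((congrArg (fun t => t ≫ ((singleFunctor (ModuleCat.{u} A) 0).map φ)⟦(1 : ℤ)⟧') h3).trans
          Limits.zero_comp)

variable (f : A) (M : Type u) [AddCommGroup M] [Module A M]

/-- Precomposition with multiplication by `fX - 1` on `Hom_A(A[X], M)`. -/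
noncomputable def awayPsi : (A[X] →ₗ[A] M) →ₗ[A] (A[X] →ₗ[A] M) :=
  LinearMap.lcomp A M (LinearMap.mulLeft A (C f * X - 1 : A[X]))

lemma awayPsi_apply (φ : A[X] →ₗ[A] M) (x : A[X]) :
    awayPsi A f M φ x = φ ((C f * X - 1) * x) := rfl

theorem homVanish_away_iff :
    (∀ n : ℤ, HomVanish (Dual.inD A (Localization.Away f)) (Dual.inD A M) n) ↔
      Function.Bijective (awayPsi A f M) := by
  have : Projective (awayShortComplex A f).X₂ :=
    inferInstanceAs (Projective (ModuleCat.of A A[X]))
  have : HasProjectiveDimensionLT (awayShortComplex A f).X₃ 2 :=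
    hasProjectiveDimensionLT_away A f
  have h := homVanish_iff_of_resolution A (awayShortComplex A f)
    (awayShortComplex_shortExact A f) (ModuleCat.of A M)
  refine Iff.trans h ?_
  let e₂ : ((awayShortComplex A f).X₂ ⟶ ModuleCat.of A M) ≃ (A[X] →ₗ[A] M) :=
    { toFun := fun φ => φ.hom
      invFun := fun φ => ModuleCat.ofHom φ
      left_inv := fun _ => rfl
      right_inv := fun _ => rfl }
  let e₁ : ((awayShortComplex A f).X₁ ⟶ ModuleCat.of A M) ≃ (A[X] →ₗ[A] M) :=
    { toFun := fun φ => φ.hom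
      invFun := fun φ => ModuleCat.ofHom φ
      left_inv := fun _ => rfl
      right_inv := fun _ => rfl }
  have hc : (awayPsi A f M) ∘ e₂ = e₁ ∘ (fun φ => (awayShortComplex A f).f ≫ φ) :=
    funext fun φ => rfl
  rw [← Equiv.bijective_comp e₂ (awayPsi A f M), hc, Equiv.comp_bijective]

end Criterion

section Sequences

variable {A : Type u} [CommRing A] (f : A) (M : Type u) [AddCommGroup M] [Module A M]

/-- The operator `(m_n) ↦ (m_n - f m_{n+1})` on sequences. -/
def seqD (m : ℕ → M) : ℕ → M := fun n => m n - f • m (n + 1)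

variable (A) in
/-- Linear maps out of `A[X]` are sequences. -/
noncomputable def polyHomEquiv : (A[X] →ₗ[A] M) ≃ (ℕ → M) where
  toFun φ n := φ (X ^ n)
  invFun m := (Polynomial.basisMonomials A).constr A m
  left_inv φ := by
    refine (Polynomial.basisMonomials A).ext fun n => ?_
    rw [(Polynomial.basisMonomials A).constr_basis A _ n]
    simp only [Polynomial.coe_basisMonomials, Polynomial.X_pow_eq_monomial]
  right_inv m := by
    funext n
    have h := (Polynomial.basisMonomials A).constr_basis A m n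
    simp only [Polynomial.coe_basisMonomials] at h
    simp only [Polynomial.X_pow_eq_monomial]
    exact h

lemma polyHomEquiv_awayPsi (φ : A[X] →ₗ[A] M) :
    polyHomEquiv A M (awayPsi A f M φ) = - seqD f M (polyHomEquiv A M φ) := by
  funext n
  show φ ((C f * X - 1) * X ^ n) = -(φ (X ^ n) - f • φ (X ^ (n + 1)))
  have h : (C f * X - 1 : A[X]) * X ^ n = f • X ^ (n + 1) - X ^ n := by
    rw [Polynomial.smul_eq_C_mul]
    ring
  rw [h, map_sub, map_smul, neg_sub]

theorem bijective_awayPsi_iff :
    Function.Bijective (awayPsi A f M) ↔ Function.Bijective (seqD f M) := by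
  have h : (polyHomEquiv A M) ∘ (awayPsi A f M) =
      ((Equiv.neg (ℕ → M)) ∘ seqD f M) ∘ (polyHomEquiv A M) :=
    funext fun φ => polyHomEquiv_awayPsi f M φ
  rw [← Equiv.comp_bijective (awayPsi A f M) (polyHomEquiv A M), h, Equiv.bijective_comp,
    Equiv.comp_bijective]

theorem bijective_seqD_iff :
    Function.Bijective (seqD f M) ↔
      ∀ c : ℕ → M, ∃! m : ℕ → M, ∀ n, m n - f • m (n + 1) = c n := by
  rw [Function.bijective_iff_existsUnique]
  refine forall_congr' fun c => ?_
  refine existsUnique_congr fun m => ?_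
  exact funext_iff

end Sequences

/-- **Module criterion for derived completeness.** -/
theorem isDerivedComplete_inD_iff (A : Type u) [CommRing A] (M : Type u) [AddCommGroup M]
    [Module A M] (I : Ideal A) :
    DRing.IsDerivedComplete I (Dual.inD A M) ↔
      ∀ f ∈ I, ∀ c : ℕ → M, ∃! m : ℕ → M, ∀ n, m n - f • m (n + 1) = c n := by
  have crit : ∀ f : A,
      (∀ n : ℤ, HomVanish (Dual.inD A (Localization.Away f)) (Dual.inD A M) n) ↔
        ∀ c : ℕ → M, ∃! m : ℕ → M, ∀ n, m n - f • m (n + 1) = c n :=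
    fun f => (homVanish_away_iff A f M).trans
      ((bijective_awayPsi_iff f M).trans (bijective_seqD_iff f M))
  constructor
  · intro h f hf
    exact (crit f).1 (fun n => h f hf n)
  · intro h f hf n
    exact (crit f).2 (h f hf) n

end Groth.Agent.H35
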