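import Mathlib
import Groth.Prelude.Def_DRing3
import Groth.Agent.H35.DerCrit
import Groth.Agent.H56.DerCat7

/-!
Derived completeness of an object of `D(A)` is detected on its cohomology modules.
-/

set_option autoImplicit false
universe u

namespace Groth.Agent.H35

open CategoryTheory CategoryTheory.Limits CategoryTheory.Pretriangulated

attribute [local instance] HasDerivedCategory.standard

open DerivedCategory DerivedCategory.TStructure

variable {A : Type u} [CommRing A]

lemma bijective_iff_of_square {α β α' β' : Type*} (p : α → β) (p' : α' → β') (h₁ : α → α')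
    (h₂ : β → β') (hh₁ : Function.Bijective h₁) (hh₂ : Function.Bijective h₂)
    (hsq : h₂ ∘ p = p' ∘ h₁) : Function.Bijective p ↔ Function.Bijective p' := by
  rw [← Function.Bijective.of_comp_iff' hh₂ p, hsq, Function.Bijective.of_comp_iff p' hh₁]

/-- Long exact sequence form: for a short exact sequence `S` of modules and any `K`, all
`Hom(X₃[0], K[n])` vanish iff `Hom(X₂[0], K[n]) → Hom(X₁[0], K[n])` is bijective for all `n`. -/
theorem homVanish_iff_bijective_pre (S : ShortComplex (ModuleCat.{u} A)) (hS : S.ShortExact)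
    (K : DerivedCategory (ModuleCat.{u} A)) :
    (∀ n : ℤ, HomVanish ((singleFunctor (ModuleCat.{u} A) 0).obj S.X₃) K n) ↔
      ∀ n : ℤ, Function.Bijective
        (fun a : (singleFunctor (ModuleCat.{u} A) 0).obj S.X₂ ⟶ K⟦n⟧ =>
          (singleFunctor (ModuleCat.{u} A) 0).map S.f ≫ a) := by
  have hT := hS.singleTriangle_distinguished
  constructor
  · intro hv n
    constructor
    · intro a a' h
      have h' : (singleFunctor (ModuleCat.{u} A) 0).map S.f ≫ a =
          (singleFunctor (ModuleCat.{u} A) 0).map S.f ≫ a' := h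
      have h1 : hS.singleTriangle.mor₁ ≫ (a - a') = 0 := by
        show (singleFunctor (ModuleCat.{u} A) 0).map S.f ≫ (a - a') = 0
        rw [Preadditive.comp_sub, h', sub_self]
      obtain ⟨g, hg⟩ := Triangle.yoneda_exact₂ _ hT _ h1
      have hg0 : g = 0 := @Subsingleton.elim _ (hv n) g 0
      rw [hg0, Limits.comp_zero] at hg
      exact sub_eq_zero.1 hg
    · intro b
      have hv1 : Subsingleton ((singleFunctor (ModuleCat.{u} A) 0).obj S.X₃ ⟶
          (K⟦n⟧)⟦(1 : ℤ)⟧) := (homVanish_shift_one rfl).2 (hv (n + 1))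
      have hrot := rot_of_distTriang _ hT
      have h1 : hS.singleTriangle.rotate.mor₂ ≫ b⟦(1 : ℤ)⟧' = 0 :=
        @Subsingleton.elim _ hv1 _ _
      obtain ⟨g, hg⟩ := Triangle.yoneda_exact₃ _ hrot _ h1
      have hg' : ∃ g' : ((singleFunctor (ModuleCat.{u} A) 0).obj S.X₂)⟦(1 : ℤ)⟧ ⟶
          (K⟦n⟧)⟦(1 : ℤ)⟧,
          b⟦(1 : ℤ)⟧' = (-((singleFunctor (ModuleCat.{u} A) 0).map S.f)⟦(1 : ℤ)⟧') ≫ g' :=
        ⟨g, hg⟩
      obtain ⟨g', hg'⟩ := hg'
      obtain ⟨g₀, hg₀⟩ :=
        (shiftFunctor (DerivedCategory (ModuleCat.{u} A)) (1 : ℤ)).map_surjective g'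
      refine ⟨-g₀, ?_⟩
      apply (shiftFunctor (DerivedCategory (ModuleCat.{u} A)) (1 : ℤ)).map_injective
      show (shiftFunctor (DerivedCategory (ModuleCat.{u} A)) (1 : ℤ)).map
        ((singleFunctor (ModuleCat.{u} A) 0).map S.f ≫ (-g₀)) =
        (shiftFunctor (DerivedCategory (ModuleCat.{u} A)) (1 : ℤ)).map b
      rw [hg', ← hg₀, Functor.map_comp, Functor.map_neg, Preadditive.neg_comp,
        Preadditive.comp_neg]
  · intro hb n
    rw [← homVanish_shift_one (n := n - 1) (m := n) (by omega)]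
    refine ⟨fun a b => ?_⟩
    suffices H : ∀ a : (singleFunctor (ModuleCat.{u} A) 0).obj S.X₃ ⟶
        (K⟦n - 1⟧)⟦(1 : ℤ)⟧, a = 0 by rw [H a, H b]
    intro a
    have e : K⟦n⟧ ≅ (K⟦n - 1⟧)⟦(1 : ℤ)⟧ :=
      (shiftFunctorAdd' (DerivedCategory (ModuleCat.{u} A)) (n - 1) 1 n (by omega)).app K
    have h0 : (singleFunctor (ModuleCat.{u} A) 0).map S.f ≫ hS.singleTriangle.mor₂ = 0 :=
      comp_distTriang_mor_zero₁₂ _ hT
    have h1 : hS.singleTriangle.mor₂ ≫ a = 0 := by
      have h2 : (singleFunctor (ModuleCat.{u} A) 0).map S.f ≫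
          ((hS.singleTriangle.mor₂ ≫ a) ≫ e.inv) =
          (singleFunctor (ModuleCat.{u} A) 0).map S.f ≫ 0 := by
        rw [Limits.comp_zero]
        calc (singleFunctor (ModuleCat.{u} A) 0).map S.f ≫
              ((hS.singleTriangle.mor₂ ≫ a) ≫ e.inv)
            = ((singleFunctor (ModuleCat.{u} A) 0).map S.f ≫ hS.singleTriangle.mor₂) ≫
              (a ≫ e.inv) := by simp only [Category.assoc]
          _ = 0 := by rw [h0, Limits.zero_comp]
      have h3 : (hS.singleTriangle.mor₂ ≫ a) ≫ e.inv = 0 := (hb n).1 h2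
      have h4 := congrArg (fun t => t ≫ e.hom) h3
      simp only [Category.assoc, Iso.inv_hom_id, Category.comp_id, Limits.zero_comp] at h4
      exact h4
    obtain ⟨g, hg⟩ := Triangle.yoneda_exact₃ _ hT a h1
    have hg' : ∃ g' : ((singleFunctor (ModuleCat.{u} A) 0).obj S.X₁)⟦(1 : ℤ)⟧ ⟶
        (K⟦n - 1⟧)⟦(1 : ℤ)⟧, a = hS.singleTriangle.mor₃ ≫ g' := ⟨g, hg⟩
    obtain ⟨g', hg'⟩ := hg'
    obtain ⟨g₀, hg₀⟩ :=
      (shiftFunctor (DerivedCategory (ModuleCat.{u} A)) (1 : ℤ)).map_surjective g'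
    obtain ⟨φ, hφ⟩ := (hb (n - 1)).2 g₀
    have hφ' : (singleFunctor (ModuleCat.{u} A) 0).map S.f ≫ φ = g₀ := hφ
    have h3 : hS.singleTriangle.mor₃ ≫ ((singleFunctor (ModuleCat.{u} A) 0).map S.f)⟦(1 : ℤ)⟧'
        = 0 := comp_distTriang_mor_zero₃₁ _ hT
    rw [hg', ← hg₀, ← hφ', Functor.map_comp]
    exact (Category.assoc _ _ _).symm.trans
      ((congrArg (fun t => t ≫ φ⟦(1 : ℤ)⟧') h3).trans Limits.zero_comp)

/-- Maps from a projective module in degree `0` to `Y` and to `τ^{≥0} Y` agree. -/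
lemma bijective_comp_truncGEπ (Q : ModuleCat.{u} A) [Projective Q]
    (Y : DerivedCategory (ModuleCat.{u} A)) :
    Function.Bijective (fun a : (singleFunctor (ModuleCat.{u} A) 0).obj Q ⟶ Y =>
      a ≫ (t.truncGEπ 0).app Y) := by
  have hT := t.triangleLTGE_distinguished 0 Y
  constructor
  · intro a a' h
    have h' : a ≫ (t.truncGEπ 0).app Y = a' ≫ (t.truncGEπ 0).app Y := h
    have h0 : (a - a') ≫ ((t.triangleLTGE 0).obj Y).mor₂ = 0 := by
      show (a - a') ≫ (t.truncGEπ 0).app Y = 0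
      rw [Preadditive.sub_comp, h', sub_self]
    obtain ⟨g, hg⟩ := Triangle.coyoneda_exact₂ _ hT (a - a') h0
    have hg' : ∃ g' : (singleFunctor (ModuleCat.{u} A) 0).obj Q ⟶ (t.truncLT 0).obj Y,
        a - a' = g' ≫ (t.truncLTι 0).app Y := ⟨g, hg⟩
    obtain ⟨g', hg'⟩ := hg'
    have hle : ((t.truncLT 0).obj Y).IsLE (-1) := t.isLE_truncLT_obj _ 0 (-1) (by norm_num)
    have hg0 : g' = 0 := H56.hom_single_projective_eq_zero Q _ (-1) (by norm_num) g'
    rw [hg0, Limits.zero_comp] at hg'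
    exact sub_eq_zero.1 hg'
  · intro b
    have hle : ((t.truncLT 0).obj Y).IsLE (-1) := t.isLE_truncLT_obj _ 0 (-1) (by norm_num)
    have hle2 : (((t.truncLT 0).obj Y)⟦(1 : ℤ)⟧).IsLE (-2) :=
      t.isLE_shift _ (-1) 1 (-2) (by norm_num)
    have h0 : b ≫ ((t.triangleLTGE 0).obj Y).mor₃ = 0 :=
      H56.hom_single_projective_eq_zero Q (((t.truncLT 0).obj Y)⟦(1 : ℤ)⟧) (-2) (by norm_num) _
    obtain ⟨a, ha⟩ := Triangle.coyoneda_exact₃ _ hT b h0
    exact ⟨a, ha.symm⟩

/-- Maps from an object of `D^{≤0}` to `Z` and to `τ^{<1} Z` agree. -/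
lemma bijective_comp_truncLTι (X Z : DerivedCategory (ModuleCat.{u} A)) [X.IsLE 0] :
    Function.Bijective (fun a : X ⟶ (t.truncLT 1).obj Z => a ≫ (t.truncLTι 1).app Z) := by
  constructor
  · intro a a' h
    have h' : a ≫ (t.truncLTι 1).app Z = a' ≫ (t.truncLTι 1).app Z := h
    have hle : X.IsLE 1 := t.isLE_of_le X 0 1 (by norm_num)
    have h0 := H56.eq_zero_of_comp_truncLTι X Z 1 (a - a')
      (by rw [Preadditive.sub_comp, h', sub_self])
    exact sub_eq_zero.1 h0
  · intro b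
    have h0 : b ≫ (t.truncGEπ 1).app Z = 0 :=
      t.zero_of_isLE_of_isGE _ 0 1 (by norm_num) inferInstance inferInstance
    obtain ⟨a, ha⟩ := H56.exists_lift_truncLTι X Z 1 b h0
    exact ⟨a, ha.symm⟩

lemma bijective_comp_iso {X Y Y' : DerivedCategory (ModuleCat.{u} A)} (e : Y ≅ Y') :
    Function.Bijective (fun a : X ⟶ Y => a ≫ e.hom) := by
  constructor
  · intro a a' h
    have h' : a ≫ e.hom = a' ≫ e.hom := h
    have h2 := congrArg (fun t => t ≫ e.inv) h'
    simpa using h2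
  · intro b
    exact ⟨b ≫ e.inv, by simp⟩

/-- For a map `u : Q₁ ⟶ Q₂` of projective modules, precomposition with `u[0]` on `Hom(-, Y)` is
bijective iff precomposition with `u` on `Hom(-, H^0(Y))` is. -/
theorem bijective_pre_iff_homology (Q₁ Q₂ : ModuleCat.{u} A) [Projective Q₁] [Projective Q₂]
    (u : Q₁ ⟶ Q₂) (Y : DerivedCategory (ModuleCat.{u} A)) :
    Function.Bijective (fun a : (singleFunctor (ModuleCat.{u} A) 0).obj Q₂ ⟶ Y =>
        (singleFunctor (ModuleCat.{u} A) 0).map u ≫ a) ↔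
      Function.Bijective
        (fun φ : Q₂ ⟶ (homologyFunctor (ModuleCat.{u} A) 0).obj Y => u ≫ φ) := by
  have hWle : ((t.truncLT 1).obj ((t.truncGE 0).obj Y)).IsLE 0 :=
    t.isLE_truncLT_obj _ 1 0 (by norm_num)
  have hWge : ((t.truncLT 1).obj ((t.truncGE 0).obj Y)).IsGE 0 := inferInstance
  obtain ⟨eW⟩ := H56.nonempty_iso_single ((t.truncLT 1).obj ((t.truncGE 0).obj Y)) 0
  have i1 : IsIso ((homologyFunctor (ModuleCat.{u} A) 0).map
      ((t.truncLTι 1).app ((t.truncGE 0).obj Y))) :=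
    H56.isIso_homologyMap_truncLTι _ 1 0 (by norm_num)
  have i2 : IsIso ((homologyFunctor (ModuleCat.{u} A) 0).map ((t.truncGEπ 0).app Y)) :=
    H56.isIso_homologyMap_truncGEπ Y 0 0 le_rfl
  have eH : (homologyFunctor (ModuleCat.{u} A) 0).obj
      ((t.truncLT 1).obj ((t.truncGE 0).obj Y)) ≅ (homologyFunctor (ModuleCat.{u} A) 0).obj Y :=
    asIso ((homologyFunctor (ModuleCat.{u} A) 0).map ((t.truncLTι 1).app ((t.truncGE 0).obj Y)))
      ≪≫ (asIso ((homologyFunctor (ModuleCat.{u} A) 0).map ((t.truncGEπ 0).app Y))).symm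
  have e : (t.truncLT 1).obj ((t.truncGE 0).obj Y) ≅
      (singleFunctor (ModuleCat.{u} A) 0).obj ((homologyFunctor (ModuleCat.{u} A) 0).obj Y) :=
    eW ≪≫ (singleFunctor (ModuleCat.{u} A) 0).mapIso eH
  have s1 := bijective_iff_of_square
    (fun a : (singleFunctor (ModuleCat.{u} A) 0).obj Q₂ ⟶ Y =>
      (singleFunctor (ModuleCat.{u} A) 0).map u ≫ a)
    (fun a : (singleFunctor (ModuleCat.{u} A) 0).obj Q₂ ⟶ (t.truncGE 0).obj Y =>
      (singleFunctor (ModuleCat.{u} A) 0).map u ≫ a)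
    (fun a => a ≫ (t.truncGEπ 0).app Y) (fun a => a ≫ (t.truncGEπ 0).app Y)
    (bijective_comp_truncGEπ Q₂ Y) (bijective_comp_truncGEπ Q₁ Y)
    (funext fun a => Category.assoc _ _ _)
  have s2 := bijective_iff_of_square
    (fun a : (singleFunctor (ModuleCat.{u} A) 0).obj Q₂ ⟶
        (t.truncLT 1).obj ((t.truncGE 0).obj Y) =>
      (singleFunctor (ModuleCat.{u} A) 0).map u ≫ a)
    (fun a : (singleFunctor (ModuleCat.{u} A) 0).obj Q₂ ⟶ (t.truncGE 0).obj Y =>
      (singleFunctor (ModuleCat.{u} A) 0).map u ≫ a)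
    (fun a => a ≫ (t.truncLTι 1).app ((t.truncGE 0).obj Y))
    (fun a => a ≫ (t.truncLTι 1).app ((t.truncGE 0).obj Y))
    (bijective_comp_truncLTι _ _) (bijective_comp_truncLTι _ _)
    (funext fun a => Category.assoc _ _ _)
  have s3 := bijective_iff_of_square
    (fun a : (singleFunctor (ModuleCat.{u} A) 0).obj Q₂ ⟶
        (t.truncLT 1).obj ((t.truncGE 0).obj Y) =>
      (singleFunctor (ModuleCat.{u} A) 0).map u ≫ a)
    (fun a : (singleFunctor (ModuleCat.{u} A) 0).obj Q₂ ⟶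
        (singleFunctor (ModuleCat.{u} A) 0).obj ((homologyFunctor (ModuleCat.{u} A) 0).obj Y) =>
      (singleFunctor (ModuleCat.{u} A) 0).map u ≫ a)
    (fun a => a ≫ e.hom) (fun a => a ≫ e.hom)
    (bijective_comp_iso e) (bijective_comp_iso e)
    (funext fun a => Category.assoc _ _ _)
  have s4 := bijective_iff_of_square
    (fun φ : Q₂ ⟶ (homologyFunctor (ModuleCat.{u} A) 0).obj Y => u ≫ φ)
    (fun a : (singleFunctor (ModuleCat.{u} A) 0).obj Q₂ ⟶
        (singleFunctor (ModuleCat.{u} A) 0).obj ((homologyFunctor (ModuleCat.{u} A) 0).obj Y) =>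
      (singleFunctor (ModuleCat.{u} A) 0).map u ≫ a)
    (fun φ => (singleFunctor (ModuleCat.{u} A) 0).map φ)
    (fun φ => (singleFunctor (ModuleCat.{u} A) 0).map φ)
    ⟨(singleFunctor (ModuleCat.{u} A) 0).map_injective,
      (singleFunctor (ModuleCat.{u} A) 0).map_surjective⟩
    ⟨(singleFunctor (ModuleCat.{u} A) 0).map_injective,
      (singleFunctor (ModuleCat.{u} A) 0).map_surjective⟩
    (funext fun φ => Functor.map_comp _ _ _)
  exact s1.trans (s2.symm.trans (s3.trans s4.symm))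

/-- `Hom(A_f, K[n]) = 0` for all `n` iff the same holds for all cohomology modules of `K`. -/
theorem homVanish_away_iff_homology (f : A) (K : DerivedCategory (ModuleCat.{u} A)) :
    (∀ n : ℤ, HomVanish (Dual.inD A (Localization.Away f)) K n) ↔
      ∀ i : ℤ, ∀ n : ℤ, HomVanish (Dual.inD A (Localization.Away f))
        (Dual.inD A (Dual.HD A K i)) n := by
  have : Projective (awayShortComplex A f).X₁ :=
    inferInstanceAs (Projective (ModuleCat.of A (Polynomial A)))
  have : Projective (awayShortComplex A f).X₂ :=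
    inferInstanceAs (Projective (ModuleCat.of A (Polynomial A)))
  have : HasProjectiveDimensionLT (awayShortComplex A f).X₃ 2 :=
    hasProjectiveDimensionLT_away A f
  have hS := awayShortComplex_shortExact A f
  refine (homVanish_iff_bijective_pre (awayShortComplex A f) hS K).trans ?_
  refine forall_congr' fun n => ?_
  refine (bijective_pre_iff_homology (awayShortComplex A f).X₁ (awayShortComplex A f).X₂
    (awayShortComplex A f).f (K⟦n⟧)).trans ?_
  refine (homVanish_iff_of_resolution A (awayShortComplex A f) hS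
    ((homologyFunctor (ModuleCat.{u} A) 0).obj (K⟦n⟧))).symm.trans ?_
  have eH := ((homologyFunctor (ModuleCat.{u} A) 0).shiftIso n 0 n (add_zero n)).app K
  rw [DerivedCategory.shift_homologyFunctor, DerivedCategory.shift_homologyFunctor] at eH
  have eH' : (homologyFunctor (ModuleCat.{u} A) 0).obj (K⟦n⟧) ≅
      ModuleCat.of A (Dual.HD A K n) := eH
  refine forall_congr' fun j => ?_
  exact ⟨subsingleton_hom_of_iso ((shiftFunctor (DerivedCategory (ModuleCat.{u} A)) j).mapIso
      ((singleFunctor (ModuleCat.{u} A) 0).mapIso eH')),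
    subsingleton_hom_of_iso ((shiftFunctor (DerivedCategory (ModuleCat.{u} A)) j).mapIso
      ((singleFunctor (ModuleCat.{u} A) 0).mapIso eH')).symm⟩

end Groth.Agent.H35
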