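import Groth.Agent.H35.DerSeq
import Groth.Agent.H35.DerComp
import Groth.Agent.H33.DerTrunc
import Groth.Agent.H56.PCohM

/-!
# The abstract derived completion functor is right t-exact (helper35)

Using only the universal property of `K → K^∧` and the fact that derived completeness can be tested
on cohomology modules, we show: if the cone of `φ : K → L` lies in `D^{≤ n}` then so does the cone of
`φ^∧ : K^∧ → L^∧`.
-/

set_option autoImplicit false
universe u
open CategoryTheory CategoryTheory.Limits Pretriangulated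
attribute [local instance] HasDerivedCategory.standard

namespace Groth.Agent.H35.DerCompAdj

open DRing DerivedCategory DerivedCategory.TStructure Groth.Agent.H35

variable {A : Type u} [CommRing A] (I : Ideal A)

/-! ### closure properties of derived completeness -/

lemma isDerivedComplete_of_iso {E E' : Dual.D A} (e : E ≅ E') (hE : IsDerivedComplete I E) :
    IsDerivedComplete I E' := fun f hf n =>
  subsingleton_hom_of_iso ((shiftFunctor (Dual.D A) n).mapIso e) (hE f hf n)

lemma isDerivedComplete_shift {E : Dual.D A} (hE : IsDerivedComplete I E) (a : ℤ) :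
    IsDerivedComplete I (E⟦a⟧) := fun f hf n =>
  subsingleton_hom_of_iso ((shiftFunctorAdd' (Dual.D A) a n (a + n) rfl).app E) (hE f hf (a + n))

lemma isDerivedComplete_obj₃ (T : Triangle (Dual.D A)) (hT : T ∈ distTriang _)
    (h₁ : IsDerivedComplete I T.obj₁) (h₂ : IsDerivedComplete I T.obj₂) :
    IsDerivedComplete I T.obj₃ := fun f hf n =>
  homVanish_obj₃ T hT _ n (h₂ f hf n) (h₁ f hf (n + 1))

lemma isDerivedComplete_truncGE {Z : Dual.D A} (hZ : IsDerivedComplete I Z) (n : ℤ) :
    IsDerivedComplete I ((t.truncGE n).obj Z) := by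
  rw [isDerivedComplete_iff_seqComplete] at hZ ⊢
  intro f hf i
  by_cases hi : n ≤ i
  · have hiso := Groth.Agent.H33.isIso_homology_truncGEπ Z n i hi
    let e : Dual.HD A Z i ≃ₗ[A] Dual.HD A ((t.truncGE n).obj Z) i :=
      (@asIso _ _ _ _ _ hiso).toLinearEquiv
    exact (hZ f hf i).of_linearEquiv e
  · have hz := Groth.Agent.H33.isZero_homology_truncGE Z n i (by omega)
    have : Subsingleton (Dual.HD A ((t.truncGE n).obj Z) i) := ModuleCat.subsingleton_of_isZero hz
    exact SeqComplete.of_subsingleton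

/-! ### the universal property -/

section UP

variable [HasDerivedCompletion I]

/-- the derived completion, as an object of `D(A)` -/
noncomputable abbrev comp (K : Dual.D A) : Dual.D A := ((derivedCompletion I).obj K).obj

lemma isDerivedComplete_comp (K : Dual.D A) : IsDerivedComplete I (comp I K) :=
  ((derivedCompletion I).obj K).property

@[reassoc]
lemma unit_naturality {K L : Dual.D A} (φ : K ⟶ L) :
    toDerivedCompletion I K ≫ ((derivedCompletion I).map φ).hom =
      φ ≫ toDerivedCompletion I L :=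
  ((derivedCompletionAdj I).unit.naturality φ).symm

lemma lift_surjective (K E : Dual.D A) (hE : IsDerivedComplete I E) (x : K ⟶ E) :
    ∃ y : comp I K ⟶ E, toDerivedCompletion I K ≫ y = x := by
  let E' : DComp I := ⟨E, hE⟩
  refine ⟨(((derivedCompletionAdj I).homEquiv K E').symm x).hom, ?_⟩
  have h := ((derivedCompletionAdj I).homEquiv K E').apply_symm_apply x
  rw [Adjunction.homEquiv_unit] at h
  exact h

lemma lift_injective (K E : Dual.D A) (hE : IsDerivedComplete I E) (y y' : comp I K ⟶ E)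
    (h : toDerivedCompletion I K ≫ y = toDerivedCompletion I K ≫ y') : y = y' := by
  let E' : DComp I := ⟨E, hE⟩
  let z : (derivedCompletion I).obj K ⟶ E' := ObjectProperty.homMk y
  let z' : (derivedCompletion I).obj K ⟶ E' := ObjectProperty.homMk y'
  have hz : (derivedCompletionAdj I).homEquiv K E' z = (derivedCompletionAdj I).homEquiv K E' z' := by
    rw [Adjunction.homEquiv_unit, Adjunction.homEquiv_unit]
    exact h
  have := ((derivedCompletionAdj I).homEquiv K E').injective hz
  exact congrArg (fun w => w.hom) this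

/-- If the cone of `φ` lies in `D^{≤ n}`, so does the cone of `φ^∧`. -/
theorem isLE_cone_comp {K L : Dual.D A} (φ : K ⟶ L) {C : Dual.D A} (v : L ⟶ C)
    (w : C ⟶ K⟦(1 : ℤ)⟧) (hT : Triangle.mk φ v w ∈ distTriang _) (n : ℤ) (hC : C.IsLE n)
    {Z : Dual.D A} (v' : comp I L ⟶ Z) (w' : Z ⟶ (comp I K)⟦(1 : ℤ)⟧)
    (hT' : Triangle.mk ((derivedCompletion I).map φ).hom v' w' ∈ distTriang _) : Z.IsLE n := by
  have hZ : IsDerivedComplete I Z :=
    isDerivedComplete_obj₃ I _ hT' (isDerivedComplete_comp I K) (isDerivedComplete_comp I L)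
  have hE : IsDerivedComplete I ((t.truncGE (n + 1)).obj Z) := isDerivedComplete_truncGE I hZ _
  have hE' : IsDerivedComplete I (((t.truncGE (n + 1)).obj Z)⟦(-1 : ℤ)⟧) :=
    isDerivedComplete_shift I hE _
  -- every map `Z ⟶ τ_{≥ n+1} Z` vanishes
  have key : ∀ g : Z ⟶ (t.truncGE (n + 1)).obj Z, g = 0 := by
    intro g
    have hA : v' ≫ g = 0 := by
      apply lift_injective I L _ hE
      rw [Limits.comp_zero]
      have h1 : φ ≫ (toDerivedCompletion I L ≫ v' ≫ g) = 0 := by
        have hz : ((derivedCompletion I).map φ).hom ≫ v' = 0 := comp_distTriang_mor_zero₁₂ _ hT'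
        rw [← unit_naturality_assoc, reassoc_of% hz, Limits.zero_comp, Limits.comp_zero]
      obtain ⟨u', hu'⟩ := Triangle.yoneda_exact₂ _ hT _ h1
      have hC' : t.IsLE C n := hC
      have : u' = 0 := t.zero (X := C) u' n (n + 1) (by omega)
      rw [hu', this]
      exact Limits.comp_zero
    obtain ⟨h, hh⟩ : ∃ h : (comp I K)⟦(1 : ℤ)⟧ ⟶ (t.truncGE (n + 1)).obj Z, g = w' ≫ h :=
      Triangle.yoneda_exact₃ _ hT' g hA
    let e : (((t.truncGE (n + 1)).obj Z)⟦(-1 : ℤ)⟧)⟦(1 : ℤ)⟧ ≅ (t.truncGE (n + 1)).obj Z :=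
      (shiftFunctorCompIsoId (Dual.D A) (-1 : ℤ) 1 (by norm_num)).app _
    let h₀ : comp I K ⟶ ((t.truncGE (n + 1)).obj Z)⟦(-1 : ℤ)⟧ :=
      (shiftFunctor (Dual.D A) (1 : ℤ)).preimage (h ≫ e.inv)
    have hh₀ : h₀⟦(1 : ℤ)⟧' = h ≫ e.inv := Functor.map_preimage _ _
    have hT₂ := inv_rot_of_distTriang _ hT
    have hC' : t.IsLE C n := hC
    have i1 : t.IsLE (C⟦(-1 : ℤ)⟧) (n + 1) := t.isLE_shift C n (-1) (n + 1) (by omega)
    have i2 : t.IsGE (((t.truncGE (n + 1)).obj Z)⟦(-1 : ℤ)⟧) (n + 2) :=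
      t.isGE_shift _ (n + 1) (-1) (n + 2) (by omega)
    have h2 : (Triangle.mk φ v w).invRotate.mor₁ ≫ (toDerivedCompletion I K ≫ h₀) = 0 :=
      t.zero (X := C⟦(-1 : ℤ)⟧) _ (n + 1) (n + 2) (by omega)
    obtain ⟨k, hk⟩ := Triangle.yoneda_exact₂ _ hT₂ _ h2
    obtain ⟨k', hk'⟩ := lift_surjective I L _ hE' k
    have h3 : ((derivedCompletion I).map φ).hom ≫ k' = h₀ := by
      apply lift_injective I K _ hE'
      rw [← Category.assoc, unit_naturality, Category.assoc, hk']
      exact hk.symm
    have h4 : h = ((derivedCompletion I).map φ).hom⟦(1 : ℤ)⟧' ≫ k'⟦(1 : ℤ)⟧' ≫ e.hom := by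
      have h5 : h = h₀⟦(1 : ℤ)⟧' ≫ e.hom := by
        rw [hh₀, Category.assoc, e.inv_hom_id, Category.comp_id]
      rw [h5, ← h3, Functor.map_comp, Category.assoc]
    have hz : w' ≫ ((derivedCompletion I).map φ).hom⟦(1 : ℤ)⟧' = 0 :=
      comp_distTriang_mor_zero₃₁ _ hT'
    rw [hh, h4]
    show w' ≫ _ = 0
    rw [reassoc_of% hz, Limits.zero_comp]
  rw [DerivedCategory.isLE_iff]
  intro i hi
  have hiso := Groth.Agent.H33.isIso_homology_truncGEπ Z (n + 1) i (by omega)
  rw [key ((t.truncGEπ (n + 1)).app Z), Functor.map_zero] at hiso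
  rw [IsZero.iff_id_eq_zero]
  have := IsIso.hom_inv_id (f := (0 : (homologyFunctor (ModuleCat.{u} A) i).obj Z ⟶
    (homologyFunctor (ModuleCat.{u} A) i).obj ((t.truncGE (n + 1)).obj Z)))
  rw [Limits.zero_comp] at this
  exact this.symm

end UP

end Groth.Agent.H35.DerCompAdj
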