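import Mathlib

/-!
Elementary theory of "derived `f`-complete" modules: `SeqComplete f M` says that the operator
`(m_n) ↦ (m_n - f m_{n+1})` on sequences in `M` is bijective.  (By `H35.isDerivedComplete_inD_iff`
this is derived completeness of `M[0]`.)  We prove closure under kernels, cokernels, products, a
Nakayama lemma, and that `{f | SeqComplete f M}` is a radical ideal.
-/

set_option autoImplicit false
universe u v w

namespace Groth.Agent.H35

variable {A : Type u} [CommRing A]

/-- The operator `(m_n) ↦ (m_n - f m_{n+1})` on sequences in `M` has a unique solution for every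
right-hand side. -/
def SeqComplete (f : A) (M : Type v) [AddCommGroup M] [Module A M] : Prop :=
  ∀ c : ℕ → M, ∃! m : ℕ → M, ∀ n, m n - f • m (n + 1) = c n

namespace SeqComplete

variable {f : A} {M : Type v} [AddCommGroup M] [Module A M]

lemma eq_of_solutions (h : SeqComplete f M) {c m m' : ℕ → M}
    (hm : ∀ n, m n - f • m (n + 1) = c n) (hm' : ∀ n, m' n - f • m' (n + 1) = c n) : m = m' := by
  obtain ⟨m₀, -, hu⟩ := h c
  rw [hu m hm, hu m' hm']

lemma eq_zero (h : SeqComplete f M) {m : ℕ → M} (hm : ∀ n, m n - f • m (n + 1) = 0) (n : ℕ) :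
    m n = 0 := by
  have h0 : m = fun _ => (0 : M) :=
    h.eq_of_solutions (c := fun _ => (0 : M)) hm (fun n => by simp)
  rw [h0]

/-- Nakayama: if `f` acts surjectively on a `SeqComplete f` module, the module is zero. -/
theorem subsingleton_of_smul_surjective (h : SeqComplete f M)
    (hs : ∀ x : M, ∃ y : M, f • y = x) : Subsingleton M := by
  choose g hg using hs
  refine ⟨fun x y => ?_⟩
  suffices H : ∀ x : M, x = 0 by rw [H x, H y]
  intro x
  have h1 := h.eq_zero (m := fun n => g^[n] x) (fun n => by
    show g^[n] x - f • g^[n + 1] x = 0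
    rw [Function.iterate_succ_apply', hg, sub_self]) 0
  simpa using h1

/-- Kernels of linear maps between `SeqComplete` modules are `SeqComplete`. -/
theorem ker {N : Type v} {N' : Type w} [AddCommGroup N] [Module A N] [AddCommGroup N']
    [Module A N'] (D : N →ₗ[A] N') (h : SeqComplete f N) (h' : SeqComplete f N') :
    SeqComplete f (LinearMap.ker D) := by
  intro c
  obtain ⟨m, hm, hmu⟩ := h (fun n => (c n : N))
  have hDm : ∀ n, D (m n) = 0 := by
    intro n
    refine h'.eq_zero (m := fun n => D (m n)) (fun n => ?_) n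
    show D (m n) - f • D (m (n + 1)) = 0
    rw [← map_smul, ← map_sub, hm n]
    exact (c n).2
  refine ⟨fun n => ⟨m n, hDm n⟩, fun n => Subtype.ext (hm n), fun m' hm' => ?_⟩
  funext n
  apply Subtype.ext
  have h1 : (fun n => (m' n : N)) = m := hmu _ (fun n => by
    have := congrArg Subtype.val (hm' n)
    simpa using this)
  exact congrFun h1 n

/-- Cokernels of linear maps between `SeqComplete` modules are `SeqComplete`. -/
theorem coker {N : Type v} {N' : Type w} [AddCommGroup N] [Module A N] [AddCommGroup N']
    [Module A N'] (D : N →ₗ[A] N') (h : SeqComplete f N) (h' : SeqComplete f N') :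
    SeqComplete f (N' ⧸ LinearMap.range D) := by
  have hzero : ∀ e : ℕ → N' ⧸ LinearMap.range D, (∀ n, e n - f • e (n + 1) = 0) → ∀ n, e n = 0 := by
    intro e he
    have hlift : ∀ n, ∃ ε : N', (LinearMap.range D).mkQ ε = e n :=
      fun n => Submodule.mkQ_surjective _ (e n)
    choose ε hε using hlift
    have hx : ∀ n, ∃ x : N, D x = ε n - f • ε (n + 1) := by
      intro n
      have h1 : (LinearMap.range D).mkQ (ε n - f • ε (n + 1)) = 0 := by
        rw [map_sub, map_smul, hε, hε, he n]
      rw [Submodule.mkQ_apply, Submodule.Quotient.mk_eq_zero] at h1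
      exact h1
    choose x hx using hx
    obtain ⟨y, hy, -⟩ := h x
    have h2 : ∀ n, ε n - D (y n) = 0 := by
      intro n
      refine h'.eq_zero (m := fun n => ε n - D (y n)) (fun n => ?_) n
      show ε n - D (y n) - f • (ε (n + 1) - D (y (n + 1))) = 0
      have h3 : D (y n) - f • D (y (n + 1)) = ε n - f • ε (n + 1) := by
        rw [← map_smul, ← map_sub, hy n, hx n]
      rw [smul_sub]
      have h4 : ε n - D (y n) - (f • ε (n + 1) - f • D (y (n + 1))) =
          (ε n - f • ε (n + 1)) - (D (y n) - f • D (y (n + 1))) := by abel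
      rw [h4, h3, sub_self]
    intro n
    rw [← hε n, Submodule.mkQ_apply, Submodule.Quotient.mk_eq_zero]
    exact ⟨y n, (sub_eq_zero.1 (h2 n)).symm⟩
  intro c
  have hlift : ∀ n, ∃ c' : N', (LinearMap.range D).mkQ c' = c n :=
    fun n => Submodule.mkQ_surjective _ (c n)
  choose c' hc' using hlift
  obtain ⟨m, hm, -⟩ := h' c'
  have hsol : ∀ n, (LinearMap.range D).mkQ (m n) - f • (LinearMap.range D).mkQ (m (n + 1)) = c n := by
    intro n
    rw [← map_smul, ← map_sub, hm n, hc']
  refine ⟨fun n => (LinearMap.range D).mkQ (m n), hsol, fun m' hm' => ?_⟩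
  funext n
  have h5 := hzero (fun n => m' n - (LinearMap.range D).mkQ (m n)) (fun n => by
    show m' n - (LinearMap.range D).mkQ (m n) -
      f • (m' (n + 1) - (LinearMap.range D).mkQ (m (n + 1))) = 0
    rw [smul_sub]
    have h6 : m' n - (LinearMap.range D).mkQ (m n) -
        (f • m' (n + 1) - f • (LinearMap.range D).mkQ (m (n + 1))) =
        (m' n - f • m' (n + 1)) -
          ((LinearMap.range D).mkQ (m n) - f • (LinearMap.range D).mkQ (m (n + 1))) := by abel
    rw [h6, hm' n, hsol n, sub_self]) n
  exact sub_eq_zero.1 h5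

/-- Products of `SeqComplete` modules are `SeqComplete`. -/
theorem pi {ι : Type w} {N : ι → Type v} [∀ i, AddCommGroup (N i)] [∀ i, Module A (N i)]
    (h : ∀ i, SeqComplete f (N i)) : SeqComplete f (∀ i, N i) := by
  intro c
  have hex : ∀ i, ∃ m : ℕ → N i, ∀ n, m n - f • m (n + 1) = c n i := fun i => (h i _).exists
  choose m hm using hex
  refine ⟨fun n i => m i n, fun n => funext fun i => hm i n, fun m' hm' => ?_⟩
  funext n i
  have h1 : (fun n => m' n i) = m i := (h i).eq_of_solutions (c := fun n => c n i)
    (fun n => congrFun (hm' n) i) (hm i)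
  exact congrFun h1 n

/-- Transport along an additive equivalence commuting with `f`. -/
theorem of_equiv {N : Type v} {N' : Type w} [AddCommGroup N] [Module A N] [AddCommGroup N']
    [Module A N'] (e : N ≃+ N') (he : ∀ x, e (f • x) = f • e x) (h : SeqComplete f N) :
    SeqComplete f N' := by
  intro c
  obtain ⟨m, hm, hu⟩ := h (fun n => e.symm (c n))
  refine ⟨fun n => e (m n), fun n => ?_, fun m' hm' => ?_⟩
  · show e (m n) - f • e (m (n + 1)) = c n
    rw [← he, ← map_sub, hm n, AddEquiv.apply_symm_apply]
  · funext n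
    have h1 : (fun n => e.symm (m' n)) = m := hu _ (fun n => by
      show e.symm (m' n) - f • e.symm (m' (n + 1)) = e.symm (c n)
      apply e.injective
      rw [map_sub, he, AddEquiv.apply_symm_apply, AddEquiv.apply_symm_apply,
        AddEquiv.apply_symm_apply, hm' n])
    have h2 := congrFun h1 n
    show m' n = e (m n)
    rw [← h2, AddEquiv.apply_symm_apply]

theorem of_linearEquiv {N : Type v} {N' : Type w} [AddCommGroup N] [Module A N] [AddCommGroup N']
    [Module A N'] (e : N ≃ₗ[A] N') (h : SeqComplete f N) : SeqComplete f N' :=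
  of_equiv e.toAddEquiv (fun x => e.map_smul f x) h

end SeqComplete

section Operator

variable (u : A) (M : Type v) [AddCommGroup M] [Module A M]

/-- The operator `(m_n) ↦ (m_n - u m_{n+1})` as a linear map. -/
def Dlin : (ℕ → M) →ₗ[A] (ℕ → M) where
  toFun m n := m n - u • m (n + 1)
  map_add' m m' := by
    funext n
    simp only [Pi.add_apply, smul_add]
    abel
  map_smul' r m := by
    funext n
    simp only [Pi.smul_apply, RingHom.id_apply, smul_sub, smul_comm u r]

lemma Dlin_apply (m : ℕ → M) (n : ℕ) : Dlin u M m n = m n - u • m (n + 1) := rfl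

theorem seqComplete_iff_bijective : SeqComplete u M ↔ Function.Bijective (Dlin u M) := by
  rw [Function.bijective_iff_existsUnique]
  refine forall_congr' fun c => ?_
  refine existsUnique_congr fun m => ?_
  exact funext_iff.symm

lemma smul_surjective_ker (x : LinearMap.ker (Dlin u M)) :
    ∃ y : LinearMap.ker (Dlin u M), u • y = x := by
  have hx : ∀ n, (x : ℕ → M) n - u • (x : ℕ → M) (n + 1) = 0 := fun n =>
    congrFun (LinearMap.mem_ker.1 x.2) n
  refine ⟨⟨fun n => (x : ℕ → M) (n + 1), ?_⟩, ?_⟩
  · rw [LinearMap.mem_ker]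
    funext n
    exact hx (n + 1)
  · apply Subtype.ext
    funext n
    show u • (x : ℕ → M) (n + 1) = (x : ℕ → M) n
    exact (sub_eq_zero.1 (hx n)).symm

lemma smul_surjective_coker (x : (ℕ → M) ⧸ LinearMap.range (Dlin u M)) :
    ∃ y : (ℕ → M) ⧸ LinearMap.range (Dlin u M), u • y = x := by
  obtain ⟨c, rfl⟩ := Submodule.mkQ_surjective _ x
  refine ⟨(LinearMap.range (Dlin u M)).mkQ (fun n => c (n + 1)), ?_⟩
  rw [← map_smul, ← sub_eq_zero, ← map_sub, Submodule.mkQ_apply, Submodule.Quotient.mk_eq_zero]
  refine ⟨-c, ?_⟩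
  funext n
  show (-c) n - u • (-c) (n + 1) = (u • fun n => c (n + 1)) n - c n
  simp only [Pi.neg_apply, Pi.smul_apply, smul_neg]
  abel

theorem seqComplete_of_ker_coker (h1 : Subsingleton (LinearMap.ker (Dlin u M)))
    (h2 : Subsingleton ((ℕ → M) ⧸ LinearMap.range (Dlin u M))) : SeqComplete u M := by
  rw [seqComplete_iff_bijective]
  constructor
  · rw [← LinearMap.ker_eq_bot]
    exact Submodule.eq_bot_of_subsingleton
  · rw [← LinearMap.range_eq_top]
    exact Submodule.Quotient.subsingleton_iff.1 h2

end Operator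

section Ideal

variable {M : Type v} [AddCommGroup M] [Module A M]

theorem SeqComplete.zero : SeqComplete (0 : A) M := by
  intro c
  refine ⟨c, fun n => by simp, fun m hm => ?_⟩
  funext n
  have := hm n
  simpa using this

/-- Multiples. -/
theorem SeqComplete.mul {a : A} (h : SeqComplete a M) (g : A) : SeqComplete (g * a) M := by
  have hN : SeqComplete a (ℕ → M) := SeqComplete.pi (fun _ => h)
  refine seqComplete_of_ker_coker (g * a) M ?_ ?_
  · refine (SeqComplete.ker (Dlin (g * a) M) hN hN).subsingleton_of_smul_surjective (fun x => ?_)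
    obtain ⟨y, hy⟩ := smul_surjective_ker (g * a) M x
    exact ⟨g • y, by rw [smul_smul, mul_comm a g]; exact hy⟩
  · refine (SeqComplete.coker (Dlin (g * a) M) hN hN).subsingleton_of_smul_surjective (fun x => ?_)
    obtain ⟨y, hy⟩ := smul_surjective_coker (g * a) M x
    exact ⟨g • y, by rw [smul_smul, mul_comm a g]; exact hy⟩

lemma pow_smul_surjective {X : Type w} [AddCommGroup X] [Module A X] (a : A)
    (hs : ∀ x : X, ∃ y : X, a • y = x) (k : ℕ) : ∀ x : X, ∃ y : X, a ^ k • y = x := by
  induction k with
  | zero => intro x; exact ⟨x, by simp⟩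
  | succ k ih =>
    intro x
    obtain ⟨y, hy⟩ := ih x
    obtain ⟨z, hz⟩ := hs y
    exact ⟨z, by rw [pow_succ, mul_smul, hz, hy]⟩

/-- Radical. -/
theorem SeqComplete.of_pow {a : A} (k : ℕ) (h : SeqComplete (a ^ k) M) : SeqComplete a M := by
  have hN : SeqComplete (a ^ k) (ℕ → M) := SeqComplete.pi (fun _ => h)
  refine seqComplete_of_ker_coker a M ?_ ?_
  · exact (SeqComplete.ker (Dlin a M) hN hN).subsingleton_of_smul_surjective
      (pow_smul_surjective a (smul_surjective_ker a M) k)
  · exact (SeqComplete.coker (Dlin a M) hN hN).subsingleton_of_smul_surjective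
      (pow_smul_surjective a (smul_surjective_coker a M) k)

/-- A module complete for `a` and `b` on which `a + b` acts surjectively is zero. -/
lemma subsingleton_of_add_smul_surjective {X : Type w} [AddCommGroup X] [Module A X] {a b : A}
    (ha : SeqComplete a X) (hb : SeqComplete b X) (hs : ∀ x : X, ∃ y : X, (a + b) • y = x) :
    Subsingleton X := by
  have hq : Subsingleton (X ⧸ LinearMap.range (LinearMap.lsmul A X a)) := by
    refine (SeqComplete.coker (LinearMap.lsmul A X a) hb hb).subsingleton_of_smul_surjective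
      (fun x => ?_)
    obtain ⟨x, rfl⟩ := Submodule.mkQ_surjective _ x
    obtain ⟨y, hy⟩ := hs x
    refine ⟨(LinearMap.range (LinearMap.lsmul A X a)).mkQ y, ?_⟩
    rw [← map_smul, ← sub_eq_zero, ← map_sub, Submodule.mkQ_apply,
      Submodule.Quotient.mk_eq_zero]
    refine ⟨-y, ?_⟩
    rw [LinearMap.lsmul_apply, ← hy, add_smul, smul_neg]
    abel
  have hr : LinearMap.range (LinearMap.lsmul A X a) = ⊤ :=
    Submodule.Quotient.subsingleton_iff.1 hq
  refine ha.subsingleton_of_smul_surjective (fun x => ?_)
  have hx : x ∈ LinearMap.range (LinearMap.lsmul A X a) := by rw [hr]; exact Submodule.mem_top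
  obtain ⟨y, hy⟩ := hx
  exact ⟨y, hy⟩

/-- Sums. -/
theorem SeqComplete.add {a b : A} (ha : SeqComplete a M) (hb : SeqComplete b M) :
    SeqComplete (a + b) M := by
  have hNa : SeqComplete a (ℕ → M) := SeqComplete.pi (fun _ => ha)
  have hNb : SeqComplete b (ℕ → M) := SeqComplete.pi (fun _ => hb)
  refine seqComplete_of_ker_coker (a + b) M ?_ ?_
  · exact subsingleton_of_add_smul_surjective (SeqComplete.ker (Dlin (a + b) M) hNa hNa)
      (SeqComplete.ker (Dlin (a + b) M) hNb hNb) (smul_surjective_ker (a + b) M)
  · exact subsingleton_of_add_smul_surjective (SeqComplete.coker (Dlin (a + b) M) hNa hNa)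
      (SeqComplete.coker (Dlin (a + b) M) hNb hNb) (smul_surjective_coker (a + b) M)

variable (A M) in
/-- The ideal of elements `f` for which `M` is `SeqComplete`. -/
def seqCompleteIdeal : Ideal A where
  carrier := {f | SeqComplete f M}
  zero_mem' := SeqComplete.zero
  add_mem' := fun ha hb => SeqComplete.add ha hb
  smul_mem' := fun g _ ha => by
    show SeqComplete (g • _) M
    rw [smul_eq_mul]
    exact SeqComplete.mul ha g

lemma mem_seqCompleteIdeal {f : A} : f ∈ seqCompleteIdeal A M ↔ SeqComplete f M := Iff.rfl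

theorem seqCompleteIdeal_isRadical : (seqCompleteIdeal A M).IsRadical := by
  intro f hf
  obtain ⟨k, hk⟩ := hf
  exact SeqComplete.of_pow k hk

/-- `SeqComplete` for all elements of an ideal follows from generators. -/
theorem seqComplete_of_span {s : Set A} (hs : ∀ f ∈ s, SeqComplete f M) {f : A}
    (hf : f ∈ Ideal.span s) : SeqComplete f M := by
  have hle : Ideal.span s ≤ seqCompleteIdeal A M := Ideal.span_le.2 hs
  exact hle hf

end Ideal

section Scalars

variable {B : Type w} [CommRing B] [Algebra A B] {M : Type v} [AddCommGroup M] [Module A M]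
  [Module B M] [IsScalarTower A B M]

/-- `SeqComplete` does not depend on the base ring. -/
theorem seqComplete_algebraMap_iff (f : A) :
    SeqComplete (algebraMap A B f) M ↔ SeqComplete f M := by
  unfold SeqComplete
  simp only [algebraMap_smul]

end Scalars

end Groth.Agent.H35
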