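import Mathlib
import Groth.Agent.H35.SeqComplete

/-!
For a ring `A` which is `SeqComplete` (derived complete) with respect to `r` elements generating
`I`, the ideal `J = ⋂ I^n` satisfies `J^(2^r) = 0`.
-/

set_option autoImplicit false
universe u v w

namespace Groth.Agent.H35

section Aux

variable {A : Type u} [CommRing A]

lemma smul_eq_zero_of_divisible {M : Type v} [AddCommGroup M] [Module A M] {f : A}
    (hf : SeqComplete f M) (g : A) (x : M)
    (hg : ∀ n : ℕ, ∃ b, b * f ^ n = g) (hx : ∀ n : ℕ, ∃ y : M, f ^ n • y = x) : g • x = 0 := by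
  choose gn hgn using hg
  choose xn hxn using hx
  have h1 := hf.eq_zero (m := fun n => gn n • x) (fun n => by
    show gn n • x - f • gn (n + 1) • x = 0
    have e : (gn n - f * gn (n + 1)) * f ^ n = 0 := by
      have e' : (gn n - f * gn (n + 1)) * f ^ n = gn n * f ^ n - gn (n + 1) * f ^ (n + 1) := by
        ring
      rw [e', hgn n, hgn (n + 1), sub_self]
    calc gn n • x - f • gn (n + 1) • x = (gn n - f * gn (n + 1)) • x := by
          rw [sub_smul, mul_smul]
      _ = (gn n - f * gn (n + 1)) • (f ^ n • xn n) := by rw [hxn n]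
      _ = ((gn n - f * gn (n + 1)) * f ^ n) • xn n := by rw [mul_smul]
      _ = 0 := by rw [e, zero_smul]) 0
  have h0 : gn 0 = g := by simpa using hgn 0
  rw [← h0]
  exact h1

lemma seqComplete_iff_of_smul_eq {B : Type w} [CommRing B] {M : Type v} [AddCommGroup M]
    [Module A M] [Module B M] (a : A) (b : B) (h : ∀ y : M, b • y = a • y) :
    SeqComplete b M ↔ SeqComplete a M := by
  unfold SeqComplete
  simp only [h]

lemma SeqComplete.quotient_smul_top {M : Type v} [AddCommGroup M] [Module A M] {f' : A}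
    (hM : SeqComplete f' M) (a : A) :
    SeqComplete f' (M ⧸ (Ideal.span {a} • ⊤ : Submodule A M)) := by
  have e : (Ideal.span {a} • ⊤ : Submodule A M) = LinearMap.range (LinearMap.lsmul A M a) := by
    ext x
    rw [Submodule.ideal_span_singleton_smul, Submodule.mem_smul_pointwise_iff_exists,
      LinearMap.mem_range]
    simp only [Submodule.mem_top, true_and, LinearMap.lsmul_apply]
  exact SeqComplete.of_linearEquiv (Submodule.quotEquivOfEq _ _ e).symm
    (SeqComplete.coker _ hM hM)

lemma SeqComplete.quotient_span_singleton {f' : A} (hA : SeqComplete f' A) (a : A) :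
    SeqComplete f' (A ⧸ Ideal.span {a}) := by
  have e : (Ideal.span {a} : Submodule A A) = LinearMap.range (LinearMap.lsmul A A a) := by
    ext x
    rw [Ideal.mem_span_singleton', LinearMap.mem_range]
    simp only [LinearMap.lsmul_apply, smul_eq_mul]
    constructor
    · rintro ⟨b, hb⟩
      exact ⟨b, by rw [mul_comm]; exact hb⟩
    · rintro ⟨b, hb⟩
      exact ⟨b, by rw [mul_comm]; exact hb⟩
  exact SeqComplete.of_linearEquiv (Submodule.quotEquivOfEq _ _ e).symm
    (SeqComplete.coker _ hA hA)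

lemma map_mk_mem_pow (I' : Ideal A) (a : A) (m n : ℕ) (y : A)
    (hy : y ∈ (I' ⊔ Ideal.span {a}) ^ (m + n)) :
    Ideal.Quotient.mk (Ideal.span {a ^ n}) y ∈
      (I'.map (Ideal.Quotient.mk (Ideal.span {a ^ n}))) ^ m := by
  have h1 := Ideal.sup_pow_add_le_pow_sup_pow (I := I') (J := Ideal.span {a}) (n := m) (m := n) hy
  obtain ⟨y₁, hy₁, y₂, hy₂, rfl⟩ := Submodule.mem_sup.1 h1
  rw [Ideal.span_singleton_pow] at hy₂
  rw [map_add, Ideal.Quotient.eq_zero_iff_mem.2 hy₂, add_zero, ← Ideal.map_pow]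
  exact Ideal.mem_map_of_mem _ hy₁

lemma mkQ_mem_pow_smul_top {M : Type v} [AddCommGroup M] [Module A M] (I' : Ideal A) (a : A)
    (m n : ℕ) (z : M) (hz : z ∈ ((I' ⊔ Ideal.span {a}) ^ (m + n) • ⊤ : Submodule A M)) :
    (Submodule.Quotient.mk z : M ⧸ (Ideal.span {a ^ n} • ⊤ : Submodule A M)) ∈
      ((I'.map (Ideal.Quotient.mk (Ideal.span {a ^ n}))) ^ m • ⊤ :
        Submodule (A ⧸ Ideal.span {a ^ n}) (M ⧸ (Ideal.span {a ^ n} • ⊤ : Submodule A M))) := by
  refine Submodule.smul_induction_on hz ?_ ?_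
  · intro y hy w _
    rw [← Module.Quotient.mk_smul_mk]
    exact Submodule.smul_mem_smul (map_mk_mem_pow I' a m n y hy) Submodule.mem_top
  · intro z₁ z₂ h₁ h₂
    rw [Submodule.Quotient.mk_add]
    exact Submodule.add_mem _ h₁ h₂

end Aux

/-- The inductive statement: `J^(2^r - 1)` kills `⋂ I^n M`. -/
def QProp (r : ℕ) : Prop :=
  ∀ (A : Type u) [CommRing A] (s : Finset A), s.card ≤ r → (∀ f ∈ s, SeqComplete f A) →
    ∀ (M : Type u) [AddCommGroup M] [Module A M], (∀ f ∈ s, SeqComplete f M) →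
      ∀ g ∈ (⨅ n : ℕ, (Ideal.span (s : Set A)) ^ n) ^ (2 ^ r - 1),
        ∀ x ∈ (⨅ n : ℕ, ((Ideal.span (s : Set A)) ^ n • ⊤ : Submodule A M)), g • x = 0

theorem pProp_of_qProp (r : ℕ) (h : QProp.{u} r) (A : Type u) [CommRing A] (s : Finset A)
    (hcard : s.card ≤ r) (hA : ∀ f ∈ s, SeqComplete f A) :
    (⨅ n : ℕ, (Ideal.span (s : Set A)) ^ n) ^ (2 ^ r) = ⊥ := by
  have e : 2 ^ r = (2 ^ r - 1) + 1 := by
    have := Nat.one_le_two_pow (n := r)
    omega
  rw [e, pow_succ, eq_bot_iff]
  refine Ideal.mul_le.2 (fun g hg y hy => ?_)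
  rw [Submodule.mem_bot]
  have hy' : y ∈ (⨅ n : ℕ, ((Ideal.span (s : Set A)) ^ n • ⊤ : Submodule A A)) := by
    rw [Submodule.mem_iInf] at hy ⊢
    intro n
    have h1 := Submodule.smul_mem_smul (hy n) (Submodule.mem_top : (1 : A) ∈ ⊤)
    have e1 : y • (1 : A) = y := by rw [smul_eq_mul, mul_one]
    rwa [e1] at h1
  have h2 := h A s hcard hA A hA g hg y hy'
  rwa [smul_eq_mul] at h2

lemma smul_eq_zero_of_empty {A : Type u} [CommRing A] {M : Type v} [AddCommGroup M] [Module A M]
    (g : A) (x : M)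
    (hx : x ∈ (⨅ n : ℕ, ((Ideal.span ((∅ : Finset A) : Set A)) ^ n • ⊤ : Submodule A M))) :
    g • x = 0 := by
  have h1 := (Submodule.mem_iInf _).1 hx 1
  rw [Finset.coe_empty, Ideal.span_empty, pow_one, Submodule.bot_smul, Submodule.mem_bot] at h1
  rw [h1, smul_zero]

theorem qProp_zero : QProp.{u} 0 := by
  intro A _ s hcard _ M _ _ _ g _ x hx
  have hs : s = ∅ := Finset.card_eq_zero.1 (Nat.le_zero.1 hcard)
  subst hs
  exact smul_eq_zero_of_empty g x hx

theorem qProp_succ (r : ℕ) (hr : QProp.{u} r) : QProp.{u} (r + 1) := by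
  intro A _ s hcard hA M _ _ hM g hg x hx
  classical
  rcases s.eq_empty_or_nonempty with hs | ⟨f, hf⟩
  · subst hs
    exact smul_eq_zero_of_empty g x hx
  · have hs'card : (s.erase f).card ≤ r := by
      rw [Finset.card_erase_of_mem hf]
      omega
    have hspan : Ideal.span (s : Set A) =
        Ideal.span ((s.erase f : Finset A) : Set A) ⊔ Ideal.span {f} := by
      conv_lhs => rw [← Finset.insert_erase hf]
      rw [Finset.coe_insert, Ideal.span_insert, sup_comm]
    have hJle : ∀ k : ℕ, (⨅ n : ℕ, (Ideal.span (s : Set A)) ^ n) ≤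
        (Ideal.span ((s.erase f : Finset A) : Set A) ⊔ Ideal.span {f}) ^ k := fun k => by
      rw [← hspan]
      exact iInf_le _ k
    -- the two consequences of the induction hypothesis, for every `n`
    have key : ∀ n : ℕ,
        (∀ g₁ ∈ (⨅ n : ℕ, (Ideal.span (s : Set A)) ^ n) ^ (2 ^ r), g₁ ∈ Ideal.span {f ^ n}) ∧
        (∀ g₂ ∈ (⨅ n : ℕ, (Ideal.span (s : Set A)) ^ n) ^ (2 ^ r - 1),
          g₂ • x ∈ (Ideal.span {f ^ n} • ⊤ : Submodule A M)) := by
      intro n
      have hmap : (Ideal.span ((s.erase f : Finset A) : Set A)).map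
          (Ideal.Quotient.mk (Ideal.span {f ^ n})) =
          Ideal.span (((s.erase f).image (Ideal.Quotient.mk (Ideal.span {f ^ n})) :
            Finset (A ⧸ Ideal.span {f ^ n})) : Set (A ⧸ Ideal.span {f ^ n})) := by
        rw [Ideal.map_span, Finset.coe_image]
      have hcard'' : ((s.erase f).image (Ideal.Quotient.mk (Ideal.span {f ^ n}))).card ≤ r :=
        Finset.card_image_le.trans hs'card
      have hA_n : ∀ f'' ∈ (s.erase f).image (Ideal.Quotient.mk (Ideal.span {f ^ n})),
          SeqComplete f'' (A ⧸ Ideal.span {f ^ n}) := by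
        intro f'' hf''
        obtain ⟨f', hf', rfl⟩ := Finset.mem_image.1 hf''
        refine (seqComplete_iff_of_smul_eq f' (Ideal.Quotient.mk (Ideal.span {f ^ n}) f')
          (fun y => ?_)).2
          (SeqComplete.quotient_span_singleton (hA f' (Finset.mem_of_mem_erase hf')) (f ^ n))
        rw [Algebra.smul_def]
        rfl
      have hM_n : ∀ f'' ∈ (s.erase f).image (Ideal.Quotient.mk (Ideal.span {f ^ n})),
          SeqComplete f'' (M ⧸ (Ideal.span {f ^ n} • ⊤ : Submodule A M)) := by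
        intro f'' hf''
        obtain ⟨f', hf', rfl⟩ := Finset.mem_image.1 hf''
        refine (seqComplete_iff_of_smul_eq f' (Ideal.Quotient.mk (Ideal.span {f ^ n}) f')
          (fun y => ?_)).2
          (SeqComplete.quotient_smul_top (hM f' (Finset.mem_of_mem_erase hf')) (f ^ n))
        obtain ⟨y, rfl⟩ := Submodule.Quotient.mk_surjective _ y
        rfl
      -- images of `J`
      have hJmap : ∀ (e : ℕ), ∀ y ∈ (⨅ n : ℕ, (Ideal.span (s : Set A)) ^ n) ^ e,
          Ideal.Quotient.mk (Ideal.span {f ^ n}) y ∈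
            (⨅ m : ℕ, (Ideal.span (((s.erase f).image
              (Ideal.Quotient.mk (Ideal.span {f ^ n})) :
              Finset (A ⧸ Ideal.span {f ^ n})) : Set (A ⧸ Ideal.span {f ^ n}))) ^ m) ^ e := by
        intro e y hy
        have h1 : (⨅ n : ℕ, (Ideal.span (s : Set A)) ^ n).map
            (Ideal.Quotient.mk (Ideal.span {f ^ n})) ≤
            ⨅ m : ℕ, (Ideal.span (((s.erase f).image
              (Ideal.Quotient.mk (Ideal.span {f ^ n})) :
              Finset (A ⧸ Ideal.span {f ^ n})) : Set (A ⧸ Ideal.span {f ^ n}))) ^ m := by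
          rw [Ideal.map_le_iff_le_comap]
          intro y hy
          rw [Ideal.mem_comap, Ideal.mem_iInf]
          intro m
          rw [← hmap]
          exact map_mk_mem_pow _ f m n y (hJle (m + n) hy)
        have h2 := Ideal.mem_map_of_mem (Ideal.Quotient.mk (Ideal.span {f ^ n})) hy
        rw [Ideal.map_pow] at h2
        exact Ideal.pow_right_mono h1 e h2
      constructor
      · intro g₁ hg₁
        have hP := pProp_of_qProp r hr (A ⧸ Ideal.span {f ^ n}) _ hcard'' hA_n
        have h3 := hJmap (2 ^ r) g₁ hg₁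
        rw [hP, Ideal.mem_bot] at h3
        exact Ideal.Quotient.eq_zero_iff_mem.1 h3
      · intro g₂ hg₂
        have hx' : (Submodule.Quotient.mk x : M ⧸ (Ideal.span {f ^ n} • ⊤ : Submodule A M)) ∈
            (⨅ m : ℕ, ((Ideal.span (((s.erase f).image
              (Ideal.Quotient.mk (Ideal.span {f ^ n})) :
              Finset (A ⧸ Ideal.span {f ^ n})) : Set (A ⧸ Ideal.span {f ^ n}))) ^ m • ⊤ :
              Submodule (A ⧸ Ideal.span {f ^ n})
                (M ⧸ (Ideal.span {f ^ n} • ⊤ : Submodule A M)))) := by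
          rw [Submodule.mem_iInf]
          intro m
          rw [← hmap]
          refine mkQ_mem_pow_smul_top _ f m n x ?_
          have h4 := (Submodule.mem_iInf _).1 hx (m + n)
          rwa [hspan] at h4
        have h5 := hr (A ⧸ Ideal.span {f ^ n}) _ hcard'' hA_n
          (M ⧸ (Ideal.span {f ^ n} • ⊤ : Submodule A M)) hM_n _
          (hJmap (2 ^ r - 1) g₂ hg₂) _ hx'
        rw [Module.Quotient.mk_smul_mk, Submodule.Quotient.mk_eq_zero] at h5
        exact h5
    -- conclude
    have e : 2 ^ (r + 1) - 1 = 2 ^ r + (2 ^ r - 1) := by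
      have := Nat.one_le_two_pow (n := r)
      rw [pow_succ]
      omega
    rw [e, pow_add] at hg
    have hle : (⨅ n : ℕ, (Ideal.span (s : Set A)) ^ n) ^ (2 ^ r) *
        (⨅ n : ℕ, (Ideal.span (s : Set A)) ^ n) ^ (2 ^ r - 1) ≤
        LinearMap.ker (LinearMap.toSpanSingleton A M x) := by
      refine Ideal.mul_le.2 (fun g₁ hg₁ g₂ hg₂ => ?_)
      rw [LinearMap.mem_ker, LinearMap.toSpanSingleton_apply, mul_smul]
      refine smul_eq_zero_of_divisible (hM f hf) g₁ (g₂ • x) (fun n => ?_) (fun n => ?_)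
      · exact Ideal.mem_span_singleton'.1 ((key n).1 g₁ hg₁)
      · have h6 := (key n).2 g₂ hg₂
        rw [Submodule.ideal_span_singleton_smul, Submodule.mem_smul_pointwise_iff_exists] at h6
        obtain ⟨y, -, hy⟩ := h6
        exact ⟨y, hy⟩
    have h7 := hle hg
    rwa [LinearMap.mem_ker, LinearMap.toSpanSingleton_apply] at h7

theorem qProp (r : ℕ) : QProp.{u} r := by
  induction r with
  | zero => exact qProp_zero
  | succ r ih => exact qProp_succ r ih

/-- If `A` is `SeqComplete` for every element of the finite set `s`, then `J = ⋂ (span s)^n`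
satisfies `J^(2^|s|) = 0`. -/
theorem iInf_pow_pow_eq_bot {A : Type u} [CommRing A] (s : Finset A)
    (hA : ∀ f ∈ s, SeqComplete f A) :
    (⨅ n : ℕ, (Ideal.span (s : Set A)) ^ n) ^ (2 ^ s.card) = ⊥ :=
  pProp_of_qProp s.card (qProp _) A s le_rfl hA

end Groth.Agent.H35
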