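import Mathlib
import Groth.Prelude.Def_DRing3
import Groth.Agent.H35.DerCoh
import Groth.Agent.H35.SeqComplete

/-!
Bridge between derived completeness in `D(A)` and the elementary notion `SeqComplete`.
-/

set_option autoImplicit false
universe u

namespace Groth.Agent.H35

open CategoryTheory CategoryTheory.Limits

attribute [local instance] HasDerivedCategory.standard

open DerivedCategory

variable {A : Type u} [CommRing A]

theorem homVanish_away_iff_seqComplete (f : A) (M : Type u) [AddCommGroup M] [Module A M] :
    (∀ n : ℤ, HomVanish (Dual.inD A (Localization.Away f)) (Dual.inD A M) n) ↔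
      SeqComplete f M :=
  (homVanish_away_iff A f M).trans ((bijective_awayPsi_iff f M).trans (bijective_seqD_iff f M))

theorem isDerivedComplete_inD_iff_seqComplete (I : Ideal A) (M : Type u) [AddCommGroup M]
    [Module A M] :
    DRing.IsDerivedComplete I (Dual.inD A M) ↔ ∀ f ∈ I, SeqComplete f M :=
  isDerivedComplete_inD_iff A M I

theorem homVanish_away_iff_seqComplete_homology (f : A) (K : Dual.D A) :
    (∀ n : ℤ, HomVanish (Dual.inD A (Localization.Away f)) K n) ↔
      ∀ i : ℤ, SeqComplete f (Dual.HD A K i) := by
  refine (homVanish_away_iff_homology f K).trans ?_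
  refine forall_congr' fun i => ?_
  exact homVanish_away_iff_seqComplete f (Dual.HD A K i)

theorem isDerivedComplete_iff_seqComplete (I : Ideal A) (K : Dual.D A) :
    DRing.IsDerivedComplete I K ↔ ∀ f ∈ I, ∀ i : ℤ, SeqComplete f (Dual.HD A K i) := by
  constructor
  · intro h f hf
    exact (homVanish_away_iff_seqComplete_homology f K).1 (fun n => h f hf n)
  · intro h f hf n
    exact (homVanish_away_iff_seqComplete_homology f K).2 (h f hf) n

/-- Derived completeness with respect to `span s` can be checked on the generators. -/
theorem isDerivedComplete_span_iff (s : Set A) (K : Dual.D A) :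
    DRing.IsDerivedComplete (Ideal.span s) K ↔
      ∀ f ∈ s, ∀ i : ℤ, SeqComplete f (Dual.HD A K i) := by
  rw [isDerivedComplete_iff_seqComplete]
  constructor
  · intro h f hf
    exact h f (Ideal.subset_span hf)
  · intro h f hf i
    exact seqComplete_of_span (fun g hg => h g hg i) hf

theorem SeqComplete.of_subsingleton {f : A} {M : Type*} [AddCommGroup M] [Module A M]
    [Subsingleton M] : SeqComplete f M := by
  intro c
  exact ⟨0, fun n => Subsingleton.elim _ _, fun m _ => Subsingleton.elim _ _⟩

theorem SeqComplete.of_finite_free {f : A} (h : SeqComplete f A) (X : Type*) [AddCommGroup X]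
    [Module A X] [Module.Finite A X] [Module.Free A X] : SeqComplete f X := by
  rcases subsingleton_or_nontrivial A with hA | hA
  · haveI := Module.subsingleton A X
    exact SeqComplete.of_subsingleton
  · let b := Module.Free.chooseBasis A X
    haveI : Finite (Module.Free.ChooseBasisIndex A X) := Module.Finite.finite_basis b
    haveI := Fintype.ofFinite (Module.Free.ChooseBasisIndex A X)
    exact SeqComplete.of_linearEquiv b.equivFun.symm (SeqComplete.pi (fun _ => h))

end Groth.Agent.H35
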