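import Groth.Agent.H35.DerCompAdj
import Groth.Agent.H56.InjAmp2
import Groth.Agent.S7058
import Groth.Agent.H35.SeqNil

/-!
# Koszul duality and lower bounds for the abstract derived completion (helper35)

For an ideal `I = (f₁, …, f_r)` and the abstract left adjoint `K ↦ K^∧` of the inclusion of derived
complete objects we show: if the cone of `φ : K → L` lies in `D^{≥ a}` then the cone of `φ^∧`
lies in `D^{≥ a - r}`.  The proof only uses iterated cones of multiplication maps.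
-/

set_option autoImplicit false
universe u
open CategoryTheory CategoryTheory.Limits Pretriangulated
attribute [local instance] HasDerivedCategory.standard

namespace Groth.Agent.H35.DerCompKos

open DRing DerivedCategory DerivedCategory.TStructure Groth.Agent.H35

variable {A : Type u} [CommRing A]

/-- `Z'` is a cone of multiplication by `f` on `Z`. -/
def IsConeMul (f : A) (Z Z' : Dual.D A) : Prop :=
  ∃ (p : Z ⟶ Z') (d : Z' ⟶ Z⟦(1 : ℤ)⟧), Triangle.mk (f • 𝟙 Z) p d ∈ distTriang (Dual.D A)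

lemma exists_isConeMul (f : A) (Z : Dual.D A) : ∃ Z', IsConeMul f Z Z' := by
  obtain ⟨Z', p, d, hT⟩ := distinguished_cocone_triangle (f • 𝟙 Z)
  exact ⟨Z', p, d, hT⟩

lemma smul_id_comp {X Y : Dual.D A} (a : A) (g : X ⟶ Y) : (a • 𝟙 X) ≫ g = a • g := by
  rw [Linear.smul_comp, Category.id_comp]

lemma comp_smul_id {X Y : Dual.D A} (a : A) (g : X ⟶ Y) : g ≫ (a • 𝟙 Y) = a • g := by
  rw [Linear.comp_smul, Category.comp_id]

lemma shift_smul_id (a : A) (X : Dual.D A) (n : ℤ) : (a • 𝟙 X)⟦n⟧' = a • 𝟙 (X⟦n⟧) := by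
  rw [Functor.map_smul, CategoryTheory.Functor.map_id]

/-- the sign automorphism -/
noncomputable def unitsIso (ε : ℤˣ) (X : Dual.D A) : X ≅ X where
  hom := ε • 𝟙 X
  inv := ε⁻¹ • 𝟙 X
  hom_inv_id := by
    rw [Linear.units_smul_comp, Linear.comp_units_smul, Category.id_comp, smul_smul,
      mul_inv_cancel, one_smul]
  inv_hom_id := by
    rw [Linear.units_smul_comp, Linear.comp_units_smul, Category.id_comp, smul_smul,
      inv_mul_cancel, one_smul]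

lemma IsConeMul.shift {f : A} {Z Z' : Dual.D A} (h : IsConeMul f Z Z') (n : ℤ) :
    IsConeMul f (Z⟦n⟧) (Z'⟦n⟧) := by
  obtain ⟨p, d, hT⟩ := h
  have hT' := Triangle.shift_distinguished _ hT n
  refine ⟨p⟦n⟧', n.negOnePow • (d⟦n⟧' ≫ (shiftFunctorComm (Dual.D A) 1 n).hom.app Z), ?_⟩
  refine isomorphic_distinguished _ hT' _ ?_
  refine Triangle.isoMk _ _ (Iso.refl _) (unitsIso n.negOnePow _) (Iso.refl _) ?_ ?_ ?_
  · show (f • 𝟙 (Z⟦n⟧)) ≫ (n.negOnePow • 𝟙 (Z⟦n⟧)) = 𝟙 _ ≫ (n.negOnePow • (f • 𝟙 Z)⟦n⟧')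
    rw [Category.id_comp, shift_smul_id, Linear.comp_units_smul, Category.comp_id]
  · show p⟦n⟧' ≫ 𝟙 _ = (n.negOnePow • 𝟙 (Z⟦n⟧)) ≫ (n.negOnePow • p⟦n⟧')
    rw [Category.comp_id, Linear.units_smul_comp, Category.id_comp, smul_smul,
      Int.units_mul_self, one_smul]
  · show (n.negOnePow • (d⟦n⟧' ≫ (shiftFunctorComm (Dual.D A) 1 n).hom.app Z)) ≫ (𝟙 (Z⟦n⟧))⟦(1 : ℤ)⟧' =
      𝟙 _ ≫ (n.negOnePow • d⟦n⟧' ≫ (shiftFunctorComm (Dual.D A) 1 n).hom.app Z)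
    rw [CategoryTheory.Functor.map_id]
    exact (Category.comp_id _).trans (Category.id_comp _).symm

/-! ### nilpotence on cones -/

lemma IsConeMul.mul_self_smul_eq_zero {f : A} {Z Z' : Dual.D A} (h : IsConeMul f Z Z') (a : A)
    (ha : a • 𝟙 Z = 0) : (a * a) • 𝟙 Z' = 0 := by
  obtain ⟨p, d, hT⟩ := h
  have h1 : (a • 𝟙 Z') ≫ d = 0 := by
    rw [smul_id_comp, ← comp_smul_id, ← shift_smul_id, ha, Functor.map_zero, comp_zero]
  obtain ⟨u, hu'⟩ : ∃ u : Z' ⟶ Z, a • 𝟙 Z' = u ≫ p :=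
    Triangle.coyoneda_exact₃ _ hT (a • 𝟙 Z') h1
  rw [mul_smul, hu', ← Linear.comp_smul, ← smul_id_comp, ha, zero_comp, comp_zero]

lemma IsConeMul.self_mul_self_smul_eq_zero {f : A} {Z Z' : Dual.D A} (h : IsConeMul f Z Z') :
    (f * f) • 𝟙 Z' = 0 := by
  obtain ⟨p, d, hT⟩ := h
  have h0 : d ≫ (f • 𝟙 Z)⟦(1 : ℤ)⟧' = 0 := comp_distTriang_mor_zero₃₁ _ hT
  have h1 : (f • 𝟙 Z') ≫ d = 0 := by
    rw [smul_id_comp, ← comp_smul_id, ← shift_smul_id, h0]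
  obtain ⟨u, hu'⟩ : ∃ u : Z' ⟶ Z, f • 𝟙 Z' = u ≫ p :=
    Triangle.coyoneda_exact₃ _ hT (f • 𝟙 Z') h1
  have h2 : (f • 𝟙 Z) ≫ p = 0 := comp_distTriang_mor_zero₁₂ _ hT
  rw [mul_smul, hu', ← Linear.comp_smul, ← smul_id_comp, h2, comp_zero]

/-- some power of `a` kills `Z` -/
def Nil (a : A) (Z : Dual.D A) : Prop := ∃ N : ℕ, (a ^ N) • 𝟙 Z = 0

lemma Nil.cone {f : A} {Z Z' : Dual.D A} (h : IsConeMul f Z Z') {a : A} (ha : Nil a Z) :
    Nil a Z' := by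
  obtain ⟨N, hN⟩ := ha
  exact ⟨N + N, by rw [pow_add]; exact h.mul_self_smul_eq_zero _ hN⟩

lemma Nil.self {f : A} {Z Z' : Dual.D A} (h : IsConeMul f Z Z') : Nil f Z' :=
  ⟨2, by rw [pow_two]; exact h.self_mul_self_smul_eq_zero⟩

lemma Nil.of_iso {a : A} {Z Z' : Dual.D A} (e : Z ≅ Z') (h : Nil a Z) : Nil a Z' := by
  obtain ⟨N, hN⟩ := h
  refine ⟨N, ?_⟩
  have : (a ^ N) • 𝟙 Z' = e.inv ≫ ((a ^ N) • 𝟙 Z) ≫ e.hom := by
    rw [smul_id_comp, Linear.comp_smul, e.inv_hom_id]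
  rw [this, hN, zero_comp, comp_zero]

/-! ### iterated cones -/

/-- `Z'` is an iterated cone of `Z` along the list `l` (first element first). -/
def IsKos : List A → Dual.D A → Dual.D A → Prop
  | [], Z, Z' => Nonempty (Z ≅ Z')
  | f :: l, Z, Z' => ∃ Z₁, IsConeMul f Z Z₁ ∧ IsKos l Z₁ Z'

lemma exists_isKos (l : List A) : ∀ Z : Dual.D A, ∃ Z', IsKos l Z Z' := by
  induction l with
  | nil => exact fun Z => ⟨Z, ⟨Iso.refl _⟩⟩
  | cons f l ih =>
    intro Z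
    obtain ⟨Z₁, h₁⟩ := exists_isConeMul f Z
    obtain ⟨Z', h'⟩ := ih Z₁
    exact ⟨Z', Z₁, h₁, h'⟩

lemma isKos_append (l₁ l₂ : List A) : ∀ Z Z' : Dual.D A,
    IsKos (l₁ ++ l₂) Z Z' ↔ ∃ Z'', IsKos l₁ Z Z'' ∧ IsKos l₂ Z'' Z' := by
  induction l₁ with
  | nil =>
    intro Z Z'
    constructor
    · intro h
      exact ⟨Z, ⟨Iso.refl _⟩, h⟩
    · rintro ⟨Z'', ⟨e⟩, h⟩
      -- transport along the isomorphism
      induction l₂ generalizing Z Z'' Z' with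
      | nil =>
        obtain ⟨e'⟩ := h
        exact ⟨e ≪≫ e'⟩
      | cons f l ih =>
        obtain ⟨Z₁, ⟨p, d, hT⟩, h'⟩ := h
        refine ⟨Z₁, ⟨e.hom ≫ p, d ≫ e.inv⟦(1 : ℤ)⟧', ?_⟩, h'⟩
        refine isomorphic_distinguished _ hT _ ?_
        refine Triangle.isoMk _ _ e e (Iso.refl _) ?_ ?_ ?_
        · show (f • 𝟙 Z) ≫ e.hom = e.hom ≫ (f • 𝟙 Z'')
          rw [smul_id_comp, comp_smul_id]
        · show (e.hom ≫ p) ≫ 𝟙 _ = e.hom ≫ p
          rw [Category.comp_id]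
        · show (d ≫ e.inv⟦(1 : ℤ)⟧') ≫ e.hom⟦(1 : ℤ)⟧' = 𝟙 _ ≫ d
          rw [Category.assoc, ← Functor.map_comp, e.inv_hom_id, CategoryTheory.Functor.map_id,
            Category.comp_id, Category.id_comp]
  | cons f l ih =>
    intro Z Z'
    constructor
    · rintro ⟨Z₁, h₁, h⟩
      obtain ⟨Z'', h2, h3⟩ := (ih Z₁ Z').1 h
      exact ⟨Z'', ⟨Z₁, h₁, h2⟩, h3⟩
    · rintro ⟨Z'', ⟨Z₁, h₁, h2⟩, h3⟩
      exact ⟨Z₁, h₁, (ih Z₁ Z').2 ⟨Z'', h2, h3⟩⟩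

lemma IsKos.nil_of_mem {l : List A} : ∀ {Z Z' : Dual.D A}, IsKos l Z Z' → ∀ a ∈ l, Nil a Z' := by
  induction l with
  | nil => intro Z Z' _ a ha; simp at ha
  | cons f l ih =>
    intro Z Z' h a ha
    obtain ⟨Z₁, h₁, h'⟩ := h
    rcases List.mem_cons.1 ha with rfl | ha'
    · -- `a` kills `Z₁` up to a power, and this persists
      have : ∀ (l : List A) {Y Y' : Dual.D A}, IsKos l Y Y' → Nil a Y → Nil a Y' := by
        intro l
        induction l with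
        | nil => intro Y Y' ⟨e⟩ hY; exact hY.of_iso e
        | cons g l ih2 =>
          intro Y Y' ⟨Y₁, hY₁, hY'⟩ hY
          exact ih2 hY' (hY.cone hY₁)
      exact this l h' (Nil.self h₁)
    · exact ih h' a ha'

/-! ### the two long exact sequences -/

lemma hom_cone_eq_zero_iff {f : A} {Z Z' : Dual.D A} (h : IsConeMul f Z Z') (S : Dual.D A) :
    (∀ x : S ⟶ Z', x = 0) ↔
      (∀ x : S ⟶ Z, ∃ y : S ⟶ Z, x = f • y) ∧ (∀ x : S ⟶ Z⟦(1 : ℤ)⟧, f • x = 0 → x = 0) := by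
  obtain ⟨p, d, hT⟩ := h
  constructor
  · intro h0
    constructor
    · intro x
      obtain ⟨y, hy⟩ : ∃ y : S ⟶ Z, x = y ≫ (f • 𝟙 Z) :=
        Triangle.coyoneda_exact₂ _ hT x (h0 _)
      exact ⟨y, by rw [hy, comp_smul_id]⟩
    · intro x hx
      obtain ⟨g, hg⟩ : ∃ g : S ⟶ Z', x = g ≫ d :=
        Triangle.coyoneda_exact₁ _ hT x (by
          show x ≫ (f • 𝟙 Z)⟦(1 : ℤ)⟧' = 0
          rw [shift_smul_id, comp_smul_id, hx])
      rw [hg, h0 g, zero_comp]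
  · rintro ⟨hs, hi⟩ x
    have h1 : x ≫ d = 0 := by
      apply hi
      rw [← comp_smul_id, Category.assoc, ← shift_smul_id]
      have : d ≫ (f • 𝟙 Z)⟦(1 : ℤ)⟧' = 0 := comp_distTriang_mor_zero₃₁ _ hT
      rw [this, comp_zero]
    obtain ⟨y, hy⟩ : ∃ y : S ⟶ Z, x = y ≫ p := Triangle.coyoneda_exact₃ _ hT x h1
    obtain ⟨y', hy'⟩ := hs y
    have h2 : (f • 𝟙 Z) ≫ p = 0 := comp_distTriang_mor_zero₁₂ _ hT
    rw [hy, hy', ← comp_smul_id, Category.assoc, h2, comp_zero]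

lemma hom_from_cone_eq_zero_iff {f : A} {W W' : Dual.D A} (h : IsConeMul f W W') (E : Dual.D A) :
    (∀ x : W' ⟶ E, x = 0) ↔
      (∀ x : W⟦(1 : ℤ)⟧ ⟶ E, ∃ y : W⟦(1 : ℤ)⟧ ⟶ E, x = f • y) ∧
        (∀ x : W ⟶ E, f • x = 0 → x = 0) := by
  obtain ⟨p, d, hT⟩ := h
  constructor
  · intro h0
    constructor
    · intro x
      obtain ⟨g, hg⟩ : ∃ g : W⟦(1 : ℤ)⟧ ⟶ E, x = (-(f • 𝟙 W)⟦(1 : ℤ)⟧') ≫ g :=
        Triangle.yoneda_exact₃ _ (rot_of_distTriang _ hT) x (h0 _)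
      refine ⟨-g, ?_⟩
      rw [hg, shift_smul_id, Preadditive.neg_comp, smul_id_comp, smul_neg]
    · intro x hx
      obtain ⟨g, hg⟩ : ∃ g : W' ⟶ E, x = p ≫ g :=
        Triangle.yoneda_exact₂ _ hT x (by
          show (f • 𝟙 W) ≫ x = 0
          rw [smul_id_comp, hx])
      rw [hg, h0 g, comp_zero]
  · rintro ⟨hs, hi⟩ x
    have h1 : p ≫ x = 0 := by
      apply hi
      rw [← smul_id_comp, ← Category.assoc]
      have : (f • 𝟙 W) ≫ p = 0 := comp_distTriang_mor_zero₁₂ _ hT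
      rw [this, zero_comp]
    obtain ⟨y, hy⟩ : ∃ y : W⟦(1 : ℤ)⟧ ⟶ E, x = d ≫ y := Triangle.yoneda_exact₃ _ hT x h1
    obtain ⟨y', hy'⟩ := hs y
    have h2 : d ≫ (f • 𝟙 W)⟦(1 : ℤ)⟧' = 0 := comp_distTriang_mor_zero₃₁ _ hT
    rw [hy, hy', ← smul_id_comp, ← shift_smul_id, ← Category.assoc, h2, zero_comp]

/-! ### bridging shifts -/

lemma bridge_inj (f : A) (W Z : Dual.D A) (m n : ℤ) (h : m + 1 = n) :
    (∀ x : W⟦n⟧ ⟶ Z⟦(1 : ℤ)⟧, f • x = 0 → x = 0) ↔ (∀ x : W⟦m⟧ ⟶ Z, f • x = 0 → x = 0) := by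
  let e : W⟦n⟧ ≅ (W⟦m⟧)⟦(1 : ℤ)⟧ := (shiftFunctorAdd' (Dual.D A) m 1 n h).app W
  constructor
  · intro H x hx
    have h1 : e.hom ≫ x⟦(1 : ℤ)⟧' = 0 := by
      apply H
      rw [← Linear.comp_smul, ← Functor.map_smul, hx, Functor.map_zero, comp_zero]
    have h2 : x⟦(1 : ℤ)⟧' = 0 := by
      rw [← cancel_epi e.hom, h1, comp_zero]
    exact (shiftFunctor (Dual.D A) (1 : ℤ)).map_injective (by rw [h2, Functor.map_zero])
  · intro H x' hx'
    obtain ⟨x, hx⟩ := (shiftFunctor (Dual.D A) (1 : ℤ)).map_surjective (e.inv ≫ x')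
    have h1 : f • x = 0 := by
      apply (shiftFunctor (Dual.D A) (1 : ℤ)).map_injective
      rw [Functor.map_smul, hx, ← Linear.comp_smul, hx', comp_zero, Functor.map_zero]
    have h2 := H x h1
    rw [h2, Functor.map_zero] at hx
    rw [← cancel_epi e.inv, ← hx, comp_zero]

lemma bridge_surj (f : A) (W Z : Dual.D A) (m n : ℤ) (h : m + 1 = n) :
    (∀ x : (W⟦m⟧)⟦(1 : ℤ)⟧ ⟶ Z, ∃ y : (W⟦m⟧)⟦(1 : ℤ)⟧ ⟶ Z, x = f • y) ↔
      (∀ x : W⟦n⟧ ⟶ Z, ∃ y : W⟦n⟧ ⟶ Z, x = f • y) := by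
  let e : W⟦n⟧ ≅ (W⟦m⟧)⟦(1 : ℤ)⟧ := (shiftFunctorAdd' (Dual.D A) m 1 n h).app W
  constructor
  · intro H x
    obtain ⟨y, hy⟩ := H (e.inv ≫ x)
    refine ⟨e.hom ≫ y, ?_⟩
    rw [← Linear.comp_smul, ← hy, e.hom_inv_id_assoc]
  · intro H x
    obtain ⟨y, hy⟩ := H (e.hom ≫ x)
    refine ⟨e.inv ≫ y, ?_⟩
    rw [← Linear.comp_smul, ← hy, e.inv_hom_id_assoc]

/-! ### Koszul duality for vanishing ranges -/

/-- all maps `W⟦n⟧ ⟶ Z` with `n ≥ n₀` vanish -/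
def OrthGE (W Z : Dual.D A) (n₀ : ℤ) : Prop := ∀ n : ℤ, n₀ ≤ n → ∀ x : W⟦n⟧ ⟶ Z, x = 0

lemma OrthGE.of_iso {W W' Z Z' : Dual.D A} {n₀ : ℤ} (e : W ≅ W') (e' : Z ≅ Z')
    (h : OrthGE W Z n₀) : OrthGE W' Z' n₀ := by
  intro n hn x
  have h1 := h n hn ((shiftFunctor (Dual.D A) n).map e.hom ≫ x ≫ e'.inv)
  have h2 : x ≫ e'.inv = 0 := by
    rw [← cancel_epi ((shiftFunctor (Dual.D A) n).map e.hom), h1, comp_zero]
  rw [← cancel_mono e'.inv, h2, zero_comp]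

theorem orthGE_cone_iff {f : A} {Z Z' W W' : Dual.D A} (h : IsConeMul f Z Z')
    (h' : IsConeMul f W W') (n₀ : ℤ) : OrthGE W Z' n₀ ↔ OrthGE W' Z (n₀ - 1) := by
  constructor
  · intro H n hn
    have H1 := (hom_cone_eq_zero_iff h (W⟦n + 1⟧)).1 (H (n + 1) (by omega))
    exact (hom_from_cone_eq_zero_iff (h'.shift n) Z).2
      ⟨(bridge_surj f W Z n (n + 1) rfl).2 H1.1, (bridge_inj f W Z n (n + 1) rfl).1 H1.2⟩
  · intro H n hn
    have H1 := (hom_from_cone_eq_zero_iff (h'.shift (n - 1)) Z).1 (H (n - 1) (by omega))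
    exact (hom_cone_eq_zero_iff h (W⟦n⟧)).2
      ⟨(bridge_surj f W Z (n - 1) n (by omega)).1 H1.1,
        (bridge_inj f W Z (n - 1) n (by omega)).2 H1.2⟩

theorem orthGE_isKos_iff (l : List A) : ∀ (Z Z' W W' : Dual.D A) (n₀ : ℤ), IsKos l Z Z' →
    IsKos l.reverse W W' → (OrthGE W Z' n₀ ↔ OrthGE W' Z (n₀ - l.length)) := by
  induction l with
  | nil =>
    intro Z Z' W W' n₀ ⟨e⟩ ⟨e'⟩
    simp only [List.length_nil, Nat.cast_zero, sub_zero]
    exact ⟨fun h => h.of_iso e' e.symm, fun h => h.of_iso e'.symm e⟩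
  | cons f l ih =>
    intro Z Z' W W' n₀ ⟨Z₁, hZ₁, hZ'⟩ hW
    rw [List.reverse_cons, isKos_append] at hW
    obtain ⟨W'', hW'', W₁, hW₁, ⟨e⟩⟩ := hW
    rw [ih Z₁ Z' W W'' n₀ hZ' hW'', orthGE_cone_iff hZ₁ hW₁]
    have : n₀ - (l.length : ℤ) - 1 = n₀ - ((f :: l).length : ℤ) := by
      simp only [List.length_cons, Nat.cast_add, Nat.cast_one]; ring
    rw [this]
    exact ⟨fun h => h.of_iso e (Iso.refl _), fun h => h.of_iso e.symm (Iso.refl _)⟩

/-! ### objects killed by powers of the generators -/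

/-- the annihilator of an object of `D(A)` -/
def annId (Y : Dual.D A) : Ideal A where
  carrier := {a | a • 𝟙 Y = 0}
  zero_mem' := zero_smul _ _
  add_mem' := by
    intro a b ha hb
    show (a + b) • 𝟙 Y = 0
    rw [add_smul, ha, hb, add_zero]
  smul_mem' := by
    intro c a ha
    show (c • a) • 𝟙 Y = 0
    rw [smul_eq_mul, mul_smul, ha, smul_zero]

lemma nil_iff_mem_radical (a : A) (Y : Dual.D A) : Nil a Y ↔ a ∈ (annId Y).radical := Iff.rfl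

lemma nil_of_mem_span {l : List A} {Y : Dual.D A} (h : ∀ a ∈ l, Nil a Y) :
    ∀ g ∈ Ideal.span {x | x ∈ l}, Nil g Y := by
  intro g hg
  rw [nil_iff_mem_radical]
  exact (Ideal.span_le.2 (fun a ha => (nil_iff_mem_radical a Y).1 (h a ha))) hg

variable (I : Ideal A)

lemma isDerivedComplete_of_nil {Y : Dual.D A} (h : ∀ g ∈ I, Nil g Y) :
    IsDerivedComplete I Y := by
  rw [isDerivedComplete_iff_seqComplete]
  intro g hg i
  obtain ⟨N, hN⟩ := h g hg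
  apply SeqComplete.of_pow N
  refine (seqComplete_iff_of_smul_eq (0 : A) (g ^ N) (fun y => ?_)).2 SeqComplete.zero
  have h1 := Groth.Agent.S7058.homologyFunctor_map_smul_id (g ^ N) Y i
  rw [hN, Functor.map_zero] at h1
  have h2 : ((g ^ N) • 𝟙 ((homologyFunctor (ModuleCat.{u} A) i).obj Y)).hom y = 0 := by
    rw [← h1]; rfl
  rw [zero_smul]
  exact h2

/-- left orthogonal to the derived complete objects -/
def LO (Y : Dual.D A) : Prop := ∀ L : Dual.D A, IsDerivedComplete I L → ∀ x : Y ⟶ L, x = 0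

variable {I}

lemma LO.of_iso {Y Y' : Dual.D A} (e : Y ≅ Y') (h : LO I Y) : LO I Y' := by
  intro L hL x
  have := h L hL (e.hom ≫ x)
  rw [← cancel_epi e.hom, this, comp_zero]

lemma LO.shift_one {Y : Dual.D A} (h : LO I Y) (L : Dual.D A) (hL : IsDerivedComplete I L)
    (y : Y⟦(1 : ℤ)⟧ ⟶ L) : y = 0 := by
  let e : (L⟦(-1 : ℤ)⟧)⟦(1 : ℤ)⟧ ≅ L :=
    (shiftFunctorCompIsoId (Dual.D A) (-1 : ℤ) 1 (by norm_num)).app L
  obtain ⟨y₀, hy₀⟩ := (shiftFunctor (Dual.D A) (1 : ℤ)).map_surjective (y ≫ e.inv)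
  have h0 : y₀ = 0 := h _ (DerCompAdj.isDerivedComplete_shift I hL (-1)) y₀
  rw [h0, Functor.map_zero] at hy₀
  rw [← cancel_mono e.inv, ← hy₀, zero_comp]

lemma LO.cone {f : A} {Y Y' : Dual.D A} (hc : IsConeMul f Y Y') (h : LO I Y) : LO I Y' := by
  obtain ⟨p, d, hT⟩ := hc
  intro L hL x
  obtain ⟨y, hy⟩ : ∃ y : Y⟦(1 : ℤ)⟧ ⟶ L, x = d ≫ y :=
    Triangle.yoneda_exact₃ _ hT x (h L hL _)
  rw [hy, h.shift_one L hL y, comp_zero]

lemma LO.isKos (l : List A) : ∀ Y Y' : Dual.D A, IsKos l Y Y' → LO I Y → LO I Y' := by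
  induction l with
  | nil => intro Y Y' ⟨e⟩ h; exact h.of_iso e
  | cons f l ih =>
    intro Y Y' ⟨Y₁, h₁, h'⟩ h
    exact ih Y₁ Y' h' (h.cone h₁)

/-- an iterated cone of a left-orthogonal object along generators of `I` vanishes -/
theorem isZero_of_LO_of_isKos {l : List A} (hl : Ideal.span {x | x ∈ l} = I) {Y Y' : Dual.D A}
    (hK : IsKos l Y Y') (h : LO I Y) : IsZero Y' := by
  have h1 : LO I Y' := LO.isKos l Y Y' hK h
  have h2 : IsDerivedComplete I Y' := isDerivedComplete_of_nil I (fun g hg =>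
    nil_of_mem_span (hK.nil_of_mem) g (by rw [hl]; exact hg))
  rw [IsZero.iff_id_eq_zero]
  exact h1 Y' h2 (𝟙 Y')

/-! ### bounds -/

theorem isGE_of_isKos (l : List A) (hl : ∀ a ∈ l, a ∈ I) : ∀ (Z Z' : Dual.D A) (a : ℤ),
    IsKos l Z Z' → IsDerivedComplete I Z → Z'.IsGE a → Z.IsGE a := by
  induction l with
  | nil =>
    intro Z Z' a ⟨e⟩ _ h
    exact t.isGE_of_iso e.symm a
  | cons f l ih =>
    intro Z Z' a ⟨Z₁, ⟨p, d, hT⟩, h'⟩ hZ hZ'
    have hZ₁ : IsDerivedComplete I Z₁ := DerCompAdj.isDerivedComplete_obj₃ I _ hT hZ hZ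
    have h1 : Z₁.IsGE a := ih (fun b hb => hl b (List.mem_cons_of_mem _ hb)) Z₁ Z' a h' hZ₁ hZ'
    have hsc := (isDerivedComplete_iff_seqComplete I Z).1 hZ f (hl f List.mem_cons_self)
    rw [isGE_iff]
    intro i hi
    have hz : IsZero ((homologyFunctor (ModuleCat.{u} A) i).obj Z₁) := (isGE_iff Z₁ a).1 h1 i hi
    have hepi : Epi ((homologyFunctor (ModuleCat.{u} A) i).map (f • 𝟙 Z)) :=
      (HomologySequence.epi_homologyMap_mor₁_iff _ hT i).2 (hz.eq_of_tgt _ _)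
    rw [Groth.Agent.S7058.homologyFunctor_map_smul_id, ModuleCat.epi_iff_surjective] at hepi
    have : Subsingleton ((homologyFunctor (ModuleCat.{u} A) i).obj Z) :=
      (hsc i).subsingleton_of_smul_surjective (fun x => by
        obtain ⟨y, hy⟩ := hepi x
        exact ⟨y, hy⟩)
    exact ModuleCat.isZero_of_subsingleton _

theorem isLE_of_isKos (l : List A) : ∀ (W W' : Dual.D A) (n : ℤ),
    IsKos l W W' → W.IsLE n → W'.IsLE n := by
  induction l with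
  | nil =>
    intro W W' n ⟨e⟩ h
    exact t.isLE_of_iso e n
  | cons f l ih =>
    intro W W' n ⟨W₁, ⟨p, d, hT⟩, h'⟩ hW
    refine ih W₁ W' n h' ?_
    have h3 : t.IsLE (W⟦(1 : ℤ)⟧) n :=
      have := t.isLE_shift W n 1 (n - 1) (by omega)
      t.isLE_of_le _ (n - 1) n (by omega)
    exact t.isLE₂ _ (rot_of_distTriang _ hT) n hW h3

/-! ### homology and maps from the ring -/

lemma isZero_homology_of_hom_eq_zero (X : Dual.D A) (i : ℤ)
    (h : ∀ x : (Dual.inD A A)⟦-i⟧ ⟶ X, x = 0) :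
    IsZero ((homologyFunctor (ModuleCat.{u} A) i).obj X) := by
  obtain ⟨L, ⟨e⟩⟩ : ∃ L : DRing.Cx A, Nonempty (Q.obj L ≅ X) := ⟨_, ⟨Q.objObjPreimageIso X⟩⟩
  let e₁ : ((singleFunctor (ModuleCat.{u} A) 0).obj (ModuleCat.of A A))⟦-i⟧ ≅
      (singleFunctor (ModuleCat.{u} A) i).obj (ModuleCat.of A A) :=
    ((singleFunctors (ModuleCat.{u} A)).shiftIso (-i) i 0 (by simp)).app (ModuleCat.of A A)
  have hv : ∀ ψ : (singleFunctor (ModuleCat.{u} A) i).obj (ModuleCat.of A A) ⟶ Q.obj L,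
      ψ = 0 := by
    intro ψ
    have h1 : e₁.hom ≫ ψ ≫ e.hom = 0 := h _
    have h2 : ψ ≫ e.hom = 0 := by rw [← cancel_epi e₁.hom, h1, comp_zero]
    rw [← cancel_mono e.hom, h2, zero_comp]
  have hex := Groth.Agent.H56.exactAt_of_single_ring_hom_eq_zero L i hv
  exact hex.isZero_homology.of_iso ((homologyFunctor (ModuleCat.{u} A) i).mapIso e.symm ≪≫
    (homologyFunctorFactors (ModuleCat.{u} A) i).app L)

lemma hom_shift_eq_zero {P Y : Dual.D A} (h : ∀ (n : ℤ) (x : P⟦n⟧ ⟶ Y), x = 0) (a b : ℤ)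
    (x : P⟦a⟧ ⟶ Y⟦b⟧) : x = 0 := by
  let e₁ : P⟦a - b⟧ ≅ (P⟦a⟧)⟦-b⟧ := (shiftFunctorAdd' (Dual.D A) a (-b) (a - b) (by omega)).app P
  let e₂ : (Y⟦b⟧)⟦-b⟧ ≅ Y := (shiftFunctorCompIsoId (Dual.D A) b (-b) (by omega)).app Y
  have h1 : e₁.hom ≫ x⟦-b⟧' ≫ e₂.hom = 0 := h _ _
  have h2 : x⟦-b⟧' ≫ e₂.hom = 0 := by rw [← cancel_epi e₁.hom, h1, comp_zero]
  have h3 : x⟦-b⟧' = 0 := by rw [← cancel_mono e₂.hom, h2, zero_comp]
  exact (shiftFunctor (Dual.D A) (-b)).map_injective (by rw [h3, Functor.map_zero])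

/-! ### cones in `D^{≥ m}` -/

/-- the cone of a morphism which is an isomorphism on `H^i` for `i < m` and a monomorphism on
`H^m` lies in `D^{≥ m}`. -/
lemma isGE_cone_of_homology {X K Z : Dual.D A} (α : X ⟶ K) (g : K ⟶ Z)
    (h : Z ⟶ X⟦(1 : ℤ)⟧) (hT : Triangle.mk α g h ∈ distTriang (Dual.D A)) (m : ℤ)
    (hiso : ∀ i, i < m → IsIso ((homologyFunctor (ModuleCat.{u} A) i).map α))
    (hmono : Mono ((homologyFunctor (ModuleCat.{u} A) m).map α)) : Z.IsGE m := by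
  rw [isGE_iff]
  intro i hi
  have hmono' : Mono ((homologyFunctor (ModuleCat.{u} A) (i + 1)).map α) := by
    by_cases him : i + 1 = m
    · rw [him]; exact hmono
    · have := hiso (i + 1) (by omega)
      infer_instance
  have := hiso i hi
  have hepi : Epi ((homologyFunctor (ModuleCat.{u} A) i).map α) := inferInstance
  have h1 : (homologyFunctor (ModuleCat.{u} A) i).map g = 0 :=
    (HomologySequence.epi_homologyMap_mor₁_iff _ hT i).1 hepi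
  have h2 : HomologySequence.δ (Triangle.mk α g h) i (i + 1) rfl = 0 :=
    (HomologySequence.mono_homologyMap_mor₁_iff _ hT i (i + 1) rfl).1 hmono'
  exact (HomologySequence.exact₃ _ hT i (i + 1) rfl).isZero_X₂ h1 h2

/-- converse of `isGE_cone_of_homology`. -/
lemma homology_of_isGE_cone {X K Z : Dual.D A} (α : X ⟶ K) (g : K ⟶ Z)
    (h : Z ⟶ X⟦(1 : ℤ)⟧) (hT : Triangle.mk α g h ∈ distTriang (Dual.D A)) (m : ℤ)
    (hZ : Z.IsGE m) :
    (∀ i, i < m → IsIso ((homologyFunctor (ModuleCat.{u} A) i).map α)) ∧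
      Mono ((homologyFunctor (ModuleCat.{u} A) m).map α) := by
  have hz : ∀ i, i < m → IsZero ((homologyFunctor (ModuleCat.{u} A) i).obj Z) :=
    (isGE_iff Z m).1 hZ
  have hmono : ∀ i, i ≤ m → Mono ((homologyFunctor (ModuleCat.{u} A) i).map α) := fun i hi =>
    (HomologySequence.mono_homologyMap_mor₁_iff _ hT (i - 1) i (by omega)).2
      ((hz (i - 1) (by omega)).eq_of_src _ _)
  refine ⟨fun i hi => ?_, hmono m le_rfl⟩
  have := hmono i (by omega)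
  have : Epi ((homologyFunctor (ModuleCat.{u} A) i).map α) :=
    (HomologySequence.epi_homologyMap_mor₁_iff _ hT i).2 ((hz i hi).eq_of_tgt _ _)
  exact isIso_of_mono_of_epi _

/-! ### the abstract derived completion -/

section UP

open DerCompAdj

variable (I) [HasDerivedCompletion I]

/-- the cone of the unit `K → K^∧` is left orthogonal to derived complete objects -/
lemma LO_cone_unit (K : Dual.D A) {Y : Dual.D A} (q : comp I K ⟶ Y) (δ : Y ⟶ K⟦(1 : ℤ)⟧)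
    (hT : Triangle.mk (toDerivedCompletion I K) q δ ∈ distTriang (Dual.D A)) : LO I Y := by
  intro L hL x
  have h1 : q ≫ x = 0 := by
    apply lift_injective I K L hL
    have h0 : toDerivedCompletion I K ≫ q = 0 := comp_distTriang_mor_zero₁₂ _ hT
    rw [comp_zero, ← Category.assoc, h0, zero_comp]
  obtain ⟨y, hy⟩ : ∃ y : K⟦(1 : ℤ)⟧ ⟶ L, x = δ ≫ y := Triangle.yoneda_exact₃ _ hT x h1
  let e : (L⟦(-1 : ℤ)⟧)⟦(1 : ℤ)⟧ ≅ L :=
    (shiftFunctorCompIsoId (Dual.D A) (-1 : ℤ) 1 (by norm_num)).app L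
  obtain ⟨y₀, hy₀⟩ := (shiftFunctor (Dual.D A) (1 : ℤ)).map_surjective (y ≫ e.inv)
  obtain ⟨z, hz⟩ := lift_surjective I K _ (isDerivedComplete_shift I hL (-1)) y₀
  have h2 : y = (toDerivedCompletion I K)⟦(1 : ℤ)⟧' ≫ z⟦(1 : ℤ)⟧' ≫ e.hom := by
    rw [← Functor.map_comp_assoc, hz, hy₀, Category.assoc, e.inv_hom_id, Category.comp_id]
  have h3 : δ ≫ (toDerivedCompletion I K)⟦(1 : ℤ)⟧' = 0 := comp_distTriang_mor_zero₃₁ _ hT
  rw [hy, h2, ← Category.assoc, h3, zero_comp]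

variable {I}

/-- all maps from shifts of a Koszul object to shifts of the cone of the unit vanish -/
theorem hom_kos_cone_unit_eq_zero {l : List A} (hl : Ideal.span {x | x ∈ l} = I)
    {W P : Dual.D A} (hP : IsKos l.reverse W P) (K : Dual.D A) {Y : Dual.D A}
    (q : comp I K ⟶ Y) (δ : Y ⟶ K⟦(1 : ℤ)⟧)
    (hT : Triangle.mk (toDerivedCompletion I K) q δ ∈ distTriang (Dual.D A)) (a b : ℤ)
    (x : P⟦a⟧ ⟶ Y⟦b⟧) : x = 0 := by
  refine hom_shift_eq_zero (fun n x => ?_) a b x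
  obtain ⟨Y', hY'⟩ := exists_isKos l Y
  have hz : IsZero Y' := isZero_of_LO_of_isKos hl hY' (LO_cone_unit I K q δ hT)
  have h1 : OrthGE W Y' (n + l.length) := fun m _ y => hz.eq_of_tgt _ _
  have h2 := (orthGE_isKos_iff l Y Y' W P (n + l.length) hY' hP).1 h1
  exact h2 n (by omega) x

omit [HasDerivedCompletion I] in
/-- Koszul duality plus Nakayama: a derived complete object receiving no maps from `P⟦n⟧`,
`n ≥ 1 - a`, lies in `D^{≥ a - |l|}`. -/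
theorem isGE_of_orthGE_kos {l : List A} (hl : Ideal.span {x | x ∈ l} = I) {P : Dual.D A}
    (hP : IsKos l.reverse (Dual.inD A A) P) {Z : Dual.D A} (hZ : IsDerivedComplete I Z) (a : ℤ)
    (key : OrthGE P Z (1 - a)) : Z.IsGE (a - l.length) := by
  obtain ⟨Z', hZ'⟩ := exists_isKos l Z
  have h2 : OrthGE (Dual.inD A A) Z' (1 - a + l.length) :=
    (orthGE_isKos_iff l Z Z' _ P (1 - a + l.length) hZ' hP).2 (by
      have : (1 - a + (l.length : ℤ)) - l.length = 1 - a := by ring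
      rw [this]; exact key)
  have hZ'ge : Z'.IsGE (a - l.length) := by
    rw [isGE_iff]
    intro i hi
    exact isZero_homology_of_hom_eq_zero Z' i (fun x => h2 (-i) (by omega) x)
  exact isGE_of_isKos l (fun b hb => by rw [← hl]; exact Ideal.subset_span hb) Z Z' _ hZ' hZ hZ'ge

/-- If the cone of `φ` lies in `D^{≥ a}` and `I` is generated by the list `l`, the cone of `φ^∧` lies
in `D^{≥ a - |l|}`. -/
theorem isGE_cone_comp {l : List A} (hl : Ideal.span {x | x ∈ l} = I) {K L : Dual.D A}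
    (φ : K ⟶ L) {C : Dual.D A} (v : L ⟶ C) (w : C ⟶ K⟦(1 : ℤ)⟧)
    (hT : Triangle.mk φ v w ∈ distTriang (Dual.D A)) (a : ℤ) (hC : C.IsGE a)
    {Z : Dual.D A} (v' : comp I L ⟶ Z) (w' : Z ⟶ (comp I K)⟦(1 : ℤ)⟧)
    (hT' : Triangle.mk ((derivedCompletion I).map φ).hom v' w' ∈ distTriang (Dual.D A)) :
    Z.IsGE (a - l.length) := by
  obtain ⟨P, hP⟩ := exists_isKos l.reverse (Dual.inD A A)
  have hPle : P.IsLE 0 := isLE_of_isKos l.reverse _ P 0 hP inferInstance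
  obtain ⟨YK, qK, δK, hTK⟩ := distinguished_cocone_triangle (toDerivedCompletion I K)
  obtain ⟨YL, qL, δL, hTL⟩ := distinguished_cocone_triangle (toDerivedCompletion I L)
  have oK := hom_kos_cone_unit_eq_zero hl hP K qK δK hTK
  have oL := hom_kos_cone_unit_eq_zero hl hP L qL δL hTL
  have hCge : t.IsGE C a := hC
  -- step 1: maps from `P⟦n⟧`, `n ≥ 1 - a`, to `Z` vanish
  have key : OrthGE P Z (1 - a) := by
    intro n hn x
    have hS : t.IsLE (P⟦n⟧) (-n) := by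
      have : t.IsLE P 0 := hPle
      exact t.isLE_shift P 0 n (-n) (by omega)
    have zeroC : ∀ c : P⟦n⟧ ⟶ C, c = 0 := fun c => t.zero c (-n) a (by omega)
    -- (ii) injectivity for `L⟦1⟧`
    have inj1 : ∀ s : P⟦n⟧ ⟶ L⟦(1 : ℤ)⟧, s ≫ (toDerivedCompletion I L)⟦(1 : ℤ)⟧' = 0 → s = 0 := by
      intro s hs
      obtain ⟨g, hg⟩ : ∃ g : P⟦n⟧ ⟶ YL, s = g ≫ δL :=
        Triangle.coyoneda_exact₃ _ (rot_of_distTriang _ hTL) s (by
          show s ≫ (-(toDerivedCompletion I L)⟦(1 : ℤ)⟧') = 0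
          rw [Preadditive.comp_neg, hs, neg_zero])
      have hg0 : g = 0 := by
        have := oL n 0 (g ≫ ((shiftFunctorZero (Dual.D A) ℤ).app YL).inv)
        rw [← cancel_mono ((shiftFunctorZero (Dual.D A) ℤ).app YL).inv, this, zero_comp]
      rw [hg, hg0, zero_comp]
    -- (iii) surjectivity for `K^∧⟦1⟧`
    have surj1 : ∀ y : P⟦n⟧ ⟶ (comp I K)⟦(1 : ℤ)⟧,
        ∃ y₀ : P⟦n⟧ ⟶ K⟦(1 : ℤ)⟧, y = y₀ ≫ (toDerivedCompletion I K)⟦(1 : ℤ)⟧' := by
      intro y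
      obtain ⟨g, hg⟩ : ∃ g : P⟦n⟧ ⟶ K⟦(1 : ℤ)⟧, y = g ≫ (-(toDerivedCompletion I K)⟦(1 : ℤ)⟧') :=
        Triangle.coyoneda_exact₃ _ (rot_of_distTriang _ (rot_of_distTriang _ hTK)) y (by
          show y ≫ (-qK⟦(1 : ℤ)⟧') = 0
          rw [Preadditive.comp_neg, oK n 1 (y ≫ qK⟦(1 : ℤ)⟧'), neg_zero])
      exact ⟨-g, by rw [hg, Preadditive.comp_neg, Preadditive.neg_comp]⟩
    -- (i) surjectivity for `L^∧`
    have surj0 : ∀ z : P⟦n⟧ ⟶ comp I L, ∃ z₀ : P⟦n⟧ ⟶ L, z = z₀ ≫ toDerivedCompletion I L := by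
      intro z
      have hz : z ≫ qL = 0 := by
        have := oL n 0 (z ≫ qL ≫ ((shiftFunctorZero (Dual.D A) ℤ).app YL).inv)
        rw [← Category.assoc] at this
        rw [← cancel_mono ((shiftFunctorZero (Dual.D A) ℤ).app YL).inv, this, zero_comp]
      exact Triangle.coyoneda_exact₂ _ hTL z hz
    -- the chase
    have h1 : x ≫ w' = 0 := by
      obtain ⟨y₀, hy₀⟩ := surj1 (x ≫ w')
      have h2 : y₀ ≫ φ⟦(1 : ℤ)⟧' = 0 := by
        apply inj1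
        have hz : w' ≫ ((derivedCompletion I).map φ).hom⟦(1 : ℤ)⟧' = 0 :=
          comp_distTriang_mor_zero₃₁ _ hT'
        rw [Category.assoc, ← Functor.map_comp, ← unit_naturality, Functor.map_comp,
          ← Category.assoc, ← hy₀, Category.assoc, hz, comp_zero]
      obtain ⟨c, hc⟩ : ∃ c : P⟦n⟧ ⟶ C, y₀ = c ≫ w := Triangle.coyoneda_exact₁ _ hT y₀ h2
      rw [hy₀, hc, zeroC c, zero_comp, zero_comp]
    obtain ⟨z, hz⟩ : ∃ z : P⟦n⟧ ⟶ comp I L, x = z ≫ v' := Triangle.coyoneda_exact₃ _ hT' x h1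
    obtain ⟨z₀, hz₀⟩ := surj0 z
    obtain ⟨k₀, hk₀⟩ : ∃ k₀ : P⟦n⟧ ⟶ K, z₀ = k₀ ≫ φ :=
      Triangle.coyoneda_exact₂ _ hT z₀ (zeroC _)
    have h3 : ((derivedCompletion I).map φ).hom ≫ v' = 0 := comp_distTriang_mor_zero₁₂ _ hT'
    rw [hz, hz₀, hk₀, Category.assoc, Category.assoc, ← unit_naturality_assoc, h3, comp_zero,
      comp_zero]
  exact isGE_of_orthGE_kos hl hP
    (isDerivedComplete_obj₃ I _ hT' (isDerivedComplete_comp I K) (isDerivedComplete_comp I L)) a key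

/-- `K ∈ D^{≥ a}` implies `K^∧ ∈ D^{≥ a - |l|}`. -/
theorem isGE_comp {l : List A} (hl : Ideal.span {x | x ∈ l} = I) (K : Dual.D A) (a : ℤ)
    (hK : K.IsGE a) : (comp I K).IsGE (a - l.length) := by
  obtain ⟨P, hP⟩ := exists_isKos l.reverse (Dual.inD A A)
  have hPle : P.IsLE 0 := isLE_of_isKos l.reverse _ P 0 hP inferInstance
  obtain ⟨YK, qK, δK, hTK⟩ := distinguished_cocone_triangle (toDerivedCompletion I K)
  have oK := hom_kos_cone_unit_eq_zero hl hP K qK δK hTK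
  have hKge : t.IsGE K a := hK
  refine isGE_of_orthGE_kos hl hP (isDerivedComplete_comp I K) a ?_
  intro n hn x
  have hS : t.IsLE (P⟦n⟧) (-n) := by
    have : t.IsLE P 0 := hPle
    exact t.isLE_shift P 0 n (-n) (by omega)
  have hx : x ≫ qK = 0 := by
    have := oK n 0 (x ≫ qK ≫ ((shiftFunctorZero (Dual.D A) ℤ).app YK).inv)
    rw [← Category.assoc] at this
    rw [← cancel_mono ((shiftFunctorZero (Dual.D A) ℤ).app YK).inv, this, zero_comp]
  obtain ⟨x₀, hx₀⟩ : ∃ x₀ : P⟦n⟧ ⟶ K, x = x₀ ≫ toDerivedCompletion I K :=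
    Triangle.coyoneda_exact₂ _ hTK x hx
  have : x₀ = 0 := t.zero x₀ (-n) a (by omega)
  rw [hx₀, this, zero_comp]

/-- `K ∈ D^{≤ b}` implies `K^∧ ∈ D^{≤ b}`. -/
theorem isLE_comp (K : Dual.D A) (b : ℤ) (hK : K.IsLE b) : (comp I K).IsLE b := by
  have hZ : IsDerivedComplete I (comp I K) := isDerivedComplete_comp I K
  have hE : IsDerivedComplete I ((t.truncGE (b + 1)).obj (comp I K)) :=
    isDerivedComplete_truncGE I hZ _
  have hKle : t.IsLE K b := hK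
  have key : (t.truncGEπ (b + 1)).app (comp I K) = 0 := by
    apply lift_injective I K _ hE
    rw [comp_zero]
    exact t.zero _ b (b + 1) (by omega)
  rw [DerivedCategory.isLE_iff]
  intro i hi
  have hiso := Groth.Agent.H33.isIso_homology_truncGEπ (comp I K) (b + 1) i (by omega)
  rw [key, Functor.map_zero] at hiso
  rw [IsZero.iff_id_eq_zero]
  have := IsIso.hom_inv_id (f := (0 : (homologyFunctor (ModuleCat.{u} A) i).obj (comp I K) ⟶
    (homologyFunctor (ModuleCat.{u} A) i).obj ((t.truncGE (b + 1)).obj (comp I K))))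
  rw [Limits.zero_comp] at this
  exact this.symm

end UP

end Groth.Agent.H35.DerCompKos
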