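import Groth.Agent.H35.DerNak
import Groth.Agent.H35.DerCompKos
import Groth.Agent.H35.TorIndBC
import Groth.Agent.H12.AdjFin

/-!
# A criterion for recognising the derived completion (helper35)

`A` a commutative ring, `I` a finitely generated ideal, `ρ : A → A/I`, abstract derived completion.

* `isZero_of_LBaseChange` : derived Nakayama, with `K ⊗^L A/I` computed in `D(A/I)`;
* `isDerivedComplete_restrictD` : objects restricted from `D(A/I)` are derived complete;
* `isIso_LBaseChange_unit` : `K ⊗^L A/I → K^∧ ⊗^L A/I` is an isomorphism;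
* `LO_of_LBaseChange` : `Y ⊗^L A/I = 0 ⇒ Y` is left orthogonal to derived complete objects;
* `exists_iso_of_LO` : if `K → K'` has derived complete target and left-orthogonal cone then
  `K' ≅ K^∧` compatibly.
-/

set_option autoImplicit false
universe u
open CategoryTheory CategoryTheory.Limits Pretriangulated
attribute [local instance] HasDerivedCategory.standard

namespace Groth.Agent.H35.DerCompCrit

open DRing DerivedCategory Groth.Agent.H35.TorAmp Groth.Agent.H35.DerNak
  Groth.Agent.H35.LBC Groth.Agent.H35.FlatBC Groth.Agent.H35.KFlatBC Groth.Agent.H35.DerCompKos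
  Groth.Agent.H35.DerCompAdj

variable {A : Type u} [CommRing A] (I : Ideal A)
  [DRing.HasLBaseChange (Ideal.Quotient.mk I)]

/-- Derived Nakayama with the base change taken in `D(A/I)`. -/
theorem isZero_of_LBaseChange (hI : I.FG) (K : Dual.D A) (hc : DRing.IsDerivedComplete I K)
    (h0 : IsZero ((DRing.LBaseChange (Ideal.Quotient.mk I)).obj K)) : IsZero K := by
  obtain ⟨P, hPK, hPfl, ⟨e⟩⟩ := exists_kflat_model K
  have hc' : DRing.IsDerivedComplete I (toD P) := fun g hg n =>
    Groth.Agent.H35.subsingleton_hom_of_iso ((shiftFunctor (Dual.D A) n).mapIso e.symm) (hc g hg n)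
  obtain ⟨s, hs⟩ := hI
  have hs' : Ideal.span {g | g ∈ s.toList} = I := by
    have h0 : ({g | g ∈ s.toList} : Set A) = (s : Set A) := by
      ext g
      simp
    rw [h0]
    exact hs
  let φ : A →+* A ⧸ I := Ideal.Quotient.mk I
  have hφ : Function.Surjective φ := Ideal.Quotient.mk_surjective
  have ia := Groth.Agent.H35.TorIndBC.isIso_aLB_app φ P hPK
  have hz : IsZero (toD ((extCx φ).obj P)) :=
    h0.of_iso ((asIso ((Groth.Agent.H35.TorIndBC.aLB φ).app P)).symm ≪≫
      (DRing.LBaseChange φ).mapIso e)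
  have hext : ∀ j : ℤ, ((extCx φ).obj P).ExactAt j := by
    intro j
    rw [exactAt_iff_isZero_H]
    exact (homologyFunctor (ModuleCat.{u} (A ⧸ I)) j).map_isZero hz
  have hKext : DRing.IsKFlat (A ⧸ I) ((extCx φ).obj P) := isKFlat_extCx φ P hPK
  refine (Groth.Agent.S7058.isZero_of_subsingleton_homology K (fun i => ?_))
  have hLE : (toD ((extCx φ).obj P)).IsLE (i - 1) := by
    rw [DerivedCategory.isLE_iff]
    intro j _
    exact (exactAt_iff_isZero_H _ j).1 (hext j)
  have hmain := main I i s.toList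
    (fun g hg => by rw [← hs']; exact Ideal.subset_span hg) P hPfl hc'
    (fun N hN i' hi' => by
      obtain ⟨k, hk⟩ := hN
      rw [hs'] at hk
      refine exactAt_tensor_of_pow P hPfl I i' (fun N' hN' => ?_) k N hk
      refine exactAt_tensor_of_killed φ hφ P i' (fun N'' => ?_) N' (fun a ha x => ?_)
      · exact exactAt_tensor_of_isLE ((extCx φ).obj P) hKext (i - 1) hLE N'' i' (by omega)
      · rw [Ideal.mk_ker] at ha
        exact hN' a ha x)
  exact ModuleCat.subsingleton_of_isZero (((exactAt_iff_isZero_H P i).1 (hmain i le_rfl)).of_iso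
    ((homologyFunctor (ModuleCat.{u} A) i).mapIso e.symm))

/-- Objects restricted from `D(A/I)` are derived complete. -/
lemma isDerivedComplete_restrictD (W : Dual.D (A ⧸ I)) :
    DRing.IsDerivedComplete I ((DRing.restrictD (Ideal.Quotient.mk I)).obj W) := by
  refine isDerivedComplete_of_nil I (fun g hg => ⟨1, ?_⟩)
  rw [pow_one, ← Groth.Agent.H12.AdjFin.resD_map_smul_id (Ideal.Quotient.mk I) g W,
    Ideal.Quotient.eq_zero_iff_mem.2 hg, zero_smul, Functor.map_zero]

variable [HasDerivedCompletion I]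

/-- `K ⊗^L A/I → K^∧ ⊗^L A/I` is an isomorphism. -/
theorem isIso_LBaseChange_unit (K : Dual.D A) :
    IsIso ((DRing.LBaseChange (Ideal.Quotient.mk I)).map (toDerivedCompletion I K)) := by
  let adj := Groth.Agent.H35.TorIndBC.adj₀ (Ideal.Quotient.mk I)
  rw [isIso_iff_coyoneda_map_bijective]
  intro W
  have hW := isDerivedComplete_restrictD I W
  have h1 : (fun g : (DRing.LBaseChange (Ideal.Quotient.mk I)).obj (comp I K) ⟶ W =>
      (DRing.LBaseChange (Ideal.Quotient.mk I)).map (toDerivedCompletion I K) ≫ g) =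
      (adj.homEquiv _ _).symm ∘ (fun y : comp I K ⟶ _ => toDerivedCompletion I K ≫ y) ∘
        (adj.homEquiv _ _) := by
    funext g
    simp only [Function.comp_apply]
    rw [Adjunction.homEquiv_naturality_left_symm]
    erw [Equiv.symm_apply_apply]
  have hb : Function.Bijective ((adj.homEquiv _ _).symm ∘
      (fun y : comp I K ⟶ (DRing.restrictD (Ideal.Quotient.mk I)).obj W =>
        toDerivedCompletion I K ≫ y) ∘ (adj.homEquiv _ _)) := by
    refine (adj.homEquiv _ _).symm.bijective.comp (Function.Bijective.comp ?_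
      (adj.homEquiv _ _).bijective)
    exact ⟨fun y y' h => lift_injective I K _ hW y y' h, fun x => lift_surjective I K _ hW x⟩
  rw [← h1] at hb
  exact hb

/-- `Y ⊗^L A/I = 0` implies that `Y` is left orthogonal to the derived complete objects. -/
theorem LO_of_LBaseChange (hI : I.FG) (Y : Dual.D A)
    (h0 : IsZero ((DRing.LBaseChange (Ideal.Quotient.mk I)).obj Y)) : LO I Y := by
  have hiso := isIso_LBaseChange_unit I Y
  have hz : IsZero (comp I Y) :=
    isZero_of_LBaseChange I hI _ (isDerivedComplete_comp I Y)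
      (h0.of_iso (asIso ((DRing.LBaseChange (Ideal.Quotient.mk I)).map
        (toDerivedCompletion I Y))).symm)
  intro L hL x
  obtain ⟨y, hy⟩ := lift_surjective I Y L hL x
  rw [← hy, hz.eq_of_src y 0, comp_zero]

omit [DRing.HasLBaseChange (Ideal.Quotient.mk I)] in
/-- A morphism `K → K'` with derived complete target and left-orthogonal cone is the derived
completion. -/
theorem exists_iso_of_LO {K K' Y : Dual.D A} (η' : K ⟶ K') (q : K' ⟶ Y) (δ : Y ⟶ K⟦(1 : ℤ)⟧)
    (hT : Triangle.mk η' q δ ∈ distTriang (Dual.D A)) (hK' : DRing.IsDerivedComplete I K')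
    (hY : LO I Y) :
    ∃ c : comp I K ≅ K', toDerivedCompletion I K ≫ c.hom = η' := by
  -- injectivity of restriction along `η'`
  have hinj : ∀ (L : Dual.D A), DRing.IsDerivedComplete I L → ∀ x : K' ⟶ L, η' ≫ x = 0 → x = 0 := by
    intro L hL x hx
    obtain ⟨y, hy⟩ : ∃ y : Y ⟶ L, x = q ≫ y := Triangle.yoneda_exact₂ _ hT x hx
    rw [hy, hY L hL y, comp_zero]
  -- surjectivity
  have hsurj : ∀ (L : Dual.D A), DRing.IsDerivedComplete I L → ∀ x : K ⟶ L,
      ∃ x' : K' ⟶ L, η' ≫ x' = x := by
    intro L hL x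
    have hT' := inv_rot_of_distTriang _ hT
    have hv : ∀ g : Y⟦(-1 : ℤ)⟧ ⟶ L, g = 0 := by
      intro g
      let e : (Y⟦(-1 : ℤ)⟧)⟦(1 : ℤ)⟧ ≅ Y :=
        (shiftFunctorCompIsoId (Dual.D A) (-1 : ℤ) 1 (by norm_num)).app Y
      apply (shiftFunctor (Dual.D A) (1 : ℤ)).map_injective
      have h0 : e.inv ≫ g⟦(1 : ℤ)⟧' = 0 := hY _ (isDerivedComplete_shift I hL 1) _
      rw [Functor.map_zero, ← cancel_epi e.inv, h0, comp_zero]
    have h1 : (Triangle.mk η' q δ).invRotate.mor₁ ≫ x = 0 := by
      have := hv ((Triangle.mk η' q δ).invRotate.mor₁ ≫ x)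
      exact this
    obtain ⟨x', hx'⟩ := Triangle.yoneda_exact₂ _ hT' x h1
    exact ⟨x', hx'.symm⟩
  obtain ⟨c, hc⟩ := lift_surjective I K K' hK' η'
  obtain ⟨d, hd⟩ := hsurj (comp I K) (isDerivedComplete_comp I K) (toDerivedCompletion I K)
  refine ⟨⟨c, d, ?_, ?_⟩, hc⟩
  · apply lift_injective I K _ (isDerivedComplete_comp I K)
    rw [← Category.assoc, hc, hd, Category.comp_id]
  · have h2 : η' ≫ (d ≫ c - 𝟙 K') = 0 := by
      rw [Preadditive.comp_sub, ← Category.assoc, hd, hc, Category.comp_id, sub_self]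
    have h3 := hinj K' hK' _ h2
    exact sub_eq_zero.1 h3

end Groth.Agent.H35.DerCompCrit
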