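import Groth.Agent.H35.DerCompKos
import Groth.Agent.H35.DerCompAdj
import Groth.Agent.S7058

/-!
# A Koszul criterion for left orthogonality to derived complete objects (helper35)

* `bijective_of_LO` : if the cone of `η' : K ⟶ K'` is left orthogonal to derived complete objects,
  restriction along `η'` is bijective on maps to derived complete objects;
* `LO_of_isConeMul` : if the cone of `f : W → W` (`f ∈ I`) is left orthogonal, so is `W`
  (uses the existence of derived completions);
* `LO_of_isKos_zero` : if an iterated cone of `W` along elements of `I` vanishes, `W` is left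
  orthogonal to derived complete objects.
-/

set_option autoImplicit false
set_option linter.unusedSectionVars false
universe u
open CategoryTheory CategoryTheory.Limits Pretriangulated
attribute [local instance] HasDerivedCategory.standard

namespace Groth.Agent.H35.DerCompKos2

open DRing DerivedCategory Groth.Agent.H35 Groth.Agent.H35.DerCompKos Groth.Agent.H35.DerCompAdj

variable {A : Type u} [CommRing A] (I : Ideal A)

lemma hom_shift_neg_one_eq_zero {Y : Dual.D A} (hY : LO I Y) (L : Dual.D A)
    (hL : IsDerivedComplete I L) (g : Y⟦(-1 : ℤ)⟧ ⟶ L) : g = 0 := by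
  let e : (Y⟦(-1 : ℤ)⟧)⟦(1 : ℤ)⟧ ≅ Y :=
    (shiftFunctorCompIsoId (Dual.D A) (-1 : ℤ) 1 (by norm_num)).app Y
  apply (shiftFunctor (Dual.D A) (1 : ℤ)).map_injective
  have h0 : e.inv ≫ g⟦(1 : ℤ)⟧' = 0 := hY _ (isDerivedComplete_shift I hL 1) _
  rw [Functor.map_zero, ← cancel_epi e.inv, h0, comp_zero]

/-- If the cone of `η'` is left orthogonal to derived complete objects, restriction along `η'`
is bijective on maps to derived complete objects. -/
theorem bijective_of_LO {K K' Y : Dual.D A} (η' : K ⟶ K') (q : K' ⟶ Y) (δ : Y ⟶ K⟦(1 : ℤ)⟧)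
    (hT : Triangle.mk η' q δ ∈ distTriang (Dual.D A)) (hY : LO I Y)
    (L : Dual.D A) (hL : IsDerivedComplete I L) :
    Function.Bijective (fun φ : K' ⟶ L => η' ≫ φ) := by
  constructor
  · intro x x' hxx'
    have hx : η' ≫ (x - x') = 0 := by
      rw [Preadditive.comp_sub]
      exact sub_eq_zero.2 hxx'
    obtain ⟨y, hy⟩ : ∃ y : Y ⟶ L, x - x' = q ≫ y := Triangle.yoneda_exact₂ _ hT _ hx
    rw [hY L hL y, comp_zero] at hy
    exact sub_eq_zero.1 hy
  · intro x
    have hT' := inv_rot_of_distTriang _ hT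
    have h1 : (Triangle.mk η' q δ).invRotate.mor₁ ≫ x = 0 :=
      hom_shift_neg_one_eq_zero I hY L hL _
    obtain ⟨x', hx'⟩ := Triangle.yoneda_exact₂ _ hT' x h1
    exact ⟨x', hx'.symm⟩

variable [HasDerivedCompletion I]

/-- If the cone of multiplication by `f ∈ I` on `W` is left orthogonal to derived complete
objects, so is `W`. -/
theorem LO_of_isConeMul {f : A} (hf : f ∈ I) {W W₁ : Dual.D A} (hc : IsConeMul f W W₁)
    (h₁ : LO I W₁) : LO I W := by
  obtain ⟨p, d, hT⟩ := hc
  have hC := isDerivedComplete_comp I W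
  obtain ⟨z, hz⟩ := (bijective_of_LO I (f • 𝟙 W) p d hT h₁ (comp I W) hC).2
    (toDerivedCompletion I W)
  have hz' : f • z = toDerivedCompletion I W := by
    rw [← smul_id_comp]
    exact hz
  obtain ⟨y, hy⟩ := lift_surjective I W (comp I W) hC z
  have h2 : f • y = 𝟙 (comp I W) := by
    apply lift_injective I W (comp I W) hC
    rw [Linear.comp_smul, hy, hz', Category.comp_id]
  have hiso : IsIso (f • 𝟙 (comp I W)) :=
    ⟨⟨y, by rw [smul_id_comp, h2], by rw [comp_smul_id, h2]⟩⟩
  have hz0 : IsZero (comp I W) :=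
    Groth.Agent.S7058.isZero_of_isIso_smul_id I (comp I W) hC f hf hiso
  intro L hL x
  obtain ⟨x', hx'⟩ := lift_surjective I W L hL x
  rw [← hx', hz0.eq_of_src x' 0, comp_zero]

/-- If an iterated cone of `W` along elements of `I` vanishes, `W` is left orthogonal to derived
complete objects. -/
theorem LO_of_isKos_zero (l : List A) (hl : ∀ a ∈ l, a ∈ I) : ∀ W W₀ : Dual.D A,
    IsKos l W W₀ → IsZero W₀ → LO I W := by
  induction l with
  | nil =>
    intro W W₀ ⟨e⟩ h0 L _ x
    exact (h0.of_iso e).eq_of_src _ _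
  | cons f l ih =>
    intro W W₀ ⟨W₁, h₁, h'⟩ h0
    have hW₁ : LO I W₁ := ih (fun a ha => hl a (List.mem_cons_of_mem _ ha)) W₁ W₀ h' h0
    exact LO_of_isConeMul I (hl f List.mem_cons_self) h₁ hW₁

end Groth.Agent.H35.DerCompKos2
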