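import Groth.Agent.H35.LBC2
import Groth.Agent.H35.DerSeq
import Groth.Agent.S7058
import Groth.Agent.H12.FlatCxLES
import Groth.Agent.H53.LBaseChange

/-!
# Derived Nakayama (helper35)

For a finitely generated ideal `I = (f₁, …, f_r)` and a derived complete `K ∈ D(A)`,
vanishing of `H^i(K ⊗^L A/I)` for `i ≥ m` implies vanishing of `H^i(K)` for `i ≥ m`.
The proof passes through the Koszul-type cones `cone(f₁ : K → K)`, …
-/

set_option autoImplicit false
universe u
open CategoryTheory CategoryTheory.Limits MonoidalCategory Pretriangulated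
attribute [local instance] HasDerivedCategory.standard

namespace Groth.Agent.H35.DerNak

open DRing DerivedCategory Groth.Agent.H12.FlatCx Groth.Agent.H35.TorAmp

variable {A : Type u} [CommRing A]

/-! ### the long exact sequence, elementwise -/

section LES

variable (P : Cx A) (hP : TermwiseFlat P) {M' M M'' : ModuleCat.{u} A} (a : M' ⟶ M) (b : M ⟶ M'')
  (ha : Function.Injective a.hom) (hb : Function.Surjective b.hom)
  (hab : Function.Exact a.hom b.hom)

lemma subsingleton_T {N : ModuleCat.{u} A} {j : ℤ} (h : (CohIII.tensorObj P N).ExactAt j) :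
    Subsingleton ((CohIII.TFun P j).obj N) := by
  rw [HomologicalComplex.exactAt_iff_isZero_homology] at h
  exact ModuleCat.subsingleton_of_isZero h

include hP ha hb hab

lemma surj_b (j : ℤ) (h : (CohIII.tensorObj P M').ExactAt (j + 1)) :
    Function.Surjective ((CohIII.TFun P j).map b).hom := by
  have := subsingleton_T P h
  intro x
  exact ((T_exact₃ P hP a b ha hb hab j (j + 1) rfl) x).1 (Subsingleton.elim _ _)

lemma inj_b (j : ℤ) (h : (CohIII.tensorObj P M').ExactAt j) :
    Function.Injective ((CohIII.TFun P j).map b).hom := by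
  have := subsingleton_T P h
  intro x y hxy
  have h0 : ((CohIII.TFun P j).map b).hom (x - y) = 0 := by rw [map_sub, hxy, sub_self]
  obtain ⟨z, hz⟩ := ((T_exact₂ P hP a b ha hb hab j) (x - y)).1 h0
  rw [Subsingleton.elim z 0, map_zero] at hz
  exact sub_eq_zero.1 hz.symm

lemma surj_a (j : ℤ) (h : (CohIII.tensorObj P M'').ExactAt j) :
    Function.Surjective ((CohIII.TFun P j).map a).hom := by
  have := subsingleton_T P h
  intro x
  exact ((T_exact₂ P hP a b ha hb hab j) x).1 (Subsingleton.elim _ _)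

lemma inj_a (i j : ℤ) (hij : i + 1 = j) (h : (CohIII.tensorObj P M'').ExactAt i) :
    Function.Injective ((CohIII.TFun P j).map a).hom := by
  have := subsingleton_T P h
  intro x y hxy
  have h0 : ((CohIII.TFun P j).map a).hom (x - y) = 0 := by rw [map_sub, hxy, sub_self]
  obtain ⟨z, hz⟩ := ((T_exact₁ P hP a b ha hb hab i j hij) (x - y)).1 h0
  rw [Subsingleton.elim z 0, map_zero] at hz
  exact sub_eq_zero.1 hz.symm

end LES

/-! ### exactness of mapping cones in a range of degrees -/

section Cone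

variable {X Y : Cx A} (g : X ⟶ Y)

lemma isIso_H_iff (i : ℤ) :
    IsIso ((homologyFunctor (ModuleCat.{u} A) i).map (Q.map g)) ↔
      IsIso (HomologicalComplex.homologyMap g i) :=
  NatIso.isIso_map_iff (homologyFunctorFactors (ModuleCat.{u} A) i) g

lemma epi_H_iff (i : ℤ) :
    Epi ((homologyFunctor (ModuleCat.{u} A) i).map (Q.map g)) ↔
      Epi (HomologicalComplex.homologyMap g i) := by
  have e : Arrow.mk ((homologyFunctor (ModuleCat.{u} A) i).map (Q.map g)) ≅
      Arrow.mk (HomologicalComplex.homologyMap g i) :=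
    Arrow.isoMk ((homologyFunctorFactors (ModuleCat.{u} A) i).app X)
      ((homologyFunctorFactors (ModuleCat.{u} A) i).app Y)
      ((homologyFunctorFactors (ModuleCat.{u} A) i).hom.naturality g).symm
  exact (MorphismProperty.epimorphisms (ModuleCat.{u} A)).arrow_mk_iso_iff e

lemma exactAt_cone_of (m : ℤ)
    (hiso : ∀ i : ℤ, m < i → IsIso (HomologicalComplex.homologyMap g i))
    (hepi : Epi (HomologicalComplex.homologyMap g m)) :
    ∀ i : ℤ, m ≤ i → (CochainComplex.mappingCone g).ExactAt i := by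
  intro i hi
  rw [exactAt_iff_isZero_H]
  exact Groth.Agent.H53.LBaseChange.isZero_obj₃_of_nIso _ (mappingCone_triangle_distinguished g) m
    (fun j hj => (isIso_H_iff g j).2 (hiso j hj)) ((epi_H_iff g m).2 hepi) i hi

lemma of_exactAt_cone (m : ℤ)
    (h : ∀ i : ℤ, m ≤ i → (CochainComplex.mappingCone g).ExactAt i) :
    (∀ i : ℤ, m < i → IsIso (HomologicalComplex.homologyMap g i)) ∧
      Epi (HomologicalComplex.homologyMap g m) := by
  obtain ⟨h1, h2⟩ := Groth.Agent.H53.LBaseChange.nIso_of_isZero_obj₃ _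
    (mappingCone_triangle_distinguished g) m
    (fun i hi => (exactAt_iff_isZero_H _ i).1 (h i hi))
  exact ⟨fun i hi => (isIso_H_iff g i).1 (h1 i hi), (epi_H_iff g m).1 h2⟩

end Cone

/-! ### the Koszul step -/

section Step

/-- multiplication by `f` on a module -/
noncomputable def mulM (f : A) (M : ModuleCat.{u} A) : M ⟶ M :=
  ModuleCat.ofHom (LinearMap.lsmul A M f)

/-- multiplication by `f` on a complex -/
noncomputable def mulCx (f : A) (P : Cx A) : P ⟶ P := f • 𝟙 P

lemma map_mulCx (f : A) (P : Cx A) (M : ModuleCat.{u} A) :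
    ((tensorRight M).mapHomologicalComplex (ComplexShape.up ℤ)).map (mulCx f P) =
      CohIII.tensorMap P (mulM f M) := by
  ext i : 1
  apply ModuleCat.hom_ext
  apply TensorProduct.ext'
  intro x y
  show (f • x) ⊗ₜ[A] y = x ⊗ₜ[A] (f • y)
  rw [TensorProduct.smul_tmul]

lemma pow_sup_le (J F : Ideal A) (k : ℕ) : (J ⊔ F) ^ k ≤ J ^ k ⊔ F := by
  induction k with
  | zero => simp
  | succ k ih =>
    rw [pow_succ, pow_succ]
    refine (Ideal.mul_mono_left ih).trans ?_
    rw [Ideal.sup_mul, Ideal.mul_sup, Ideal.mul_sup]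
    refine sup_le (sup_le le_sup_left ?_) (sup_le ?_ ?_)
    · exact le_sup_of_le_right Ideal.mul_le_right
    · exact le_sup_of_le_right Ideal.mul_le_left
    · exact le_sup_of_le_right Ideal.mul_le_right

/-- `N` is killed by a power of `I'`. -/
def Tors (I' : Ideal A) (N : ModuleCat.{u} A) : Prop :=
  ∃ k : ℕ, ∀ a ∈ I' ^ k, ∀ x : N, a • x = 0

lemma step (P : Cx A) (hP : TermwiseFlat P) (f : A) (J : Ideal A) (m : ℤ)
    (h : ∀ N : ModuleCat.{u} A, Tors (J ⊔ Ideal.span {f}) N →
      ∀ i : ℤ, m ≤ i → (CohIII.tensorObj P N).ExactAt i)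
    (M : ModuleCat.{u} A) (hM : Tors J M) :
    ∀ i : ℤ, m ≤ i →
      (CohIII.tensorObj (CochainComplex.mappingCone (mulCx f P)) M).ExactAt i := by
  obtain ⟨k, hk⟩ := hM
  let φ : M →ₗ[A] M := LinearMap.lsmul A M f
  let N1 : ModuleCat.{u} A := ModuleCat.of A (LinearMap.ker φ)
  let N2 : ModuleCat.{u} A := ModuleCat.of A (LinearMap.range φ)
  let N3 : ModuleCat.{u} A := ModuleCat.of A (M ⧸ LinearMap.range φ)
  have hdec : ∀ a ∈ (J ⊔ Ideal.span {f}) ^ k, ∃ b ∈ J ^ k, ∃ r : A, b + r * f = a := by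
    intro a ha
    obtain ⟨b, hb, c, hc, hbc⟩ := Submodule.mem_sup.1 (pow_sup_le J (Ideal.span {f}) k ha)
    obtain ⟨r, hr⟩ := Ideal.mem_span_singleton'.1 hc
    exact ⟨b, hb, r, by rw [hr, hbc]⟩
  have hN1 : Tors (J ⊔ Ideal.span {f}) N1 := by
    refine ⟨k, fun a ha x => ?_⟩
    obtain ⟨b, hb, r, rfl⟩ := hdec a ha
    apply Subtype.ext
    have hx : f • (x : M) = 0 := x.2
    show (b + r * f) • (x : M) = 0
    rw [add_smul, hk b hb, mul_smul, hx, smul_zero, add_zero]
  have hN3 : Tors (J ⊔ Ideal.span {f}) N3 := by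
    refine ⟨k, fun a ha x => ?_⟩
    obtain ⟨b, hb, r, rfl⟩ := hdec a ha
    obtain ⟨y, rfl⟩ := Submodule.Quotient.mk_surjective (LinearMap.range φ) x
    rw [← Submodule.Quotient.mk_smul, Submodule.Quotient.mk_eq_zero, add_smul, hk b hb, zero_add,
      mul_smul, smul_comm]
    exact ⟨r • y, rfl⟩
  let a1 : N1 ⟶ M := ModuleCat.ofHom (LinearMap.ker φ).subtype
  let b1 : M ⟶ N2 := ModuleCat.ofHom φ.rangeRestrict
  let a2 : N2 ⟶ M := ModuleCat.ofHom (LinearMap.range φ).subtype
  let b2 : M ⟶ N3 := ModuleCat.ofHom (LinearMap.range φ).mkQ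
  have ha1 : Function.Injective a1.hom := Subtype.val_injective
  have hb1 : Function.Surjective b1.hom := φ.surjective_rangeRestrict
  have hab1 : Function.Exact a1.hom b1.hom := by
    intro x
    constructor
    · intro hx
      exact ⟨⟨x, by
        have := congrArg Subtype.val hx
        exact this⟩, rfl⟩
    · rintro ⟨y, rfl⟩
      exact Subtype.ext y.2
  have ha2 : Function.Injective a2.hom := Subtype.val_injective
  have hb2 : Function.Surjective b2.hom := (LinearMap.range φ).mkQ_surjective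
  have hab2 : Function.Exact a2.hom b2.hom := LinearMap.exact_subtype_mkQ (LinearMap.range φ)
  have hcomp : b1 ≫ a2 = mulM f M := rfl
  have hmap : ∀ i : ℤ, HomologicalComplex.homologyMap (CohIII.tensorMap P (mulM f M)) i =
      (CohIII.TFun P i).map b1 ≫ (CohIII.TFun P i).map a2 := by
    intro i
    rw [← Functor.map_comp, hcomp]
    rfl
  have hsurj : ∀ i : ℤ, m ≤ i → Function.Surjective
      (HomologicalComplex.homologyMap (CohIII.tensorMap P (mulM f M)) i).hom := by
    intro i hi
    rw [hmap]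
    exact (surj_a P hP a2 b2 ha2 hb2 hab2 i (h N3 hN3 i hi)).comp
      (surj_b P hP a1 b1 ha1 hb1 hab1 i (h N1 hN1 (i + 1) (by omega)))
  have hinj : ∀ i : ℤ, m < i → Function.Injective
      (HomologicalComplex.homologyMap (CohIII.tensorMap P (mulM f M)) i).hom := by
    intro i hi
    rw [hmap]
    exact (inj_a P hP a2 b2 ha2 hb2 hab2 (i - 1) i (by omega) (h N3 hN3 (i - 1) (by omega))).comp
      (inj_b P hP a1 b1 ha1 hb1 hab1 i (h N1 hN1 i (by omega)))
  intro i hi
  have hc := exactAt_cone_of (CohIII.tensorMap P (mulM f M)) m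
    (fun j hj => (ConcreteCategory.isIso_iff_bijective _).2 ⟨hinj j hj, hsurj j hj.le⟩)
    ((ModuleCat.epi_iff_surjective _).2 (hsurj m le_rfl)) i hi
  rw [← map_mulCx] at hc
  exact hc.of_iso (CochainComplex.mappingCone.mapHomologicalComplexIso (mulCx f P)
    (tensorRight M)).symm

end Step

/-! ### the induction -/

section Main

lemma isDerivedComplete_cone (I : Ideal A) (f : A) (P : Cx A)
    (hc : DRing.IsDerivedComplete I (toD P)) :
    DRing.IsDerivedComplete I (toD (CochainComplex.mappingCone (mulCx f P))) := by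
  intro g hg n
  exact Groth.Agent.H35.homVanish_obj₃ _ (mappingCone_triangle_distinguished (mulCx f P)) _ n
    (hc g hg n) (hc g hg (n + 1))

lemma exactAt_of_epi_mul (I : Ideal A) (f : A) (hf : f ∈ I) (P : Cx A)
    (hc : DRing.IsDerivedComplete I (toD P)) (i : ℤ)
    (hepi : Epi (HomologicalComplex.homologyMap (mulCx f P) i)) : P.ExactAt i := by
  have hsc := (Groth.Agent.H35.isDerivedComplete_iff_seqComplete I (toD P)).1 hc f hf i
  have h1 : Epi ((homologyFunctor (ModuleCat.{u} A) i).map (Q.map (mulCx f P))) :=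
    (epi_H_iff _ i).2 hepi
  have h2 : Q.map (mulCx f P) = f • 𝟙 (Q.obj P) := by
    unfold mulCx
    rw [Functor.map_smul, CategoryTheory.Functor.map_id]
  rw [h2, Groth.Agent.S7058.homologyFunctor_map_smul_id] at h1
  have h3 := (ModuleCat.epi_iff_surjective _).1 h1
  have : Subsingleton (Dual.HD A (toD P) i) :=
    hsc.subsingleton_of_smul_surjective (fun x => h3 x)
  rw [exactAt_iff_isZero_H]
  exact ModuleCat.isZero_of_subsingleton _

theorem main (I : Ideal A) (m : ℤ) :
    ∀ (fs : List A), (∀ g ∈ fs, g ∈ I) → ∀ (P : Cx A), TermwiseFlat P →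
      DRing.IsDerivedComplete I (toD P) →
      (∀ N : ModuleCat.{u} A, Tors (Ideal.span {g | g ∈ fs}) N →
        ∀ i : ℤ, m ≤ i → (CohIII.tensorObj P N).ExactAt i) →
      ∀ i : ℤ, m ≤ i → P.ExactAt i := by
  intro fs
  induction fs with
  | nil =>
    intro _ P _ _ h i hi
    refine Groth.Agent.H35.LBC.exactAt_of_tensor_unit P i (h _ ⟨1, fun a ha x => ?_⟩ i hi)
    have h0 : ({g | g ∈ ([] : List A)} : Set A) = ∅ := by
      ext g
      simp
    rw [h0, Ideal.span_empty, pow_one] at ha
    rw [(Ideal.mem_bot).1 ha, zero_smul]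
  | cons f fs ih =>
    intro hI P hP hc h i hi
    have hset : Ideal.span {g | g ∈ f :: fs} = Ideal.span {g | g ∈ fs} ⊔ Ideal.span {f} := by
      have h0 : ({g | g ∈ f :: fs} : Set A) = insert f {g | g ∈ fs} := by
        ext g
        simp
      rw [h0, Ideal.span_insert, sup_comm]
    rw [hset] at h
    have h1 := ih (fun g hg => hI g (List.mem_cons_of_mem f hg))
      (CochainComplex.mappingCone (mulCx f P)) (flat_mappingCone _ hP hP)
      (isDerivedComplete_cone I f P hc)
      (fun N hN => step P hP f _ m h N hN)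
    obtain ⟨-, h2⟩ := of_exactAt_cone (mulCx f P) i (fun j hj => h1 j (by omega))
    exact exactAt_of_epi_mul I f (hI f List.mem_cons_self) P hc i h2

end Main

/-! ### derived Nakayama -/

section Nak

open Groth.Agent.H35.LBC Groth.Agent.H35.FlatBC Groth.Agent.H35.KFlatBC

theorem derNak (I : Ideal A) (hI : I.FG) [DRing.HasLTensor A (ModuleCat.of A (A ⧸ I))]
    (K : Dual.D A) (hc : DRing.IsDerivedComplete I K) (m : ℤ)
    (h : ∀ i : ℤ, m ≤ i → IsZero ((homologyFunctor (ModuleCat.{u} A) i).obj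
      ((DRing.LTensor A (ModuleCat.of A (A ⧸ I))).obj K))) :
    ∀ i : ℤ, m ≤ i → IsZero ((homologyFunctor (ModuleCat.{u} A) i).obj K) := by
  obtain ⟨P, hPK, hPfl, ⟨e⟩⟩ := exists_kflat_model K
  have hc' : DRing.IsDerivedComplete I (toD P) := fun g hg n =>
    Groth.Agent.H35.subsingleton_hom_of_iso ((shiftFunctor (Dual.D A) n).mapIso e.symm) (hc g hg n)
  obtain ⟨s, hs⟩ := hI
  have hs' : Ideal.span {g | g ∈ s.toList} = I := by
    have h0 : ({g | g ∈ s.toList} : Set A) = (s : Set A) := by
      ext g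
      simp
    rw [h0]
    exact hs
  let φ : A →+* A ⧸ I := Ideal.Quotient.mk I
  have hφ : Function.Surjective φ := Ideal.Quotient.mk_surjective
  -- the base change to `A ⧸ I` has no cohomology in degrees `≥ m`
  have hext : ∀ j : ℤ, m ≤ j → ((extCx φ).obj P).ExactAt j := by
    intro j hj
    rw [exactAt_ext_iff_tensor φ P j, exactAt_tensor_iff_of_module_iso P (resQuotIso I) j]
    exact (Groth.Agent.S6945.isZero_H_iff (ModuleCat.of A (A ⧸ I)) P hPK e j).1 (h j hj)
  have hLE : (toD ((extCx φ).obj P)).IsLE (m - 1) := by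
    rw [DerivedCategory.isLE_iff]
    intro j hj
    exact (exactAt_iff_isZero_H _ j).1 (hext j (by omega))
  have hKext : DRing.IsKFlat (A ⧸ I) ((extCx φ).obj P) := isKFlat_extCx φ P hPK
  have hmain := main I m s.toList
    (fun g hg => by rw [← hs']; exact Ideal.subset_span hg) P hPfl hc'
    (fun N hN i hi => by
      obtain ⟨k, hk⟩ := hN
      rw [hs'] at hk
      refine exactAt_tensor_of_pow P hPfl I i (fun N' hN' => ?_) k N hk
      refine exactAt_tensor_of_killed φ hφ P i (fun N'' => ?_) N' (fun a ha x => ?_)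
      · exact exactAt_tensor_of_isLE ((extCx φ).obj P) hKext (m - 1) hLE N'' i (by omega)
      · rw [Ideal.mk_ker] at ha
        exact hN' a ha x)
  intro i hi
  exact ((exactAt_iff_isZero_H P i).1 (hmain i hi)).of_iso
    ((homologyFunctor (ModuleCat.{u} A) i).mapIso e.symm)

end Nak

end Groth.Agent.H35.DerNak
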