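import Groth.Prelude.Def_EtMil
import Mathlib.RingTheory.TensorProduct.Basic
import Mathlib.LinearAlgebra.TensorProduct.RightExactness
import Mathlib.LinearAlgebra.Isomorphisms

set_option autoImplicit false
universe u
open TensorProduct

namespace Groth.Agent.H35

section Surj

variable {R S : Type u} [CommRing R] [CommRing S] [Algebra R S]
variable {M : Type u} [AddCommGroup M] [Module R M]

/-- If `R → S` is surjective, every element of `S ⊗[R] M` is of the form `1 ⊗ m`. -/
theorem exists_one_tmul_of_surjective (hs : Function.Surjective (algebraMap R S))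
    (t : S ⊗[R] M) : ∃ m : M, t = (1 : S) ⊗ₜ[R] m := by
  induction t using TensorProduct.induction_on with
  | zero => exact ⟨0, by simp⟩
  | tmul s m =>
    obtain ⟨r, rfl⟩ := hs s
    refine ⟨r • m, ?_⟩
    rw [← TensorProduct.smul_tmul, Algebra.smul_def, mul_one]
  | add t₁ t₂ h₁ h₂ =>
    obtain ⟨m₁, rfl⟩ := h₁
    obtain ⟨m₂, rfl⟩ := h₂
    exact ⟨m₁ + m₂, by rw [TensorProduct.tmul_add]⟩

/-- Elements of `(ker (R → S)) • ⊤` die in `S ⊗[R] M`. -/
theorem one_tmul_eq_zero_of_mem_ker_smul (w : M)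
    (hw : w ∈ (RingHom.ker (algebraMap R S)) • (⊤ : Submodule R M)) :
    (1 : S) ⊗ₜ[R] w = 0 := by
  refine Submodule.smul_induction_on hw (fun i hi m _ => ?_) (fun a b ha hb => ?_)
  · rw [← TensorProduct.smul_tmul, Algebra.smul_def, mul_one, (RingHom.mem_ker).mp hi,
      TensorProduct.zero_tmul]
  · rw [TensorProduct.tmul_add, ha, hb, add_zero]

/-- If `R → S` is surjective and `1 ⊗ x = 0` in `S ⊗[R] M` then `x ∈ (ker (R → S)) • ⊤`. -/
theorem mem_ker_smul_of_one_tmul_eq_zero (hs : Function.Surjective (algebraMap R S))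
    (x : M) (hx : (1 : S) ⊗ₜ[R] x = 0) :
    x ∈ (RingHom.ker (algebraMap R S)) • (⊤ : Submodule R M) := by
  let I : Ideal R := RingHom.ker (algebraMap R S)
  let Q := M ⧸ (I • (⊤ : Submodule R M))
  let π : R →ₗ[R] S := Algebra.linearMap R S
  have hπ : Function.Surjective π := hs
  let γ : R →ₗ[R] (M →ₗ[R] Q) :=
    LinearMap.toSpanSingleton R (M →ₗ[R] Q) (I • (⊤ : Submodule R M)).mkQ
  have hγ : LinearMap.ker π ≤ LinearMap.ker γ := by
    intro a ha
    have ha' : a ∈ I := by
      have : algebraMap R S a = 0 := ha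
      exact (RingHom.mem_ker).mpr this
    rw [LinearMap.mem_ker]
    apply LinearMap.ext
    intro m
    simp only [γ, LinearMap.toSpanSingleton_apply, LinearMap.smul_apply, Submodule.mkQ_apply,
      LinearMap.zero_apply]
    rw [← Submodule.Quotient.mk_smul, Submodule.Quotient.mk_eq_zero]
    exact Submodule.smul_mem_smul ha' trivial
  let β : S →ₗ[R] (M →ₗ[R] Q) :=
    (Submodule.liftQ (LinearMap.ker π) γ hγ) ∘ₗ (LinearMap.quotKerEquivOfSurjective π hπ).symm
  have hβ : β 1 = (I • (⊤ : Submodule R M)).mkQ := by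
    have h1 : (LinearMap.quotKerEquivOfSurjective π hπ).symm 1 =
        Submodule.Quotient.mk (1 : R) := by
      rw [LinearEquiv.symm_apply_eq]
      change (1 : S) = (LinearMap.quotKerEquivOfSurjective π hπ) (Submodule.Quotient.mk (1 : R))
      rw [LinearMap.quotKerEquivOfSurjective_apply_mk]
      simp [π]
    simp only [β, LinearMap.comp_apply, LinearEquiv.coe_coe, h1, Submodule.liftQ_apply]
    simp [γ]
  have h2 : TensorProduct.lift β ((1 : S) ⊗ₜ[R] x) = Submodule.Quotient.mk x := by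
    rw [TensorProduct.lift.tmul, hβ, Submodule.mkQ_apply]
  rw [hx, map_zero] at h2
  exact (Submodule.Quotient.mk_eq_zero _).mp h2.symm

/-- Surjective linear maps lift elements of `I • ⊤`. -/
theorem exists_mem_smul_top_of_surjective {M₁ M₂ : Type u} [AddCommGroup M₁] [Module R M₁]
    [AddCommGroup M₂] [Module R M₂] (I : Ideal R) (v : M₁ →ₗ[R] M₂) (hv : Function.Surjective v)
    (x : M₂) (hx : x ∈ I • (⊤ : Submodule R M₂)) :
    ∃ w ∈ I • (⊤ : Submodule R M₁), v w = x := by
  refine Submodule.smul_induction_on hx (fun i hi m _ => ?_) (fun a b ha hb => ?_)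
  · obtain ⟨m₁, rfl⟩ := hv m
    exact ⟨i • m₁, Submodule.smul_mem_smul hi trivial, map_smul _ _ _⟩
  · obtain ⟨wa, hwa, rfl⟩ := ha
    obtain ⟨wb, hwb, rfl⟩ := hb
    exact ⟨wa + wb, Submodule.add_mem _ hwa hwb, map_add _ _ _⟩

end Surj

section FibreSquare

variable {B' B A' A : Type u} [CommRing B'] [CommRing B] [CommRing A'] [CommRing A]
  [Algebra B' B] [Algebra B' A'] [Algebra B A] [Algebra A' A]

/-- In a fibre square with `A' → A` surjective, `B' → B` is surjective. -/
theorem fibreSquare_surjective_left (hsq : EtMil.IsFibreSquare B' B A' A) :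
    Function.Surjective (algebraMap B' B) := by
  intro b
  obtain ⟨a', ha'⟩ := hsq.1 (algebraMap B A b)
  obtain ⟨b', ⟨hb', _⟩, _⟩ := hsq.2 b a' ha'.symm
  exact ⟨b', hb'⟩

/-- In a fibre square, an element of `ker (A' → A)` lifts to an element of `ker (B' → B)`. -/
theorem fibreSquare_lift_ker (hsq : EtMil.IsFibreSquare B' B A' A) (k : A')
    (hk : algebraMap A' A k = 0) :
    ∃ b' : B', algebraMap B' B b' = 0 ∧ algebraMap B' A' b' = k := by
  obtain ⟨b', ⟨h1, h2⟩, _⟩ := hsq.2 0 k (by rw [map_zero, hk])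
  exact ⟨b', h1, h2⟩

end FibreSquare

end Groth.Agent.H35
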