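import Mathlib
import Groth.Agent.H35.LBC

/-!
More on derived base change along surjections (helper35).
-/

set_option autoImplicit false
universe u
open CategoryTheory CategoryTheory.Limits MonoidalCategory Pretriangulated TensorProduct
attribute [local instance] HasDerivedCategory.standard

namespace Groth.Agent.H35.LBC

open DRing DerivedCategory Groth.Agent.H31 Groth.Agent.H35.TorAmp
  Groth.Agent.H35.FlatBC Groth.Agent.H35.KFlatBC

variable {A B : Type u} [CommRing A] [CommRing B] (φ : A →+* B)

/-- A K-flat complex with cohomology bounded above by `c`: its tensor products have no cohomology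
above `c`. -/
lemma exactAt_tensor_of_isLE (Q' : Cx B) (hQ : DRing.IsKFlat B Q') (c : ℤ)
    (h : (toD Q').IsLE c) (N' : ModuleCat.{u} B) (i : ℤ) (hi : c < i) :
    (CohIII.tensorObj Q' N').ExactAt i := by
  haveI := h
  obtain ⟨E, hE, hEfree, ⟨eE⟩⟩ := exists_free_model_of_isLE (toD Q') c
  have hEK : DRing.IsKFlat B E :=
    KFlatRing.isKFlat_of_bounded_above_flat E c hE (free_flat E hEfree)
  rw [exactAt_tensor_iff_of_iso hQ hEK eE.symm N' i]
  exact ShortComplex.exact_of_isZero_X₂ _ ((tensorRight N').map_isZero (hE i hi))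

/-- Modules killed by the kernel of a surjection. -/
lemma exactAt_tensor_of_killed (hφ : Function.Surjective φ) (P : Cx A) (j : ℤ)
    (h : ∀ N' : ModuleCat.{u} B, (CohIII.tensorObj ((extCx φ).obj P) N').ExactAt j)
    (N : ModuleCat.{u} A) (hN : ∀ a ∈ RingHom.ker φ, ∀ x : N, a • x = 0) :
    (CohIII.tensorObj P N).ExactAt j := by
  obtain ⟨N', ⟨e⟩⟩ := exists_res_iso φ hφ N hN
  rw [← exactAt_tensor_iff_of_module_iso P e j, ← exactAt_tensor_ext_iff φ P N' j]
  exact h N'

/-- `P ⊗_A B` as the tensor product with the `A`-module `B`. -/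
lemma exactAt_ext_iff_tensor (P : Cx A) (i : ℤ) :
    ((extCx φ).obj P).ExactAt i ↔
      (CohIII.tensorObj P ((Res φ).obj (𝟙_ (ModuleCat.{u} B)))).ExactAt i := by
  rw [← exactAt_tensor_ext_iff φ P (𝟙_ _) i]
  exact ⟨fun h => h.of_iso (Groth.Agent.S6945.unitIso _).symm,
    fun h => h.of_iso (Groth.Agent.S6945.unitIso _)⟩

/-- `R ⧸ I` restricted along the quotient map is the `R`-module `R ⧸ I`. -/
noncomputable def resQuotIso {R : Type u} [CommRing R] (I : Ideal R) :
    (Res (Ideal.Quotient.mk I)).obj (𝟙_ (ModuleCat.{u} (R ⧸ I))) ≅ ModuleCat.of R (R ⧸ I) :=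
  LinearEquiv.toModuleIso
    ({ toFun := fun x => x
       invFun := fun x => x
       map_add' := fun _ _ => rfl
       map_smul' := fun r x => by
         obtain ⟨y, rfl⟩ := Ideal.Quotient.mk_surjective x
         rfl
       left_inv := fun _ => rfl
       right_inv := fun _ => rfl } :
      ((Res (Ideal.Quotient.mk I)).obj (𝟙_ (ModuleCat.{u} (R ⧸ I)))) ≃ₗ[R] (R ⧸ I))

end Groth.Agent.H35.LBC
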