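import Mathlib
import Groth.Agent.H35.LBC2
import Groth.Agent.H35.TorDescent
import Groth.Agent.H35.PerfAmp

/-!
Fibrewise exactness over a local ring splits a complex of finite free modules (helper35).
-/

set_option autoImplicit false
universe u
open CategoryTheory CategoryTheory.Limits MonoidalCategory Pretriangulated TensorProduct
attribute [local instance] HasDerivedCategory.standard

namespace Groth.Agent.H35.LBC

open DRing DerivedCategory Groth.Agent.H31 Groth.Agent.H35.TorAmp
  Groth.Agent.H35.FlatBC Groth.Agent.H35.KFlatBC

section Local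

variable {R : Type u} [CommRing R] [IsLocalRing R]
variable {F1 F2 F3 : Type u} [AddCommGroup F1] [Module R F1] [AddCommGroup F2] [Module R F2]
  [AddCommGroup F3] [Module R F3] [Module.Finite R F2] [Module.Finite R F3] [Module.Free R F3]

open IsLocalRing in
/-- If `F1 → F2 → F3` (with `F2` finite, `F3` finite free) becomes exact after tensoring with the
residue field, then it is exact and the cokernel of `F2 → F3` is free. -/
theorem exact_and_free_of_exact_lTensor (f : F1 →ₗ[R] F2) (g : F2 →ₗ[R] F3) (hgf : g ∘ₗ f = 0)
    (hex : Function.Exact (f.lTensor (ResidueField R)) (g.lTensor (ResidueField R))) :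
    Function.Exact f g ∧ Module.Free R (F3 ⧸ LinearMap.range g) := by
  have hle : LinearMap.range f ≤ LinearMap.ker g := by
    rintro _ ⟨x, rfl⟩
    exact LinearMap.congr_fun hgf x
  let q : F2 →ₗ[R] F2 ⧸ LinearMap.range f := (LinearMap.range f).mkQ
  let gbar : (F2 ⧸ LinearMap.range f) →ₗ[R] F3 := (LinearMap.range f).liftQ g hle
  have hgq : gbar ∘ₗ q = g := Submodule.liftQ_mkQ _ _ _
  have hqf : q ∘ₗ f = 0 := by
    ext x
    exact (Submodule.Quotient.mk_eq_zero _).2 ⟨x, rfl⟩
  have hinj : Function.Injective (gbar.lTensor (ResidueField R)) := by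
    rw [injective_iff_map_eq_zero]
    intro y hy
    obtain ⟨x, rfl⟩ :=
      LinearMap.lTensor_surjective (ResidueField R) (Submodule.mkQ_surjective (LinearMap.range f)) y
    have h1 : g.lTensor (ResidueField R) x = 0 := by
      rw [← hgq, LinearMap.lTensor_comp]
      exact hy
    obtain ⟨w, rfl⟩ := (hex x).1 h1
    show (q.lTensor (ResidueField R)) ((f.lTensor (ResidueField R)) w) = 0
    rw [← LinearMap.comp_apply, ← LinearMap.lTensor_comp, hqf, LinearMap.lTensor_zero,
      LinearMap.zero_apply]
  obtain ⟨l', hl'⟩ :=
    (IsLocalRing.split_injective_iff_lTensor_residueField_injective gbar).2 hinj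
  have hginj : Function.Injective gbar :=
    Function.HasLeftInverse.injective ⟨l', LinearMap.congr_fun hl'⟩
  constructor
  · intro y
    constructor
    · intro hy
      have h2 : gbar (q y) = 0 := by
        rw [← LinearMap.comp_apply, hgq]
        exact hy
      have h3 : q y = 0 := hginj (by rw [h2, map_zero])
      exact (Submodule.Quotient.mk_eq_zero _).1 h3
    · rintro ⟨x, rfl⟩
      exact LinearMap.congr_fun hgf x
  · have hfree := Module.free_of_lTensor_residueField_injective gbar (LinearMap.range gbar).mkQ
      (Submodule.mkQ_surjective _) gbar.exact_map_mkQ_range hinj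
    have hr : LinearMap.range gbar = LinearMap.range g := by
      rw [← hgq, LinearMap.range_comp_of_range_eq_top _ (Submodule.range_mkQ _)]
    rw [hr] at hfree
    exact hfree

end Local

section Trunc

variable {R : Type u} [CommRing R]

/-- `opcycles` as a quotient module. -/
noncomputable def opcyclesIsoQuot (F : Cx R) (a : ℤ) :
    F.opcycles a ≅ ModuleCat.of R (F.X a ⧸ LinearMap.range (F.d (a - 1) a).hom) :=
  IsColimit.coconePointUniqueUpToIso (F.opcyclesIsCokernel (a - 1) a (by simp))
    (ModuleCat.cokernelIsColimit (F.d (a - 1) a))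

/-- A bounded above complex of flat modules which is exact below `a` and has flat `a`-th cokernel
has tor amplitude in `[a, max a c]`. -/
theorem hasTorAmplitudeIn_of_exact_below (F : Cx R) (c : ℤ) (hF : VanishesAbove F c)
    (hfl : TermwiseFlat F) (a : ℤ) (hex : ∀ i, i < a → F.ExactAt i)
    (hW : Module.Flat R (F.opcycles a)) :
    HasTorAmplitudeIn R a (max a c) (toD F) := by
  haveI : F.IsGE a := (CochainComplex.isGE_iff F a).2 hex
  refine ⟨F.truncGE a, ?_, ?_, ⟨(asIso (Q.map (F.πTruncGE a))).symm⟩⟩
  · rintro i (hi | hi)
    · exact CochainComplex.isZero_of_isStrictlyGE (F.truncGE a) a i hi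
    · have h1 : a < i := lt_of_le_of_lt (le_max_left a c) hi
      have h2 : c < i := lt_of_le_of_lt (le_max_right a c) hi
      exact (hF i h2).of_iso (CochainComplex.truncGEXIso F a i h1)
  · intro i
    rcases lt_trichotomy i a with hi | hi | hi
    · have hz := CochainComplex.isZero_of_isStrictlyGE (F.truncGE a) a i hi
      haveI : Subsingleton ((F.truncGE a).X i) := ModuleCat.subsingleton_of_isZero hz
      haveI := Module.Free.of_subsingleton R ((F.truncGE a).X i)
      infer_instance
    · subst hi
      haveI := hW
      exact Module.Flat.of_linearEquiv (CochainComplex.truncGEXIsoOpcycles F i).toLinearEquiv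
    · haveI := hfl i
      exact Module.Flat.of_linearEquiv (CochainComplex.truncGEXIso F a i hi).toLinearEquiv

end Trunc

end Groth.Agent.H35.LBC
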