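import Mathlib
import Groth.Agent.H35.LocalSplit

/-!
Descent of tor amplitude along the localizations at all maximal ideals, and the fibre criterion for
perfectness (helper35).
-/

set_option autoImplicit false
universe u
open CategoryTheory CategoryTheory.Limits MonoidalCategory Pretriangulated TensorProduct
attribute [local instance] HasDerivedCategory.standard

namespace Groth.Agent.H35.LBC

open DRing DerivedCategory Groth.Agent.H31 Groth.Agent.H35.TorAmp Groth.Agent.H12.FlatCx
  Groth.Agent.H35.FlatBC Groth.Agent.H35.KFlatBC Groth.Agent.H35.TorDescent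

variable {R : Type u} [CommRing R]

/-! ### maximal ideals -/

lemma exact_of_forall_maximal {M₁ M₂ M₃ : ModuleCat.{u} R} (v : M₁ ⟶ M₂) (w : M₂ ⟶ M₃)
    (h : ∀ (J : Ideal R) [J.IsMaximal], Function.Exact
      ((ext (algebraMap R (Localization.AtPrime J))).map v).hom
      ((ext (algebraMap R (Localization.AtPrime J))).map w).hom) :
    Function.Exact v.hom w.hom := by
  haveI inst : ∀ (M : ModuleCat.{u} R) (J : Ideal R) [J.IsMaximal], IsLocalizedModule.AtPrime J
      (TensorProduct.mk R (Localization.AtPrime J) M 1) := fun M J _ =>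
    (isLocalizedModule_iff_isBaseChange J.primeCompl (Localization.AtPrime J) _).2
      (TensorProduct.isBaseChange R M _)
  refine exact_of_isLocalized_maximal
    (fun J _ => Localization.AtPrime J ⊗[R] M₁)
    (fun J _ => TensorProduct.mk R (Localization.AtPrime J) M₁ 1)
    (fun J _ => Localization.AtPrime J ⊗[R] M₂)
    (fun J _ => TensorProduct.mk R (Localization.AtPrime J) M₂ 1)
    (fun J _ => Localization.AtPrime J ⊗[R] M₃)
    (fun J _ => TensorProduct.mk R (Localization.AtPrime J) M₃ 1) v.hom w.hom ?_
  intro J hJ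
  have key : ∀ {N₁ N₂ : ModuleCat.{u} R} (z : N₁ ⟶ N₂),
      IsLocalizedModule.map J.primeCompl
        (TensorProduct.mk R (Localization.AtPrime J) N₁ 1)
        (TensorProduct.mk R (Localization.AtPrime J) N₂ 1) z.hom =
      z.hom.lTensor (Localization.AtPrime J) := by
    intro N₁ N₂ z
    refine IsLocalizedModule.linearMap_ext J.primeCompl
      (TensorProduct.mk R (Localization.AtPrime J) N₁ 1)
      (TensorProduct.mk R (Localization.AtPrime J) N₂ 1) ?_
    rw [IsLocalizedModule.map_comp]
    ext m
    simp
  rw [key v, key w]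
  exact exact_lTensor_of_exact_ext v w (h J)

lemma exactAt_of_forall_maximal (P : Cx R) (i : ℤ)
    (h : ∀ (J : Ideal R) [J.IsMaximal],
      ((extCx (algebraMap R (Localization.AtPrime J))).obj P).ExactAt i) : P.ExactAt i := by
  rw [exactAt_iff_elem P (i - 1) i (i + 1) (by omega) rfl]
  have hex := exact_of_forall_maximal (P.d (i - 1) i) (P.d i (i + 1))
    (fun J _ => exact_of_exactAt_ext _ P (i - 1) i (i + 1) (by omega) rfl (h J))
  intro x hx
  exact (hex x).1 hx

/-- Descent of tor amplitude along the localizations at all maximal ideals. -/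
theorem hasTorAmplitudeIn_of_forall_maximal (K : Cx R) (a b : ℤ)
    (hK : ∀ (J : Ideal R) [J.IsMaximal], HasTorAmplitudeIn (Localization.AtPrime J) a b
      (toD ((extCx (algebraMap R (Localization.AtPrime J))).obj K))) :
    HasTorAmplitudeIn R a b (toD K) := by
  have hfm := fun (J : Ideal R) [J.IsMaximal] => hasFlatModel_of_hasTorAmplitudeIn (hK J)
  have hH : HVanish a b (toD K) := by
    intro i hi
    rw [← exactAt_iff_isZero_H]
    refine exactAt_of_forall_maximal K i (fun J _ => ?_)
    rw [exactAt_iff_isZero_H]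
    exact (hfm J).1 i hi
  have hKle : (toD K).IsLE b := by
    rw [isLE_iff]
    intro i hi
    exact hH i (Or.inr hi)
  obtain ⟨F, hF, hfree, ⟨eF⟩⟩ := exists_free_model_of_isLE (toD K) b
  rw [hasTorAmplitudeIn_iff]
  refine ⟨hH, F, b, hF, free_flat F hfree, ⟨eF⟩, ?_⟩
  intro N i hi
  refine exactAt_of_forall_maximal _ i (fun J _ => exactAt_ext_tensor _ F N i ?_)
  obtain ⟨-, P', c', hP', fl', ⟨e'⟩, hT⟩ := hfm J
  have hflat : (algebraMap R (Localization.AtPrime J)).Flat :=
    RingHom.flat_algebraMap_iff.2 inferInstance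
  haveI : PreservesFiniteLimits (ext (algebraMap R (Localization.AtPrime J))) :=
    ModuleCat.preservesFiniteLimits_extendScalars_of_flat hflat
  haveI : PreservesFiniteColimits (ext (algebraMap R (Localization.AtPrime J))) := inferInstance
  have e1 : toD ((extCx (algebraMap R (Localization.AtPrime J))).obj F) ≅
      toD ((extCx (algebraMap R (Localization.AtPrime J))).obj K) :=
    ((ext (algebraMap R (Localization.AtPrime J))).mapDerivedCategoryFactors.app F).symm ≪≫
      (ext (algebraMap R (Localization.AtPrime J))).mapDerivedCategory.mapIso eF ≪≫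
      (ext (algebraMap R (Localization.AtPrime J))).mapDerivedCategoryFactors.app K
  have hT' : TorVanish a b ((extCx (algebraMap R (Localization.AtPrime J))).obj F) :=
    torVanish_of_iso c' b hP' (vanishesAbove_ext _ F b hF) fl'
      (fun i => by
        haveI := hfree i
        exact flat_ext _ (F.X i)) (e' ≪≫ e1.symm) hT
  exact hT' _ i hi

/-! ### improving the upper bound -/

lemma hasTorAmplitudeIn_of_isLE {K : Dual.D R} {a b' b : ℤ} (h : HasTorAmplitudeIn R a b' K)
    (hle : K.IsLE b) : HasTorAmplitudeIn R a b K := by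
  haveI := hle
  obtain ⟨F', hF', hfree', ⟨e'⟩⟩ := exists_free_model_of_isLE K b
  have hK' : DRing.IsKFlat R F' :=
    KFlatRing.isKFlat_of_bounded_above_flat F' b hF' (free_flat F' hfree')
  have hT := torVanish_of_hasTorAmplitudeIn h F' hK' e'
  refine hasTorAmplitudeIn_of_torVanish F' hK' e' (fun N i hi => ?_)
  rcases hi with hi | hi
  · exact hT N i (Or.inl hi)
  · exact ShortComplex.exact_of_isZero_X₂ _ ((tensorRight N).map_isZero (hF' i hi))

/-! ### the local fibre criterion on models -/

theorem hasTorAmplitudeIn_of_residue_exact {S : Type u} [CommRing S] [IsLocalRing S] (F : Cx S)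
    (c : ℤ) (hF : VanishesAbove F c) (hff : TermwiseFiniteFree F) (a b : ℤ)
    (h : ∀ i : ℤ, (i < a ∨ b < i) →
      ((extCx (algebraMap S (IsLocalRing.ResidueField S))).obj F).ExactAt i) :
    HasTorAmplitudeIn S a b (toD F) := by
  have hfree : ∀ i, Module.Free S (F.X i) := fun i => (hff i).2
  have hfl := free_flat F hfree
  have hL : ∀ i : ℤ, (i < a ∨ b < i) →
      Function.Exact (F.d (i - 1) i).hom (F.d i (i + 1)).hom ∧
      Module.Free S (F.X (i + 1) ⧸ LinearMap.range (F.d i (i + 1)).hom) := by
    intro i hi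
    haveI := (hff i).1
    haveI := (hff (i + 1)).1
    haveI := (hff (i + 1)).2
    refine exact_and_free_of_exact_lTensor _ _ ?_ ?_
    · ext x
      exact d_d_apply F (i - 1) i (i + 1) x
    · exact exact_lTensor_of_exact_ext (F.d (i - 1) i) (F.d i (i + 1))
        (exact_of_exactAt_ext _ F (i - 1) i (i + 1) (by omega) rfl (h i hi))
  have hFex : ∀ i : ℤ, (i < a ∨ b < i) → F.ExactAt i := by
    intro i hi
    rw [exactAt_iff_elem F (i - 1) i (i + 1) (by omega) rfl]
    intro x hx
    exact ((hL i hi).1 x).1 hx
  have hW : Module.Flat S (F.opcycles a) := by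
    have h1 := (hL (a - 1) (Or.inl (by omega))).2
    have e1 : (a - 1 + 1) = a := by omega
    have h2 : Module.Free S (F.X a ⧸ LinearMap.range (F.d (a - 1) a).hom) := by
      have := h1
      rw [e1] at this
      exact this
    exact Module.Flat.of_linearEquiv (opcyclesIsoQuot F a).toLinearEquiv
  have h1 := hasTorAmplitudeIn_of_exact_below F c hF hfl a (fun i hi => hFex i (Or.inl hi)) hW
  refine hasTorAmplitudeIn_of_isLE h1 ?_
  rw [isLE_iff]
  intro i hi
  exact (exactAt_iff_isZero_H F i).1 (hFex i (Or.inr hi))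

/-! ### transitivity of extension of scalars -/

lemma exactAt_map_of_exact {A B : Type*} [Category A] [Category B] [Abelian A] [Abelian B]
    (H : A ⥤ B) [H.Additive] [PreservesFiniteLimits H] [PreservesFiniteColimits H]
    (L : CochainComplex A ℤ) (n : ℤ) (h : L.ExactAt n) :
    ((H.mapHomologicalComplex (ComplexShape.up ℤ)).obj L).ExactAt n := by
  rw [HomologicalComplex.exactAt_iff' _ (n - 1) n (n + 1) (by simp) (by simp)]
  have hex : (L.sc' (n - 1) n (n + 1)).Exact :=
    (L.exactAt_iff' _ _ _ (by simp) (by simp)).1 h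
  exact hex.map H

section Comp

variable {A B C D : Type u} [CommRing A] [CommRing B] [CommRing C] [CommRing D]

/-- `(F ⊗_A B) ⊗_B D ≅ F ⊗_A D`. -/
noncomputable def extCxCompIso (f : A →+* B) (g : B →+* D) (F : Cx A) :
    (extCx g).obj ((extCx f).obj F) ≅ (extCx (g.comp f)).obj F :=
  ((NatIso.mapHomologicalComplex (ModuleCat.extendScalarsComp f g) (ComplexShape.up ℤ)).app F).symm

lemma exactAt_ext_ext_of_comm (f : A →+* B) (g : B →+* D) (f' : A →+* C) (g' : C →+* D)
    (hcomm : g.comp f = g'.comp f') (hg' : g'.Flat) (F : Cx A) (i : ℤ)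
    (h : ((extCx f').obj F).ExactAt i) : ((extCx g).obj ((extCx f).obj F)).ExactAt i := by
  haveI : PreservesFiniteLimits (ext g') :=
    ModuleCat.preservesFiniteLimits_extendScalars_of_flat hg'
  haveI : PreservesFiniteColimits (ext g') := inferInstance
  have h1 : ((extCx g').obj ((extCx f').obj F)).ExactAt i := exactAt_map_of_exact (ext g') _ i h
  have h2 : ((extCx (g'.comp f')).obj F).ExactAt i := h1.of_iso (extCxCompIso f' g' F)
  rw [← hcomm] at h2
  exact h2.of_iso (extCxCompIso f g F).symm

end Comp

end Groth.Agent.H35.LBC
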