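import Mathlib
import Groth.Agent.H35.MaxDescent

/-!
The fibre criterion for tor amplitude of pseudo-coherent complexes, on models (helper35).
-/

set_option autoImplicit false
universe u
open CategoryTheory CategoryTheory.Limits MonoidalCategory Pretriangulated TensorProduct
attribute [local instance] HasDerivedCategory.standard

namespace Groth.Agent.H35.LBC

open DRing DerivedCategory Groth.Agent.H31 Groth.Agent.H35.TorAmp Groth.Agent.H12.FlatCx
  Groth.Agent.H35.FlatBC Groth.Agent.H35.KFlatBC Groth.Agent.H35.TorDescent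

variable {R : Type u} [CommRing R]

/-- A bounded above complex of finite free modules whose fibres at all maximal ideals are exact
outside `[a, b]` has tor amplitude in `[a, b]`. -/
theorem hasTorAmplitudeIn_of_fibres (F : Cx R) (c : ℤ) (hF : VanishesAbove F c)
    (hff : TermwiseFiniteFree F) (a b : ℤ)
    (h : ∀ (J : Ideal R) [J.IsMaximal] (i : ℤ), (i < a ∨ b < i) →
      ((extCx (Ideal.Quotient.mk J)).obj F).ExactAt i) :
    HasTorAmplitudeIn R a b (toD F) := by
  refine hasTorAmplitudeIn_of_forall_maximal F a b (fun J hJ => ?_)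
  refine hasTorAmplitudeIn_of_residue_exact _ c (vanishesAbove_ext _ F c hF)
    (fun i => ⟨haveI := (hff i).1; finite_ext _ (F.X i),
      haveI := (hff i).2; free_ext _ (F.X i)⟩) a b (fun i hi => ?_)
  letI : Field (R ⧸ J) := Ideal.Quotient.field J
  have hflat : (algebraMap (R ⧸ J) J.ResidueField).Flat :=
    RingHom.flat_algebraMap_iff.2 inferInstance
  refine exactAt_ext_ext_of_comm (algebraMap R (Localization.AtPrime J))
    (algebraMap (Localization.AtPrime J) (IsLocalRing.ResidueField (Localization.AtPrime J)))
    (Ideal.Quotient.mk J) (algebraMap (R ⧸ J) J.ResidueField) ?_ hflat F i (h J i hi)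
  ext x
  rfl

/-- A pseudo-coherent object with a finite free model as above is perfect. -/
theorem isPerfect_of_fibres (F : Cx R) (c : ℤ) (hF : VanishesAbove F c)
    (hff : TermwiseFiniteFree F) (a b : ℤ)
    (h : ∀ (J : Ideal R) [J.IsMaximal] (i : ℤ), (i < a ∨ b < i) →
      ((extCx (Ideal.Quotient.mk J)).obj F).ExactAt i) :
    IsPerfect R (toD F) :=
  (isPerfect_iff _).2 ⟨⟨F, c, hF, hff, ⟨Iso.refl _⟩⟩, a, b,
    hasTorAmplitudeIn_of_fibres F c hF hff a b h⟩

end Groth.Agent.H35.LBC
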