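import Groth.Agent.H35.TorIndBC
import Groth.Agent.H35.LBC
import Groth.Agent.H56.RestrictPC

/-!
# Flat base change on cohomology (helper35)

For a flat ring map `φ : A → B` the derived base change is computed by the exact functor
`B ⊗_A -`, hence `H^i(K ⊗^L_A B) ≅ B ⊗_A H^i(K)`.

* `nonempty_iso_mapDerivedCategory` : `LBaseChange φ K ≅ (ext φ).mapDerivedCategory K`;
* `nonempty_homology_iso` : `H^i(LBaseChange φ K) ≅ ext φ (H^i K)`;
* `isGE_LBaseChange`, `finite_homology_LBaseChange`.
-/

set_option autoImplicit false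
universe u
open CategoryTheory CategoryTheory.Limits
attribute [local instance] HasDerivedCategory.standard

namespace Groth.Agent.H35.FlatHom

open DerivedCategory Groth.Agent.H35.FlatBC

variable {A B : Type u} [CommRing A] [CommRing B] (φ : A →+* B)
  [PreservesFiniteLimits (ext φ)] [DRing.HasLBaseChange φ]

theorem nonempty_iso_mapDerivedCategory (K : Dual.D A) :
    Nonempty ((DRing.LBaseChange φ).obj K ≅ ((ext φ).mapDerivedCategory).obj K) := by
  obtain ⟨P, hPK, -, ⟨e⟩⟩ := Groth.Agent.H35.LBC.exists_kflat_model K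
  have ia := Groth.Agent.H35.TorIndBC.isIso_aLB_app φ P hPK
  exact ⟨(DRing.LBaseChange φ).mapIso e.symm ≪≫ asIso ((Groth.Agent.H35.TorIndBC.aLB φ).app P) ≪≫
    ((ext φ).mapDerivedCategoryFactors.app P).symm ≪≫ (ext φ).mapDerivedCategory.mapIso e⟩

theorem nonempty_homology_iso (K : Dual.D A) (i : ℤ) :
    Nonempty ((homologyFunctor (ModuleCat.{u} B) i).obj ((DRing.LBaseChange φ).obj K) ≅
      (ext φ).obj ((homologyFunctor (ModuleCat.{u} A) i).obj K)) := by
  obtain ⟨j⟩ := nonempty_iso_mapDerivedCategory φ K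
  exact ⟨(homologyFunctor (ModuleCat.{u} B) i).mapIso j ≪≫
    (Groth.Agent.H56.mapDerivedCategoryHomologyIso (ext φ) i).app K⟩

theorem isGE_LBaseChange (K : Dual.D A) (a : ℤ) (hK : K.IsGE a) :
    ((DRing.LBaseChange φ).obj K).IsGE a := by
  rw [isGE_iff]
  intro i hi
  obtain ⟨e⟩ := nonempty_homology_iso φ K i
  exact IsZero.of_iso ((ext φ).map_isZero (isZero_of_isGE K a i hi)) e

theorem finite_homology_LBaseChange (K : Dual.D A) (i : ℤ)
    (hK : Module.Finite A ((homologyFunctor (ModuleCat.{u} A) i).obj K)) :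
    Module.Finite B ((homologyFunctor (ModuleCat.{u} B) i).obj ((DRing.LBaseChange φ).obj K)) := by
  obtain ⟨e⟩ := nonempty_homology_iso φ K i
  have := finite_ext φ ((homologyFunctor (ModuleCat.{u} A) i).obj K)
  exact Module.Finite.equiv e.symm.toLinearEquiv

end Groth.Agent.H35.FlatHom
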