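import Mathlib
import Groth.Prelude.Def_SGA1

/-!
# (GEO1) free action on geometric points ⇒ the ideals `(σ_g b - b)` are the unit ideal
(helper35, squad piece for helper79, S2920)
-/

set_option autoImplicit false
universe u
open CategoryTheory CategoryTheory.Limits AlgebraicGeometry

namespace Groth.Agent.H35.FreeFlat_GEO1

/-- (GEO1) -/
theorem span_eq_top_of_free {X Y : Scheme.{u}} {G : Type u} [Group G] [Finite G] (ρ : G →* Aut X)
    (p : X ⟶ Y) (hp : SGA1.IsQuot ρ p)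
    (hfree : ∀ (K : Type u) [Field K] [IsAlgClosed K] (ξ : Spec (CommRingCat.of K) ⟶ X) (g : G),
      ξ ≫ (ρ g).hom = ξ → g = 1)
    (V : Y.Opens) (hV : IsAffineOpen V) (g : G) (hg : g ≠ 1) :
    Ideal.span (Set.range fun b : Γ(X, p ⁻¹ᵁ V) =>
      ((ρ g).hom.appLE (p ⁻¹ᵁ V) (p ⁻¹ᵁ V) (SGA1.preimage_le_of_inv ρ p hp.inv g V)).hom b - b) = ⊤ := by
  by_contra hne
  haveI : IsAffineHom p := hp.affine
  have hW : IsAffineOpen (p ⁻¹ᵁ V) := hV.preimage p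
  set σ := ((ρ g).hom.appLE (p ⁻¹ᵁ V) (p ⁻¹ᵁ V) (SGA1.preimage_le_of_inv ρ p hp.inv g V)) with hσ
  obtain ⟨m, hm, hle⟩ := Ideal.exists_le_maximal _ hne
  letI : Field (Γ(X, p ⁻¹ᵁ V) ⧸ m) := Ideal.Quotient.field m
  let K := AlgebraicClosure (Γ(X, p ⁻¹ᵁ V) ⧸ m)
  let φ : Γ(X, p ⁻¹ᵁ V) →+* K :=
    (algebraMap (Γ(X, p ⁻¹ᵁ V) ⧸ m) K).comp (Ideal.Quotient.mk m)
  have hφσ : φ.comp σ.hom = φ := by
    ext b
    have hb : σ.hom b - b ∈ m := hle (Ideal.subset_span ⟨b, rfl⟩)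
    have h0 : Ideal.Quotient.mk m (σ.hom b - b) = 0 := Ideal.Quotient.eq_zero_iff_mem.2 hb
    rw [map_sub, sub_eq_zero] at h0
    show algebraMap _ K (Ideal.Quotient.mk m (σ.hom b)) = algebraMap _ K (Ideal.Quotient.mk m b)
    rw [h0]
  let ξ : Spec (CommRingCat.of K) ⟶ X := Spec.map (CommRingCat.ofHom φ) ≫ hW.fromSpec
  have hξ : ξ ≫ (ρ g).hom = ξ := by
    have h1 := IsAffineOpen.SpecMap_appLE_fromSpec (ρ g).hom hW hW
      (SGA1.preimage_le_of_inv ρ p hp.inv g V)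
    show (Spec.map (CommRingCat.ofHom φ) ≫ hW.fromSpec) ≫ (ρ g).hom =
      Spec.map (CommRingCat.ofHom φ) ≫ hW.fromSpec
    rw [Category.assoc, ← h1, ← Category.assoc, ← Spec.map_comp]
    congr 2
    ext b
    exact congrArg (fun f : Γ(X, p ⁻¹ᵁ V) →+* K => f b) hφσ
  exact hg (hfree K ξ g hξ)

end Groth.Agent.H35.FreeFlat_GEO1
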