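import Mathlib
import Groth.Agent.H46.HomCxPreDefs
import Groth.Agent.H97.HomCxPre_QE

/-!
# (CONE) `g^* : Hom•(Y, J) → Hom•(X, J)` is a quasi-isomorphism when `Hom•(cone g, J)` is acyclic
(helper35, squad piece for helper46, S1818)
-/

set_option autoImplicit false
universe u
open CategoryTheory CategoryTheory.Limits
open CochainComplex.HomComplex
attribute [local instance] HasDerivedCategory.standard

namespace Groth.Agent.H35.HomCxPre_CONE

open Groth.Agent.H46.HomCxPre CochainComplex

variable {A : Type u} [CommRing A]

/-- (CONE) -/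
theorem quasiIso_homCxPre {X Y : DRing.Cx A} (g : X ⟶ Y) (J : DRing.Cx A)
    (hC : ∀ (n : ℤ) (z : Cochain (CochainComplex.mappingCone g) J n), δ n (n + 1) z = 0 →
      ∃ w : Cochain (CochainComplex.mappingCone g) J (n - 1), δ (n - 1) n w = z) :
    QuasiIso (homCxPre g J) := by
  apply Groth.Agent.H97.HomCxPreQE.quasiIso_of_elements
  · -- injectivity
    intro n z hz hy
    obtain ⟨y', hy'⟩ := hy
    change Cochain Y J n at z
    change Cochain X J (n - 1) at y'
    change δ n (n + 1) z = 0 at hz
    change δ (n - 1) n y' = (Cochain.ofHom g).comp z (zero_add n) at hy'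
    show ∃ y : Cochain Y J (n - 1), δ (n - 1) n y = z
    -- the cocycle on the cone
    let γ : Cochain (mappingCone g) J n :=
      mappingCone.descCochain g (-((n + 1).negOnePow • y')) z (by omega)
    have hγ : δ n (n + 1) γ = 0 := by
      rw [mappingCone.δ_descCochain g _ _ (by omega) (n + 1) rfl, hz, δ_neg, δ_units_smul, hy']
      simp
    obtain ⟨w, hw⟩ := hC n γ hγ
    refine ⟨(Cochain.ofHom (mappingCone.inr g)).comp w (zero_add (n - 1)), ?_⟩
    rw [δ_ofHom_comp, hw]
    exact mappingCone.inr_descCochain g _ _ _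
  · -- surjectivity
    intro n z' hz'
    change Cochain X J n at z'
    change δ n (n + 1) z' = 0 at hz'
    show ∃ (z : Cochain Y J n) (y' : Cochain X J (n - 1)), δ n (n + 1) z = 0 ∧
      z' = (Cochain.ofHom g).comp z (zero_add n) + δ (n - 1) n y'
    let γ : Cochain (mappingCone g) J (n + 1) :=
      mappingCone.descCochain g z' (0 : Cochain Y J (n + 1)) rfl
    have hγ : δ (n + 1) (n + 1 + 1) γ = 0 := by
      rw [mappingCone.δ_descCochain g _ _ rfl (n + 1 + 1) rfl, hz']
      simp
    have hC' : ∀ (m k : ℤ) (_ : m + 1 = k) (z : Cochain (mappingCone g) J k),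
        δ k (k + 1) z = 0 → ∃ w : Cochain (mappingCone g) J m, δ m k w = z := by
      intro m k hmk z hz
      obtain rfl : m = k - 1 := by omega
      exact hC k z hz
    obtain ⟨w, hw⟩ := hC' n (n + 1) rfl γ hγ
    -- decompose `w`
    let α' : Cochain X J (n - 1) := (mappingCone.inl g).comp w (by omega)
    let β' : Cochain Y J n := (Cochain.ofHom (mappingCone.inr g)).comp w (zero_add n)
    have hw' : w = mappingCone.descCochain g α' β' (by omega) := by
      rw [mappingCone.ext_cochain_from_iff g (n - 1) n (by omega)]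
      constructor
      · rw [mappingCone.inl_descCochain]
      · rw [mappingCone.inr_descCochain]
    have hβ' : δ n (n + 1) β' = 0 := by
      have h1 : δ n (n + 1) β' = (Cochain.ofHom (mappingCone.inr g)).comp (δ n (n + 1) w)
          (zero_add (n + 1)) := δ_ofHom_comp _ _ _
      rw [h1, hw]
      exact mappingCone.inr_descCochain g _ _ _
    have hα' : δ (n - 1) n α' + (n + 1).negOnePow • (Cochain.ofHom g).comp β' (zero_add n) = z' := by
      have h1 := hw
      rw [hw', mappingCone.δ_descCochain g _ _ (by omega) (n + 1) rfl, hβ'] at h1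
      have h2 := congrArg (fun c => (mappingCone.inl g).comp c (by omega : -1 + (n + 1) = n)) h1
      simpa [γ, mappingCone.descCochain] using h2
    refine ⟨(n + 1).negOnePow • β', α', ?_, ?_⟩
    · rw [δ_units_smul, hβ', smul_zero]
    · rw [Cochain.comp_units_smul, ← hα', add_comm]

end Groth.Agent.H35.HomCxPre_CONE
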