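import Mathlib
import Groth.Agent.H46.HomCxPreDefs

/-!
# (Z) cocycles into a K-injective complex are coboundaries when the Hom in `D(A)` vanishes
(helper35, squad piece for helper46, S1818)
-/

set_option autoImplicit false
universe u
open CategoryTheory CategoryTheory.Limits
open CochainComplex.HomComplex
attribute [local instance] HasDerivedCategory.standard

namespace Groth.Agent.H35.HomCxPre_Z

open DerivedCategory

variable {A : Type u} [CommRing A]

/-- For `J` K-injective, cohomology classes of `Hom•(X, J)` are the morphisms in `D(A)`. -/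
lemma exists_bijective_cohomologyClass (X J : DRing.Cx A) [J.IsKInjective] (n : ℤ) :
    ∃ Ψ : CohomologyClass X J n → (Q.obj X ⟶ (Q.obj J)⟦n⟧), Function.Bijective Ψ := by
  let α : Qh.obj ((HomotopyCategory.quotient _ _).obj X) ≅ Q.obj X :=
    (quotientCompQhIso (ModuleCat.{u} A)).app X
  let β : Qh.obj ((HomotopyCategory.quotient _ _).obj (J⟦n⟧)) ≅ (Q.obj J)⟦n⟧ :=
    (quotientCompQhIso (ModuleCat.{u} A)).app (J⟦n⟧) ≪≫ (Q.commShiftIso n).app J
  exact ⟨_, (Iso.homCongr α β).bijective.comp
    ((CochainComplex.IsKInjective.Qh_map_bijective _ (J⟦n⟧)).comp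
      (CohomologyClass.toHom_bijective X J n))⟩

/-- (Z) -/
theorem exists_coboundary_of_hom_eq_zero (X J : DRing.Cx A) [J.IsKInjective] (n : ℤ)
    (h : ∀ f : DerivedCategory.Q.obj X ⟶ (DerivedCategory.Q.obj J)⟦n⟧, f = 0)
    (z : Cochain X J n) (hz : δ n (n + 1) z = 0) :
    ∃ w : Cochain X J (n - 1), δ (n - 1) n w = z := by
  obtain ⟨Ψ, hΨ⟩ := exists_bijective_cohomologyClass X J n
  haveI : Subsingleton (Q.obj X ⟶ (Q.obj J)⟦n⟧) := ⟨fun f g => by rw [h f, h g]⟩
  haveI : Subsingleton (CohomologyClass X J n) :=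
    (Equiv.ofBijective Ψ hΨ).subsingleton_congr.2 inferInstance
  let zc : Cocycle X J n := Cocycle.mk z (n + 1) rfl hz
  have h0 : CohomologyClass.mk zc = 0 := Subsingleton.elim _ _
  rw [CohomologyClass.mk_eq_zero_iff, mem_coboundaries_iff zc (n - 1) (by omega)] at h0
  exact h0

end Groth.Agent.H35.HomCxPre_Z
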