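import Mathlib
import Groth.Agent.H69.DirColim
import Groth.Agent.H15.NilPair.Base
import Groth.Agent.H15.NilPair.Sys
import Groth.Agent.H15.IntPair.Sys
set_option autoImplicit false
universe u
open CategoryTheory MvPolynomial Limits
open Groth.Agent.H69 Groth.Agent.H15.IntPair
open Groth.Agent.H15.NilPair (PS IT Cq mkq mkq_surjective mkq_eq_zero mkq_eq_zero_iff fp tr tr_mkq
  tr_refl tr_trans toE toE_mkq toE_tr gen_top X_mem_PS PS_mono dirNat)
open scoped Classical

namespace Groth.Agent.H35.IntPair_SB

section pre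
variable {A B : Type u} [CommRing A]

/-- the variable set `{inl b}`. -/
abbrev W (C : Type u) (b : B) : Finset (B ⊕ C) := ({b} : Finset B).disjSum (∅ : Finset C)

theorem Xb_mem {C : Type u} (b : B) : (X (Sum.inl b) : MvPolynomial (B ⊕ C) A) ∈ PS A (W C b) :=
  X_mem_PS (Finset.inl_mem_disjSum.mpr (Finset.mem_singleton_self b))

theorem C_mem {C : Type u} (b : B) (a : A) :
    (MvPolynomial.C a : MvPolynomial (B ⊕ C) A) ∈ PS A (W C b) :=
  (PS A (W C b)).algebraMap_mem a

/-- the integrality relation. -/
noncomputable def rel (C : Type u) (b : B) (p : Polynomial A) : MvPolynomial (B ⊕ C) A :=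
  ((Polynomial.aeval (⟨X (Sum.inl b), Xb_mem b⟩ : PS A (W C b)) p : PS A (W C b)) :
    MvPolynomial (B ⊕ C) A)

theorem rel_mem {C : Type u} (b : B) (p : Polynomial A) : rel C b p ∈ PS A (W C b) :=
  Subtype.property _

theorem nil_of_pow_mem {V : Type u} {S : Finset V} {T : Finset (MvPolynomial V A)}
    (x : PS A S) (n : ℕ) (h : (x : MvPolynomial V A) ^ (n + 1) ∈ T) :
    IsNilpotent (mkq S T x) := by
  refine ⟨n + 1, ?_⟩
  rw [← map_pow]
  apply mkq_eq_zero
  rw [SubmonoidClass.coe_pow]
  exact h

theorem mkq_X_eq {V : Type u} {S : Finset V} {T : Finset (MvPolynomial V A)} (v : V)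
    (hv : (X v : MvPolynomial V A) ∈ PS A S) (a : A)
    (h : (X v : MvPolynomial V A) - MvPolynomial.C a ∈ T) :
    mkq S T ⟨X v, hv⟩ = algebraMap A (Cq S T) a := by
  have h0 := Groth.Agent.H15.NilPair.mkq_eq (S := S) (T := T) ⟨X v, hv⟩
    ⟨MvPolynomial.C a, (PS A S).algebraMap_mem a⟩ h
  rw [h0]
  have e : (⟨MvPolynomial.C a, (PS A S).algebraMap_mem a⟩ : PS A S) = algebraMap A (PS A S) a := rfl
  rw [e, AlgHom.commutes]

end pre

variable {A B C : Type u} [CommRing A] [CommRing B] [CommRing C] [Algebra A B] [Algebra A C]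
  [Algebra B C] [IsScalarTower A B C]

theorem evB_X (b : B) : evB A B C (X (Sum.inl b)) = b := by simp [evB]
theorem evC_X (b : B) : evC A B C (X (Sum.inl b)) = algebraMap B C b := by simp [evC]
theorem evB_C (a : A) : evB A B C (MvPolynomial.C a) = algebraMap A B a := by simp [evB]
theorem evC_C (a : A) : evC A B C (MvPolynomial.C a) = algebraMap A C a := by simp [evC]

theorem evB_rel (b : B) (p : Polynomial A) :
    evB A B C (rel C b p) = Polynomial.aeval b p := by
  have h := Polynomial.aeval_algHom_apply ((evB A B C).comp (PS A (W C b)).val)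
    ⟨X (Sum.inl b), Xb_mem b⟩ p
  have h2 : ((evB A B C).comp (PS A (W C b)).val) ⟨X (Sum.inl b), Xb_mem b⟩ = b := evB_X b
  rw [h2] at h
  rw [h]
  rfl

theorem build (b : B) (p : Polynomial A) (hp : p.Monic)
    (TB TC : Finset (MvPolynomial (B ⊕ C) A))
    (hr : rel C b p ∈ TB)
    (h1 : ∀ t ∈ TB, t ∈ PS A (W C b) ∧ evB A B C t = 0)
    (h2 : ∀ t ∈ TC, t ∈ PS A (W C b) ∧ evC A B C t = 0)
    (h5 : Function.Surjective (algebraMap A B) →
      ∃ a : A, (X (Sum.inl b) : MvPolynomial (B ⊕ C) A) - MvPolynomial.C a ∈ TB)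
    (h7 : Function.Surjective (algebraMap A C) →
      ∃ a : A, (X (Sum.inl b) : MvPolynomial (B ⊕ C) A) - MvPolynomial.C a ∈ TC ∪ TB)
    (h8 : Function.Surjective (algebraMap B C) → IsNilpotent (RingHom.ker (algebraMap B C)) →
      ∀ t ∈ TC, ∃ n : ℕ, t ^ (n + 1) ∈ TB) :
    ∃ (j : J A B C) (x : FB j), toB j x = b := by
  have hv : Valid (A := A) (B := B) (C := C) ⟨{b}, ∅, TB, TC⟩ := by
    refine ⟨h1, h2, ?_, ?_, ?_, ?_, ?_, ?_⟩
    · intro b' hb'
      have hbb : b' = b := Finset.mem_singleton.mp hb'
      subst hbb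
      refine ⟨p, hp, ?_⟩
      rw [← Polynomial.aeval_def, Polynomial.aeval_algHom_apply]
      exact mkq_eq_zero _ hr
    · intro c hc
      exact absurd hc (Finset.notMem_empty c)
    · intro hs b' hb'
      have hbb : b' = b := Finset.mem_singleton.mp hb'
      subst hbb
      obtain ⟨a, ha⟩ := h5 hs
      rw [mkq_X_eq _ _ a ha]
      exact Subalgebra.algebraMap_mem _ a
    · intro _
      rfl
    · intro hs b' hb'
      have hbb : b' = b := Finset.mem_singleton.mp hb'
      subst hbb
      obtain ⟨a, ha⟩ := h7 hs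
      have e := mkq_X_eq (S := (⟨{b'}, ∅, TB, TC⟩ : Raw A B C).WC)
        (T := (⟨{b'}, ∅, TB, TC⟩ : Raw A B C).TCC) (Sum.inl b')
        (X_mem_PS (Raw.inl_mem_WC hb')) a ha
      rw [e]
      exact Subalgebra.algebraMap_mem _ a
    · intro hs hn x hx
      obtain ⟨n, hn'⟩ := h8 hs hn x hx
      exact nil_of_pow_mem x n hn'
  refine ⟨⟨⟨{b}, ∅, TB, TC⟩, hv⟩, mkq _ _ ⟨X (Sum.inl b), Xb_mem b⟩, ?_⟩
  simp only [toB]
  exact evB_X b

theorem surj_B [Algebra.IsIntegral A B] : ∀ b : B, ∃ (j : J A B C) (x : FB j), toB j x = b := by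
  intro b
  obtain ⟨p, hp, hpb⟩ := Algebra.IsIntegral.isIntegral (R := A) b
  have hpb' : Polynomial.aeval b p = 0 := by rw [Polynomial.aeval_def]; exact hpb
  have hrel : rel C b p ∈ PS A (W C b) ∧ evB A B C (rel C b p) = 0 :=
    ⟨rel_mem b p, by rw [evB_rel, hpb']⟩
  by_cases hAB : Function.Surjective (algebraMap A B)
  · obtain ⟨a, ha⟩ := hAB b
    refine build b p hp {rel C b p, X (Sum.inl b) - MvPolynomial.C a} ∅ (by simp) ?_ ?_ ?_ ?_ ?_
    · intro t ht
      rcases Finset.mem_insert.mp ht with rfl | ht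
      · exact hrel
      · rw [Finset.mem_singleton] at ht
        subst ht
        exact ⟨sub_mem (Xb_mem b) (C_mem b a), by rw [map_sub, evB_X, evB_C, ha, sub_self]⟩
    · intro t ht
      exact absurd ht (Finset.notMem_empty _)
    · intro _
      exact ⟨a, by simp⟩
    · intro _
      exact ⟨a, by simp⟩
    · intro _ _ t ht
      exact absurd ht (Finset.notMem_empty _)
  · by_cases hAC : Function.Surjective (algebraMap A C)
    · obtain ⟨a', ha'⟩ := hAC (algebraMap B C b)
      have hr'mem : (X (Sum.inl b) : MvPolynomial (B ⊕ C) A) - MvPolynomial.C a' ∈ PS A (W C b) :=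
        sub_mem (Xb_mem b) (C_mem b a')
      have hr'C : evC A B C ((X (Sum.inl b) : MvPolynomial (B ⊕ C) A) - MvPolynomial.C a') = 0 := by
        rw [map_sub, evC_X, evC_C, ha', sub_self]
      have hr'B : evB A B C ((X (Sum.inl b) : MvPolynomial (B ⊕ C) A) - MvPolynomial.C a') =
          b - algebraMap A B a' := by
        rw [map_sub, evB_X, evB_C]
      by_cases mode : Function.Surjective (algebraMap B C) ∧
          IsNilpotent (RingHom.ker (algebraMap B C))
      · obtain ⟨N, hN⟩ := mode.2
        have he : b - algebraMap A B a' ∈ RingHom.ker (algebraMap B C) := by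
          rw [RingHom.mem_ker, map_sub, ← IsScalarTower.algebraMap_apply, ha', sub_self]
        have heN : (b - algebraMap A B a') ^ (N + 1) = 0 := by
          have h1 : (b - algebraMap A B a') ^ N ∈ (RingHom.ker (algebraMap B C)) ^ N :=
            Ideal.pow_mem_pow he N
          rw [hN] at h1
          have h2 : (b - algebraMap A B a') ^ N = 0 := by simpa using h1
          rw [pow_succ, h2, zero_mul]
        refine build b p hp
          {rel C b p, ((X (Sum.inl b) : MvPolynomial (B ⊕ C) A) - MvPolynomial.C a') ^ (N + 1)}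
          {(X (Sum.inl b) : MvPolynomial (B ⊕ C) A) - MvPolynomial.C a'} (by simp) ?_ ?_ ?_ ?_ ?_
        · intro t ht
          rcases Finset.mem_insert.mp ht with rfl | ht
          · exact hrel
          · rw [Finset.mem_singleton] at ht
            subst ht
            exact ⟨pow_mem hr'mem _, by rw [map_pow, hr'B, heN]⟩
        · intro t ht
          rw [Finset.mem_singleton] at ht
          subst ht
          exact ⟨hr'mem, hr'C⟩
        · intro h
          exact absurd h hAB
        · intro _
          exact ⟨a', by simp⟩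
        · intro _ _ t ht
          rw [Finset.mem_singleton] at ht
          subst ht
          exact ⟨N, by simp⟩
      · refine build b p hp {rel C b p}
          {(X (Sum.inl b) : MvPolynomial (B ⊕ C) A) - MvPolynomial.C a'} (by simp) ?_ ?_ ?_ ?_ ?_
        · intro t ht
          rw [Finset.mem_singleton] at ht
          subst ht
          exact hrel
        · intro t ht
          rw [Finset.mem_singleton] at ht
          subst ht
          exact ⟨hr'mem, hr'C⟩
        · intro h
          exact absurd h hAB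
        · intro _
          exact ⟨a', by simp⟩
        · intro h1 h2
          exact absurd ⟨h1, h2⟩ mode
    · refine build b p hp {rel C b p} ∅ (by simp) ?_ ?_ ?_ ?_ ?_
      · intro t ht
        rw [Finset.mem_singleton] at ht
        subst ht
        exact hrel
      · intro t ht
        exact absurd ht (Finset.notMem_empty _)
      · intro h
        exact absurd h hAB
      · intro h
        exact absurd h hAC
      · intro _ _ t ht
        exact absurd ht (Finset.notMem_empty _)

end Groth.Agent.H35.IntPair_SB
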