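import Groth.Agent.H35.DTenExact
import Groth.Agent.H53.LTensorCxObj
import Groth.Agent.H58.TensorCone
import Groth.Agent.H35.LTensorCxPerf
import Groth.Agent.H35.LBCpc
import Groth.Agent.H35.DerCompKos

/-!
# `- ⊗^L F` for a K-flat complex `F` is weakly triangulated and `A`-linear (helper35)

For `F` K-flat the counit `Q ⋙ (- ⊗^L F) ⟶ (- ⊗ F) ⋙ Q` is an isomorphism, so
`G := DRing.LTensorCx A F` is computed on every complex.  We deduce:
* `θ`, `θ_nat` : `G X ≅ Q(K ⊗ F)` for `X ≅ Q K`, naturally;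
* `DT_map` : `G` sends composable pairs extending to distinguished triangles to such pairs;
* `map_smul_id` : `G (a • 𝟙) = a • 𝟙`; `isZero_obj`;
* `isConeMul_map`, `isKos_map` : `G` commutes with iterated cones of multiplications;
* `isLE_obj` : `G` maps `D^{≤ m}` to `D^{≤ m + c}` if `F` vanishes above `c`.
No `CommShift` structure is constructed.
-/

set_option autoImplicit false
set_option linter.unusedSectionVars false
universe u
open CategoryTheory CategoryTheory.Limits MonoidalCategory Pretriangulated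
attribute [local instance] HasDerivedCategory.standard

namespace Groth.Agent.H35.LTensorCxDT

open Groth.Agent.H35.TriChase Groth.Agent.H35.DerCompKos Groth.Agent.H53

variable {A : Type u} [CommRing A] (F : DRing.Cx A) [DRing.HasLTensorCx A F]

/-- For `F` K-flat and `a ≅ Q K`: `a ⊗^L F ≅ Q(K ⊗ F)`. -/
noncomputable def θ (hF : DRing.IsKFlat A F) {a : Dual.D A} {K : DRing.Cx A}
    (e : a ≅ DerivedCategory.Q.obj K) :
    (DRing.LTensorCx A F).obj a ≅ DerivedCategory.Q.obj (K ⊗ F) :=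
  haveI := LTensorCxObj.isIso_ε_of_isKFlat F hF
  (DRing.LTensorCx A F).mapIso e ≪≫ asIso ((LTensorCxObj.ε F).app K)

lemma θ_hom (hF : DRing.IsKFlat A F) {a : Dual.D A} {K : DRing.Cx A}
    (e : a ≅ DerivedCategory.Q.obj K) :
    (θ F hF e).hom = (DRing.LTensorCx A F).map e.hom ≫ (LTensorCxObj.ε F).app K := rfl

lemma θ_nat (hF : DRing.IsKFlat A F) {a a' : Dual.D A} {K K' : DRing.Cx A}
    (e : a ≅ DerivedCategory.Q.obj K) (e' : a' ≅ DerivedCategory.Q.obj K')
    (p : a ⟶ a') (f : K ⟶ K') (hpf : p ≫ e'.hom = e.hom ≫ DerivedCategory.Q.map f) :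
    (DRing.LTensorCx A F).map p ≫ (θ F hF e').hom =
      (θ F hF e).hom ≫ DerivedCategory.Q.map (f ▷ F) := by
  have nat : (DRing.LTensorCx A F).map (DerivedCategory.Q.map f) ≫ (LTensorCxObj.ε F).app K' =
      (LTensorCxObj.ε F).app K ≫ DerivedCategory.Q.map (f ▷ F) := (LTensorCxObj.ε F).naturality f
  rw [θ_hom, θ_hom, Category.assoc, ← nat, ← Category.assoc, ← Category.assoc,
    ← Functor.map_comp, ← Functor.map_comp, hpf]

/-- `- ⊗^L F` (`F` K-flat) sends pairs extending to distinguished triangles to such pairs. -/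
theorem DT_map (hF : DRing.IsKFlat A F) {a b c : Dual.D A} (p : a ⟶ b) (q : b ⟶ c)
    (h : DT p q) : DT ((DRing.LTensorCx A F).map p) ((DRing.LTensorCx A F).map q) := by
  obtain ⟨S, σ, e₁, e₂, e₃, c1, c2⟩ := DTenExact.exists_ses_model p q h
  have hS' : (S.map ((curriedTensor (ModuleCat.{u} A)).map₂CochainComplex.flip.obj F)).ShortExact :=
    Groth.Agent.H31.KFlat.shortExact_map_flip_obj_of_split _ S F (fun n => ⟨σ n⟩)
  have n1 := θ_nat F hF e₁ e₂ p S.f c1
  have n2 := θ_nat F hF e₂ e₃ q S.g c2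
  have hd := DerivedCategory.triangleOfSES_distinguished hS'
  refine ⟨(θ F hF e₃).hom ≫ DerivedCategory.triangleOfSESδ hS' ≫
    (θ F hF e₁).inv⟦(1 : ℤ)⟧', isomorphic_distinguished _ hd _ ?_⟩
  refine Triangle.isoMk _ _ (θ F hF e₁) (θ F hF e₂) (θ F hF e₃) ?_ ?_ ?_
  · exact n1
  · exact n2
  · exact DTenExact.comm₃_aux _ _ _ _

/-- `- ⊗^L F` is `A`-linear on scalar multiples of identities. -/
theorem map_smul_id (hF : DRing.IsKFlat A F) (r : A) (X : Dual.D A) :
    (DRing.LTensorCx A F).map (r • 𝟙 X) = r • 𝟙 ((DRing.LTensorCx A F).obj X) := by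
  obtain ⟨K, ⟨e⟩⟩ : ∃ K : DRing.Cx A, Nonempty (X ≅ DerivedCategory.Q.obj K) :=
    ⟨_, ⟨(DerivedCategory.Q.objObjPreimageIso X).symm⟩⟩
  have hpf : (r • 𝟙 X) ≫ e.hom = e.hom ≫ DerivedCategory.Q.map (r • 𝟙 K) := by
    rw [Functor.map_smul, CategoryTheory.Functor.map_id, Linear.smul_comp, Linear.comp_smul,
      Category.id_comp, Category.comp_id]
  have h := θ_nat F hF e e (r • 𝟙 X) (r • 𝟙 K) hpf
  rw [Groth.Agent.H58.TensorCone.smul_id_whiskerRight,
    Functor.map_smul (F := DerivedCategory.Q),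
    CategoryTheory.Functor.map_id, Linear.comp_smul, Category.comp_id] at h
  rw [← cancel_mono (θ F hF e).hom, h, Linear.smul_comp, Category.id_comp]

theorem isZero_obj (hF : DRing.IsKFlat A F) {X : Dual.D A} (hX : IsZero X) :
    IsZero ((DRing.LTensorCx A F).obj X) := by
  rw [IsZero.iff_id_eq_zero]
  have h1 : 𝟙 X = (0 : A) • 𝟙 X := by rw [zero_smul]; exact hX.eq_of_src _ _
  have h2 := map_smul_id F hF 0 X
  rw [← h1, CategoryTheory.Functor.map_id, zero_smul] at h2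
  exact h2

theorem isConeMul_map (hF : DRing.IsKFlat A F) {f : A} {Z Z' : Dual.D A}
    (h : IsConeMul f Z Z') :
    IsConeMul f ((DRing.LTensorCx A F).obj Z) ((DRing.LTensorCx A F).obj Z') := by
  obtain ⟨p, d, hT⟩ := h
  obtain ⟨r, hr⟩ := DT_map F hF (f • 𝟙 Z) p ⟨d, hT⟩
  rw [map_smul_id F hF] at hr
  exact ⟨_, r, hr⟩

theorem isKos_map (hF : DRing.IsKFlat A F) (l : List A) : ∀ {Z Z' : Dual.D A},
    IsKos l Z Z' → IsKos l ((DRing.LTensorCx A F).obj Z) ((DRing.LTensorCx A F).obj Z') := by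
  induction l with
  | nil => intro Z Z' ⟨e⟩; exact ⟨(DRing.LTensorCx A F).mapIso e⟩
  | cons f l ih =>
    intro Z Z' ⟨Z₁, h₁, h'⟩
    exact ⟨_, isConeMul_map F hF h₁, ih h'⟩

/-- `- ⊗^L F` maps `D^{≤ m}` to `D^{≤ m + c}` if `F` vanishes above `c`. -/
theorem isLE_obj (hF : DRing.IsKFlat A F) (c : ℤ) (hFc : DRing.VanishesAbove F c)
    (X : Dual.D A) (m : ℤ) [X.IsLE m] : ((DRing.LTensorCx A F).obj X).IsLE (m + c) := by
  obtain ⟨K, hK, ⟨e⟩⟩ := X.exists_iso_Q_obj_of_isLE m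
  have hKv : DRing.VanishesAbove K m := fun i hi => K.isZero_of_isStrictlyLE m i hi
  have hv := Groth.Agent.H35.LTC.vanishesAbove_tensor K F m c hKv hFc
  have := Groth.Agent.H35.LBC.isLE_toD_of_vanishesAbove (K ⊗ F) (m + c) hv
  exact DerivedCategory.TStructure.t.isLE_of_iso (θ F hF e).symm (m + c)

end Groth.Agent.H35.LTensorCxDT
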