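import Groth.Agent.H35.SplitSpreadCx
import Groth.Agent.H6.ExtPC
import Groth.Agent.H33.DerTrunc

/-!
# Splitting `K ≅ τ_{≥ i+1} K ⊕ τ_{< i} K` from a contraction in degree `i` (helper35)

* `hom_eq_zero_of_projective` : maps from a bounded above complex of projectives living in degrees
  `> i` to an object of `D^{≤ i}` vanish;
* `truncGEIso` : `τ_{≥ n} (Q G) ≅ Q (G.truncGE n)`;
* `main` : for a bounded above complex `G` of finite projective modules which is exact at `i` and for
  which `opcycles (i+1)` is a retract of `G^{i+1}`, `τ_{≥ i+1} G` is perfect of tor amplitude in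
  `[i+1, b]` and `G ≅ τ_{≥ i+1} G ⊕ τ_{< i} G` compatibly with the truncation maps.
-/

set_option autoImplicit false
set_option linter.style.haveILetI false
universe u
open CategoryTheory CategoryTheory.Limits Pretriangulated
attribute [local instance] HasDerivedCategory.standard

namespace Groth.Agent.H35.SplitTrunc

open DRing DerivedCategory DerivedCategory.TStructure

variable {B : Type u} [CommRing B]

lemma hom_eq_zero_of_projective (E : Cx B) (c i : ℤ) (hc : VanishesAbove E c)
    (hlow : ∀ j, j ≤ i → IsZero (E.X j)) (hp : ∀ j, Module.Projective B (E.X j))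
    (Z : Dual.D B) [Z.IsLE i] (g : toD E ⟶ Z) : g = 0 := by
  obtain ⟨Z', hZ', ⟨e⟩⟩ := Z.exists_iso_Q_obj_of_isLE i
  haveI : E.IsStrictlyLE c := by
    rw [CochainComplex.isStrictlyLE_iff]
    intro j hj
    exact hc j hj
  haveI : ∀ n, Projective (E.X n) := fun n => (IsProjective.iff_projective _).mp (hp n)
  haveI : E.IsKProjective := CochainComplex.isKProjective_of_projective E c
  obtain ⟨f, hf⟩ := Groth.Agent.H6.ExtPC.exists_Q_map_eq E Z' (g ≫ e.hom)
  have hf0 : f = 0 := by
    apply HomologicalComplex.hom_ext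
    intro j
    by_cases hj : j ≤ i
    · exact (hlow j hj).eq_of_src _ _
    · exact (Z'.isZero_of_isStrictlyLE i j (by omega)).eq_of_tgt _ _
  rw [hf0, Functor.map_zero] at hf
  rw [← cancel_mono e.hom, ← hf, zero_comp]

lemma isIso_homology_Q_map {G G' : Cx B} (f : G ⟶ G') (j : ℤ) (hf : QuasiIsoAt f j) :
    IsIso ((homologyFunctor (ModuleCat.{u} B) j).map (Q.map f)) := by
  have h1 : IsIso ((HomologicalComplex.homologyFunctor (ModuleCat.{u} B) (ComplexShape.up ℤ) j).map
      f) := (quasiIsoAt_iff_isIso_homologyMap f j).1 hf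
  exact (NatIso.isIso_map_iff (homologyFunctorFactors (ModuleCat.{u} B) j) f).2 h1

lemma isIso_of_isZero {C : Type*} [Category C] [HasZeroMorphisms C] {X Y : C} (f : X ⟶ Y)
    (hX : IsZero X) (hY : IsZero Y) : IsIso f :=
  ⟨⟨0, hX.eq_of_src _ _, hY.eq_of_src _ _⟩⟩

/-- `τ_{≥ n} (Q G) ≅ Q (G.truncGE n)`. -/
lemma nonempty_truncGEIso (G : Cx B) (n : ℤ) :
    Nonempty ((t.truncGE n).obj (Q.obj G) ≅ Q.obj (G.truncGE n)) := by
  let g : Q.obj G ⟶ Q.obj (G.truncGE n) := Q.map (G.πTruncGE n)
  haveI : (Q.obj (G.truncGE n)).IsGE n := inferInstance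
  haveI i2 : IsIso ((t.truncGEπ n).app (Q.obj (G.truncGE n))) :=
    inferInstanceAs (IsIso ((t.truncGEπ n).app (Q.obj (G.truncGE n))))
  have i1 : IsIso ((t.truncGE n).map g) := by
    rw [DerivedCategory.isIso_iff]
    intro j
    by_cases hj : n ≤ j
    · have nat : (t.truncGEπ n).app (Q.obj G) ≫ (t.truncGE n).map g =
          g ≫ (t.truncGEπ n).app (Q.obj (G.truncGE n)) := ((t.truncGEπ n).naturality g).symm
      have h1 := Groth.Agent.H33.isIso_homology_truncGEπ (Q.obj G) n j hj
      have h2 := Groth.Agent.H33.isIso_homology_truncGEπ (Q.obj (G.truncGE n)) n j hj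
      have h3 := isIso_homology_Q_map (G.πTruncGE n) j (CochainComplex.quasiIsoAt_πTruncGE G n j hj)
      have nat' := congrArg (fun z => (homologyFunctor (ModuleCat.{u} B) j).map z) nat
      simp only [Functor.map_comp] at nat'
      have h4 : IsIso ((homologyFunctor (ModuleCat.{u} B) j).map ((t.truncGEπ n).app (Q.obj G)) ≫
          (homologyFunctor (ModuleCat.{u} B) j).map ((t.truncGE n).map g)) := by
        rw [nat']
        infer_instance
      exact IsIso.of_isIso_comp_left
        ((homologyFunctor (ModuleCat.{u} B) j).map ((t.truncGEπ n).app (Q.obj G))) _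
    · exact isIso_of_isZero _
        (Groth.Agent.H33.isZero_homology_truncGE _ n j (by omega))
        (Groth.Agent.H33.isZero_homology_truncGE _ n j (by omega))
  exact ⟨asIso ((t.truncGE n).map g) ≪≫
    (asIso ((t.truncGEπ n).app (Q.obj (G.truncGE n)))).symm⟩

/-- The main splitting statement. -/
theorem main (G : Cx B) (c i : ℤ) (hGc : VanishesAbove G c)
    (hGfp : TermwiseFiniteProjective G) (hex : G.ExactAt i)
    (ρ : G.opcycles (i + 1) ⟶ G.X (i + 1)) (hρ : ρ ≫ G.pOpcycles (i + 1) = 𝟙 _)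
    (Y : Dual.D B) (eY : Y ≅ toD G) :
    IsPerfect B ((t.truncGE (i + 1)).obj Y) ∧
      (∃ b : ℤ, HasTorAmplitudeIn B (i + 1) b ((t.truncGE (i + 1)).obj Y)) ∧
      ∀ [HasBinaryBiproduct ((t.truncGE (i + 1)).obj Y) ((t.truncLT i).obj Y)],
        ∃ e : Y ≅ (t.truncGE (i + 1)).obj Y ⊞ (t.truncLT i).obj Y,
          e.hom ≫ biprod.fst = (t.truncGEπ (i + 1)).app Y ∧
            (t.truncLTι i).app Y ≫ e.hom = biprod.inr := by
  -- the model of the truncation
  let E : Cx B := G.truncGE (i + 1)
  have hElow : ∀ j, j ≤ i → IsZero (E.X j) := fun j hj =>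
    CochainComplex.isZero_of_isStrictlyGE E (i + 1) j (by omega)
  have hEhigh : ∀ j, max (i + 1) c < j → IsZero (E.X j) := fun j hj => by
    have h1 : i + 1 < j := lt_of_le_of_lt (le_max_left _ _) hj
    have h2 : c < j := lt_of_le_of_lt (le_max_right _ _) hj
    exact (hGc j h2).of_iso (CochainComplex.truncGEXIso G (i + 1) j h1)
  have hEv : VanishesOutside E (i + 1) (max (i + 1) c) := by
    rintro j (hj | hj)
    · exact hElow j (by omega)
    · exact hEhigh j hj
  have hEp : TermwiseFiniteProjective E := by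
    intro j
    rcases lt_trichotomy j (i + 1) with hj | hj | hj
    · have hz := hElow j (by omega)
      haveI : Subsingleton (E.X j) := ModuleCat.subsingleton_of_isZero hz
      exact ⟨inferInstance, inferInstance⟩
    · subst hj
      haveI := (hGfp (i + 1)).1
      haveI := (hGfp (i + 1)).2
      have hsurj : Function.Surjective (G.pOpcycles (i + 1)).hom :=
        (ModuleCat.epi_iff_surjective _).1 inferInstance
      have hfin : Module.Finite B (G.opcycles (i + 1)) := Module.Finite.of_surjective _ hsurj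
      have hproj : Module.Projective B (G.opcycles (i + 1)) :=
        Module.Projective.of_split ρ.hom (G.pOpcycles (i + 1)).hom (by
          ext x
          exact congrArg (fun f => f.hom x) hρ)
      let ι := (CochainComplex.truncGEXIsoOpcycles G (i + 1)).toLinearEquiv
      exact ⟨Module.Finite.equiv ι.symm, Module.Projective.of_equiv ι.symm⟩
    · haveI := (hGfp j).1
      haveI := (hGfp j).2
      let ι := (CochainComplex.truncGEXIso G (i + 1) j hj).toLinearEquiv
      exact ⟨Module.Finite.equiv ι.symm, Module.Projective.of_equiv ι.symm⟩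
  obtain ⟨eT⟩ := nonempty_truncGEIso G (i + 1)
  let eE : (t.truncGE (i + 1)).obj Y ≅ toD E := (t.truncGE (i + 1)).mapIso eY ≪≫ eT
  refine ⟨⟨E, i + 1, max (i + 1) c, hEv, hEp, ⟨eE.symm⟩⟩,
    ⟨max (i + 1) c, E, hEv, fun j => by
      haveI := (hEp j).2
      infer_instance, ⟨eE.symm⟩⟩, ?_⟩
  intro _
  -- `H^i(Y) = 0`
  have hYi : IsZero ((homologyFunctor (ModuleCat.{u} B) i).obj Y) :=
    ((Groth.Agent.H35.TorAmp.exactAt_iff_isZero_H G i).1 hex).of_iso
      ((homologyFunctor (ModuleCat.{u} B) i).mapIso eY)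
  -- the comparison `τ_{≥ i} Y ⟶ τ_{≥ i+1} Y` is an isomorphism
  let α : (t.truncGE i).obj Y ⟶ (t.truncGE (i + 1)).obj Y :=
    (t.natTransTruncGEOfLE i (i + 1) (by omega)).app Y
  have hα : (t.truncGEπ i).app Y ≫ α = (t.truncGEπ (i + 1)).app Y :=
    t.π_natTransTruncGEOfLE_app i (i + 1) (by omega) Y
  have iα : IsIso α := by
    rw [DerivedCategory.isIso_iff]
    intro j
    by_cases hj : i + 1 ≤ j
    · have h1 := Groth.Agent.H33.isIso_homology_truncGEπ Y i j (by omega)
      have h2 := Groth.Agent.H33.isIso_homology_truncGEπ Y (i + 1) j hj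
      have hα' := congrArg (fun z => (homologyFunctor (ModuleCat.{u} B) j).map z) hα
      simp only [Functor.map_comp] at hα'
      have h4 : IsIso ((homologyFunctor (ModuleCat.{u} B) j).map ((t.truncGEπ i).app Y) ≫
          (homologyFunctor (ModuleCat.{u} B) j).map α) := by
        rw [hα']
        exact h2
      exact IsIso.of_isIso_comp_left
        ((homologyFunctor (ModuleCat.{u} B) j).map ((t.truncGEπ i).app Y)) _
    · refine isIso_of_isZero _ ?_ (Groth.Agent.H33.isZero_homology_truncGE _ (i + 1) j (by omega))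
      by_cases hji : j = i
      · subst hji
        have h1 := Groth.Agent.H33.isIso_homology_truncGEπ Y j j le_rfl
        exact hYi.of_iso (asIso ((homologyFunctor (ModuleCat.{u} B) j).map
          ((t.truncGEπ j).app Y))).symm
      · exact Groth.Agent.H33.isZero_homology_truncGE _ i j (by omega)
  -- the distinguished triangle `τ_{<i} Y → Y → τ_{≥ i+1} Y`
  have hT₀ := t.triangleLTGE_distinguished i Y
  let T : Triangle (Dual.D B) := Triangle.mk ((t.truncLTι i).app Y) ((t.truncGEπ (i + 1)).app Y)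
    (inv α ≫ ((t.triangleLTGE i).obj Y).mor₃)
  have hT : T ∈ distTriang (Dual.D B) := by
    refine isomorphic_distinguished _ hT₀ _ ?_
    refine Triangle.isoMk _ _ (Iso.refl _) (Iso.refl _) (asIso α).symm ?_ ?_ ?_
    · exact (Category.comp_id _).trans (Category.id_comp _).symm
    · show (t.truncGEπ (i + 1)).app Y ≫ inv α = 𝟙 _ ≫ (t.truncGEπ i).app Y
      rw [← hα, Category.assoc, IsIso.hom_inv_id, Category.comp_id, Category.id_comp]
    · show (inv α ≫ ((t.triangleLTGE i).obj Y).mor₃) ≫ (𝟙 _)⟦(1 : ℤ)⟧' =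
        inv α ≫ ((t.triangleLTGE i).obj Y).mor₃
      erw [CategoryTheory.Functor.map_id, Category.comp_id]
  have hzero : T.mor₃ = 0 := by
    haveI : t.IsLE (((t.truncLT i).obj Y)⟦(1 : ℤ)⟧) i := by
      haveI := t.isLE_shift ((t.truncLT i).obj Y) (i - 1) 1 (i - 2) (by omega)
      exact t.isLE_of_le _ (i - 2) i (by omega)
    have h0 := hom_eq_zero_of_projective E (max (i + 1) c) i hEhigh hElow (fun j => (hEp j).2)
      (((t.truncLT i).obj Y)⟦(1 : ℤ)⟧) (eE.inv ≫ T.mor₃)
    exact (cancel_epi eE.inv).1 (h0.trans comp_zero.symm)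
  obtain ⟨e₀, he₁, he₂⟩ : ∃ e₀ : Y ≅ (t.truncLT i).obj Y ⊞ (t.truncGE (i + 1)).obj Y,
      (t.truncLTι i).app Y ≫ e₀.hom = biprod.inl ∧
        (t.truncGEπ (i + 1)).app Y = e₀.hom ≫ biprod.snd :=
    exists_iso_binaryBiproduct_of_distTriang T hT hzero
  refine ⟨e₀ ≪≫ biprod.braiding _ _, ?_, ?_⟩
  · show (e₀.hom ≫ (biprod.braiding _ _).hom) ≫ biprod.fst = _
    rw [Category.assoc]
    have : (biprod.braiding ((t.truncLT i).obj Y) ((t.truncGE (i + 1)).obj Y)).hom ≫ biprod.fst =
        biprod.snd := by simp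
    rw [this]
    exact he₂.symm
  · show (t.truncLTι i).app Y ≫ e₀.hom ≫ (biprod.braiding _ _).hom = _
    have h1 : (t.truncLTι i).app Y ≫ e₀.hom = biprod.inl := he₁
    rw [← Category.assoc, h1]
    apply biprod.hom_ext <;> simp

end Groth.Agent.H35.SplitTrunc
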