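import Groth.Agent.H35.KunTop
import Groth.Agent.H35.LTensorCxDT
import Groth.Agent.H35.SplitTrunc

/-!
# Objects of `D(A)` with `L ⊗^L E ≅ A` over a local ring (helper35)

* `nontrivial_tensor`, `nonempty_equiv_of_tensor_equiv` : local algebra;
* `exists_top` : the top non-vanishing cohomology of a bounded above non-zero object;
* `top_tensor` : `H^{a+b}(X ⊗^L Q) ≅ H^a(X) ⊗ H^b(Q)` for `X ∈ D^{≤ a}`, `Q` K-flat vanishing
  above `b`;
* `half` : if `X ⊗^L Q ≅ A[0]` then `X ≅ A` placed in degree `-b`.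
-/

set_option autoImplicit false
set_option linter.style.haveILetI false
universe u
open CategoryTheory CategoryTheory.Limits MonoidalCategory Pretriangulated TensorProduct
attribute [local instance] HasDerivedCategory.standard

namespace Groth.Agent.H35.InvCx

open DRing DerivedCategory DerivedCategory.TStructure

section LocalAlgebra

variable {A : Type u} [CommRing A] [IsLocalRing A]

lemma nontrivial_tensor (M N : Type u) [AddCommGroup M] [Module A M] [AddCommGroup N]
    [Module A N] [Module.Finite A M] [Module.Finite A N] [Nontrivial M] [Nontrivial N] :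
    Nontrivial (M ⊗[A] N) := by
  let k := IsLocalRing.ResidueField A
  have hM : Nontrivial (k ⊗[A] M) := by
    rw [← not_subsingleton_iff_nontrivial, IsLocalRing.subsingleton_tensorProduct]
    exact not_subsingleton M
  have hN : Nontrivial (k ⊗[A] N) := by
    rw [← not_subsingleton_iff_nontrivial, IsLocalRing.subsingleton_tensorProduct]
    exact not_subsingleton N
  have h : Nontrivial ((k ⊗[A] M) ⊗[k] (k ⊗[A] N)) :=
    (Module.FaithfullyFlat.nontrivial_tensorProduct_iff_right k (k ⊗[A] M)).2 hN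
  let e := TensorProduct.AlgebraTensorModule.distribBaseChange A k M N
  have h' : Nontrivial (k ⊗[A] (M ⊗[A] N)) := e.symm.injective.nontrivial
  by_contra hc
  rw [not_nontrivial_iff_subsingleton] at hc
  have : Subsingleton (k ⊗[A] (M ⊗[A] N)) := IsLocalRing.subsingleton_tensorProduct.2 hc
  exact not_subsingleton _ this

lemma nonempty_equiv_of_tensor_equiv (M N : Type u) [AddCommGroup M] [Module A M]
    [AddCommGroup N] [Module A N] (e : M ⊗[A] N ≃ₗ[A] A) : Nonempty (M ≃ₗ[A] A) := by
  haveI : Module.Invertible A M := Module.Invertible.left e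
  exact Module.Invertible.free_iff_linearEquiv.1 inferInstance

end LocalAlgebra

section Derived

variable {A : Type u} [CommRing A]

/-- cohomology -/
noncomputable abbrev H (i : ℤ) (X : Dual.D A) : ModuleCat.{u} A :=
  (homologyFunctor (ModuleCat.{u} A) i).obj X

lemma isZero_of_forall_isZero_H (X : Dual.D A) (h : ∀ i, IsZero (H i X)) : IsZero X := by
  haveI : X.IsLE 0 := (isLE_iff X 0).2 (fun i _ => h i)
  haveI : X.IsGE 1 := (isGE_iff X 1).2 (fun i _ => h i)
  exact t.isZero X 0 1 (by omega)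

lemma exists_top (X : Dual.D A) (hX : ¬ IsZero X) (c : ℤ) (hc : ∀ i, c < i → IsZero (H i X)) :
    ∃ a, ¬ IsZero (H a X) ∧ ∀ i, a < i → IsZero (H i X) := by
  classical
  have hne : ∃ i, ¬ IsZero (H i X) := by
    by_contra hcon
    simp only [not_exists, not_not] at hcon
    exact hX (isZero_of_forall_isZero_H X hcon)
  have hbdd : ∃ b : ℤ, ∀ z, ¬ IsZero (H z X) → z ≤ b := ⟨c, fun z hz => by
    by_contra h
    exact hz (hc z (by omega))⟩
  obtain ⟨a, ha, hmax⟩ := Int.exists_greatest_of_bdd hbdd hne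
  refine ⟨a, ha, fun i hi => ?_⟩
  by_contra h
  have := hmax i h
  omega

/-- `H^{a+b}(X ⊗^L Q) ≅ H^a(X) ⊗ H^b(Q)`. -/
theorem top_tensor (Q : Cx A) [DRing.HasLTensorCx A Q] (hQK : DRing.IsKFlat A Q) (b : ℤ)
    (hQb : VanishesAbove Q b) (X : Dual.D A) (a : ℤ) [X.IsLE a] (n : ℤ) (hn : a + b = n) :
    Nonempty ((H n ((DRing.LTensorCx A Q).obj X) : Type u) ≃ₗ[A]
      ((H a X : Type u) ⊗[A] (H b (toD Q) : Type u))) := by
  obtain ⟨P, hP, ⟨e⟩⟩ := X.exists_iso_Q_obj_of_isLE a
  have hPv : ∀ i, a < i → IsZero (P.X i) := fun i hi => P.isZero_of_isStrictlyLE a i hi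
  obtain ⟨κ⟩ := KunTop.nonempty_homology_equiv P Q a b hPv hQb n hn
  let θ := LTensorCxDT.θ Q hQK e
  let e1 : H n ((DRing.LTensorCx A Q).obj X) ≅ (HomologicalComplex.tensorObj P Q).homology n :=
    (homologyFunctor (ModuleCat.{u} A) n).mapIso θ ≪≫
      (homologyFunctorFactors (ModuleCat.{u} A) n).app (P ⊗ Q)
  let e2 : H a X ≅ P.homology a :=
    (homologyFunctor (ModuleCat.{u} A) a).mapIso e ≪≫
      (homologyFunctorFactors (ModuleCat.{u} A) a).app P
  let e3 : H b (toD Q) ≅ Q.homology b := (homologyFunctorFactors (ModuleCat.{u} A) b).app Q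
  exact ⟨e1.toLinearEquiv.trans
    (κ.trans (TensorProduct.congr e2.toLinearEquiv e3.toLinearEquiv).symm)⟩

lemma nontrivial_of_not_isZero (M : ModuleCat.{u} A) (h : ¬ IsZero M) : Nontrivial M := by
  rw [← not_subsingleton_iff_nontrivial]
  intro hs
  exact h (ModuleCat.isZero_of_subsingleton _)

lemma isZero_H_inD (n : ℤ) (hn : n ≠ 0) : IsZero (H n (Dual.inD A A)) := by
  rcases lt_or_gt_of_ne hn with h | h
  · exact isZero_of_isGE _ 0 n h
  · exact isZero_of_isLE _ 0 n h

/-- If `X ⊗^L Q ≅ A[0]` over a local ring, with `Q` K-flat vanishing above `b` and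
`H^b(Q) ≠ 0` finite, and `X` bounded above with finite cohomology, then `X` is `A` placed in
degree `-b`. -/
theorem half [IsLocalRing A] (Q : Cx A) [DRing.HasLTensorCx A Q] (hQK : DRing.IsKFlat A Q) (b : ℤ)
    (hQb : VanishesAbove Q b) (hQtop : ¬ IsZero (H b (toD Q)))
    (hQfin : Module.Finite A (H b (toD Q)))
    (X : Dual.D A) (hXfin : ∀ i, Module.Finite A (H i X)) (c : ℤ)
    (hXc : ∀ i, c < i → IsZero (H i X))
    (h : (DRing.LTensorCx A Q).obj X ≅ Dual.inD A A) :
    Nonempty (X ≅ (singleFunctor (ModuleCat.{u} A) (-b)).obj (ModuleCat.of A A)) := by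
  let G := DRing.LTensorCx A Q
  have hA : H 0 (Dual.inD A A) ≅ ModuleCat.of A A :=
    (singleFunctorCompHomologyFunctorIso (ModuleCat.{u} A) 0).app _
  have hGA : ∀ n, n ≠ 0 → IsZero (H n (G.obj X)) := fun n hn =>
    (isZero_H_inD n hn).of_iso ((homologyFunctor (ModuleCat.{u} A) n).mapIso h)
  haveI : Nontrivial (H b (toD Q)) := nontrivial_of_not_isZero _ hQtop
  -- `X` is nonzero
  have hX0 : ¬ IsZero X := fun hz => by
    have h0 := LTensorCxDT.isZero_obj Q hQK hz
    have h1 : IsZero (H 0 (Dual.inD A A)) :=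
      ((homologyFunctor (ModuleCat.{u} A) 0).map_isZero h0).of_iso
        ((homologyFunctor (ModuleCat.{u} A) 0).mapIso h.symm)
    have h2 : IsZero (ModuleCat.of A A) := h1.of_iso hA.symm
    have h3 : Subsingleton A := ModuleCat.subsingleton_of_isZero h2
    exact not_subsingleton A h3
  obtain ⟨a, haX, haX'⟩ := exists_top X hX0 c hXc
  haveI : X.IsLE a := (isLE_iff X a).2 (fun i hi => haX' i hi)
  haveI := hXfin a
  haveI : Nontrivial (H a X) := nontrivial_of_not_isZero _ haX
  -- `a + b = 0`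
  have hab : a + b = 0 := by
    by_contra hne
    obtain ⟨κ⟩ := top_tensor Q hQK b hQb X a (a + b) rfl
    have hz := hGA (a + b) hne
    have h1 : Subsingleton (H (a + b) (G.obj X)) := ModuleCat.subsingleton_of_isZero hz
    have h2 : Nontrivial ((H a X : Type u) ⊗[A] (H b (toD Q) : Type u)) := nontrivial_tensor _ _
    have h3 : Subsingleton ((H a X : Type u) ⊗[A] (H b (toD Q) : Type u)) :=
      κ.symm.injective.subsingleton
    exact not_subsingleton _ h3
  -- `H^a X ≅ A`
  obtain ⟨κ0⟩ := top_tensor Q hQK b hQb X a 0 hab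
  let eA : (H 0 (G.obj X) : Type u) ≃ₗ[A] A :=
    ((homologyFunctor (ModuleCat.{u} A) 0).mapIso h ≪≫ hA).toLinearEquiv
  obtain ⟨eM⟩ := nonempty_equiv_of_tensor_equiv (H a X) (H b (toD Q)) (κ0.symm.trans eA)
  -- `τ_{≥ a} X` is `A` in degree `a`
  let Xge := (t.truncGE a).obj X
  let Xlt := (t.truncLT a).obj X
  haveI : Xge.IsLE a := (isLE_iff _ a).2 (fun i hi => by
    have := Groth.Agent.H33.isIso_homology_truncGEπ X a i (by omega)
    exact (haX' i hi).of_iso (asIso ((homologyFunctor (ModuleCat.{u} A) i).map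
      ((t.truncGEπ a).app X))).symm)
  haveI : Xge.IsGE a := inferInstanceAs (((t.truncGE a).obj X).IsGE a)
  obtain ⟨Y, ⟨eY⟩⟩ := exists_iso_singleFunctor_obj_of_isGE_of_isLE Xge a
  have iπ := Groth.Agent.H33.isIso_homology_truncGEπ X a a le_rfl
  let eYA : Y ≅ ModuleCat.of A A :=
    ((singleFunctorCompHomologyFunctorIso (ModuleCat.{u} A) a).app Y).symm ≪≫
      (homologyFunctor (ModuleCat.{u} A) a).mapIso eY.symm ≪≫
      (asIso ((homologyFunctor (ModuleCat.{u} A) a).map ((t.truncGEπ a).app X))).symm ≪≫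
      eM.toModuleIso
  let S : Cx A := (HomologicalComplex.single (ModuleCat.{u} A) (ComplexShape.up ℤ) a).obj
    (ModuleCat.of A A)
  let eS : Xge ≅ toD S := eY ≪≫ (singleFunctor (ModuleCat.{u} A) a).mapIso eYA ≪≫
    (singleFunctorIsoCompQ (ModuleCat.{u} A) a).app _
  -- the truncation triangle splits
  have hT := t.triangleLTGE_distinguished a X
  have hzero : ((t.triangleLTGE a).obj X).mor₃ = 0 := by
    haveI : t.IsLE (Xlt⟦(1 : ℤ)⟧) (a - 1) := by
      haveI : t.IsLE Xlt (a - 1) := inferInstanceAs (t.IsLE ((t.truncLT a).obj X) (a - 1))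
      haveI := t.isLE_shift Xlt (a - 1) 1 (a - 2) (by omega)
      exact t.isLE_of_le _ (a - 2) (a - 1) (by omega)
    have hSp : ∀ j, Module.Projective A (S.X j) := by
      intro j
      by_cases hj : j = a
      · subst hj
        exact Module.Projective.of_equiv
          (HomologicalComplex.singleObjXSelf (ComplexShape.up ℤ) j
            (ModuleCat.of A A)).toLinearEquiv.symm
      · have hz := HomologicalComplex.isZero_single_obj_X (ComplexShape.up ℤ) a
          (ModuleCat.of A A) j hj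
        haveI : Subsingleton (S.X j) := ModuleCat.subsingleton_of_isZero hz
        infer_instance
    have h0 := SplitTrunc.hom_eq_zero_of_projective S a (a - 1)
      (fun j hj => HomologicalComplex.isZero_single_obj_X (ComplexShape.up ℤ) a _ j (by omega))
      (fun j hj => HomologicalComplex.isZero_single_obj_X (ComplexShape.up ℤ) a _ j (by omega))
      hSp (Xlt⟦(1 : ℤ)⟧) (eS.inv ≫ ((t.triangleLTGE a).obj X).mor₃)
    exact (cancel_epi eS.inv).1 (h0.trans comp_zero.symm)
  obtain ⟨e₀, he₁, -⟩ : ∃ e₀ : X ≅ Xlt ⊞ Xge, (t.truncLTι a).app X ≫ e₀.hom = biprod.inl ∧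
      (t.truncGEπ a).app X = e₀.hom ≫ biprod.snd :=
    exists_iso_binaryBiproduct_of_distTriang _ hT hzero
  let π : X ⟶ Xlt := e₀.hom ≫ biprod.fst
  have hπ : (t.truncLTι a).app X ≫ π = 𝟙 Xlt := by
    show (t.truncLTι a).app X ≫ e₀.hom ≫ biprod.fst = 𝟙 Xlt
    rw [← Category.assoc, he₁, biprod.inl_fst]
  -- `τ_{< a} X` vanishes
  have hlt0 : IsZero Xlt := by
    by_contra hne
    have hltc : ∀ i, a - 1 < i → IsZero (H i Xlt) := fun i hi =>
      Groth.Agent.H33.isZero_homology_truncLT X a i (by omega)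
    obtain ⟨a', ha', ha''⟩ := exists_top Xlt hne (a - 1) hltc
    have ha'lt : a' < a := by
      by_contra hh
      exact ha' (hltc a' (by omega))
    haveI : Xlt.IsLE a' := (isLE_iff _ a').2 (fun i hi => ha'' i hi)
    obtain ⟨κ'⟩ := top_tensor Q hQK b hQb Xlt a' (a' + b) rfl
    have iso' := Groth.Agent.H33.isIso_homology_truncLTι X a a' ha'lt
    haveI := hXfin a'
    let eqv : (H a' Xlt : Type u) ≃ₗ[A] (H a' X : Type u) :=
      (asIso ((homologyFunctor (ModuleCat.{u} A) a').map ((t.truncLTι a).app X))).toLinearEquiv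
    haveI : Module.Finite A (H a' Xlt) := Module.Finite.equiv eqv.symm
    haveI : Nontrivial (H a' Xlt) := nontrivial_of_not_isZero _ ha'
    have h2 : Nontrivial ((H a' Xlt : Type u) ⊗[A] (H b (toD Q) : Type u)) :=
      nontrivial_tensor _ _
    have hz : IsZero (H (a' + b) (G.obj X)) := hGA (a' + b) (by omega)
    have hretr : (homologyFunctor (ModuleCat.{u} A) (a' + b)).map (G.map ((t.truncLTι a).app X)) ≫
        (homologyFunctor (ModuleCat.{u} A) (a' + b)).map (G.map π) = 𝟙 _ := by
      rw [← Functor.map_comp, ← Functor.map_comp, hπ, CategoryTheory.Functor.map_id,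
        CategoryTheory.Functor.map_id]
    have hz' : IsZero (H (a' + b) (G.obj Xlt)) := by
      rw [IsZero.iff_id_eq_zero, ← hretr, hz.eq_of_tgt
        ((homologyFunctor (ModuleCat.{u} A) (a' + b)).map (G.map ((t.truncLTι a).app X))) 0,
        zero_comp]
    have h1 : Subsingleton (H (a' + b) (G.obj Xlt)) := ModuleCat.subsingleton_of_isZero hz'
    have h3 : Subsingleton ((H a' Xlt : Type u) ⊗[A] (H b (toD Q) : Type u)) :=
      κ'.symm.injective.subsingleton
    exact not_subsingleton _ h3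
  have iso2 : IsIso ((t.truncGEπ a).app X) := (Triangle.isZero₁_iff_isIso₂ _ hT).1 hlt0
  have hab' : a = -b := by omega
  subst hab'
  exact ⟨asIso ((t.truncGEπ (-b)).app X) ≪≫ eY ≪≫
    (singleFunctor (ModuleCat.{u} A) (-b)).mapIso eYA⟩

end Derived

end Groth.Agent.H35.InvCx
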