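import Mathlib

/-!
# (ACC) ascending chain condition for ideal sheaves on a Noetherian scheme
(helper35, squad piece for helper74, S16394)
-/

set_option autoImplicit false
universe u
open CategoryTheory MonoidalCategory CartesianMonoidalCategory MonObj GrpObj AlgebraicGeometry

namespace Groth.Agent.H35.JM_ACC

/-- on one affine open with Noetherian sections, the ideals `(s.sup I).ideal U` stabilise. -/
lemma exists_finset_stable {X : Scheme.{u}} {Φ : Type*} (I : Φ → X.IdealSheafData)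
    (U : X.affineOpens) [IsNoetherianRing Γ(X, U)] :
    ∃ s : Finset Φ, ∀ t : Finset Φ, s ⊆ t → (t.sup I).ideal U ≤ (s.sup I).ideal U := by
  classical
  let S : Set (Ideal Γ(X, U)) := Set.range (fun s : Finset Φ => (s.sup I).ideal U)
  have hne : S.Nonempty := ⟨_, ⟨∅, rfl⟩⟩
  obtain ⟨M, ⟨s, rfl⟩, hmax⟩ :=
    (set_has_maximal_iff_noetherian (R := Γ(X, U)) (M := Γ(X, U))).mpr inferInstance S hne
  refine ⟨s, fun t hst => ?_⟩
  have hle : (s.sup I).ideal U ≤ (t.sup I).ideal U :=
    Scheme.IdealSheafData.ideal_mono (Finset.sup_mono hst) U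
  have hnot := hmax _ ⟨t, rfl⟩
  by_contra hcon
  exact hnot (lt_of_le_of_ne hle (fun h => hcon (le_of_eq h.symm)))

/-- (ACC) -/
theorem exists_finset_sup_ge {X : Scheme.{u}} [IsNoetherian X] {Φ : Type*}
    (I : Φ → X.IdealSheafData) : ∃ s : Finset Φ, ∀ φ, I φ ≤ s.sup I := by
  classical
  have hc : IsCompact (X := X) ((⊤ : X.Opens) : Set X) := by
    simpa using (isCompact_univ : IsCompact (Set.univ : Set X))
  obtain ⟨𝒰, h𝒰fin, h𝒰⟩ := (isCompact_iff_finite_and_eq_biUnion_affineOpens (U := ⊤)).mp hc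
  have hN : ∀ U : X.affineOpens, IsNoetherianRing Γ(X, U) :=
    IsLocallyNoetherian.component_noetherian
  choose sU hsU using fun U : X.affineOpens => exists_finset_stable I U
  refine ⟨h𝒰fin.toFinset.biUnion sU, fun φ => ?_⟩
  refine Scheme.IdealSheafData.le_of_iSup_eq_top (fun i : 𝒰 => i.1) ?_ ?_
  · rw [h𝒰, iSup_subtype']
  · rintro ⟨U, hU⟩
    have h1 : sU U ⊆ insert φ (h𝒰fin.toFinset.biUnion sU) := by
      intro x hx
      refine Finset.mem_insert_of_mem ?_
      exact Finset.mem_biUnion.2 ⟨U, (Set.Finite.mem_toFinset h𝒰fin).2 hU, hx⟩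
    have h2 : sU U ⊆ h𝒰fin.toFinset.biUnion sU := by
      intro x hx
      exact Finset.mem_biUnion.2 ⟨U, (Set.Finite.mem_toFinset h𝒰fin).2 hU, hx⟩
    calc (I φ).ideal U ≤ ((insert φ (h𝒰fin.toFinset.biUnion sU)).sup I).ideal U :=
          Scheme.IdealSheafData.ideal_mono (Finset.le_sup (Finset.mem_insert_self _ _)) U
      _ ≤ ((sU U).sup I).ideal U := hsU U _ h1
      _ ≤ ((h𝒰fin.toFinset.biUnion sU).sup I).ideal U :=
          Scheme.IdealSheafData.ideal_mono (Finset.sup_mono h2) U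

end Groth.Agent.H35.JM_ACC
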