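import Mathlib
import Groth.Agent.H31.KFlatRing
import Groth.Agent.H31.KFlatBounded
import Groth.Agent.H31.KFlatSingle
import Groth.Agent.H31.StupidTower
import Groth.Agent.H40.KFlatBdd
import Groth.Agent.H11.UnivInj
import Groth.Agent.H12.FlatCxCone
import Groth.Agent.H35.LTensorCxTor

/-!
# A complex `K` with `K ⊗ M` acyclic for all finitely presented `M` is K-flat (helper35)
-/

set_option autoImplicit false
universe u
open CategoryTheory CategoryTheory.Limits MonoidalCategory HomologicalComplex TensorProduct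

namespace Groth.Agent.H35.KFlatFP

open Groth.Agent.H31 Groth.Agent.H31.KFlat

/-! ### linear algebra -/

section LA

variable {R : Type u} [CommRing R] {X Y Z : Type u} [AddCommGroup X] [Module R X]
  [AddCommGroup Y] [Module R Y] [AddCommGroup Z] [Module R Z]
  (f : X →ₗ[R] Y) (g : Y →ₗ[R] Z) (hfg : g ∘ₗ f = 0)

/-- the induced map `Y ⧸ range f → Z` -/
noncomputable def quotMap : (Y ⧸ LinearMap.range f) →ₗ[R] Z :=
  (LinearMap.range f).liftQ g (by
    rintro _ ⟨x, rfl⟩
    exact LinearMap.congr_fun hfg x)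

lemma quotMap_comp_mkQ : quotMap f g hfg ∘ₗ (LinearMap.range f).mkQ = g :=
  Submodule.liftQ_mkQ _ _ _

lemma exact_rTensor_iff (M : Type u) [AddCommGroup M] [Module R M] :
    Function.Exact (f.rTensor M) (g.rTensor M) ↔
      Function.Injective ((quotMap f g hfg).rTensor M) := by
  have hπ : Function.Surjective (LinearMap.range f).mkQ := Submodule.mkQ_surjective _
  have hex : Function.Exact f (LinearMap.range f).mkQ := by
    intro y
    rw [Submodule.mkQ_apply, Submodule.Quotient.mk_eq_zero]
    rfl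
  have hexM : Function.Exact (f.rTensor M) ((LinearMap.range f).mkQ.rTensor M) :=
    rTensor_exact M hex hπ
  have hπM : Function.Surjective ((LinearMap.range f).mkQ.rTensor M) :=
    LinearMap.rTensor_surjective M hπ
  have hfac : ∀ y, (quotMap f g hfg).rTensor M ((LinearMap.range f).mkQ.rTensor M y) =
      g.rTensor M y := by
    intro y
    rw [← LinearMap.comp_apply, ← LinearMap.rTensor_comp, quotMap_comp_mkQ]
  constructor
  · intro h
    rw [injective_iff_map_eq_zero]
    intro z hz
    obtain ⟨y, rfl⟩ := hπM z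
    rw [hfac] at hz
    obtain ⟨x, rfl⟩ := (h y).1 hz
    exact (hexM _).2 ⟨x, rfl⟩
  · intro h y
    constructor
    · intro hy
      rw [← hfac] at hy
      exact (hexM y).1 (h (hy.trans (map_zero _).symm))
    · rintro ⟨x, rfl⟩
      rw [← LinearMap.comp_apply, ← LinearMap.rTensor_comp, hfg, LinearMap.rTensor_zero]
      rfl

end LA

/-! ### from finitely presented modules to all modules -/

section StepA

variable {R : Type u} [CommRing R]

lemma exactAt_tensorCx_iff (K : DRing.Cx R) (M : ModuleCat.{u} R) (i : ℤ) :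
    (DRing.tensorCx K M).ExactAt i ↔
      Function.Exact ((K.d (i - 1) i).hom.rTensor M) ((K.d i (i + 1)).hom.rTensor M) := by
  rw [Groth.Agent.H12.FlatCx.exactAt_iff_elem _ (i - 1) i (i + 1) (by simp) (by simp)]
  constructor
  · intro h y
    constructor
    · intro hy
      obtain ⟨x, hx⟩ := h y hy
      exact ⟨x, hx⟩
    · rintro ⟨x, rfl⟩
      exact Groth.Agent.H12.FlatCx.dT_dT_apply K M (i - 1) i (i + 1) x
  · intro h y hy
    obtain ⟨x, hx⟩ := (h y).1 hy
    exact ⟨x, hx⟩

theorem acyclic_tensorCx_all (K : DRing.Cx R)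
    (hK : ∀ (M : Type u) [AddCommGroup M] [Module R M], Module.FinitePresentation R M →
      (∀ i : ℤ, IsZero ((DRing.tensorCx K (ModuleCat.of R M)).homology i)))
    (M : ModuleCat.{u} R) : (DRing.tensorCx K M).Acyclic := by
  intro i
  have hfg : (K.d i (i + 1)).hom ∘ₗ (K.d (i - 1) i).hom = 0 := by
    ext y
    exact Groth.Agent.H12.FlatCx.d_d_apply K (i - 1) i (i + 1) y
  rw [exactAt_tensorCx_iff, exact_rTensor_iff _ _ hfg, ← LinearMap.lTensor_inj_iff_rTensor_inj]
  refine Groth.Agent.H11.lTensor_inj_all _ (fun Q _ _ hQ => ?_) M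
  rw [LinearMap.lTensor_inj_iff_rTensor_inj, ← exact_rTensor_iff _ _ hfg]
  have h1 : (DRing.tensorCx K (ModuleCat.of R Q)).ExactAt i :=
    (exactAt_iff_isZero_homology _ _).2 (hK Q hQ i)
  exact (exactAt_tensorCx_iff K (ModuleCat.of R Q) i).1 h1

end StepA

/-! ### complexes concentrated in one degree -/

section Single

variable {C₁ C₂ D : Type*} [Category C₁] [Category C₂] [Category D]
  [Abelian C₁] [Abelian C₂] [Abelian D]
  (F : C₁ ⥤ C₂ ⥤ D) [F.Additive] [∀ X, (F.obj X).Additive]
  [∀ (K₁ : CochainComplex C₁ ℤ) (K₂ : CochainComplex C₂ ℤ),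
    HasMapBifunctor K₁ K₂ F (ComplexShape.up ℤ)]

/-- If `S` is concentrated in degree `j` and `F(L, S^j)` is acyclic, then `Tot(F(L, S))` is
acyclic. -/
theorem acyclic_mapBifunctor_of_concentrated' (L : CochainComplex C₁ ℤ)
    (S : CochainComplex C₂ ℤ) (j : ℤ) (hS : ∀ q, q ≠ j → IsZero (S.X q))
    [(F.flip.obj (S.X j)).Additive]
    (hL : (((F.flip.obj (S.X j)).mapHomologicalComplex (ComplexShape.up ℤ)).obj L).Acyclic) :
    (mapBifunctor L S F (ComplexShape.up ℤ)).Acyclic := by
  intro n
  rw [exactAt_iff' _ (n - 1) n (n + 1) (by simp) (by simp)]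
  have hex' : ((L.sc' (n - 1 - j) (n - j) (n + 1 - j)).map (F.flip.obj (S.X j))).Exact :=
    (exactAt_iff' _ _ _ _ (by simp; omega) (by simp; omega)).1 (hL (n - j))
  have π1 : ComplexShape.π (ComplexShape.up ℤ) (ComplexShape.up ℤ) (ComplexShape.up ℤ)
      (n - 1 - j, j) = n - 1 := by simp
  have π2 : ComplexShape.π (ComplexShape.up ℤ) (ComplexShape.up ℤ) (ComplexShape.up ℤ)
      (n - j, j) = n := by simp
  have π3 : ComplexShape.π (ComplexShape.up ℤ) (ComplexShape.up ℤ) (ComplexShape.up ℤ)
      (n + 1 - j, j) = n + 1 := by simp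
  have i1 := isIso_ιMapBifunctor_of_isZero F L S j hS (n - 1 - j) (n - 1) π1
  have i2 := isIso_ιMapBifunctor_of_isZero F L S j hS (n - j) n π2
  have i3 := isIso_ιMapBifunctor_of_isZero F L S j hS (n + 1 - j) (n + 1) π3
  have hd0 : S.d j (j + 1) = 0 := (hS (j + 1) (by omega)).eq_of_tgt _ _
  have key : ∀ (a b m m' : ℤ) (hab : a + 1 = b)
      (ha : ComplexShape.π (ComplexShape.up ℤ) (ComplexShape.up ℤ) (ComplexShape.up ℤ) (a, j) = m)
      (hb : ComplexShape.π (ComplexShape.up ℤ) (ComplexShape.up ℤ) (ComplexShape.up ℤ) (b, j) = m'),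
      ιMapBifunctor L S F (ComplexShape.up ℤ) a j m ha ≫
          (mapBifunctor L S F (ComplexShape.up ℤ)).d m m' =
        (F.map (L.d a b)).app (S.X j) ≫ ιMapBifunctor L S F (ComplexShape.up ℤ) b j m' hb := by
    intro a b m m' hab ha hb
    have hm : m + 1 = m' := by
      have h1 : a + j = m := ha
      have h2 : b + j = m' := hb
      omega
    rw [mapBifunctor.d_eq, Preadditive.comp_add, mapBifunctor.ι_D₁, mapBifunctor.ι_D₂,
      mapBifunctor.d₁_eq L S F (ComplexShape.up ℤ) (show (ComplexShape.up ℤ).Rel a b from hab)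
        j m' hb,
      mapBifunctor.d₂_eq L S F (ComplexShape.up ℤ) a
        (show (ComplexShape.up ℤ).Rel j (j + 1) from rfl) m' (by
          show a + (j + 1) = m'
          have h1 : a + j = m := ha
          omega),
      hd0, Functor.map_zero, zero_comp, smul_zero, add_zero]
    have hε : ComplexShape.ε₁ (ComplexShape.up ℤ) (ComplexShape.up ℤ) (ComplexShape.up ℤ)
        (a, j) = 1 := rfl
    rw [hε, one_smul]
  refine ShortComplex.exact_of_iso (ShortComplex.isoMk
    (@asIso _ _ _ _ _ i1) (@asIso _ _ _ _ _ i2) (@asIso _ _ _ _ _ i3) ?_ ?_) hex'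
  · exact key (n - 1 - j) (n - j) (n - 1) n (by omega) π1 π2
  · exact key (n - j) (n + 1 - j) n (n + 1) (by omega) π2 π3

end Single

/-! ### dévissage of bounded above complexes along degreewise split sequences -/

section Tower

open Groth.Agent.H31.Tower

variable {A : Type*} [Category A] [Abelian A]

theorem bounded_above_induction_split (KF : CochainComplex A ℤ → Prop)
    (h_conc : ∀ (S : CochainComplex A ℤ) (j : ℤ), (∀ q, q ≠ j → IsZero (S.X q)) → KF S)
    (h_ses : ∀ S : ShortComplex (CochainComplex A ℤ),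
      (∀ n, Nonempty ((S.map (eval A (ComplexShape.up ℤ) n)).Splitting)) →
      KF S.X₁ → KF S.X₃ → KF S.X₂)
    (h_colim : ∀ (Φ : ℕ ⥤ CochainComplex A ℤ) (s : Cocone Φ), IsColimit s →
      (∀ m, KF (Φ.obj m)) → KF s.pt)
    (K : CochainComplex A ℤ) (b : ℤ) (hb : ∀ q, b < q → IsZero (K.X q)) : KF K := by
  have h0 : KF ((tower K b).obj 0) := h_conc _ b (isZero_tower_zero_X K b hb)
  have hstep : ∀ m, KF ((tower K b).obj m) → KF ((tower K b).obj (m + 1)) := by
    intro m hm
    have hQ' : KF (towerSC K b m).X₃ := h_conc _ (b - m - 1) (isZero_towerSC_X₃_X K b m)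
    refine h_ses (towerSC K b m) (fun q => ?_) hm hQ'
    have hS := (towerSC_shortExact K b m).map_of_exact (eval A (ComplexShape.up ℤ) q)
    by_cases hq : q = b - m - 1
    · have h0 : IsZero ((towerSC K b m).map (eval A (ComplexShape.up ℤ) q)).X₁ := by
        subst hq
        exact isZero_tower_X K b m (b - m - 1) (by unfold Pm; omega)
      haveI := hS.epi_g
      exact ⟨ShortComplex.Splitting.ofExactOfRetraction _ hS.exact 0 (h0.eq_of_src _ _)
        inferInstance⟩
    · have h0 : IsZero ((towerSC K b m).map (eval A (ComplexShape.up ℤ) q)).X₃ :=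
        isZero_towerSC_X₃_X K b m q hq
      haveI := hS.mono_f
      exact ⟨ShortComplex.Splitting.ofExactOfSection _ hS.exact 0 (h0.eq_of_src _ _)
        inferInstance⟩
  have hall : ∀ m, KF ((tower K b).obj m) := fun m => Nat.rec h0 (fun m ih => hstep m ih) m
  obtain ⟨hc⟩ := isColimit_towerCocone K b
  exact h_colim (tower K b) (towerCocone K b) hc hall

end Tower

/-! ### the main theorem -/

section Main

variable {R : Type u} [CommRing R] (K : DRing.Cx R)

theorem acyclic_tensor_of_bounded_above (hK : ∀ M : ModuleCat.{u} R, (DRing.tensorCx K M).Acyclic)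
    (L : DRing.Cx R) (b : ℤ) (hb : ∀ q, b < q → IsZero (L.X q)) :
    (mapBifunctor K L (curriedTensor (ModuleCat.{u} R)) (ComplexShape.up ℤ)).Acyclic := by
  have := KFlatRing.hasExactColimitsOfShape_nat (R := R)
  refine bounded_above_induction_split
    (fun L => (mapBifunctor K L (curriedTensor (ModuleCat.{u} R)) (ComplexShape.up ℤ)).Acyclic)
    ?_ ?_ ?_ L b hb
  · intro S j hS
    haveI : ((curriedTensor (ModuleCat.{u} R)).flip.obj (S.X j)).Additive :=
      additive_flip_obj _ _
    exact acyclic_mapBifunctor_of_concentrated' (curriedTensor (ModuleCat.{u} R)) K S j hS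
      (hK (S.X j))
  · intro S σ h1 h3
    exact (shortExact_map_obj_of_split (curriedTensor (ModuleCat.{u} R)) K S σ).acyclic_X₂ h1 h3
  · intro Φ s hs h
    exact acyclic_mapBifunctor_of_isColimit (curriedTensor (ModuleCat.{u} R)) K Φ s hs h

theorem acyclic_tensor_all (hK : ∀ M : ModuleCat.{u} R, (DRing.tensorCx K M).Acyclic)
    (L : DRing.Cx R) :
    (mapBifunctor K L (curriedTensor (ModuleCat.{u} R)) (ComplexShape.up ℤ)).Acyclic := by
  have := KFlatRing.hasExactColimitsOfShape_nat (R := R)
  let X : ℕ → DRing.Cx R := fun k => L.truncLE (k : ℤ)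
  let f : ∀ k, X k ⟶ X (k + 1) := fun k =>
    Groth.Agent.H40.KFlatBdd.truncLETrans L (k : ℤ) ((k + 1 : ℕ) : ℤ) (by push_cast; omega)
  let c : Cocone (Functor.ofSequence f) :=
    { pt := L
      ι := NatTrans.ofSequence (fun k => L.ιTruncLE (k : ℤ)) (fun k => by
        rw [Functor.ofSequence_map_homOfLE_succ]
        exact (Groth.Agent.H40.KFlatBdd.truncLETrans_ι L _ _ _).trans (Category.comp_id _).symm) }
  have hc : Nonempty (IsColimit c) := by
    have h : ∀ q : ℤ, Nonempty (IsColimit
        ((eval (ModuleCat.{u} R) (ComplexShape.up ℤ) q).mapCocone c)) := fun q =>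
      Groth.Agent.H31.Tower.isColimit_of_eventually_isIso _ _ (q + 1).toNat (fun m hm => by
        show IsIso ((L.ιTruncLE (m : ℤ)).f q)
        apply Groth.Agent.H40.KFlatBdd.isIso_ιTruncLE_f
        omega)
    exact ⟨isColimitOfEval _ _ (fun q => (h q).some)⟩
  obtain ⟨hc⟩ := hc
  exact acyclic_mapBifunctor_of_isColimit (curriedTensor (ModuleCat.{u} R)) K
    (Functor.ofSequence f) c hc
    (fun m => acyclic_tensor_of_bounded_above K hK (L.truncLE (m : ℤ)) m
      (fun q hq => CochainComplex.isZero_of_isStrictlyLE _ (m : ℤ) q hq))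

theorem kflat_of_fp
    (hK : ∀ (M : Type u) [AddCommGroup M] [Module R M], Module.FinitePresentation R M →
      (∀ i : ℤ, IsZero ((DRing.tensorCx K (ModuleCat.of R M)).homology i))) :
    ∀ L : DRing.Cx R, (∀ i : ℤ, IsZero (L.homology i)) → ∀ i : ℤ, IsZero ((L ⊗ K).homology i) := by
  intro L _ i
  have h := acyclic_tensor_all K (acyclic_tensorCx_all K hK) L
  have h' : (L ⊗ K).Acyclic := acyclic_of_iso (Groth.Agent.H35.LTC.braidCx K L) h
  exact (exactAt_iff_isZero_homology _ _).1 (h' i)

end Main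

end Groth.Agent.H35.KFlatFP
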