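import Groth.Agent.H46.KunModel

/-!
# Top degree Künneth formula for cochain complexes of modules (helper35)

If `P` vanishes above `a` and `Q` vanishes above `b` then
`H^{a+b}(P ⊗ Q) ≅ H^a(P) ⊗ H^b(Q)` (right exactness of the tensor product).
-/

set_option autoImplicit false
set_option linter.style.haveILetI false
universe u
open CategoryTheory CategoryTheory.Limits MonoidalCategory HomologicalComplex TensorProduct

namespace Groth.Agent.H35.KunTop

open Groth.Agent.H46.Kun

variable {A : Type u} [CommRing A]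

lemma subsingleton_tensor_left (M N : ModuleCat.{u} A) (h : IsZero M) :
    Subsingleton ((M : Type u) ⊗[A] (N : Type u)) := by
  haveI : Subsingleton M := ModuleCat.subsingleton_of_isZero h
  refine ⟨fun x y => ?_⟩
  have h0 : ∀ z : (M : Type u) ⊗[A] (N : Type u), z = 0 := by
    intro z
    induction z using TensorProduct.induction_on with
    | zero => rfl
    | tmul m n => rw [Subsingleton.elim m 0, TensorProduct.zero_tmul]
    | add z w hz hw => rw [hz, hw, add_zero]
  rw [h0 x, h0 y]

lemma subsingleton_tensor_right (M N : ModuleCat.{u} A) (h : IsZero N) :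
    Subsingleton ((M : Type u) ⊗[A] (N : Type u)) := by
  haveI : Subsingleton N := ModuleCat.subsingleton_of_isZero h
  refine ⟨fun x y => ?_⟩
  have h0 : ∀ z : (M : Type u) ⊗[A] (N : Type u), z = 0 := by
    intro z
    induction z using TensorProduct.induction_on with
    | zero => rfl
    | tmul m n => rw [Subsingleton.elim n 0, TensorProduct.tmul_zero]
    | add z w hz hw => rw [hz, hw, add_zero]
  rw [h0 x, h0 y]

variable (P Q : CochainComplex (ModuleCat.{u} A) ℤ)

/-- the inclusion of a summand, as a linear map -/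
noncomputable abbrev ιl (p q n : ℤ) (h : p + q = n) :
    ((P.X p : Type u) ⊗[A] (Q.X q : Type u)) →ₗ[A] ((HomologicalComplex.tensorObj P Q).X n) :=
  (ιTensorObj P Q p q n h).hom

lemma ιl_injective (p q n : ℤ) (h : p + q = n) : Function.Injective (ιl P Q p q n h) := by
  intro t t' htt
  have h1 := Ψinv_ι P Q (⟨(p, q), h⟩ : AD n) t
  have h2 := Ψinv_ι P Q (⟨(p, q), h⟩ : AD n) t'
  have h3 : DirectSum.lof A (AD n) (T P Q) ⟨(p, q), h⟩ t =
      DirectSum.lof A (AD n) (T P Q) ⟨(p, q), h⟩ t' := by
    rw [← h1, ← h2]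
    exact congrArg _ htt
  have h4 := congrArg (DirectSum.component A (AD n) (T P Q) ⟨(p, q), h⟩) h3
  rwa [DirectSum.component.lof_self, DirectSum.component.lof_self] at h4

variable (a b : ℤ) (hP : ∀ i, a < i → IsZero (P.X i)) (hQ : ∀ j, b < j → IsZero (Q.X j))

include hP hQ in
lemma exists_top (n : ℤ) (hn : a + b = n) (y : (HomologicalComplex.tensorObj P Q).X n) :
    ∃ t, y = ιl P Q a b n hn t := by
  obtain ⟨w, rfl⟩ := Ψ_surjective P Q n y
  induction w using DirectSum.induction_on with
  | zero => exact ⟨0, by rw [map_zero, map_zero]⟩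
  | of x t =>
    change ∃ t', Ψ P Q n (DirectSum.lof A (AD n) (T P Q) x t) = _
    rw [Ψ_lof]
    obtain ⟨⟨p, q⟩, h⟩ := x
    by_cases hpq : p = a ∧ q = b
    · obtain ⟨rfl, rfl⟩ := hpq
      exact ⟨t, rfl⟩
    · have hz : a < p ∨ b < q := by
        have h' : p + q = n := h
        by_contra hc
        simp only [not_or, not_lt] at hc
        exact hpq ⟨by omega, by omega⟩
      have : Subsingleton ((P.X p : Type u) ⊗[A] (Q.X q : Type u)) := by
        rcases hz with hz | hz
        · exact subsingleton_tensor_left _ _ (hP p hz)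
        · exact subsingleton_tensor_right _ _ (hQ q hz)
      refine ⟨0, ?_⟩
      have ht : t = 0 := Subsingleton.elim _ _
      rw [ht, map_zero, map_zero]
  | add w w' hw hw' =>
    obtain ⟨t, ht⟩ := hw
    obtain ⟨t', ht'⟩ := hw'
    exact ⟨t + t', by rw [map_add, ht, ht', map_add]⟩

include hP hQ in
lemma exists_sub_top (a' b' m : ℤ) (ha : a' + 1 = a) (hb : b' + 1 = b) (hm : a + b = m + 1)
    (y : (HomologicalComplex.tensorObj P Q).X m) :
    ∃ z z', y = ιl P Q a' b m (by omega) z + ιl P Q a b' m (by omega) z' := by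
  obtain ⟨w, rfl⟩ := Ψ_surjective P Q m y
  induction w using DirectSum.induction_on with
  | zero => exact ⟨0, 0, by rw [map_zero, map_zero, map_zero, add_zero]⟩
  | of x t =>
    change ∃ z z', Ψ P Q m (DirectSum.lof A (AD m) (T P Q) x t) = _
    rw [Ψ_lof]
    obtain ⟨⟨p, q⟩, h⟩ := x
    by_cases hpq : p = a' ∧ q = b
    · obtain ⟨rfl, rfl⟩ := hpq
      exact ⟨t, 0, by rw [map_zero, add_zero]⟩
    · by_cases hpq' : p = a ∧ q = b'
      · obtain ⟨rfl, rfl⟩ := hpq'
        exact ⟨0, t, by rw [map_zero, zero_add]⟩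
      · have hz : a < p ∨ b < q := by
          have h' : p + q = m := h
          by_contra hc
          simp only [not_or, not_lt] at hc
          by_cases h1 : p = a
          · exact hpq' ⟨h1, by omega⟩
          · exact hpq ⟨by omega, by omega⟩
        have : Subsingleton ((P.X p : Type u) ⊗[A] (Q.X q : Type u)) := by
          rcases hz with hz | hz
          · exact subsingleton_tensor_left _ _ (hP p hz)
          · exact subsingleton_tensor_right _ _ (hQ q hz)
        refine ⟨0, 0, ?_⟩
        have ht : t = 0 := Subsingleton.elim _ _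
        rw [ht, map_zero, map_zero, map_zero, add_zero]
  | add w w' hw hw' =>
    obtain ⟨z, z', ht⟩ := hw
    obtain ⟨y, y', ht'⟩ := hw'
    refine ⟨z + y, z' + y', ?_⟩
    rw [map_add, ht, ht', map_add, map_add]
    abel


/-- exactness of `d` followed by the projection to `opcycles`, as functions -/
lemma exact_d_pOpcycles (K : CochainComplex (ModuleCat.{u} A) ℤ) (i j : ℤ) (hij : i + 1 = j) :
    Function.Exact (K.d i j).hom (K.pOpcycles j).hom := by
  have hc : (ComplexShape.up ℤ).prev j = i := by
    rw [CochainComplex.prev]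
    omega
  have hS : (ShortComplex.mk (K.d i j) (K.pOpcycles j) (K.d_pOpcycles i j)).Exact :=
    ShortComplex.exact_of_g_is_cokernel _ (K.opcyclesIsCokernel i j hc)
  exact (ShortComplex.ShortExact.moduleCat_exact_iff_function_exact _).1 hS

lemma surjective_pOpcycles (K : CochainComplex (ModuleCat.{u} A) ℤ) (j : ℤ) :
    Function.Surjective (K.pOpcycles j).hom :=
  (ModuleCat.epi_iff_surjective _).1 inferInstance

include hP hQ in
/-- `opcycles^{a+b}(P ⊗ Q) ≅ opcycles^a(P) ⊗ opcycles^b(Q)` when `P`, `Q` vanish above `a`, `b`. -/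
theorem nonempty_opcycles_equiv (n : ℤ) (hn : a + b = n) :
    Nonempty (((HomologicalComplex.tensorObj P Q).opcycles n) ≃ₗ[A]
      ((P.opcycles a : Type u) ⊗[A] (Q.opcycles b : Type u))) := by
  let X := HomologicalComplex.tensorObj P Q
  let f : ((P.X a : Type u) ⊗[A] (Q.X b : Type u)) →ₗ[A] (X.opcycles n) :=
    (X.pOpcycles n).hom ∘ₗ ιl P Q a b n hn
  let g : ((P.X a : Type u) ⊗[A] (Q.X b : Type u)) →ₗ[A]
      ((P.opcycles a : Type u) ⊗[A] (Q.opcycles b : Type u)) :=
    TensorProduct.map (P.pOpcycles a).hom (Q.pOpcycles b).hom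
  have hf : Function.Surjective f := by
    intro y
    obtain ⟨x, rfl⟩ := surjective_pOpcycles X n y
    obtain ⟨t, rfl⟩ := exists_top P Q a b hP hQ n hn x
    exact ⟨t, rfl⟩
  have hg : Function.Surjective g :=
    TensorProduct.map_surjective (surjective_pOpcycles P a) (surjective_pOpcycles Q b)
  have hkg : LinearMap.ker g =
      LinearMap.range (LinearMap.lTensor (P.X a) (Q.d (b - 1) b).hom) ⊔
        LinearMap.range (LinearMap.rTensor (Q.X b) (P.d (a - 1) a).hom) :=
    TensorProduct.map_ker (exact_d_pOpcycles P (a - 1) a (by omega)) (surjective_pOpcycles P a)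
      (exact_d_pOpcycles Q (b - 1) b (by omega)) (surjective_pOpcycles Q b)
  -- the two basic relations
  have hd1 := Groth.Agent.H58.TensorCone.ι_d Q (X := P) (a - 1) b (n - 1) n a (b + 1)
    (by omega) (by omega) (by omega) rfl
  have hd2 := Groth.Agent.H58.TensorCone.ι_d Q (X := P) a (b - 1) (n - 1) n (a + 1) b
    (by omega) (by omega) rfl (by omega)
  have hQ0 : Q.d b (b + 1) = 0 := (hQ (b + 1) (by omega)).eq_of_tgt _ _
  have hP0 : P.d a (a + 1) = 0 := (hP (a + 1) (by omega)).eq_of_tgt _ _
  rw [hQ0, MonoidalPreadditive.whiskerLeft_zero, zero_comp, smul_zero, add_zero] at hd1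
  rw [hP0, MonoidalPreadditive.zero_whiskerRight, zero_comp, zero_add] at hd2
  have e1 : ∀ z : (P.X (a - 1) : Type u) ⊗[A] (Q.X b : Type u),
      ιl P Q a b n hn (LinearMap.rTensor (Q.X b) (P.d (a - 1) a).hom z) =
        (X.d (n - 1) n).hom (ιl P Q (a - 1) b (n - 1) (by omega) z) := by
    intro z
    exact (congrArg (fun φ => φ.hom z) hd1).symm
  have e2 : ∀ z : (P.X a : Type u) ⊗[A] (Q.X (b - 1) : Type u),
      ((a.negOnePow : ℤˣ) : ℤ) •
        ιl P Q a b n hn (LinearMap.lTensor (P.X a) (Q.d (b - 1) b).hom z) =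
        (X.d (n - 1) n).hom (ιl P Q a (b - 1) (n - 1) (by omega) z) := by
    intro z
    have := (congrArg (fun φ => φ.hom z) hd2).symm
    simp only [ModuleCat.hom_comp, LinearMap.coe_comp, Function.comp_apply] at this
    rw [Units.smul_def, ModuleCat.hom_zsmul, LinearMap.smul_apply, ModuleCat.hom_comp,
      LinearMap.comp_apply] at this
    exact this
  have hdp : ∀ y, (X.pOpcycles n).hom ((X.d (n - 1) n).hom y) = 0 := fun y =>
    congrArg (fun φ => φ.hom y) (X.d_pOpcycles (n - 1) n)
  have hker : LinearMap.ker f = LinearMap.ker g := by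
    rw [hkg]
    apply le_antisymm
    · intro t ht
      have ht' : (X.pOpcycles n).hom (ιl P Q a b n hn t) = 0 := ht
      obtain ⟨y, hy⟩ := (exact_d_pOpcycles X (n - 1) n (by omega) _).1 ht'
      obtain ⟨z, z', rfl⟩ := exists_sub_top P Q a b hP hQ (a - 1) (b - 1) (n - 1) (by omega)
        (by omega) (by omega) y
      rw [map_add, ← e1, ← e2, ← map_zsmul, ← map_add] at hy
      have := ιl_injective P Q a b n hn hy
      rw [← this]
      refine Submodule.add_mem _ (Submodule.mem_sup_right ⟨z, rfl⟩) (Submodule.mem_sup_left ?_)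
      exact Submodule.smul_of_tower_mem _ _ ⟨z', rfl⟩
    · refine sup_le ?_ ?_
      · rintro _ ⟨z, rfl⟩
        show (X.pOpcycles n).hom (ιl P Q a b n hn _) = 0
        have h1 := e2 z
        have h2 : (X.pOpcycles n).hom (((a.negOnePow : ℤˣ) : ℤ) •
            ιl P Q a b n hn (LinearMap.lTensor (P.X a) (Q.d (b - 1) b).hom z)) = 0 := by
          rw [h1]
          exact hdp _
        rw [map_zsmul] at h2
        have hε : ((a.negOnePow : ℤˣ) : ℤ) * ((a.negOnePow : ℤˣ) : ℤ) = 1 := by
          rw [← Units.val_mul, Int.units_mul_self]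
          rfl
        have h3 := congrArg (fun v => ((a.negOnePow : ℤˣ) : ℤ) • v) h2
        simp only [smul_smul, smul_zero, hε, one_smul] at h3
        exact h3
      · rintro _ ⟨z, rfl⟩
        show (X.pOpcycles n).hom (ιl P Q a b n hn _) = 0
        rw [e1]
        exact hdp _
  exact ⟨(LinearMap.quotKerEquivOfSurjective f hf).symm.trans
    ((Submodule.quotEquivOfEq _ _ hker).trans (LinearMap.quotKerEquivOfSurjective g hg))⟩


include hP hQ in
lemma eq_zero_above (m : ℤ) (hm : a + b < m) (y : (HomologicalComplex.tensorObj P Q).X m) :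
    y = 0 := by
  obtain ⟨w, rfl⟩ := Ψ_surjective P Q m y
  induction w using DirectSum.induction_on with
  | zero => rw [map_zero]
  | of x t =>
    change Ψ P Q m (DirectSum.lof A (AD m) (T P Q) x t) = 0
    obtain ⟨⟨p, q⟩, h⟩ := x
    have hz : a < p ∨ b < q := by
      have h' : p + q = m := h
      by_contra hc
      simp only [not_or, not_lt] at hc
      omega
    have : Subsingleton ((P.X p : Type u) ⊗[A] (Q.X q : Type u)) := by
      rcases hz with hz | hz
      · exact subsingleton_tensor_left _ _ (hP p hz)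
      · exact subsingleton_tensor_right _ _ (hQ q hz)
    have ht : t = 0 := Subsingleton.elim _ _
    rw [ht, map_zero, map_zero]
  | add w w' hw hw' => rw [map_add, hw, hw', add_zero]

include hP hQ in
/-- `H^{a+b}(P ⊗ Q) ≅ H^a(P) ⊗ H^b(Q)` when `P`, `Q` vanish above `a`, `b`. -/
theorem nonempty_homology_equiv (n : ℤ) (hn : a + b = n) :
    Nonempty (((HomologicalComplex.tensorObj P Q).homology n) ≃ₗ[A]
      ((P.homology a : Type u) ⊗[A] (Q.homology b : Type u))) := by
  obtain ⟨e⟩ := nonempty_opcycles_equiv P Q a b hP hQ n hn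
  have hX0 : (HomologicalComplex.tensorObj P Q).d n (n + 1) = 0 := by
    ext y
    exact eq_zero_above P Q a b hP hQ (n + 1) (by omega) _
  have hP0 : P.d a (a + 1) = 0 := (hP (a + 1) (by omega)).eq_of_tgt _ _
  have hQ0 : Q.d b (b + 1) = 0 := (hQ (b + 1) (by omega)).eq_of_tgt _ _
  have nx : ∀ k : ℤ, (ComplexShape.up ℤ).next k = k + 1 := fun k => CochainComplex.next ℤ k
  let eX := ((HomologicalComplex.tensorObj P Q).isoHomologyι n (n + 1) (nx n) hX0).toLinearEquiv
  let eP := (P.isoHomologyι a (a + 1) (nx a) hP0).toLinearEquiv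
  let eQ := (Q.isoHomologyι b (b + 1) (nx b) hQ0).toLinearEquiv
  exact ⟨eX.trans (e.trans (TensorProduct.congr eP eQ).symm)⟩

end Groth.Agent.H35.KunTop
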