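import Mathlib
import Groth.Prelude.Def_Wider
import Groth.Agent.H12.AdjFin
import Groth.Agent.H12.LocHomF

/-!
# Local duality squad, package LD-S (helper35 for helper71): shifting Hom modules in `D(A)` and
finiteness of `Hom(M[j], ω)` for a dualizing complex `ω`.
-/

set_option autoImplicit false
universe u
open CategoryTheory CategoryTheory.Limits
attribute [local instance] HasDerivedCategory.standard

namespace Groth.Agent.LDS

/-- (S1) `Hom(K[i], L[0]) ≃ Hom(K, L[-i])`, `A`-linearly. -/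
theorem shiftEquiv (A : Type u) [CommRing A] (K L : Dual.D A) (i : ℤ) :
    Nonempty ((K⟦i⟧ ⟶ L⟦(0:ℤ)⟧) ≃ₗ[A] (K ⟶ L⟦-i⟧)) := by
  let e1 : (K ⟶ L⟦-i⟧) ≃ₗ[A] (K⟦i⟧ ⟶ (L⟦-i⟧)⟦i⟧) :=
    LinearEquiv.ofBijective ((shiftFunctor (Dual.D A) i).mapLinearMap A)
      ⟨(shiftFunctor (Dual.D A) i).map_injective, (shiftFunctor (Dual.D A) i).map_surjective⟩
  let e2 : (K⟦i⟧ ⟶ (L⟦-i⟧)⟦i⟧) ≃ₗ[A] (K⟦i⟧ ⟶ L⟦(0:ℤ)⟧) :=
    Linear.homCongr A (Iso.refl _)
      ((shiftFunctorAdd' (Dual.D A) (-i) i 0 (by omega)).app L).symm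
  exact ⟨(e1 ≪≫ₗ e2).symm⟩

/-- (S2) `Hom(M[j], ω[0])` is a finite module for `M` finite and `ω` dualizing. -/
theorem finite_hom (A : Type u) [CommRing A] [IsNoetherianRing A] (ω : Dual.D A)
    (hω : Dual.IsDualizing A ω) (M : Type u) [AddCommGroup M] [Module A M] [Module.Finite A M]
    (j : ℤ) : Module.Finite A ((Dual.inD A M)⟦j⟧ ⟶ ω⟦(0:ℤ)⟧) := by
  obtain ⟨a, b, hab⟩ := hω.finite_injective_dimension
  have h := Groth.Agent.H12.AdjFin.finite_hom_single_of_bddBelow ω a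
    (fun i hi => Groth.Agent.H12.LocHom.isZero_homology_of_isDualizing ω a b hab i (Or.inl hi))
    hω.finite_cohomology (ModuleCat.of A M) (-j)
  exact Groth.Agent.H12.FinExt.finite_hom_shift_left j 0 (-j) (by omega) h

end Groth.Agent.LDS
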