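import Groth.Agent.H35.LTensorCxDT
import Groth.Agent.H35.DerCompAdj
import Groth.Agent.H35.DerSeq
import Groth.Agent.H33.DerTrunc
import Groth.Agent.H31.KFlatCycles

/-!
# `X ⊗^L F` is derived complete for `X` derived complete bounded above and `F` a bounded above
complex of finite free modules (helper35)

Main result: `isDerivedComplete_obj`.
-/

set_option autoImplicit false
set_option linter.unusedSectionVars false
set_option linter.style.haveILetI false
universe u
open CategoryTheory CategoryTheory.Limits MonoidalCategory Pretriangulated HomologicalComplex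
attribute [local instance] HasDerivedCategory.standard

namespace Groth.Agent.H35.LTensorCxComplete

open DRing DerivedCategory DerivedCategory.TStructure Groth.Agent.H35 Groth.Agent.H35.TriChase
  Groth.Agent.H35.DerCompAdj Groth.Agent.H35.LTensorCxDT

variable {A : Type u} [CommRing A]

/-! ### elementary closure properties -/

lemma seqComplete_tensor {f : A} {M : Type u} [AddCommGroup M] [Module A M]
    (h : SeqComplete f M) (X : Type u) [AddCommGroup X] [Module A X] [Module.Finite A X]
    [Module.Free A X] : SeqComplete f (TensorProduct A M X) := by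
  classical
  rcases subsingleton_or_nontrivial A with hA | hA
  · haveI := Module.subsingleton A (TensorProduct A M X)
    exact SeqComplete.of_subsingleton
  · let b := Module.Free.chooseBasis A X
    haveI : Finite (Module.Free.ChooseBasisIndex A X) := Module.Finite.finite_basis b
    haveI := Fintype.ofFinite (Module.Free.ChooseBasisIndex A X)
    let e : TensorProduct A M X ≃ₗ[A] (Module.Free.ChooseBasisIndex A X → M) :=
      (TensorProduct.congr (LinearEquiv.refl A M) b.equivFun) ≪≫ₗ
        TensorProduct.piScalarRight A A M _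
    exact SeqComplete.of_linearEquiv e.symm (SeqComplete.pi (fun _ => h))

/-- The cohomology of a complex with `SeqComplete` terms is `SeqComplete`. -/
lemma seqComplete_homology {f : A} (E : Cx A) (hX : ∀ j, SeqComplete f (E.X j)) (i : ℤ) :
    SeqComplete f (Dual.HD A (Q.obj E) i) := by
  have iso1 : (DerivedCategory.homologyFunctor (ModuleCat.{u} A) i).obj (Q.obj E) ≅
      (E.sc i).moduleCatLeftHomologyData.H :=
    (DerivedCategory.homologyFunctorFactors (ModuleCat.{u} A) i).app E ≪≫
      (E.sc i).moduleCatHomologyIso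
  have hker : SeqComplete f (LinearMap.ker (E.sc i).g.hom) :=
    SeqComplete.ker _ (hX _) (hX _)
  have hH : SeqComplete f
      (LinearMap.ker (E.sc i).g.hom ⧸ LinearMap.range (E.sc i).moduleCatToCycles) :=
    SeqComplete.coker _ (hX _) hker
  exact SeqComplete.of_linearEquiv iso1.toLinearEquiv.symm hH

/-! ### closure of derived completeness in triangles -/

variable (I : Ideal A)

lemma isDerivedComplete_obj₂ (T : Triangle (Dual.D A)) (hT : T ∈ distTriang _)
    (h₁ : IsDerivedComplete I T.obj₁) (h₃ : IsDerivedComplete I T.obj₃) :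
    IsDerivedComplete I T.obj₂ :=
  isDerivedComplete_obj₃ I T.invRotate (inv_rot_of_distTriang _ hT)
    (isDerivedComplete_shift I h₃ (-1)) h₁

lemma isDerivedComplete_obj₁ (T : Triangle (Dual.D A)) (hT : T ∈ distTriang _)
    (h₂ : IsDerivedComplete I T.obj₂) (h₃ : IsDerivedComplete I T.obj₃) :
    IsDerivedComplete I T.obj₁ :=
  isDerivedComplete_obj₂ I T.invRotate (inv_rot_of_distTriang _ hT)
    (isDerivedComplete_shift I h₃ (-1)) h₂

lemma isDerivedComplete_truncLT {Z : Dual.D A} (hZ : IsDerivedComplete I Z) (n : ℤ) :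
    IsDerivedComplete I ((t.truncLT n).obj Z) :=
  isDerivedComplete_obj₁ I _ (t.triangleLTGE_distinguished n Z) hZ
    (isDerivedComplete_truncGE I hZ n)

/-! ### the tensor product -/

variable (F : Cx A) [DRing.HasLTensorCx A F]

/-- Base case: `N[-m] ⊗ F` for a module `N` which is `SeqComplete` for all `f ∈ I`. -/
lemma isDerivedComplete_single_tensor (hFf : TermwiseFiniteFree F) (N : ModuleCat.{u} A) (m : ℤ)
    (hN : ∀ f ∈ I, SeqComplete f N) :
    IsDerivedComplete I (Q.obj
      ((HomologicalComplex.single (ModuleCat.{u} A) (ComplexShape.up ℤ) m).obj N ⊗ F)) := by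
  rw [isDerivedComplete_iff_seqComplete]
  intro f hf i
  apply seqComplete_homology
  intro n
  let S : Cx A := (HomologicalComplex.single (ModuleCat.{u} A) (ComplexShape.up ℤ) m).obj N
  have hiso := Groth.Agent.H31.KFlat.isIso_ιMapBifunctor_of_isZero_left
    (curriedTensor (ModuleCat.{u} A)) S F m
    (fun p hp => HomologicalComplex.isZero_single_obj_X _ _ _ _ hp) (n - m) n
    (by show m + (n - m) = n; omega)
  have hS : SeqComplete f (S.X m) :=
    SeqComplete.of_linearEquiv
      (HomologicalComplex.singleObjXSelf (ComplexShape.up ℤ) m N).symm.toLinearEquiv (hN f hf)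
  haveI := (hFf (n - m)).1
  haveI := (hFf (n - m)).2
  have hT : SeqComplete f (TensorProduct A (S.X m) (F.X (n - m))) :=
    seqComplete_tensor hS (F.X (n - m))
  exact SeqComplete.of_linearEquiv (@asIso _ _ _ _ _ hiso).toLinearEquiv hT

variable (hF : DRing.IsKFlat A F) (hFf : TermwiseFiniteFree F)
include hF hFf

/-- The heart case. -/
lemma isDerivedComplete_obj_heart (X : Dual.D A) (m : ℤ) [X.IsGE m] [X.IsLE m]
    (hX : IsDerivedComplete I X) : IsDerivedComplete I ((DRing.LTensorCx A F).obj X) := by
  obtain ⟨K, _, _, ⟨e⟩⟩ := X.exists_iso_Q_obj_of_isGE_of_isLE m m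
  obtain ⟨N, ⟨e'⟩⟩ := CochainComplex.exists_iso_single K m
  let S : Cx A := (HomologicalComplex.single (ModuleCat.{u} A) (ComplexShape.up ℤ) m).obj N
  let e2 : X ≅ Q.obj S := e ≪≫ Q.mapIso e'
  have hN : ∀ f ∈ I, SeqComplete f N := by
    intro f hf
    have h1 := (isDerivedComplete_iff_seqComplete I X).1 hX f hf m
    let j : (DerivedCategory.homologyFunctor (ModuleCat.{u} A) m).obj X ≅ N :=
      (DerivedCategory.homologyFunctor (ModuleCat.{u} A) m).mapIso e2 ≪≫
        (DerivedCategory.homologyFunctorFactors (ModuleCat.{u} A) m).app S ≪≫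
        HomologicalComplex.singleObjHomologySelfIso (ComplexShape.up ℤ) m N
    exact SeqComplete.of_linearEquiv j.toLinearEquiv h1
  exact isDerivedComplete_of_iso I (θ F hF e2).symm
    (isDerivedComplete_single_tensor I F hFf N m hN)

/-- The bounded case, by induction on the amplitude. -/
lemma isDerivedComplete_obj_bounded : ∀ (n : ℕ) (X : Dual.D A) (m : ℤ),
    IsDerivedComplete I X → X.IsGE m → X.IsLE (m + n) →
    IsDerivedComplete I ((DRing.LTensorCx A F).obj X) := by
  intro n
  induction n with
  | zero =>
    intro X m hX hge hle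
    haveI : X.IsLE m := by simpa using hle
    exact isDerivedComplete_obj_heart I F hF hFf X m hX
  | succ n ih =>
    intro X m hX hge hle
    have hT := t.triangleLTGE_distinguished (m + 1) X
    have h₁ : IsDerivedComplete I ((t.truncLT (m + 1)).obj X) := isDerivedComplete_truncLT I hX _
    have h₃ : IsDerivedComplete I ((t.truncGE (m + 1)).obj X) := isDerivedComplete_truncGE I hX _
    have g₁ : IsDerivedComplete I ((DRing.LTensorCx A F).obj ((t.truncLT (m + 1)).obj X)) :=
      isDerivedComplete_obj_heart I F hF hFf _ m h₁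
    haveI : X.IsLE (m + 1 + n) := by
      have : m + ((n + 1 : ℕ) : ℤ) = m + 1 + n := by push_cast; ring
      rw [← this]; exact hle
    have g₃ : IsDerivedComplete I ((DRing.LTensorCx A F).obj ((t.truncGE (m + 1)).obj X)) :=
      ih _ (m + 1) h₃ inferInstance inferInstance
    obtain ⟨r, hr⟩ := DT_map F hF _ _ (DT.of_dist _ hT)
    exact isDerivedComplete_obj₂ I _ hr g₁ g₃

/-- `X ⊗^L F` is derived complete for `X` derived complete and bounded above, `F` bounded above
with finite free terms. -/
theorem isDerivedComplete_obj (c : ℤ) (hFc : VanishesAbove F c) (X : Dual.D A) (b : ℤ)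
    [X.IsLE b] (hX : IsDerivedComplete I X) :
    IsDerivedComplete I ((DRing.LTensorCx A F).obj X) := by
  rw [isDerivedComplete_iff_seqComplete]
  intro f hf i
  obtain ⟨m, hm⟩ : ∃ m : ℤ, m = i - c - 1 := ⟨_, rfl⟩
  have hT := t.triangleLTGE_distinguished m X
  obtain ⟨r, hr⟩ := DT_map F hF _ _ (DT.of_dist _ hT)
  have hle : ((DRing.LTensorCx A F).obj ((t.truncLT m).obj X)).IsLE (m - 1 + c) :=
    isLE_obj F hF c hFc _ (m - 1)
  have hz : ∀ j, i ≤ j → IsZero ((DerivedCategory.homologyFunctor (ModuleCat.{u} A) j).obj
      ((DRing.LTensorCx A F).obj ((t.truncLT m).obj X))) := fun j hj =>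
    DerivedCategory.isZero_of_isLE _ (m - 1 + c) j (by omega)
  have hmono : Mono ((DerivedCategory.homologyFunctor (ModuleCat.{u} A) i).map
      ((DRing.LTensorCx A F).map ((t.truncGEπ m).app X))) :=
    (HomologySequence.mono_homologyMap_mor₂_iff _ hr i).2 ((hz i le_rfl).eq_of_src _ _)
  have hepi : Epi ((DerivedCategory.homologyFunctor (ModuleCat.{u} A) i).map
      ((DRing.LTensorCx A F).map ((t.truncGEπ m).app X))) :=
    (HomologySequence.epi_homologyMap_mor₂_iff _ hr i (i + 1) rfl).2
      ((hz (i + 1) (by omega)).eq_of_tgt _ _)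
  have hiso : IsIso ((DerivedCategory.homologyFunctor (ModuleCat.{u} A) i).map
      ((DRing.LTensorCx A F).map ((t.truncGEπ m).app X))) := isIso_of_mono_of_epi _
  have h₃ : IsDerivedComplete I ((t.truncGE m).obj X) := isDerivedComplete_truncGE I hX _
  haveI : ((t.truncGE m).obj X).IsLE (m + ((b - m).toNat : ℤ)) :=
    t.isLE_of_le _ b _ (by omega)
  have g₃ : IsDerivedComplete I ((DRing.LTensorCx A F).obj ((t.truncGE m).obj X)) :=
    isDerivedComplete_obj_bounded I F hF hFf (b - m).toNat _ m h₃ inferInstance inferInstance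
  have h4 := (isDerivedComplete_iff_seqComplete I _).1 g₃ f hf i
  exact SeqComplete.of_linearEquiv (@asIso _ _ _ _ _ hiso).toLinearEquiv.symm h4

end Groth.Agent.H35.LTensorCxComplete
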