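import Groth.Agent.S6945
import Groth.Agent.H35.LBC
import Groth.Agent.H35.TriChase
import Groth.Agent.H35.DerCompKos
import Groth.Agent.H35.DTenExact
import Groth.Agent.H35.LTensorCxLib
import Groth.Agent.H35.LTensorCxTor
import Groth.Agent.H40.LTensorComp

/-!
# `- ⊗^L M` for a module `M` is weakly triangulated and `A`-linear (helper35)

`G := DRing.LTensor A M` is the total left derived functor of the triangulated functor
`DRing.tensorKh A M : K(A) ⥤ D(A)`; its counit is an isomorphism on K-flat complexes. We deduce: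
* `exists_kflat_arrow_model` : every morphism of `D(A)` is `Q(g)` for a chain map `g` between K-flat
  complexes, up to isomorphisms of source and target;
* `DT_map` : `G` sends composable pairs extending to distinguished triangles to such pairs;
* `map_smul_id`, `isZero_obj`, `isConeMul_map`, `isKos_map`;
* `nonempty_iso_LTensorCx` : `X ⊗^L M ≅ X ⊗^L F` (objectwise) if `Q F ≅ Q (M[0])`.
No `CommShift` structure on `G` is constructed.
-/

set_option autoImplicit false
set_option linter.unusedSectionVars false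
set_option linter.style.haveILetI false
universe u
open CategoryTheory CategoryTheory.Limits MonoidalCategory Pretriangulated
attribute [local instance] HasDerivedCategory.standard

namespace Groth.Agent.H35.LTensorDT

open DerivedCategory Groth.Agent.H35.TriChase Groth.Agent.H35.DerCompKos Groth.Agent.H53
  Groth.Agent.H31 Groth.Agent.H40.LTensorComp

variable {A : Type u} [CommRing A]

/-- Every morphism of `D(A)` is isomorphic to `Q(g)` for a chain map `g` between K-flat complexes. -/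
lemma exists_kflat_arrow_model {a b : Dual.D A} (p : a ⟶ b) :
    ∃ (Z P : DRing.Cx A) (g : Z ⟶ P) (_ : DRing.IsKFlat A Z) (_ : DRing.IsKFlat A P)
      (e₁ : a ≅ Q.obj Z) (e₂ : b ≅ Q.obj P), p ≫ e₂.hom = e₁.hom ≫ Q.map g := by
  obtain ⟨P, hPK, -, ⟨eb⟩⟩ := Groth.Agent.H35.LBC.exists_kflat_model b
  obtain ⟨X, ⟨ea⟩⟩ : ∃ X : DRing.Cx A, Nonempty (Q.obj X ≅ a) := ⟨_, ⟨Q.objObjPreimageIso a⟩⟩
  obtain ⟨Z₀, s, hs, g₀, hg₀⟩ := DerivedCategory.right_fac (ea.hom ≫ p ≫ eb.inv)
  obtain ⟨Z, r, hZ, -, hr, -⟩ := KFlatRing.exists_isKFlat_resolution Z₀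
  haveI : IsIso (Q.map r) := (isIso_Q_map_iff_quasiIso _ r).2 hr
  haveI : IsIso (Q.map s) := hs
  refine ⟨Z, P, r ≫ g₀, hZ, hPK,
    ea.symm ≪≫ (asIso (Q.map s)).symm ≪≫ (asIso (Q.map r)).symm, eb.symm, ?_⟩
  have h1 : inv (Q.map s) ≫ Q.map g₀ = ea.hom ≫ p ≫ eb.inv := hg₀.symm
  show p ≫ eb.inv = (ea.inv ≫ inv (Q.map s) ≫ inv (Q.map r)) ≫ Q.map (r ≫ g₀)
  rw [Functor.map_comp, Category.assoc, Category.assoc, IsIso.inv_hom_id_assoc, h1,
    Iso.inv_hom_id_assoc]

variable (M : ModuleCat.{u} A) [DRing.HasLTensor A M]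

/-- The counit of the total left derived functor `- ⊗^L M`. -/
noncomputable abbrev α : Qh ⋙ DRing.LTensor A M ⟶ DRing.tensorKh A M :=
  (DRing.tensorKh A M).totalLeftDerivedCounit DerivedCategory.Qh
    (HomotopyCategory.quasiIso (ModuleCat.{u} A) (ComplexShape.up ℤ))

/-- For `P` K-flat and `a ≅ Q P`: `a ⊗^L M ≅ Q(P ⊗ M)` (termwise tensor product). -/
noncomputable def θ {a : Dual.D A} {P : DRing.Cx A} (hP : DRing.IsKFlat A P)
    (e : a ≅ Qh.obj ((HomotopyCategory.quotient _ _).obj P)) :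
    (DRing.LTensor A M).obj a ≅
      (DRing.tensorKh A M).obj ((HomotopyCategory.quotient _ _).obj P) :=
  haveI := Groth.Agent.S6945.isIso_counit M P hP
  (DRing.LTensor A M).mapIso e ≪≫ asIso ((α M).app ((HomotopyCategory.quotient _ _).obj P))

lemma θ_hom {a : Dual.D A} {P : DRing.Cx A} (hP : DRing.IsKFlat A P)
    (e : a ≅ Qh.obj ((HomotopyCategory.quotient _ _).obj P)) :
    (θ M hP e).hom = (DRing.LTensor A M).map e.hom ≫
      (α M).app ((HomotopyCategory.quotient _ _).obj P) := rfl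

lemma θ_nat {a a' : Dual.D A} {P P' : DRing.Cx A} (hP : DRing.IsKFlat A P)
    (hP' : DRing.IsKFlat A P')
    (e : a ≅ Qh.obj ((HomotopyCategory.quotient _ _).obj P))
    (e' : a' ≅ Qh.obj ((HomotopyCategory.quotient _ _).obj P'))
    (p : a ⟶ a')
    (f : (HomotopyCategory.quotient (ModuleCat.{u} A) (ComplexShape.up ℤ)).obj P ⟶
      (HomotopyCategory.quotient _ _).obj P')
    (hpf : p ≫ e'.hom = e.hom ≫ Qh.map f) :
    (DRing.LTensor A M).map p ≫ (θ M hP' e').hom =
      (θ M hP e).hom ≫ (DRing.tensorKh A M).map f := by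
  have nat : (DRing.LTensor A M).map (Qh.map f) ≫ (α M).app _ =
      (α M).app _ ≫ (DRing.tensorKh A M).map f := (α M).naturality f
  rw [θ_hom, θ_hom, Category.assoc, ← nat, ← Category.assoc, ← Category.assoc,
    ← Functor.map_comp, ← Functor.map_comp, hpf]

/-- `- ⊗^L M` sends pairs extending to distinguished triangles to such pairs. -/
theorem DT_map {a b c : Dual.D A} (p : a ⟶ b) (q : b ⟶ c) (h : DT p q) :
    DT ((DRing.LTensor A M).map p) ((DRing.LTensor A M).map q) := by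
  obtain ⟨Z, P, g, hZ, hP, e₁, e₂, comm⟩ := exists_kflat_arrow_model p
  obtain ⟨r₀, hT₀⟩ := h
  have hTh := HomotopyCategory.mappingCone_triangleh_distinguished g
  have hQ : Qh.mapTriangle.obj (CochainComplex.mappingCone.triangleh g) ∈
      distTriang (Dual.D A) := Qh.map_distinguished _ hTh
  obtain ⟨E, hE⟩ : ∃ E : Triangle.mk p q r₀ ≅
      Qh.mapTriangle.obj (CochainComplex.mappingCone.triangleh g), E.hom.hom₂ = e₂.hom :=
    ⟨isoTriangleOfIso₁₂ (Triangle.mk p q r₀)
      (Qh.mapTriangle.obj (CochainComplex.mappingCone.triangleh g)) hT₀ hQ e₁ e₂ comm,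
      isoTriangleOfIso₁₂_hom_hom₂ _ _ _ _ _ _ _⟩
  let e₃ : c ≅ Qh.obj ((HomotopyCategory.quotient _ _).obj (CochainComplex.mappingCone g)) :=
    Triangle.π₃.mapIso E
  have c2 : q ≫ e₃.hom = e₂.hom ≫ Qh.map (CochainComplex.mappingCone.triangleh g).mor₂ := by
    have := E.hom.comm₂
    rw [hE] at this
    exact this
  have hC := (KFlatRing.isKFlat_mappingCone g).1 hZ hP
  have hd : (DRing.tensorKh A M).mapTriangle.obj (CochainComplex.mappingCone.triangleh g) ∈
      distTriang (Dual.D A) := (DRing.tensorKh A M).map_distinguished _ hTh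
  have n1 := θ_nat M hZ hP e₁ e₂ p (CochainComplex.mappingCone.triangleh g).mor₁ comm
  have n2 := θ_nat M hP hC e₂ e₃ q (CochainComplex.mappingCone.triangleh g).mor₂ c2
  refine ⟨(θ M hC e₃).hom ≫
    ((DRing.tensorKh A M).mapTriangle.obj (CochainComplex.mappingCone.triangleh g)).mor₃ ≫
    (θ M hZ e₁).inv⟦(1 : ℤ)⟧', isomorphic_distinguished _ hd _ ?_⟩
  refine Triangle.isoMk _ _ (θ M hZ e₁) (θ M hP e₂) (θ M hC e₃) ?_ ?_ ?_
  · exact n1
  · exact n2
  · exact DTenExact.comm₃_aux _ _ _ _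

/-- `- ⊗^L M` is `A`-linear on scalar multiples of identities. -/
theorem map_smul_id (r : A) (X : Dual.D A) :
    (DRing.LTensor A M).map (r • 𝟙 X) = r • 𝟙 ((DRing.LTensor A M).obj X) := by
  obtain ⟨P, hPK, -, ⟨e'⟩⟩ := Groth.Agent.H35.LBC.exists_kflat_model X
  let e : X ≅ Qh.obj ((HomotopyCategory.quotient _ _).obj P) := e'.symm
  have hpf : (r • 𝟙 X) ≫ e.hom =
      e.hom ≫ Qh.map ((HomotopyCategory.quotient _ _).map (r • 𝟙 P)) := by
    rw [Functor.map_smul, CategoryTheory.Functor.map_id, Functor.map_smul,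
      CategoryTheory.Functor.map_id, Linear.smul_comp, Linear.comp_smul,
      Category.id_comp, Category.comp_id]
  have h := θ_nat M hPK hPK e e (r • 𝟙 X) _ hpf
  have h1 : (DRing.tensorKh A M).map ((HomotopyCategory.quotient _ _).map (r • 𝟙 P)) =
      r • 𝟙 _ := by
    have h2 : (DRing.tensorKh A M).map ((HomotopyCategory.quotient _ _).map (r • 𝟙 P)) =
        Qh.map ((HomotopyCategory.quotient _ _).map
          (((tensorRight M).mapHomologicalComplex (ComplexShape.up ℤ)).map (r • 𝟙 P))) := rfl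
    have h3 : ((tensorRight M).mapHomologicalComplex (ComplexShape.up ℤ)).map (r • 𝟙 P) =
        r • 𝟙 _ := by
      apply HomologicalComplex.hom_ext
      intro n
      show ((r • 𝟙 P : P ⟶ P).f n) ▷ M = r • 𝟙 _
      rw [HomologicalComplex.smul_f_apply, HomologicalComplex.id_f,
        MonoidalLinear.smul_whiskerRight, id_whiskerRight]
      rfl
    rw [h2, h3, Functor.map_smul, CategoryTheory.Functor.map_id, Functor.map_smul,
      CategoryTheory.Functor.map_id]
    rfl
  rw [h1, Linear.comp_smul, Category.comp_id] at h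
  rw [← cancel_mono (θ M hPK e).hom, h, Linear.smul_comp, Category.id_comp]

theorem isZero_obj {X : Dual.D A} (hX : IsZero X) :
    IsZero ((DRing.LTensor A M).obj X) := by
  rw [IsZero.iff_id_eq_zero]
  have h1 : 𝟙 X = (0 : A) • 𝟙 X := by rw [zero_smul]; exact hX.eq_of_src _ _
  have h2 := map_smul_id M 0 X
  rw [← h1, CategoryTheory.Functor.map_id, zero_smul] at h2
  exact h2

theorem isConeMul_map {f : A} {Z Z' : Dual.D A} (h : IsConeMul f Z Z') :
    IsConeMul f ((DRing.LTensor A M).obj Z) ((DRing.LTensor A M).obj Z') := by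
  obtain ⟨p, d, hT⟩ := h
  obtain ⟨r, hr⟩ := DT_map M (f • 𝟙 Z) p ⟨d, hT⟩
  rw [map_smul_id M] at hr
  exact ⟨_, r, hr⟩

theorem isKos_map (l : List A) : ∀ {Z Z' : Dual.D A},
    IsKos l Z Z' → IsKos l ((DRing.LTensor A M).obj Z) ((DRing.LTensor A M).obj Z') := by
  induction l with
  | nil => intro Z Z' ⟨e⟩; exact ⟨(DRing.LTensor A M).mapIso e⟩
  | cons f l ih =>
    intro Z Z' ⟨Z₁, h₁, h'⟩
    exact ⟨_, isConeMul_map M h₁, ih h'⟩

/-- `X ⊗^L M ≅ X ⊗^L F` if `F` is a complex with `Q F ≅ Q (M[0])`. -/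
theorem nonempty_iso_LTensorCx (F : DRing.Cx A) [DRing.HasLTensorCx A F]
    (e : DRing.toD F ≅ DRing.toD (Groth.Agent.H35.LTC.sg M)) (X : Dual.D A) :
    Nonempty ((DRing.LTensor A M).obj X ≅ (DRing.LTensorCx A F).obj X) := by
  obtain ⟨P, hPK, -, ⟨eP⟩⟩ := Groth.Agent.H35.LBC.exists_kflat_model X
  obtain ⟨t⟩ := Groth.Agent.H35.LTC.nonempty_tensor_iso P hPK e
  exact ⟨(DRing.LTensor A M).mapIso eP.symm ≪≫ Groth.Agent.S6945.objIso M P hPK ≪≫
    Q.mapIso (Groth.Agent.H35.LTC.singleTensorIso M P) ≪≫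
    Q.mapIso (Groth.Agent.H35.LTC.braidCx _ _) ≪≫ t.symm ≪≫
    (LTensorCxObj.objIso F P hPK).symm ≪≫ (DRing.LTensorCx A F).mapIso eP⟩

end Groth.Agent.H35.LTensorDT
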