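import Mathlib
import Groth.Agent.H61.DefFlat
import Groth.Agent.H15.LocHilb_RL

/-!
# (RK) gluing flat quotients along a small extension: pure commutative algebra
(helper35, squad piece for helper61, S12260)
-/

set_option autoImplicit false
universe u

namespace Groth.Agent.H35.LocHilbGlue_RK

open Groth.Agent.H61.DefFlat

/-- multiplication by `β t` kills `𝔞 S` when `𝔞 t = 0`. -/
lemma mul_eq_zero_of_mem_map {A S : Type u} [CommRing A] [CommRing S] (β : A →+* S)
    (𝔞 : Ideal A) (t : A) (h : ∀ m ∈ 𝔞, m * t = 0) : ∀ y ∈ 𝔞.map β, β t * y = 0 := by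
  intro y hy
  refine Submodule.span_induction ?_ ?_ ?_ ?_ hy
  · rintro _ ⟨m, hm, rfl⟩
    rw [← map_mul, mul_comm, h m hm, map_zero]
  · exact mul_zero _
  · intro x y _ _ hx hy
    rw [mul_add, hx, hy, add_zero]
  · intro s x _ hx
    rw [smul_eq_mul, mul_left_comm, hx, mul_zero]

/-- flat quotient: `I ∩ 𝔞 S ≤ 𝔞 I` (ring-hom form). -/
lemma inf_map_le_mul {A S : Type u} [CommRing A] [CommRing S] (β : A →+* S) (I : Ideal S)
    (hf : ((Ideal.Quotient.mk I).comp β).Flat) (𝔞 : Ideal A) :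
    I ⊓ 𝔞.map β ≤ 𝔞.map β * I := by
  letI := β.toAlgebra
  letI alg2 := ((Ideal.Quotient.mk I).comp β).toAlgebra
  haveI : Module.Flat A (S ⧸ I) := hf
  let φ : S →ₗ[A] (S ⧸ I) :=
    { toFun := Ideal.Quotient.mk I
      map_add' := map_add _
      map_smul' := fun a x => by
        show Ideal.Quotient.mk I (β a * x) = (Ideal.Quotient.mk I) (β a) * Ideal.Quotient.mk I x
        exact map_mul _ _ _ }
  have hφ : Function.Surjective φ := Ideal.Quotient.mk_surjective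
  rintro x ⟨hxI, hxm⟩
  have h1 : x ∈ LinearMap.ker φ := by
    rw [LinearMap.mem_ker]
    exact Ideal.Quotient.eq_zero_iff_mem.2 hxI
  have h2 : x ∈ (𝔞 • ⊤ : Submodule A S) := by
    rw [Ideal.smul_top_eq_map]
    exact hxm
  have h3 := inf_smul_top_le_smul_ker 𝔞 φ hφ ⟨h1, h2⟩
  refine Submodule.smul_induction_on h3 ?_ ?_
  · intro a ha n hn
    show β a * n ∈ _
    exact Ideal.mul_mem_mul (Ideal.mem_map_of_mem β ha)
      (Ideal.Quotient.eq_zero_iff_mem.1 (LinearMap.mem_ker.1 hn))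
  · intro x y hx hy
    exact Ideal.add_mem _ hx hy

/-- converse: over a local ring with nilpotent maximal ideal, `K ∩ 𝔪 S ≤ 𝔪 K` makes `S/K` flat. -/
lemma flat_comp_of_inf_le {B S : Type u} [CommRing B] [IsLocalRing B] [CommRing S]
    (hnil : IsNilpotent (IsLocalRing.maximalIdeal B)) (β : B →+* S) (hβ : β.Flat) (K : Ideal S)
    (h : K ⊓ (IsLocalRing.maximalIdeal B).map β ≤ (IsLocalRing.maximalIdeal B).map β * K) :
    ((Ideal.Quotient.mk K).comp β).Flat := by
  letI := β.toAlgebra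
  haveI : Module.Flat B S := hβ
  have h1 : Module.Flat B (S ⧸ K.restrictScalars B) := by
    apply flat_quotient_of_inf_le hnil
    rintro x ⟨hxK, hxm⟩
    have hx2 : x ∈ (IsLocalRing.maximalIdeal B).map β := by
      rw [Ideal.smul_top_eq_map] at hxm
      exact hxm
    have hx3 := h ⟨hxK, hx2⟩
    have key : ∀ m ∈ (IsLocalRing.maximalIdeal B).map β, ∀ n ∈ K,
        m * n ∈ IsLocalRing.maximalIdeal B • K.restrictScalars B := by
      intro m hm
      refine Submodule.span_induction ?_ ?_ ?_ ?_ hm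
      · rintro _ ⟨a, ha, rfl⟩ n hn
        exact Submodule.smul_mem_smul ha hn
      · intro n _
        rw [zero_mul]
        exact Submodule.zero_mem _
      · intro x y _ _ hx hy n hn
        rw [add_mul]
        exact Submodule.add_mem _ (hx n hn) (hy n hn)
      · intro s x _ hx n hn
        rw [smul_eq_mul, mul_assoc, mul_left_comm]
        exact hx (s * n) (K.mul_mem_left s hn)
    refine Submodule.mul_induction_on hx3 ?_ ?_
    · intro m hm n hn
      exact key m hm n hn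
    · intro x y hx hy
      exact Submodule.add_mem _ hx hy
  letI alg2 := ((Ideal.Quotient.mk K).comp β).toAlgebra
  show Module.Flat B (S ⧸ K)
  let φ : S →ₗ[B] (S ⧸ K) :=
    { toFun := Ideal.Quotient.mk K
      map_add' := map_add _
      map_smul' := fun a x => by
        show Ideal.Quotient.mk K (β a * x) = (Ideal.Quotient.mk K) (β a) * Ideal.Quotient.mk K x
        exact map_mul _ _ _ }
  have hφ : Function.Surjective φ := Ideal.Quotient.mk_surjective
  have hker : K.restrictScalars B = LinearMap.ker φ := by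
    ext x
    rw [LinearMap.mem_ker]
    exact (Ideal.Quotient.eq_zero_iff_mem (I := K) (a := x)).symm
  let e : (S ⧸ K.restrictScalars B) ≃ₗ[B] (S ⧸ K) :=
    (Submodule.quotEquivOfEq _ _ hker).trans (φ.quotKerEquivOfSurjective hφ)
  exact Module.Flat.of_linearEquiv e.symm

/-- (RK) -/
theorem RK {B A' A'' S S' S'' S₀ : Type u} [CommRing B] [CommRing A'] [CommRing A'']
    [CommRing S] [CommRing S'] [CommRing S''] [CommRing S₀]
    [IsLocalRing B] [IsLocalRing A'] [IsLocalRing A'']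
    (hnil : IsNilpotent (IsLocalRing.maximalIdeal B))
    (p' : B →+* A') (p'' : B →+* A'') (hp' : Function.Surjective p')
    (hloc'' : ∀ b ∈ IsLocalRing.maximalIdeal B, p'' b ∈ IsLocalRing.maximalIdeal A'')
    (τ : B) (hτ : RingHom.ker p' = Ideal.span {τ})
    (hτ𝔪 : ∀ m ∈ IsLocalRing.maximalIdeal B, m * τ = 0) (hτm : τ ∈ IsLocalRing.maximalIdeal B)
    (t : A'') (ht : p'' τ = t)
    (htt : ∀ c : A'', c * t = 0 → c ∈ IsLocalRing.maximalIdeal A'')
    (ht𝔪 : ∀ m ∈ IsLocalRing.maximalIdeal A'', m * t = 0)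
    (β : B →+* S) (β' : A' →+* S') (β'' : A'' →+* S'') (hβ : β.Flat)
    (σ' : S →+* S') (σ'' : S →+* S'')
    (hσ'β : ∀ b, σ' (β b) = β' (p' b)) (hσ''β : ∀ b, σ'' (β b) = β'' (p'' b))
    (hσ's : Function.Surjective σ') (hσ'k : RingHom.ker σ' = (RingHom.ker p').map β)
    (ρ : S →+* S₀) (ρ' : S' →+* S₀) (ρ'' : S'' →+* S₀)
    (hρ' : ∀ s, ρ' (σ' s) = ρ s) (hρ'' : ∀ s, ρ'' (σ'' s) = ρ s)
    (hρs : Function.Surjective ρ) (hρk : RingHom.ker ρ = (IsLocalRing.maximalIdeal B).map β)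
    (hρ's : Function.Surjective ρ')
    (hρ'k : RingHom.ker ρ' = (IsLocalRing.maximalIdeal A').map β')
    (hρ''k : RingHom.ker ρ'' = (IsLocalRing.maximalIdeal A'').map β'')
    (I' : Ideal S') (I'' : Ideal S'')
    (hf' : ((Ideal.Quotient.mk I').comp β').Flat) (hf'' : ((Ideal.Quotient.mk I'').comp β'').Flat)
    (I₀ : Ideal S₀) (h'₀ : I'.map ρ' = I₀) (h''₀ : I''.map ρ'' = I₀)
    (hcompat : ∀ s : S, σ' s ∈ I' → ∃ a'' ∈ I'', ∃ c'' : S'', σ'' s - a'' = β'' t * c'') :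
    ∃ K : Ideal S, ((Ideal.Quotient.mk K).comp β).Flat ∧ K.map σ' = I' ∧
      ∀ s, s ∈ K ↔ σ' s ∈ I' ∧ σ'' s ∈ I'' := by
  set 𝔪 := IsLocalRing.maximalIdeal B with h𝔪
  set 𝔪' := IsLocalRing.maximalIdeal A' with h𝔪'
  set 𝔪'' := IsLocalRing.maximalIdeal A'' with h𝔪''
  let K : Ideal S := I'.comap σ' ⊓ I''.comap σ''
  have hKmem : ∀ s, s ∈ K ↔ σ' s ∈ I' ∧ σ'' s ∈ I'' := fun s => Iff.rfl
  -- basic facts
  have hp'τ : p' τ = 0 := by
    have : τ ∈ RingHom.ker p' := by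
      rw [hτ]
      exact Ideal.subset_span (Set.mem_singleton τ)
    exact this
  have hσ'τ : ∀ c, σ' (β τ * c) = 0 := by
    intro c
    rw [map_mul, hσ'β, hp'τ, map_zero, zero_mul]
  have hσ''τ : ∀ c, σ'' (β τ * c) = β'' t * σ'' c := by
    intro c
    rw [map_mul, hσ''β, ht]
  have hkill'' : ∀ y ∈ 𝔪''.map β'', β'' t * y = 0 := mul_eq_zero_of_mem_map β'' 𝔪'' t ht𝔪
  have hkill : ∀ y ∈ 𝔪.map β, β τ * y = 0 := mul_eq_zero_of_mem_map β 𝔪 τ hτ𝔪
  -- (1) lifting elements of `I'` to `K`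
  have hlift : ∀ a' ∈ I', ∃ s ∈ K, σ' s = a' := by
    intro a' ha'
    obtain ⟨s, rfl⟩ := hσ's a'
    obtain ⟨a'', ha'', c'', hc''⟩ := hcompat s ha'
    obtain ⟨c, hc⟩ := hρs (ρ'' c'')
    refine ⟨s - β τ * c, ⟨?_, ?_⟩, ?_⟩
    · show σ' (s - β τ * c) ∈ I'
      rw [map_sub, hσ'τ, sub_zero]
      exact ha'
    · show σ'' (s - β τ * c) ∈ I''
      have h1 : c'' - σ'' c ∈ 𝔪''.map β'' := by
        rw [← hρ''k, RingHom.mem_ker, map_sub, hρ'', hc, sub_self]
      have h2 : σ'' (s - β τ * c) = a'' := by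
        rw [map_sub, hσ''τ]
        have h3 : σ'' s = a'' + β'' t * c'' := by rw [← hc'']; ring
        rw [h3]
        have h4 := hkill'' _ h1
        rw [mul_sub, sub_eq_zero] at h4
        rw [h4]; ring
      rw [h2]
      exact ha''
    · rw [map_sub, hσ'τ, sub_zero]
  have hKmap : K.map σ' = I' := by
    apply le_antisymm
    · exact Ideal.map_le_iff_le_comap.2 inf_le_left
    · intro a' ha'
      obtain ⟨s, hs, rfl⟩ := hlift a' ha'
      exact Ideal.mem_map_of_mem σ' hs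
  -- `p'` is local and `𝔪' = p'(𝔪)`
  have hp'loc : ∀ b, p' b ∈ 𝔪' → b ∈ 𝔪 := by
    intro b hb
    by_contra hb'
    have hu : IsUnit b := by
      by_contra hnu
      exact hb' ((IsLocalRing.mem_maximalIdeal b).2 hnu)
    exact (IsLocalRing.mem_maximalIdeal _).1 hb (hu.map p')
  have h𝔪'le : 𝔪' ≤ 𝔪.map p' := by
    intro a' ha'
    obtain ⟨b, rfl⟩ := hp' a'
    exact Ideal.mem_map_of_mem p' (hp'loc b ha')
  have hmapσ' : 𝔪'.map β' ≤ (𝔪.map β).map σ' := by
    rw [Ideal.map_map]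
    have h1 : σ'.comp β = β'.comp p' := RingHom.ext hσ'β
    rw [h1, ← Ideal.map_map]
    exact Ideal.map_mono h𝔪'le
  have hmapσ'2 : (𝔪.map β).map σ' ≤ 𝔪'.map β' := by
    rw [Ideal.map_map]
    have h1 : σ'.comp β = β'.comp p' := RingHom.ext hσ'β
    rw [h1, ← Ideal.map_map]
    refine Ideal.map_mono ?_
    rw [Ideal.map_le_iff_le_comap]
    intro b hb
    rw [Ideal.mem_comap]
    by_contra hcon
    have hu : IsUnit (p' b) := by
      by_contra hnu
      exact hcon ((IsLocalRing.mem_maximalIdeal _).2 hnu)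
    obtain ⟨b', hb'⟩ := hp' (↑hu.unit⁻¹ : A')
    have h2 : p' (b * b' - 1) = 0 := by
      rw [map_sub, map_mul, hb', map_one]
      have := hu.mul_val_inv
      rw [this, sub_self]
    have h3 : b * b' - 1 ∈ Ideal.span {τ} := by
      rw [← hτ]; exact h2
    have h4 : b * b' - 1 ∈ 𝔪 := by
      refine (Ideal.span_le.2 ?_) h3
      intro z hz
      rw [Set.mem_singleton_iff] at hz
      rw [hz]; exact hτm
    have h5 : (1 : B) ∈ 𝔪 := by
      have := Ideal.sub_mem _ (Ideal.mul_mem_right b' 𝔪 hb) h4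
      simpa using this
    exact (Ideal.ne_top_iff_one 𝔪).1 (IsLocalRing.maximalIdeal.isMaximal B).ne_top h5
  -- (2) the flatness criterion
  have hcrit : K ⊓ 𝔪.map β ≤ 𝔪.map β * K := by
    rintro b ⟨hbK, hbm⟩
    have hb1 : σ' b ∈ I' := hbK.1
    have hb2 : σ' b ∈ 𝔪'.map β' := hmapσ'2 (Ideal.mem_map_of_mem σ' hbm)
    have hb3 : σ' b ∈ 𝔪'.map β' * I' := inf_map_le_mul β' I' hf' 𝔪' ⟨hb1, hb2⟩
    have hb4 : σ' b ∈ (𝔪.map β * K).map σ' := by
      rw [Ideal.map_mul, hKmap]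
      exact Ideal.mul_mono_left hmapσ' hb3
    obtain ⟨y, hy, hyb⟩ := (Ideal.mem_map_iff_of_surjective σ' hσ's).1 hb4
    have hyK : y ∈ K := (Ideal.mul_le_left : K * 𝔪.map β ≤ K) (mul_comm (𝔪.map β) K ▸ hy)
    have hb₁K : b - y ∈ K := K.sub_mem hbK hyK
    have hb₁ker : b - y ∈ RingHom.ker σ' := by
      rw [RingHom.mem_ker, map_sub, hyb, sub_self]
    rw [hσ'k, hτ, Ideal.map_span, Set.image_singleton, Ideal.mem_span_singleton'] at hb₁ker
    obtain ⟨c, hc⟩ := hb₁ker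
    have hc' : b - y = β τ * c := by rw [← hc, mul_comm]
    -- `σ'' c ∈ 𝔪'' S'' + I''`
    have h1 : β'' t * σ'' c ∈ I'' := by
      rw [← hσ''τ, ← hc']
      exact hb₁K.2
    have hj : ∀ c : Fin 1 → A'', ∑ l, c l * ![t] l = 0 → ∀ l, c l ∈ 𝔪'' := by
      intro c hc l
      have hl : l = 0 := Subsingleton.elim _ _
      subst hl
      apply htt
      simpa using hc
    have hsum : ∑ l, ((Ideal.Quotient.mk I'').comp β'') (![t] l) *
        (![Ideal.Quotient.mk I'' (σ'' c)] : Fin 1 → S'' ⧸ I'') l = 0 := by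
      simp only [Fin.sum_univ_one, Matrix.cons_val_zero, RingHom.comp_apply]
      rw [← map_mul]
      exact Ideal.Quotient.eq_zero_iff_mem.2 h1
    have h2 := Groth.Agent.H15.LocHilb_RL.mem_map_of_sum_eq_zero
      ((Ideal.Quotient.mk I'').comp β'') hf'' 𝔪'' ![t] hj
      (![Ideal.Quotient.mk I'' (σ'' c)] : Fin 1 → S'' ⧸ I'') hsum 0
    have h3 : Ideal.Quotient.mk I'' (σ'' c) ∈ (𝔪''.map β'').map (Ideal.Quotient.mk I'') := by
      rw [Ideal.map_map]
      simpa using h2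
    obtain ⟨z, hz, hzc⟩ :=
      (Ideal.mem_map_iff_of_surjective (Ideal.Quotient.mk I'') Ideal.Quotient.mk_surjective).1 h3
    have h4 : σ'' c - z ∈ I'' := by
      rw [← Ideal.Quotient.eq_zero_iff_mem, map_sub, hzc, sub_self]
    -- `ρ c ∈ I₀`
    have h5 : ρ c ∈ I₀ := by
      have hz0 : ρ'' z = 0 := by
        have : z ∈ RingHom.ker ρ'' := by rw [hρ''k]; exact hz
        exact this
      have : ρ c = ρ'' (σ'' c - z) := by rw [map_sub, hρ'', hz0, sub_zero]
      rw [this, ← h''₀]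
      exact Ideal.mem_map_of_mem ρ'' h4
    rw [← h'₀] at h5
    obtain ⟨a', ha', ha'c⟩ := (Ideal.mem_map_iff_of_surjective ρ' hρ's).1 h5
    obtain ⟨κ, hκ, hκa'⟩ := hlift a' ha'
    have h6 : c - κ ∈ 𝔪.map β := by
      rw [← hρk, RingHom.mem_ker, map_sub, ← hρ' κ, hκa', ha'c, sub_self]
    have h7 := hkill _ h6
    rw [mul_sub, sub_eq_zero] at h7
    have h8 : b = y + β τ * κ := by
      rw [← h7, ← hc']; ring
    rw [h8]
    exact Ideal.add_mem _ hy (Ideal.mul_mem_mul (Ideal.mem_map_of_mem β hτm) hκ)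
  exact ⟨K, flat_comp_of_inf_le hnil β hβ K hcrit, hKmap, hKmem⟩

end Groth.Agent.H35.LocHilbGlue_RK
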