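import Mathlib
import Groth.Prelude.Def_DTen5

/-!
The chain-level projection formula `K ⊗_R res N ≅ res (ext K ⊗_A N)` for a complex `K` of
`R`-modules and a complex `N` of `A`-modules (helper35): module level (`pf₀hom`, `pf₀`), complex
level (`pfCx`), summand formula and naturality in `K`.
-/

set_option autoImplicit false
set_option backward.isDefEq.respectTransparency false
universe u
open CategoryTheory CategoryTheory.Limits MonoidalCategory
attribute [local instance] HasDerivedCategory.standard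

namespace Groth.Agent.H35.MixPF

open DTen

variable {R A : Type u} [CommRing R] [CommRing A] (φ : R →+* A)

noncomputable abbrev extM : ModuleCat.{u} R ⥤ ModuleCat.{u} A := ModuleCat.extendScalars.{u, u, u} φ

/-- the projection formula map `M ⊗_R res N ⟶ res (ext M ⊗_A N)`, `m ⊗ n ↦ (1 ⊗ m) ⊗ n`. -/
noncomputable def pf₀hom (M : ModuleCat.{u} R) (N : ModuleCat.{u} A) :
    M ⊗ (resM φ).obj N ⟶ (resM φ).obj ((extM φ).obj M ⊗ N) :=
  ((ModuleCat.extendRestrictScalarsAdj.{u, u, u} φ).unit.app M ▷ (resM φ).obj N) ≫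
    resTen₀app φ ((extM φ).obj M) N

lemma pf₀hom_tmul (M : ModuleCat.{u} R) (N : ModuleCat.{u} A) (m : M) (n : N) :
    (pf₀hom φ M N).hom (m ⊗ₜ[R] (show (resM φ).obj N from n)) =
      (show (resM φ).obj ((extM φ).obj M ⊗ N) from
        (((1 : A) ⊗ₜ[R] m : (extM φ).obj M) ⊗ₜ[A] n : ((extM φ).obj M ⊗ N : ModuleCat.{u} A))) := by
  rfl

variable (M : ModuleCat.{u} R) (N : ModuleCat.{u} A)

/-- `a ↦ m ↦ n ↦ m ⊗ a n` -/
noncomputable def g₀ : ((ModuleCat.restrictScalars φ).obj (ModuleCat.of A A)) →+ M →+ N →+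
    (M ⊗ (resM φ).obj N : ModuleCat.{u} R) where
  toFun a :=
    { toFun := fun m =>
        { toFun := fun n => m ⊗ₜ[R] (show (resM φ).obj N from ((show A from a) • n))
          map_zero' := by
            show m ⊗ₜ[R] (show (resM φ).obj N from ((show A from a) • (0 : N))) = 0
            rw [smul_zero]; exact TensorProduct.tmul_zero _ _
          map_add' := fun n n' => by
            show m ⊗ₜ[R] (show (resM φ).obj N from ((show A from a) • (n + n'))) = _
            rw [smul_add]; exact TensorProduct.tmul_add _ _ _ }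
      map_zero' := by
        ext n
        exact TensorProduct.zero_tmul _ _
      map_add' := fun m m' => by
        ext n
        exact TensorProduct.add_tmul _ _ _ }
  map_zero' := by
    ext m n
    show m ⊗ₜ[R] (show (resM φ).obj N from ((0 : A) • n)) = 0
    rw [zero_smul]; exact TensorProduct.tmul_zero _ _
  map_add' := fun a a' => by
    ext m n
    show m ⊗ₜ[R] (show (resM φ).obj N from ((show A from a) + (show A from a')) • n) = _
    rw [add_smul]; exact TensorProduct.tmul_add _ _ _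

lemma g₀_apply (a : A) (m : M) (n : N) :
    g₀ φ M N (show (ModuleCat.restrictScalars φ).obj (ModuleCat.of A A) from a) m n =
      m ⊗ₜ[R] (show (resM φ).obj N from (a • n)) := rfl

/-- `(a ⊗ m) ↦ n ↦ m ⊗ a n` -/
noncomputable def g₁ : ((extM φ).obj M) →+ N →+ (M ⊗ (resM φ).obj N : ModuleCat.{u} R) :=
  TensorProduct.liftAddHom (R := R) (g₀ φ M N) (fun r a m => by
    ext n
    show m ⊗ₜ[R] (show (resM φ).obj N from ((show A from (r • a)) • n)) =
      (r • m) ⊗ₜ[R] (show (resM φ).obj N from ((show A from a) • n))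
    have h1 : (show A from (r • a)) = φ r * (show A from a) := rfl
    rw [h1, mul_smul, TensorProduct.smul_tmul]
    rfl)

lemma g₁_tmul (a : A) (m : M) (n : N) :
    g₁ φ M N ((show (ModuleCat.restrictScalars φ).obj (ModuleCat.of A A) from a) ⊗ₜ[R] m) n =
      m ⊗ₜ[R] (show (resM φ).obj N from (a • n)) := rfl

lemma g₁_smul (a' : A) (x : (extM φ).obj M) (n : N) :
    g₁ φ M N (a' • x) n = g₁ φ M N x (a' • n) := by
  induction x using TensorProduct.induction_on with
  | zero => simp
  | tmul a m =>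
    have h1 : a' • ((a ⊗ₜ[R] m : (extM φ).obj M)) =
        ((show (ModuleCat.restrictScalars φ).obj (ModuleCat.of A A) from (a' * (show A from a))) ⊗ₜ[R] m :
          (extM φ).obj M) := rfl
    rw [h1]
    show m ⊗ₜ[R] (show (resM φ).obj N from ((a' * (show A from a)) • n)) =
      m ⊗ₜ[R] (show (resM φ).obj N from ((show A from a) • a' • n))
    rw [mul_comm, mul_smul]
  | add x y hx hy =>
    rw [smul_add, map_add, map_add, AddMonoidHom.add_apply, AddMonoidHom.add_apply, hx, hy]

/-- the inverse of `pf₀hom` as an additive map -/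
noncomputable def pf₀inv : ((extM φ).obj M ⊗ N : ModuleCat.{u} A) →+
    (M ⊗ (resM φ).obj N : ModuleCat.{u} R) :=
  TensorProduct.liftAddHom (R := A) (g₁ φ M N) (fun a' x n => g₁_smul φ M N a' x n)

lemma pf₀inv_tmul (a : A) (m : M) (n : N) :
    pf₀inv φ M N ((((show (ModuleCat.restrictScalars φ).obj (ModuleCat.of A A) from a) ⊗ₜ[R] m :
      (extM φ).obj M)) ⊗ₜ[A] n) = m ⊗ₜ[R] (show (resM φ).obj N from (a • n)) := rfl


lemma pf₀inv_hom (x : (M ⊗ (resM φ).obj N : ModuleCat.{u} R)) :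
    pf₀inv φ M N ((pf₀hom φ M N).hom x) = x := by
  induction x using TensorProduct.induction_on with
  | zero => simp
  | tmul m n =>
    show m ⊗ₜ[R] (show (resM φ).obj N from ((1 : A) • (show N from n))) = m ⊗ₜ[R] n
    rw [one_smul]
  | add x y hx hy => rw [map_add, map_add, hx, hy]

lemma pf₀hom_inv (y : ((extM φ).obj M ⊗ N : ModuleCat.{u} A)) :
    (pf₀hom φ M N).hom (pf₀inv φ M N y) = (show (resM φ).obj ((extM φ).obj M ⊗ N) from y) := by
  induction y using TensorProduct.induction_on with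
  | zero => simp
  | tmul x n =>
    induction x using TensorProduct.induction_on with
    | zero =>
      rw [TensorProduct.zero_tmul, map_zero, map_zero]
    | tmul a m =>
      show (show (resM φ).obj ((extM φ).obj M ⊗ N) from
        (((1 : A) ⊗ₜ[R] m : (extM φ).obj M) ⊗ₜ[A] ((show A from a) • n) :
          ((extM φ).obj M ⊗ N : ModuleCat.{u} A))) = _
      have h1 : (((1 : A) ⊗ₜ[R] m : (extM φ).obj M) ⊗ₜ[A] ((show A from a) • n) :
          ((extM φ).obj M ⊗ N : ModuleCat.{u} A)) =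
          (((show A from a) • ((1 : A) ⊗ₜ[R] m : (extM φ).obj M)) ⊗ₜ[A] n) :=
        (TensorProduct.smul_tmul _ _ _).symm
      rw [h1]
      have h2 : ((show A from a) • ((1 : A) ⊗ₜ[R] m : (extM φ).obj M)) = (a ⊗ₜ[R] m : (extM φ).obj M) := by
        show (((show A from a) * 1 : A) ⊗ₜ[R] m : (extM φ).obj M) = _
        rw [mul_one]
      rw [h2]
    | add x y hx hy =>
      rw [TensorProduct.add_tmul, map_add, map_add, hx, hy]
  | add x y hx hy => rw [map_add, map_add, hx, hy]

instance isIso_pf₀hom : IsIso (pf₀hom φ M N) := by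
  rw [ConcreteCategory.isIso_iff_bijective]
  refine ⟨Function.LeftInverse.injective (g := pf₀inv φ M N) (pf₀inv_hom φ M N),
    fun y => ⟨pf₀inv φ M N y, pf₀hom_inv φ M N y⟩⟩


/-- `(M, N) ↦ M ⊗_R res N` -/
noncomputable abbrev pfSrc : ModuleCat.{u} R ⥤ ModuleCat.{u} A ⥤ ModuleCat.{u} R :=
  𝟭 (ModuleCat.{u} R) ⋙ curriedTensor (ModuleCat.{u} R) ⋙ (Functor.whiskeringLeft _ _ _).obj (resM φ)

/-- `(M, N) ↦ res (ext M ⊗_A N)` -/
noncomputable abbrev pfTgt : ModuleCat.{u} R ⥤ ModuleCat.{u} A ⥤ ModuleCat.{u} R :=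
  (extM φ ⋙ curriedTensor (ModuleCat.{u} A)) ⋙ (Functor.whiskeringRight _ _ _).obj (resM φ)

/-- The projection formula as an isomorphism of bifunctors. -/
noncomputable def pf₀ : pfSrc φ ≅ pfTgt φ :=
  NatIso.ofComponents
    (fun M => NatIso.ofComponents (fun N => asIso (pf₀hom φ M N))
      (fun {N N'} g => by
        ext : 1
        exact TensorProduct.ext' (fun _ _ => rfl)))
    (fun {M M'} f => by
      ext N : 2
      exact ModuleCat.hom_ext (TensorProduct.ext' (fun _ _ => rfl)))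

@[simp]
lemma pf₀_hom_app_app : ((pf₀ φ).hom.app M).app N = pf₀hom φ M N := rfl


instance (X₁ : ModuleCat.{u} R) :
    ((extM φ ⋙ curriedTensor (ModuleCat.{u} A)).obj X₁).PreservesZeroMorphisms :=
  inferInstanceAs ((curriedTensor (ModuleCat.{u} A)).obj ((extM φ).obj X₁)).PreservesZeroMorphisms

/-- The chain-level projection formula `K ⊗_R res N ≅ res (ext K ⊗_A N)`. -/
noncomputable def pfCx (K : DRing.Cx R) (N : DRing.Cx A) :
    (tensorT R).obj (K, (resCx φ).obj N) ≅ (resCx φ).obj ((tensorT A).obj ((extCx φ).obj K, N)) :=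
  (HomologicalComplex₂.total.mapIso
      (TotMap.mapBifunctorPrecompIso (𝟭 (ModuleCat.{u} R)) (resM φ) (curriedTensor (ModuleCat.{u} R)) K N)
      (ComplexShape.up ℤ)) ≪≫
    TotMap.mapBifunctorNatIso K N (ComplexShape.up ℤ) (pf₀ φ) ≪≫
    (HomologicalComplex₂.total.mapIso
      (TotMap.mapBifunctorPostcompIso (extM φ ⋙ curriedTensor (ModuleCat.{u} A)) (resM φ) K N)
      (ComplexShape.up ℤ)) ≪≫
    (HomologicalComplex₂.total.mapIso ((TotMap.map₂ (resM φ) _ _).mapIso
      (TotMap.mapBifunctorPrecompIso (extM φ) (𝟭 (ModuleCat.{u} A)) (curriedTensor (ModuleCat.{u} A)) K N).symm)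
      (ComplexShape.up ℤ)) ≪≫
    (TotMap.mapTotalIso (resM φ) (tenBicx ((extCx φ).obj K) N) (ComplexShape.up ℤ)).symm


/-- Summand formula of `pfCx`. -/
@[reassoc]
lemma ι_pfCx (K : DRing.Cx R) (N : DRing.Cx A) (p q n : ℤ) (h : p + q = n) :
    HomologicalComplex.ιTensorObj K ((resCx φ).obj N) p q n h ≫ (pfCx φ K N).hom.f n =
      pf₀hom φ (K.X p) (N.X q) ≫
        (resM φ).map (HomologicalComplex.ιTensorObj ((extCx φ).obj K) N p q n h) := by
  dsimp only [pfCx, Iso.trans_hom, Iso.symm_hom]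
  simp only [HomologicalComplex.comp_f, HomologicalComplex₂.total.mapIso_hom, HomologicalComplex.ιTensorObj,
    HomologicalComplex.ιMapBifunctor, TotMap.mapBifunctorNatIso_hom]
  erw [HomologicalComplex₂.ιTotal_map_assoc]
  erw [TotMap.ι_mapBifunctorNatMap_assoc (pf₀ φ).hom K N (ComplexShape.up ℤ) p q n h]
  erw [HomologicalComplex₂.ιTotal_map_assoc]
  erw [HomologicalComplex₂.ιTotal_map_assoc]
  erw [TotMap.ιTotal_mapTotalIso_inv_f (resM φ) (tenBicx ((extCx φ).obj K) N) (ComplexShape.up ℤ) p q n h]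
  simp only [TotMap.mapBifunctorPrecompIso, HomologicalComplex.Hom.isoOfComponents_hom_f, Iso.refl_hom]
  exact Category.id_comp _


lemma pf₀hom_nat_left {M M' : ModuleCat.{u} R} (f : M ⟶ M') (N : ModuleCat.{u} A) :
    (f ▷ (resM φ).obj N) ≫ pf₀hom φ M' N = pf₀hom φ M N ≫ (resM φ).map ((extM φ).map f ▷ N) :=
  ModuleCat.hom_ext (TensorProduct.ext' (fun _ _ => rfl))

lemma pf₀hom_nat_right (M : ModuleCat.{u} R) {N N' : ModuleCat.{u} A} (g : N ⟶ N') :
    (M ◁ (resM φ).map g) ≫ pf₀hom φ M N' = pf₀hom φ M N ≫ (resM φ).map ((extM φ).obj M ◁ g) :=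
  ModuleCat.hom_ext (TensorProduct.ext' (fun _ _ => rfl))

/-- naturality of `pfCx` in the first variable -/
lemma pfCx_nat_left {K K' : DRing.Cx R} (f : K ⟶ K') (N : DRing.Cx A) :
    (f ▷ (resCx φ).obj N) ≫ (pfCx φ K' N).hom =
      (pfCx φ K N).hom ≫ (resCx φ).map ((extCx φ).map f ▷ N) := by
  change HomologicalComplex.mapBifunctorMap f (𝟙 _) _ _ ≫ _ = _
  refine HomologicalComplex.hom_ext _ _ (fun n => HomologicalComplex.mapBifunctor.hom_ext (fun p q h => ?_))
  erw [HomologicalComplex.comp_f, HomologicalComplex.comp_f, HomologicalComplex.ι_mapBifunctorMap_assoc,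
    ι_pfCx φ K' N p q n h, ι_pfCx_assoc φ K N p q n h, Functor.mapHomologicalComplex_map_f,
    ← Functor.map_comp]
  have h1 : HomologicalComplex.ιTensorObj ((extCx φ).obj K) N p q n h ≫ ((extCx φ).map f ▷ N).f n =
      ((extM φ).map (f.f p) ▷ N.X q) ≫ HomologicalComplex.ιTensorObj ((extCx φ).obj K') N p q n h := by
    change _ ≫ (HomologicalComplex.mapBifunctorMap ((extCx φ).map f) (𝟙 N) _ _).f n = _
    erw [HomologicalComplex.ι_mapBifunctorMap]
    simp
  rw [h1, Functor.map_comp]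
  have h2 := pf₀hom_nat_left φ (f.f p) (N.X q)
  have h3 : ((curriedTensor (ModuleCat.{u} R)).obj (K'.X p)).map
      (HomologicalComplex.Hom.f (𝟙 ((resCx φ).obj N)) q) = 𝟙 _ := by
    erw [HomologicalComplex.id_f]
    exact CategoryTheory.Functor.map_id _ _
  refine (((curriedTensor (ModuleCat.{u} R)).map (f.f p)).app (((resCx φ).obj N).X q) ≫= (h3 =≫ _)).trans ?_
  rw [Category.id_comp]
  exact (reassoc_of% h2) _

end Groth.Agent.H35.MixPF
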