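import Mathlib

/-!
# (F2) finitely many points of a field base change lie over a closed point
(helper35, squad piece for helper14, S17311)
-/

set_option autoImplicit false
universe u
open CategoryTheory CategoryTheory.Limits AlgebraicGeometry

namespace Groth.Agent.H35.NS_F2

/-- (F2) -/
theorem finite_preimage_of_isClosed {k Ω : Type u} [Field k] [Field Ω] {X X' : Scheme.{u}}
    (p : X ⟶ Spec (CommRingCat.of k)) [LocallyOfFiniteType p]
    (t' : Spec (CommRingCat.of Ω) ⟶ Spec (CommRingCat.of k))
    (q : X' ⟶ Spec (CommRingCat.of Ω)) (ι : X' ⟶ X) (sq : IsPullback ι q p t') (x : X)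
    (hx : IsClosed ({x} : Set X)) : (ι.base ⁻¹' {x}).Finite := by
  haveI : IsClosedImmersion (X.fromSpecResidueField x) :=
    isClosed_singleton_iff_isClosedImmersion.mp hx
  haveI : JacobsonSpace (Spec (CommRingCat.of k)) :=
    PrimeSpectrum.isJacobsonRing_iff_jacobsonSpace.mp inferInstance
  let g := X.fromSpecResidueField x ≫ p
  haveI : IsFinite g :=
    (isFinite_iff_locallyOfFiniteType_of_jacobsonSpace (f := g)).mpr inferInstance
  have sq1 : IsPullback (ι.fiberι x) (ι.fiberToSpecResidueField x) ι
      (X.fromSpecResidueField x) := IsPullback.of_hasPullback _ _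
  have sq2 := sq1.paste_horiz sq.flip
  haveI : IsFinite (ι.fiberι x ≫ q) :=
    MorphismProperty.of_isPullback (P := @IsFinite) sq2.flip ‹IsFinite g›
  have hfin : ((ι.fiberι x ≫ q) ⁻¹' {IsLocalRing.closedPoint Ω}).Finite :=
    (ι.fiberι x ≫ q).finite_preimage_singleton _
  have huniv : ((ι.fiberι x ≫ q) ⁻¹' {IsLocalRing.closedPoint Ω}) = Set.univ := by
    ext z
    simp only [Set.mem_preimage, Set.mem_univ, iff_true]
    exact Subsingleton.elim _ _
  rw [huniv] at hfin
  haveI : Finite (ι.fiber x) := Set.finite_univ_iff.mp hfin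
  have := ι.range_fiberι x
  rw [show (ι.base ⁻¹' {x}) = Set.range (ι.fiberι x) from this.symm]
  exact Set.finite_range _

end Groth.Agent.H35.NS_F2
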