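import Groth.Agent.H40.LTensorInv
import Groth.Agent.H31.StalkKFlat
import Groth.Prelude.Def_DCoh4
import Groth.Agent.H35.ConeDT

/-!
# (P2) the derived tensor product sends a mapping cone sequence in the fixed variable to a
distinguished triangle (helper35, squad piece for helper56, S1115 / S11112)
-/

set_option autoImplicit false
universe u
open CategoryTheory CategoryTheory.Limits AlgebraicGeometry HomologicalComplex
  CategoryTheory.Pretriangulated
attribute [local instance] HasDerivedCategory.standard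

namespace Groth.Agent.PC.P2

open Groth.Agent.H31 Groth.Agent.H31.KFlat Groth.Agent.H40.LTensorComp Groth.Agent.H40.LeftDer
  Groth.Agent.H53.SiteTensor Groth.Agent.H53.CxDerive Groth.Agent.H40.LTensorInv

section Site

variable {C : Type u} [SmallCategory C] {J : GrothendieckTopology C} {O : Sheaf J CommRingCat.{u}}

/-- the derived transformation `- ⊗^L P ⟶ - ⊗^L E` induced by `q : P ⟶ E`. -/
noncomputable def Lτ {P E : CochainComplex (ModSite.Mod O) ℤ} (q : P ⟶ E)
    [ModSite.HasLTensorCx P] [ModSite.HasLTensorCx E] :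
    ModSite.LTensorCx P ⟶ ModSite.LTensorCx E :=
  Functor.leftDerivedNatTrans (ModSite.LTensorCx P) (ModSite.LTensorCx E) (ε P) (ε E)
    (HomologicalComplex.quasiIso (ModSite.Mod O) (ComplexShape.up ℤ)) (τ q)

lemma Lτ_app {P E : CochainComplex (ModSite.Mod O) ℤ} (q : P ⟶ E)
    [ModSite.HasLTensorCx P] [ModSite.HasLTensorCx E] (K : CochainComplex (ModSite.Mod O) ℤ) :
    (Lτ q).app (DerivedCategory.Q.obj K) ≫ (ε E).app K = (ε P).app K ≫ (τ q).app K :=
  Functor.leftDerivedNatTrans_app _ _ _ _ _ _ K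

/-- comparison of `N ⊗^L E` with `Q (Tot (P ⊗ E))` for a left K-flat `P` representing `N`. -/
noncomputable def θ (P : CochainComplex (ModSite.Mod O) ℤ) (hP : KF (Tf O) P)
    (E : CochainComplex (ModSite.Mod O) ℤ) [ModSite.HasLTensorCx E]
    {N : DerivedCategory (ModSite.Mod O)} (e' : N ≅ DerivedCategory.Q.obj P) :
    (ModSite.LTensorCx E).obj N ≅
      DerivedCategory.Q.obj (((ModSite.tensorCx O).obj P).obj E) :=
  haveI := isIso_ε_app E P hP
  (ModSite.LTensorCx E).mapIso e' ≪≫ asIso ((ε E).app P)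

lemma θ_hom (P : CochainComplex (ModSite.Mod O) ℤ) (hP : KF (Tf O) P)
    (E : CochainComplex (ModSite.Mod O) ℤ) [ModSite.HasLTensorCx E]
    {N : DerivedCategory (ModSite.Mod O)} (e' : N ≅ DerivedCategory.Q.obj P) :
    (θ P hP E e').hom = (ModSite.LTensorCx E).map e'.hom ≫ (ε E).app P := rfl

lemma θ_nat (P : CochainComplex (ModSite.Mod O) ℤ) (hP : KF (Tf O) P)
    {E E' : CochainComplex (ModSite.Mod O) ℤ} [ModSite.HasLTensorCx E] [ModSite.HasLTensorCx E']
    (g : E ⟶ E') {N : DerivedCategory (ModSite.Mod O)} (e' : N ≅ DerivedCategory.Q.obj P) :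
    (Lτ g).app N ≫ (θ P hP E' e').hom =
      (θ P hP E e').hom ≫ DerivedCategory.Q.map (((ModSite.tensorCx O).obj P).map g) := by
  rw [θ_hom, θ_hom]
  have h1 := (Lτ g).naturality e'.hom
  have h2 := Lτ_app g P
  have h3 : (τ g).app P = DerivedCategory.Q.map (((ModSite.tensorCx O).obj P).map g) := rfl
  rw [← h3, Category.assoc, ← h2, ← Category.assoc, ← Category.assoc, h1]

theorem exists_tensor_triangle_site {A B : CochainComplex (ModSite.Mod O) ℤ} (f : A ⟶ B)
    [ModSite.HasLTensorCx A] [ModSite.HasLTensorCx B]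
    [ModSite.HasLTensorCx (CochainComplex.mappingCone f)] (N : DerivedCategory (ModSite.Mod O)) :
    ∃ δ : (ModSite.LTensorCx (CochainComplex.mappingCone f)).obj N ⟶
        ((ModSite.LTensorCx A).obj N)⟦(1 : ℤ)⟧,
      Triangle.mk ((Lτ f).app N) ((Lτ (CochainComplex.mappingCone.inr f)).app N) δ ∈
        distTriang (DerivedCategory (ModSite.Mod O)) := by
  have := hasExactColimitsOfShape_nat_Mod (O := O)
  obtain ⟨K, ⟨e⟩⟩ : ∃ K : CochainComplex (ModSite.Mod O) ℤ, Nonempty (N ≅ DerivedCategory.Q.obj K) :=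
    ⟨_, ⟨(DerivedCategory.Q.objObjPreimageIso N).symm⟩⟩
  obtain ⟨P, q, hP, -, hq, -⟩ := exists_kflat_resolution (T := Tf O) (tensorLike_Tf O) K
  have hP' : KF (Tf O) P := hP
  haveI : IsIso (DerivedCategory.Q.map q) := (DerivedCategory.isIso_Q_map_iff_quasiIso _ _).2 hq
  let e' : N ≅ DerivedCategory.Q.obj P := e ≪≫ (asIso (DerivedCategory.Q.map q)).symm
  obtain ⟨δ₀, hδ₀⟩ := Groth.Agent.H35.ConeDT.exists_distTriang ((ModSite.tensorCx O).obj P)
    (fun S σ => shortExact_map_obj_of_split (ModSite.tensorBi O) P S σ)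
    (fun K ⟨h⟩ => acyclic_mapBifunctor_right (ModSite.tensorBi O) P K h) f
  let θA := θ P hP' A e'
  let θB := θ P hP' B e'
  let θC := θ P hP' (CochainComplex.mappingCone f) e'
  refine ⟨θC.hom ≫ δ₀ ≫ (θA.inv)⟦(1 : ℤ)⟧', ?_⟩
  refine isomorphic_distinguished _ hδ₀ _ ?_
  refine Triangle.isoMk _ _ θA θB θC ?_ ?_ ?_
  · exact θ_nat P hP' f e'
  · exact θ_nat P hP' (CochainComplex.mappingCone.inr f) e'
  · show (θC.hom ≫ δ₀ ≫ (θA.inv)⟦(1 : ℤ)⟧') ≫ (θA.hom)⟦(1 : ℤ)⟧' = θC.hom ≫ δ₀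
    rw [Category.assoc, Category.assoc, ← CategoryTheory.Functor.map_comp, Iso.inv_hom_id,
      CategoryTheory.Functor.map_id, Category.comp_id]

end Site

end Groth.Agent.PC.P2

namespace Groth.Agent.PC

open Groth.Agent.PC.P2

/-- (P2): `- ⊗^L A ⟶ - ⊗^L B ⟶ - ⊗^L cone(f) ⟶` is (objectwise) a distinguished triangle. -/
theorem exists_tensor_triangle {Z : Scheme.{u}} {A B : CochainComplex Z.Modules ℤ} (f : A ⟶ B)
    [DCoh.HasLTensorCx A] [DCoh.HasLTensorCx B]
    [DCoh.HasLTensorCx (CochainComplex.mappingCone f)] :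
    ∃ (τ₁ : DCoh.LTensorCx A ⟶ DCoh.LTensorCx B)
      (τ₂ : DCoh.LTensorCx B ⟶ DCoh.LTensorCx (CochainComplex.mappingCone f)),
      ∀ N : DCoh.D Z, ∃ δ : (DCoh.LTensorCx (CochainComplex.mappingCone f)).obj N ⟶
          ((DCoh.LTensorCx A).obj N)⟦(1 : ℤ)⟧,
        Triangle.mk (τ₁.app N) (τ₂.app N) δ ∈ distTriang (DCoh.D Z) := by
  let A' : CochainComplex (ModSite.Mod (Groth.Agent.H31.Stalk.shX Z)) ℤ := A
  let B' : CochainComplex (ModSite.Mod (Groth.Agent.H31.Stalk.shX Z)) ℤ := B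
  let f' : A' ⟶ B' := f
  haveI hA : ModSite.HasLTensorCx (O := Groth.Agent.H31.Stalk.shX Z) A' := ‹DCoh.HasLTensorCx A›
  haveI hB : ModSite.HasLTensorCx (O := Groth.Agent.H31.Stalk.shX Z) B' := ‹DCoh.HasLTensorCx B›
  haveI hC : ModSite.HasLTensorCx (O := Groth.Agent.H31.Stalk.shX Z)
      (CochainComplex.mappingCone f') := ‹DCoh.HasLTensorCx (CochainComplex.mappingCone f)›
  exact ⟨Lτ f', Lτ (CochainComplex.mappingCone.inr f'),
    fun N => exists_tensor_triangle_site f' N⟩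

end Groth.Agent.PC
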