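import Mathlib
import Groth.Agent.H35.LBCpc
import Groth.Agent.H35.LBC2
import Groth.Agent.H56.PerfectCx

/-!
Descent of pseudo-coherence / tor amplitude / perfectness along a PAIR of ring maps
`φ₁ : A → B₁`, `φ₂ : A → B₂` which jointly detect finiteness and Tor-vanishing, e.g. two
surjections whose kernels multiply to zero (helper35).
-/

set_option autoImplicit false
universe u
open CategoryTheory CategoryTheory.Limits MonoidalCategory Pretriangulated TensorProduct
attribute [local instance] HasDerivedCategory.standard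

namespace Groth.Agent.H35.PairDescent

open DRing DerivedCategory Groth.Agent.H31 Groth.Agent.H35.TorAmp
  Groth.Agent.H35.FlatBC Groth.Agent.H35.KFlatBC Groth.Agent.H35.LBC

/-! ### base change of K-flat models is independent of the model -/

section Roof

variable {A B : Type u} [CommRing A] [CommRing B] (φ : A →+* B)

lemma nonempty_extCx_iso {P P' : Cx A} (hP : DRing.IsKFlat A P) (hP' : DRing.IsKFlat A P')
    (e : toD P ≅ toD P') :
    Nonempty (toD ((extCx φ).obj P) ≅ toD ((extCx φ).obj P')) := by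
  obtain ⟨Z, s, hs, g, hg⟩ := DerivedCategory.right_fac e.hom
  have hg' : Q.map g = Q.map s ≫ e.hom := by rw [hg, IsIso.hom_inv_id_assoc]
  have hgi : IsIso (Q.map g) := by rw [hg']; infer_instance
  obtain ⟨Z', r, hZ', -, hr, -⟩ := KFlatRing.exists_isKFlat_resolution Z
  have hs' : QuasiIso s := (isIso_Q_map_iff_quasiIso _ s).1 hs
  have hg'' : QuasiIso g := (isIso_Q_map_iff_quasiIso _ g).1 hgi
  have h1 : QuasiIso (r ≫ s) := inferInstance
  have h2 : QuasiIso (r ≫ g) := inferInstance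
  haveI := Groth.Agent.H53.LBaseChange.quasiIso_extCx_map φ (r ≫ s) h1 hZ' hP
  haveI := Groth.Agent.H53.LBaseChange.quasiIso_extCx_map φ (r ≫ g) h2 hZ' hP'
  exact ⟨(asIso (Q.map ((extCx φ).map (r ≫ s)))).symm ≪≫
    asIso (Q.map ((extCx φ).map (r ≫ g)))⟩

/-- the top cohomology after base change is finite -/
lemma finite_ext_opcycles_of_pc (F : Cx A) (c : ℤ) (hF : VanishesAbove F c)
    (h : IsPseudoCoherent B c (toD ((extCx φ).obj F))) :
    Module.Finite B ((ext φ).obj (F.opcycles c)) := by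
  have hFB := vanishesAbove_ext φ F c hF
  have hzero : ∀ i : ℤ, c < i → IsZero ((homologyFunctor (ModuleCat.{u} B) i).obj
      (toD ((extCx φ).obj F))) := fun i hi => by
    rw [← exactAt_iff_isZero_H]
    exact ShortComplex.exact_of_isZero_X₂ _ (hFB i hi)
  haveI h1 : Module.Finite B ((homologyFunctor (ModuleCat.{u} B) c).obj
      (toD ((extCx φ).obj F))) := (Groth.Agent.S2068.result _ c h).1 hzero
  obtain ⟨eB⟩ := nonempty_H_iso_opcycles ((extCx φ).obj F) c (hFB (c + 1) (by omega))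
  have h2 : Module.Finite B (((extCx φ).obj F).opcycles c) :=
    Module.Finite.equiv eB.toLinearEquiv
  exact finite_ext_opcycles φ F c h2

open CochainComplex in
/-- the base-change part of the induction step -/
lemma pc_step (m c : ℤ) (S₀ F F₁ : Cx A) (z : S₀ ⟶ F) (g : F₁ ⟶ mappingCone z)
    (hgq : QuasiIso g) (hS₀v : VanishesOutside S₀ c c) (hS₀ff : TermwiseFiniteFree S₀)
    (hF₁K : DRing.IsKFlat A F₁) (hCK : DRing.IsKFlat A (mappingCone z))
    (hpc : IsPseudoCoherent B m (toD ((extCx φ).obj F))) :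
    IsPseudoCoherent B m (toD ((extCx φ).obj F₁)) := by
  haveI hbc : QuasiIso ((extCx φ).map g) :=
    Groth.Agent.H53.LBaseChange.quasiIso_extCx_map φ g hgq hF₁K hCK
  have hTB := mappingCone_triangle_distinguished ((extCx φ).map z)
  have h₁ : IsPseudoCoherent B (m + 1) (Q.obj ((extCx φ).obj S₀)) :=
    H56.isPseudoCoherent_Q_obj_of_bounded_ff _ c c (vanishesOutside_ext φ S₀ c c hS₀v)
      (fun i => ⟨haveI := (hS₀ff i).1; finite_ext φ _, haveI := (hS₀ff i).2; free_ext φ _⟩)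
      (m + 1)
  have h₃ : IsPseudoCoherent B m (Q.obj (mappingCone ((extCx φ).map z))) :=
    MPCoh.isPseudoCoherent_obj₃ _ hTB m h₁ hpc
  exact MPCoh.isPseudoCoherent_of_iso
    (Q.mapIso (mappingCone.mapHomologicalComplexIso z (ext φ)).symm ≪≫
      (asIso (Q.map ((extCx φ).map g))).symm) h₃

/-- a finitely generated complement of `ker φ • M` -/
lemma exists_fg_sup_of_alg [Algebra A B] (hs : Function.Surjective (algebraMap A B)) (M : Type u)
    [AddCommGroup M] [Module A M] (h : Module.Finite B (B ⊗[A] M)) :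
    ∃ N : Submodule A M, N.FG ∧
      N ⊔ RingHom.ker (algebraMap A B) • (⊤ : Submodule A M) = ⊤ := by
  classical
  set I : Ideal A := RingHom.ker (algebraMap A B) with hI
  obtain ⟨S, hS⟩ := h.fg_top
  choose mOf hmOf using tmul_one_surjective hs M
  let N : Submodule A M := Submodule.span A (mOf '' (S : Set (B ⊗[A] M)))
  have hNfg : N.FG := Submodule.fg_span (Set.Finite.image _ S.finite_toSet)
  let T : Submodule B (B ⊗[A] M) :=
    { carrier := {t | ∃ n ∈ N, (1 : B) ⊗ₜ[A] n = t}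
      add_mem' := by
        rintro _ _ ⟨n, hn, rfl⟩ ⟨n', hn', rfl⟩
        exact ⟨n + n', N.add_mem hn hn', TensorProduct.tmul_add _ _ _⟩
      zero_mem' := ⟨0, N.zero_mem, TensorProduct.tmul_zero _ _⟩
      smul_mem' := by
        rintro b _ ⟨n, hn, rfl⟩
        obtain ⟨a, rfl⟩ := hs b
        refine ⟨a • n, N.smul_mem a hn, ?_⟩
        rw [TensorProduct.tmul_smul, algebraMap_smul] }
  have hT : T = ⊤ := by
    rw [eq_top_iff, ← hS, Submodule.span_le]
    intro s hs'
    exact ⟨mOf s, Submodule.subset_span ⟨s, hs', rfl⟩, hmOf s⟩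
  refine ⟨N, hNfg, ?_⟩
  rw [eq_top_iff]
  intro x _
  obtain ⟨n, hn, hnx⟩ : (1 : B) ⊗ₜ[A] x ∈ T := by rw [hT]; trivial
  have h1 : x - n ∈ I • (⊤ : Submodule A M) :=
    mem_smul_top_of_tmul_eq_zero hs M _ (by rw [TensorProduct.tmul_sub, hnx, sub_self])
  have hx : x = n + (x - n) := by abel
  rw [hx]
  exact Submodule.add_mem_sup hn h1

set_option backward.isDefEq.respectTransparency false in
lemma exists_fg_sup (hφ : Function.Surjective φ) (M : ModuleCat.{u} A)
    (h : Module.Finite B ((ext φ).obj M)) :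
    ∃ N : Submodule A M, N.FG ∧ N ⊔ RingHom.ker φ • (⊤ : Submodule A M) = ⊤ := by
  letI := algOf φ
  have hs : Function.Surjective (algebraMap A B) := fun b => hφ b
  have hk : RingHom.ker (algebraMap A B) = RingHom.ker φ := by
    ext a
    rw [RingHom.mem_ker, RingHom.mem_ker]
    rfl
  obtain ⟨N, hN, hsup⟩ := exists_fg_sup_of_alg hs M h
  exact ⟨N, hN, by rw [← hk]; exact hsup⟩

end Roof

/-! ### the induction step, independent of base change -/

section Step

variable {A : Type u} [CommRing A]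

open CochainComplex in
lemma exists_step (F : Cx A) (c : ℤ) (hF : VanishesAbove F c)
    (hfree : ∀ i, Module.Free A (F.X i))
    (hfin : Module.Finite A ((homologyFunctor (ModuleCat.{u} A) c).obj (toD F))) :
    ∃ (S₀ F₁ : Cx A) (z : S₀ ⟶ F) (g : F₁ ⟶ mappingCone z), QuasiIso g ∧
      VanishesOutside S₀ c c ∧ TermwiseFiniteFree S₀ ∧ VanishesAbove F₁ (c - 1) ∧
      (∀ i, Module.Free A (F₁.X i)) ∧ DRing.IsKFlat A F₁ ∧ DRing.IsKFlat A (mappingCone z) := by
  have hle : (toD F).IsLE c := isLE_toD_of_vanishesAbove F c hF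
  haveI := hle
  obtain ⟨k, π, hπ⟩ :=
    Module.Finite.exists_fin' A ((homologyFunctor (ModuleCat.{u} A) c).obj (toD F))
  let F₀ : ModuleCat.{u} A := ModuleCat.of A (Fin k → A)
  haveI hπF : Epi (ModuleCat.ofHom π : F₀ ⟶ _) := (ModuleCat.epi_iff_surjective _).2 hπ
  haveI hF₀fin : Module.Finite A F₀ := (inferInstance : Module.Finite A (Fin k → A))
  haveI hF₀free : Module.Free A F₀ := (inferInstance : Module.Free A (Fin k → A))
  haveI hFproj : Projective F₀ := (IsProjective.iff_projective _).mp Module.Projective.of_free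
  obtain ⟨ζ, hζ⟩ := H56.exists_lift_single_projective_epi' (toD F) c F₀ (ModuleCat.ofHom π)
  let S₀ : Cx A := (HomologicalComplex.single (ModuleCat.{u} A) (ComplexShape.up ℤ) c).obj F₀
  obtain ⟨hS₀v, hS₀ff⟩ := MPCoh.single_props c F₀
  have hS₀free : ∀ i, Module.Free A (S₀.X i) := fun i => (hS₀ff i).2
  have hS₀above : VanishesAbove S₀ c := fun i hi => hS₀v i (Or.inr hi)
  haveI := MPCoh.kprojective_of_free S₀ c hS₀above hS₀free
  obtain ⟨z, hz⟩ := H56.exists_chainMap_of_isKProjective S₀ F ((MPCoh.sIso c F₀).inv ≫ ζ)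
  have hz_iso : ∀ i, c < i → IsIso ((homologyFunctor (ModuleCat.{u} A) i).map (Q.map z)) := by
    intro i hi
    have h1 : IsZero ((homologyFunctor (ModuleCat.{u} A) i).obj (Q.obj S₀)) := by
      rw [← exactAt_iff_isZero_H]
      exact ShortComplex.exact_of_isZero_X₂ _ (hS₀above i hi)
    have h2 : IsZero ((homologyFunctor (ModuleCat.{u} A) i).obj (Q.obj F)) :=
      isZero_of_isLE (toD F) c i hi
    exact ⟨⟨0, h1.eq_of_src _ _, h2.eq_of_src _ _⟩⟩
  have hz_epi : Epi ((homologyFunctor (ModuleCat.{u} A) c).map (Q.map z)) := by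
    rw [hz, Functor.map_comp]
    exact epi_comp _ _
  have hC : ∀ i, c ≤ i → IsZero ((homologyFunctor (ModuleCat.{u} A) i).obj
      (Q.obj (mappingCone z))) :=
    Groth.Agent.H53.LBaseChange.isZero_obj₃_of_nIso
      (Q.mapTriangle.obj (mappingCone.triangle z))
      (mappingCone_triangle_distinguished z) c hz_iso hz_epi
  have hCle : (Q.obj (mappingCone z)).IsLE (c - 1) := by
    rw [DerivedCategory.isLE_iff]
    intro i hi
    exact hC i (by omega)
  obtain ⟨F₁, hF₁, hF₁free, ⟨e₁⟩⟩ := exists_free_model_of_isLE (Q.obj (mappingCone z)) (c - 1)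
  haveI := MPCoh.kprojective_of_free F₁ (c - 1) hF₁ hF₁free
  obtain ⟨g, hg⟩ := H56.exists_chainMap_of_isKProjective F₁ (mappingCone z) e₁.hom
  have hgq : QuasiIso g := by
    rw [← isIso_Q_map_iff_quasiIso, hg]
    infer_instance
  have hF₁K : DRing.IsKFlat A F₁ :=
    KFlatRing.isKFlat_of_bounded_above_flat F₁ _ hF₁ (free_flat F₁ hF₁free)
  have hFK : DRing.IsKFlat A F :=
    KFlatRing.isKFlat_of_bounded_above_flat F c hF (free_flat F hfree)
  have hS₀K : DRing.IsKFlat A S₀ :=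
    KFlatRing.isKFlat_of_bounded_above_flat S₀ c hS₀above (free_flat S₀ hS₀free)
  have hCK : DRing.IsKFlat A (mappingCone z) := (KFlatRing.isKFlat_mappingCone z).1 hS₀K hFK
  exact ⟨S₀, F₁, z, g, hgq, hS₀v, hS₀ff, hF₁, hF₁free, hF₁K, hCK⟩

open CochainComplex in
lemma pc_of_step (m c : ℤ) (S₀ F F₁ : Cx A) (z : S₀ ⟶ F) (g : F₁ ⟶ mappingCone z)
    (hgq : QuasiIso g) (hS₀v : VanishesOutside S₀ c c) (hS₀ff : TermwiseFiniteFree S₀)
    (hF₁pc : IsPseudoCoherent A m (toD F₁)) : IsPseudoCoherent A m (toD F) := by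
  haveI := hgq
  have hCpc : IsPseudoCoherent A m (Q.obj (mappingCone z)) :=
    MPCoh.isPseudoCoherent_of_iso (asIso (Q.map g)) hF₁pc
  have hS₀pc : IsPseudoCoherent A m (Q.obj S₀) :=
    H56.isPseudoCoherent_Q_obj_of_bounded_ff S₀ c c hS₀v hS₀ff m
  exact MPCoh.isPseudoCoherent_obj₂ _ (mappingCone_triangle_distinguished z) m hS₀pc hCpc

end Step

/-! ### pairs of ring maps -/

section Pair

variable {A B₁ B₂ : Type u} [CommRing A] [CommRing B₁] [CommRing B₂]
  (φ₁ : A →+* B₁) (φ₂ : A →+* B₂)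

/-- finiteness of modules is detected by the pair -/
def FinDetect : Prop :=
  ∀ M : ModuleCat.{u} A, Module.Finite B₁ ((ext φ₁).obj M) → Module.Finite B₂ ((ext φ₂).obj M) →
    Module.Finite A M

/-- Tor-vanishing is detected by the pair -/
def TorDetect : Prop :=
  ∀ (P : Cx A), TermwiseFlat P → ∀ i : ℤ,
    (∀ N : ModuleCat.{u} B₁, (CohIII.tensorObj ((extCx φ₁).obj P) N).ExactAt i) →
    (∀ N : ModuleCat.{u} B₂, (CohIII.tensorObj ((extCx φ₂).obj P) N).ExactAt i) →
    ∀ M : ModuleCat.{u} A, (CohIII.tensorObj P M).ExactAt i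

variable {φ₁ φ₂}

lemma finite_H_top₂ (hFin : FinDetect φ₁ φ₂) (F : Cx A) (c : ℤ) (hF : VanishesAbove F c)
    (h₁ : IsPseudoCoherent B₁ c (toD ((extCx φ₁).obj F)))
    (h₂ : IsPseudoCoherent B₂ c (toD ((extCx φ₂).obj F))) :
    Module.Finite A ((homologyFunctor (ModuleCat.{u} A) c).obj (toD F)) := by
  have h3 := finite_ext_opcycles_of_pc φ₁ F c hF h₁
  have h3' := finite_ext_opcycles_of_pc φ₂ F c hF h₂
  haveI h4 : Module.Finite A (F.opcycles c) := hFin (F.opcycles c) h3 h3'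
  obtain ⟨eA⟩ := nonempty_H_iso_opcycles F c (hF (c + 1) (by omega))
  exact Module.Finite.equiv eA.symm.toLinearEquiv

lemma pc_descent_aux₂ (hFin : FinDetect φ₁ φ₂) (m : ℤ) (n : ℕ) :
    ∀ (F : Cx A) (c : ℤ), VanishesAbove F c → (∀ i, Module.Free A (F.X i)) → c < m + n →
      IsPseudoCoherent B₁ m (toD ((extCx φ₁).obj F)) →
      IsPseudoCoherent B₂ m (toD ((extCx φ₂).obj F)) → IsPseudoCoherent A m (toD F) := by
  induction n with
  | zero =>
    intro F c hF _ hc _ _
    exact H56.isPseudoCoherent_of_isLE (toD F) m c (by omega) (isLE_toD_of_vanishesAbove F c hF)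
  | succ n ih =>
    intro F c hF hfree hc hpc₁ hpc₂
    have hle : (toD F).IsLE c := isLE_toD_of_vanishesAbove F c hF
    by_cases hcm : c < m
    · exact H56.isPseudoCoherent_of_isLE (toD F) m c hcm hle
    have hfin : Module.Finite A ((homologyFunctor (ModuleCat.{u} A) c).obj (toD F)) :=
      finite_H_top₂ hFin F c hF (MPCoh.isPseudoCoherent_mono (by omega) hpc₁)
        (MPCoh.isPseudoCoherent_mono (by omega) hpc₂)
    obtain ⟨S₀, F₁, z, g, hgq, hS₀v, hS₀ff, hF₁, hF₁free, hF₁K, hCK⟩ :=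
      exists_step F c hF hfree hfin
    have h₁ := pc_step φ₁ m c S₀ F F₁ z g hgq hS₀v hS₀ff hF₁K hCK hpc₁
    have h₂ := pc_step φ₂ m c S₀ F F₁ z g hgq hS₀v hS₀ff hF₁K hCK hpc₂
    have hF₁pc : IsPseudoCoherent A m (toD F₁) :=
      ih F₁ (c - 1) hF₁ hF₁free (by push_cast at hc; omega) h₁ h₂
    exact pc_of_step m c S₀ F F₁ z g hgq hS₀v hS₀ff hF₁pc

/-- Perfectness of a K-flat model descends along a detecting pair. -/
theorem isPerfect_of_pair (hFin : FinDetect φ₁ φ₂) (hTor : TorDetect φ₁ φ₂) (P : Cx A)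
    (hPK : DRing.IsKFlat A P) (hPfl : TermwiseFlat P)
    (h₁ : IsPerfect B₁ (toD ((extCx φ₁).obj P))) (h₂ : IsPerfect B₂ (toD ((extCx φ₂).obj P))) :
    IsPerfect A (toD P) := by
  obtain ⟨hpc₁, a₁, b₁, hamp₁⟩ := (isPerfect_iff _).1 h₁
  obtain ⟨hpc₂, a₂, b₂, hamp₂⟩ := (isPerfect_iff _).1 h₂
  have hK₁ := isKFlat_extCx φ₁ P hPK
  have hK₂ := isKFlat_extCx φ₂ P hPK
  have hT₁ := torVanish_of_hasTorAmplitudeIn
    (hasTorAmplitudeIn_mono (min_le_left a₁ a₂) (le_max_left b₁ b₂) hamp₁) _ hK₁ (Iso.refl _)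
  have hT₂ := torVanish_of_hasTorAmplitudeIn
    (hasTorAmplitudeIn_mono (min_le_right a₁ a₂) (le_max_right b₁ b₂) hamp₂) _ hK₂ (Iso.refl _)
  have hTV : TorVanish (min a₁ a₂) (max b₁ b₂) P := fun M i hi =>
    hTor P hPfl i (fun N => hT₁ N i hi) (fun N => hT₂ N i hi) M
  have hamp := hasTorAmplitudeIn_of_torVanish P hPK (Iso.refl _) hTV
  refine (isPerfect_iff _).2 ⟨H56.isPseudoCoherent'_iff_forall.2 (fun m => ?_), _, _, hamp⟩
  have hle : (toD P).IsLE (max b₁ b₂) := by
    rw [DerivedCategory.isLE_iff]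
    intro i hi
    exact (exactAt_iff_isZero_H P i).1 (exactAt_of_tensor_unit P i (hTV _ i (Or.inr hi)))
  haveI := hle
  obtain ⟨F, hF, hfree, ⟨eF⟩⟩ := exists_free_model_of_isLE (toD P) (max b₁ b₂)
  have hFK : DRing.IsKFlat A F :=
    KFlatRing.isKFlat_of_bounded_above_flat F _ hF (free_flat F hfree)
  obtain ⟨e₁⟩ := nonempty_extCx_iso φ₁ hFK hPK eF
  obtain ⟨e₂⟩ := nonempty_extCx_iso φ₂ hFK hPK eF
  have hp₁ : IsPseudoCoherent B₁ m (toD ((extCx φ₁).obj F)) :=
    MPCoh.isPseudoCoherent_of_iso e₁.symm (H56.isPseudoCoherent'_iff_forall.1 hpc₁ m)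
  have hp₂ : IsPseudoCoherent B₂ m (toD ((extCx φ₂).obj F)) :=
    MPCoh.isPseudoCoherent_of_iso e₂.symm (H56.isPseudoCoherent'_iff_forall.1 hpc₂ m)
  exact MPCoh.isPseudoCoherent_of_iso eF
    (pc_descent_aux₂ hFin m (max b₁ b₂ + 1 - m).toNat F _ hF hfree (by omega) hp₁ hp₂)

/-! ### two surjections whose kernels multiply to zero -/

section KerMul

variable (hs₁ : Function.Surjective φ₁) (hs₂ : Function.Surjective φ₂)
  (hmul : RingHom.ker φ₁ * RingHom.ker φ₂ = ⊥)

include hs₁ hs₂ hmul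

theorem torDetect_of_ker_mul : TorDetect φ₁ φ₂ := by
  intro P hP i h₁ h₂ M
  let M₂ : Submodule A M := RingHom.ker φ₂ • (⊤ : Submodule A M)
  have hk1 : (CohIII.tensorObj P (ModuleCat.of A M₂)).ExactAt i :=
    exactAt_tensor_of_killed φ₁ hs₁ P i h₁ _ (fun a ha x => by
      have hx : a • ((x : M₂) : M) = 0 := by
        refine Submodule.smul_induction_on (p := fun y => a • y = 0) (x : M₂).2
          (fun r hr m _ => ?_) (fun u v hu hv => ?_)
        · rw [smul_smul]
          have h0 : a * r ∈ RingHom.ker φ₁ * RingHom.ker φ₂ := Ideal.mul_mem_mul ha hr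
          rw [hmul] at h0
          rw [(Ideal.mem_bot).1 h0, zero_smul]
        · rw [smul_add, hu, hv, add_zero]
      exact Subtype.ext hx)
  have hk3 : (CohIII.tensorObj P (ModuleCat.of A (M ⧸ M₂))).ExactAt i :=
    exactAt_tensor_of_killed φ₂ hs₂ P i h₂ _ (fun a ha x => by
      obtain ⟨y, rfl⟩ := Submodule.Quotient.mk_surjective M₂ x
      rw [← Submodule.Quotient.mk_smul, Submodule.Quotient.mk_eq_zero]
      exact Submodule.smul_mem_smul ha Submodule.mem_top)
  exact exactAt_tensor_of_shortExact P hP (ModuleCat.ofHom M₂.subtype) (ModuleCat.ofHom M₂.mkQ)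
    M₂.injective_subtype M₂.mkQ_surjective (LinearMap.exact_subtype_mkQ M₂) i hk1 hk3

theorem finDetect_of_ker_mul : FinDetect φ₁ φ₂ := by
  intro M h₁ h₂
  obtain ⟨N₁, hN₁, hsup₁⟩ := exists_fg_sup φ₁ hs₁ M h₁
  obtain ⟨N₂, hN₂, hsup₂⟩ := exists_fg_sup φ₂ hs₂ M h₂
  have htop : N₁ ⊔ N₂ = ⊤ := by
    rw [eq_top_iff]
    calc (⊤ : Submodule A M) = N₁ ⊔ RingHom.ker φ₁ • (⊤ : Submodule A M) := hsup₁.symm
      _ = N₁ ⊔ RingHom.ker φ₁ • (N₂ ⊔ RingHom.ker φ₂ • (⊤ : Submodule A M)) := by rw [hsup₂]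
      _ = N₁ ⊔ (RingHom.ker φ₁ • N₂ ⊔
            RingHom.ker φ₁ • (RingHom.ker φ₂ • (⊤ : Submodule A M))) := by
          rw [Submodule.smul_sup]
      _ ≤ N₁ ⊔ N₂ := by
          refine sup_le le_sup_left (sup_le (le_trans Submodule.smul_le_right le_sup_right) ?_)
          rw [← Submodule.mul_smul, hmul, Submodule.bot_smul]
          exact bot_le
  exact ⟨by rw [← htop]; exact hN₁.sup hN₂⟩

end KerMul

end Pair

end Groth.Agent.H35.PairDescent
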