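import Mathlib
import Groth.Prelude.Def_DDual2
import Groth.Agent.H35.KFlatBC
import Groth.Agent.H35.LBC
import Groth.Agent.H35.MaxDescent
import Groth.Agent.H53.LBaseChange
import Groth.Agent.H31.KFlatRing

/-!
# Derived base change along `x ↦ 0` of a restricted object (helper35)

For `φ : R[X] → R`, `x ↦ 0`, and `K ∈ D(R)`: `(Res_φ K) ⊗^L_{R[X]} R ≅ K ⊕ K[1]`.
The resolution used is `0 → P[X] --X--> P[X] → P → 0` for a K-flat model `P` of `K`.
-/

set_option autoImplicit false
universe u
open CategoryTheory CategoryTheory.Limits TensorProduct HomologicalComplex Polynomial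
open ChangeOfRings
attribute [local instance] HasDerivedCategory.standard

namespace Groth.Agent.H35.PolyZero

open DRing Groth.Agent.H35.FlatBC Groth.Agent.H35.KFlatBC Groth.Agent.H31

section Defs
variable (R : Type u) [CommRing R]

/-- evaluation at zero -/
noncomputable abbrev ev : R[X] →+* R := Polynomial.evalRingHom (0 : R)
/-- constants -/
noncomputable abbrev cst : R →+* R[X] := Polynomial.C

lemma ev_comp_cst : (ev R).comp (cst R) = RingHom.id R := by
  ext r; simp

lemma ev_X : ev R (Polynomial.X : R[X]) = 0 := by simp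

/-- `R[X]` as an `R`-module, in the form in which it appears in `extendScalars`. -/
abbrev T₀ : Type u := ((ModuleCat.restrictScalars (cst R)).obj (ModuleCat.of R[X] R[X]))

/-- `divX` as an `R`-linear map. -/
noncomputable def div₀ : T₀ R →ₗ[R] T₀ R where
  toFun p := Polynomial.divX (show R[X] from p)
  map_add' p q := Polynomial.divX_add
  map_smul' r p := by
    show Polynomial.divX (Polynomial.C r * (show R[X] from p)) =
      Polynomial.C r * Polynomial.divX (show R[X] from p)
    exact Polynomial.divX_C_mul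

lemma divX_X_mul (p : R[X]) : Polynomial.divX (Polynomial.X * p) = p := by
  ext n
  rw [Polynomial.coeff_divX, Polynomial.coeff_X_mul]

end Defs

variable {R : Type u} [CommRing R]

/-- the identity-on-elements map `M ⟶ Res_ι Res_φ M` -/
noncomputable def gM (M : ModuleCat.{u} R) :
    M ⟶ (ModuleCat.restrictScalars (cst R)).obj ((ModuleCat.restrictScalars (ev R)).obj M) :=
  ModuleCat.ofHom
    (Y := (ModuleCat.restrictScalars (cst R)).obj ((ModuleCat.restrictScalars (ev R)).obj M))
    { toFun := fun m => m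
      map_add' := fun _ _ => rfl
      map_smul' := fun r m => by
        show r • m = (Polynomial.evalRingHom (0 : R)) (Polynomial.C r) • m
        rw [Polynomial.coe_evalRingHom, Polynomial.eval_C] }

/-- the augmentation `R[X] ⊗_R M ⟶ M`, `s ⊗ m ↦ s(0) m`. -/
noncomputable def epsM (M : ModuleCat.{u} R) : (ext (cst R)).obj M ⟶ (Res (ev R)).obj M :=
  ((ModuleCat.extendRestrictScalarsAdj (cst R)).homEquiv _ _).symm (gM M)

lemma epsM_one_tmul (M : ModuleCat.{u} R) (m : M) :
    (epsM M).hom ((1 : R[X]) ⊗ₜ[R, cst R] m) = m := by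
  have h := ModuleCat.extendRestrictScalarsAdj_homEquiv_apply (f := cst R) (epsM M) m
  rw [epsM, Equiv.apply_symm_apply] at h
  exact h.symm

/-- pure tensors in `R[X] ⊗_R M`. -/
noncomputable def tm (M : ModuleCat.{u} R) (s : R[X]) (m : M) : (ext (cst R)).obj M :=
  s ⊗ₜ[R, cst R] m

lemma smul_tm (M : ModuleCat.{u} R) (s s' : R[X]) (m : M) :
    s • tm M s' m = tm M (s * s') m := rfl

lemma tm_add_left (M : ModuleCat.{u} R) (s s' : R[X]) (m : M) :
    tm M (s + s') m = tm M s m + tm M s' m :=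
  TensorProduct.add_tmul (R := R) (M := T₀ R) s s' m

lemma tm_zero_right (M : ModuleCat.{u} R) (s : R[X]) : tm M s (0 : M) = 0 :=
  TensorProduct.tmul_zero (R := R) (M := T₀ R) _ s

lemma tm_add_right (M : ModuleCat.{u} R) (s : R[X]) (m m' : M) :
    tm M s (m + m') = tm M s m + tm M s m' :=
  TensorProduct.tmul_add (R := R) (M := T₀ R) s m m'

lemma tm_smul_right (M : ModuleCat.{u} R) (r : R) (m : M) :
    tm M 1 (r • m) = tm M (Polynomial.C r) m := by
  have h := TensorProduct.smul_tmul (R := R) (R' := R) r (show T₀ R from (1 : R[X])) m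
  have h2 : (r • (show T₀ R from (1 : R[X]))) = (show T₀ R from (Polynomial.C r : R[X])) := by
    show Polynomial.C r * 1 = Polynomial.C r
    rw [mul_one]
  rw [h2] at h
  exact h.symm

lemma tm_induction (M : ModuleCat.{u} R) {motive : (ext (cst R)).obj M → Prop}
    (z : (ext (cst R)).obj M) (zero : motive 0) (tmul : ∀ s m, motive (tm M s m))
    (add : ∀ z w, motive z → motive w → motive (z + w)) : motive z :=
  TensorProduct.induction_on (R := R) (M := T₀ R) (N := M) (motive := motive) z zero tmul add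

/-- the augmentation as a function to `M`. -/
noncomputable def e0 (M : ModuleCat.{u} R) (z : (ext (cst R)).obj M) : M := (epsM M).hom z

lemma e0_zero (M : ModuleCat.{u} R) : e0 M 0 = 0 := map_zero (epsM M).hom

lemma e0_add (M : ModuleCat.{u} R) (z w : (ext (cst R)).obj M) :
    e0 M (z + w) = e0 M z + e0 M w := map_add (epsM M).hom z w

lemma e0_smul (M : ModuleCat.{u} R) (s : R[X]) (z : (ext (cst R)).obj M) :
    e0 M (s • z) = (ev R s) • e0 M z := by
  show (epsM M).hom (s • z) = _
  rw [map_smul]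
  rfl

lemma e0_one_tm (M : ModuleCat.{u} R) (m : M) : e0 M (tm M 1 m) = m :=
  epsM_one_tmul M m

lemma e0_tm (M : ModuleCat.{u} R) (s : R[X]) (m : M) :
    e0 M (tm M s m) = (ev R s) • m := by
  have : tm M s m = s • tm M 1 m := by rw [smul_tm, mul_one]
  rw [this, e0_smul, e0_one_tm]

lemma e0_X_smul (M : ModuleCat.{u} R) (z : (ext (cst R)).obj M) :
    e0 M ((Polynomial.X : R[X]) • z) = 0 := by
  rw [e0_smul, ev_X, zero_smul]

/-- `divX ⊗ M`. -/
noncomputable def dv (M : ModuleCat.{u} R) (z : (ext (cst R)).obj M) : (ext (cst R)).obj M :=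
  (LinearMap.rTensor M (div₀ R) : T₀ R ⊗[R] M →ₗ[R] T₀ R ⊗[R] M) z

lemma dv_zero (M : ModuleCat.{u} R) : dv M 0 = 0 :=
  map_zero (LinearMap.rTensor M (div₀ R) : T₀ R ⊗[R] M →ₗ[R] T₀ R ⊗[R] M)

lemma dv_add (M : ModuleCat.{u} R) (z w : (ext (cst R)).obj M) :
    dv M (z + w) = dv M z + dv M w :=
  map_add (LinearMap.rTensor M (div₀ R) : T₀ R ⊗[R] M →ₗ[R] T₀ R ⊗[R] M) z w

lemma dv_tm (M : ModuleCat.{u} R) (s : R[X]) (m : M) :
    dv M (tm M s m) = tm M (Polynomial.divX s) m := rfl

lemma dv_X_smul (M : ModuleCat.{u} R) (z : (ext (cst R)).obj M) :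
    dv M ((Polynomial.X : R[X]) • z) = z := by
  induction z using tm_induction with
  | zero => rw [smul_zero, dv_zero]
  | tmul s m => rw [smul_tm, dv_tm, divX_X_mul]
  | add z₁ z₂ h₁ h₂ => rw [smul_add, dv_add, h₁, h₂]

lemma decomp (M : ModuleCat.{u} R) (z : (ext (cst R)).obj M) :
    z = (Polynomial.X : R[X]) • dv M z + tm M 1 (e0 M z) := by
  induction z using tm_induction with
  | zero => rw [dv_zero, e0_zero, smul_zero, tm_zero_right, add_zero]
  | tmul s m =>
    rw [dv_tm, e0_tm, smul_tm, tm_smul_right, ← tm_add_left]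
    congr 1
    show s = Polynomial.X * Polynomial.divX s + Polynomial.C ((Polynomial.evalRingHom (0 : R)) s)
    rw [Polynomial.coe_evalRingHom, ← Polynomial.coeff_zero_eq_eval_zero,
      Polynomial.X_mul_divX_add]
  | add z₁ z₂ h₁ h₂ =>
    rw [dv_add, e0_add, smul_add, tm_add_right]
    conv_lhs => rw [h₁, h₂]
    abel

/-- the augmentation as a natural transformation. -/
noncomputable def epsNat : ext (cst R) ⟶ Res (ev R) where
  app M := epsM M
  naturality M M' g := by
    apply ModuleCat.ExtendScalars.hom_ext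
    intro m
    have h1 : ((ext (cst R)).map g).hom (tm M 1 m) = tm M' 1 (g.hom m) := rfl
    show e0 M' (((ext (cst R)).map g).hom (tm M 1 m)) = g.hom (e0 M (tm M 1 m))
    rw [h1, e0_one_tm, e0_one_tm]

lemma one_tmul_X_smul (N : ModuleCat.{u} R[X]) (n : N) :
    ((1 : R) ⊗ₜ[R[X], ev R] ((Polynomial.X : R[X]) • n) : (ext (ev R)).obj N) = 0 := by
  have h := TensorProduct.smul_tmul (R := R[X]) (R' := R[X]) (Polynomial.X : R[X])
    (show ((ModuleCat.restrictScalars (ev R)).obj (ModuleCat.of R R)) from (1 : R)) n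
  have h2 : ((Polynomial.X : R[X]) •
      (show ((ModuleCat.restrictScalars (ev R)).obj (ModuleCat.of R R)) from (1 : R))) =
      (show ((ModuleCat.restrictScalars (ev R)).obj (ModuleCat.of R R)) from (0 : R)) := by
    show (ev R) Polynomial.X * 1 = 0
    rw [ev_X, zero_mul]
  rw [h2] at h
  exact h.symm.trans (TensorProduct.zero_tmul _ _)

section Complexes

variable (P : Cx R)

/-- `P[X]` -/
noncomputable abbrev PX : Cx R[X] := (extCx (cst R)).obj P

/-- restriction of scalars along `x ↦ 0` on complexes -/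
noncomputable abbrev resCx : Cx R ⥤ Cx R[X] :=
  (Res (ev R)).mapHomologicalComplex (ComplexShape.up ℤ)

/-- multiplication by `X` on `P[X]`. -/
noncomputable def mu : PX P ⟶ PX P := (Polynomial.X : R[X]) • 𝟙 (PX P)

/-- the augmentation `P[X] ⟶ P`. -/
noncomputable def eps : PX P ⟶ (resCx (R := R)).obj P :=
  (NatTrans.mapHomologicalComplex (epsNat (R := R)) (ComplexShape.up ℤ)).app P

lemma mu_f_apply (i : ℤ) (z : (ext (cst R)).obj (P.X i)) :
    ((mu P).f i).hom z = (Polynomial.X : R[X]) • z := rfl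

lemma eps_f_apply (i : ℤ) (z : (ext (cst R)).obj (P.X i)) :
    ((eps P).f i).hom z = e0 (P.X i) z := rfl

lemma mu_eps : mu P ≫ eps P = 0 := by
  ext i z
  show e0 (P.X i) ((Polynomial.X : R[X]) • z) = 0
  exact e0_X_smul _ z

/-- `0 → P[X] --X--> P[X] → P → 0`. -/
noncomputable def Sc : ShortComplex (Cx R[X]) := ShortComplex.mk (mu P) (eps P) (mu_eps P)

lemma shortExact_Sc : (Sc P).ShortExact := by
  apply HomologicalComplex.shortExact_of_degreewise_shortExact
  intro i
  apply ModuleCat.shortComplex_shortExact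
  · intro z
    constructor
    · intro hz
      have hz' : e0 (P.X i) z = 0 := hz
      refine ⟨dv (P.X i) z, ?_⟩
      show (Polynomial.X : R[X]) • dv (P.X i) z = z
      have := decomp (P.X i) z
      rw [hz', tm_zero_right, add_zero] at this
      exact this.symm
    · rintro ⟨w, rfl⟩
      exact e0_X_smul (P.X i) w
  · intro z w h
    have h' : (Polynomial.X : R[X]) • (show (ext (cst R)).obj (P.X i) from z) =
        (Polynomial.X : R[X]) • (show (ext (cst R)).obj (P.X i) from w) := h
    have := congrArg (dv (P.X i)) h'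
    rwa [dv_X_smul, dv_X_smul] at this
  · intro m
    exact ⟨tm (P.X i) 1 m, e0_one_tm (P.X i) m⟩

lemma ext_map_mu : (extCx (ev R)).map (mu P) = 0 := by
  ext i : 1
  apply ModuleCat.ExtendScalars.hom_ext
  intro n
  exact one_tmul_X_smul _ n

end Complexes

/-- The cone of a zero endomorphism splits in the derived category. -/
lemma cone_zero_iso {A : Type u} [CommRing A] {Q' : Cx A} (f : Q' ⟶ Q') (hf : f = 0) :
    Nonempty (toD (CochainComplex.mappingCone f) ≅
      toD Q' ⊞ (shiftFunctor (Dual.D A) (1 : ℤ)).obj (toD Q')) := by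
  let T := DerivedCategory.Q.mapTriangle.obj (CochainComplex.mappingCone.triangle f)
  have hT : T ∈ distTriang (Dual.D A) := DerivedCategory.mappingCone_triangle_distinguished f
  have hrot := Pretriangulated.rot_of_distTriang T hT
  have hz : T.rotate.mor₃ = 0 := by
    have h1 : T.mor₁ = 0 := by
      show DerivedCategory.Q.map f = 0
      rw [hf, Functor.map_zero]
    show -(shiftFunctor (Dual.D A) (1 : ℤ)).map T.mor₁ = 0
    rw [h1, Functor.map_zero, neg_zero]
  obtain ⟨e, -, -⟩ := Pretriangulated.exists_iso_binaryBiproduct_of_distTriang T.rotate hrot hz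
  exact ⟨e⟩

lemma nonempty_extCx_id_iso (f : R →+* R) (hf : f = RingHom.id R) (P : Cx R) :
    Nonempty ((extCx f).obj P ≅ P) := by
  subst hf
  exact ⟨(NatIso.mapHomologicalComplex (ModuleCat.extendScalarsId R) (ComplexShape.up ℤ)).app P ≪≫
    (Functor.mapHomologicalComplexIdIso (ModuleCat.{u} R) (ComplexShape.up ℤ)).app P⟩

/-- `(Res_φ K) ⊗^L_{R[X]} R ≅ K ⊕ K[1]` for `φ : R[X] → R`, `x ↦ 0`. -/
theorem main (K : Dual.D R) [DRing.HasLBaseChange (ev R)]
    [HasBinaryBiproduct K ((shiftFunctor (Dual.D R) (1 : ℤ)).obj K)] :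
    Nonempty ((DRing.LBaseChange (ev R)).obj ((DRing.restrictD (ev R)).obj K) ≅
      K ⊞ (shiftFunctor (Dual.D R) (1 : ℤ)).obj K) := by
  obtain ⟨P, hPK, -, ⟨e⟩⟩ := Groth.Agent.H35.LBC.exists_kflat_model K
  have hQK : DRing.IsKFlat R[X] (PX P) := isKFlat_extCx (cst R) P hPK
  have hCK : DRing.IsKFlat R[X] (CochainComplex.mappingCone (mu P)) :=
    (KFlatRing.isKFlat_mappingCone (mu P)).1 hQK hQK
  have hS : (Sc P).ShortExact := shortExact_Sc P
  have hqi : QuasiIso (CochainComplex.mappingCone.descShortComplex (Sc P)) :=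
    CochainComplex.mappingCone.quasiIso_descShortComplex hS
  have : IsIso (DerivedCategory.Q.map (CochainComplex.mappingCone.descShortComplex (Sc P))) :=
    (DerivedCategory.isIso_Q_map_iff_quasiIso _ _).2 hqi
  let e₁ := asIso (DerivedCategory.Q.map (CochainComplex.mappingCone.descShortComplex (Sc P)))
  let e₂ : toD ((resCx (R := R)).obj P) ≅ (DRing.restrictD (ev R)).obj (toD P) :=
    ((ModuleCat.restrictScalars.{u} (ev R)).mapDerivedCategoryFactors.app P).symm
  let e₃ : (DRing.restrictD (ev R)).obj (toD P) ≅ (DRing.restrictD (ev R)).obj K :=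
    (DRing.restrictD (ev R)).mapIso e
  let f₁ := (Groth.Agent.H53.LBaseChange.objIso' (ev R) _ hCK (e₁ ≪≫ e₂ ≪≫ e₃)).symm
  let f₂ : toD ((extCx (ev R)).obj (CochainComplex.mappingCone (mu P))) ≅
      toD (CochainComplex.mappingCone ((extCx (ev R)).map (mu P))) :=
    DerivedCategory.Q.mapIso
      (CochainComplex.mappingCone.mapHomologicalComplexIso (mu P) (ext (ev R)))
  obtain ⟨f₃⟩ := cone_zero_iso ((extCx (ev R)).map (mu P)) (ext_map_mu P)
  obtain ⟨g⟩ := nonempty_extCx_id_iso ((ev R).comp (cst R)) (ev_comp_cst R) P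
  let f₄ : toD ((extCx (ev R)).obj (PX P)) ≅ K :=
    DerivedCategory.Q.mapIso (Groth.Agent.H35.LBC.extCxCompIso (cst R) (ev R) P ≪≫ g) ≪≫ e
  exact ⟨f₁ ≪≫ f₂ ≪≫ f₃ ≪≫ biprod.mapIso f₄ ((shiftFunctor (Dual.D R) (1 : ℤ)).mapIso f₄)⟩

end Groth.Agent.H35.PolyZero
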