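import Mathlib
import Groth.Prelude.Def_SGA1
import Groth.Agent.S2925
import Groth.Agent.S2908
import Groth.Agent.S13606
import Groth.Agent.H11.QuotGlue_RA

/-!
# (UQ) a quotient of a stable open subscheme is an open subscheme of the quotient
(helper35, squad piece for helper79, S2907)
-/

set_option autoImplicit false
universe u
open CategoryTheory CategoryTheory.Limits AlgebraicGeometry

namespace Groth.Agent.H35.QuotGlue_UQ

/-- (UQ) -/
theorem isOpenImmersion_of_isQuot_of_isQuot {X Y V Z : Scheme.{u}} {G : Type u} [Group G]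
    [Finite G] (ρ : G →* Aut X) (p : X ⟶ Y) (hp : SGA1.IsQuot ρ p) (i : V ⟶ X)
    [IsOpenImmersion i] (ρV : G →* Aut V)
    (hρV : ∀ g : G, (ρV g).hom ≫ i = i ≫ (ρ g).hom) (q : V ⟶ Z) (hq : SGA1.IsQuot ρV q)
    (j : Z ⟶ Y) (hj : q ≫ j = i ≫ p) :
    IsOpenImmersion j ∧ ∀ x : X, p.base x ∈ Set.range j.base → x ∈ Set.range i.base := by
  obtain ⟨hsurj, horb, hquot⟩ := Groth.Agent.S2908.result ρ p hp
  -- the range of `i` is stable
  have hstab : ∀ (g : G) (x : X), x ∈ Set.range i.base → (ρ g).hom.base x ∈ Set.range i.base := by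
    rintro g _ ⟨v, rfl⟩
    refine ⟨(ρV g).hom.base v, ?_⟩
    have := congrArg (fun f : V ⟶ X => f.base v) (hρV g)
    simpa using this
  -- hence saturated
  have hsat : p.base ⁻¹' (p.base '' Set.range i.base) = Set.range i.base := by
    apply Set.Subset.antisymm
    · rintro x ⟨x', hx', hxx'⟩
      obtain ⟨g, hg⟩ := (horb x' x).1 hxx'
      rw [← hg]
      exact hstab g x' hx'
    · exact Set.subset_preimage_image _ _
  have hopen : IsOpen (p.base '' Set.range i.base) := by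
    rw [← hquot.isOpen_preimage, hsat]
    exact i.isOpenEmbedding.isOpen_range
  let O : Y.Opens := ⟨p.base '' Set.range i.base, hopen⟩
  have hpre : p ⁻¹ᵁ O = i.opensRange := by
    apply TopologicalSpace.Opens.ext
    exact hsat
  -- the action on `p⁻¹ O`
  have hstabO : ∀ g : G, (ρ g).hom ⁻¹ᵁ (p ⁻¹ᵁ O) = p ⁻¹ᵁ O := by
    intro g
    rw [← Scheme.Hom.comp_preimage, hp.inv g]
  obtain ⟨ρU, hρU⟩ := Groth.Agent.H11.QuotGlue_RA.exists_resAct ρ (p ⁻¹ᵁ O) hstabO
  have hqU : SGA1.IsQuot ρU (p ∣_ O) := Groth.Agent.S13606.result ρ p hp O ρU hρU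
  -- the equivariant isomorphism `V ≅ p⁻¹ O`
  have hrange : Set.range i.base = Set.range (p ⁻¹ᵁ O).ι.base := by
    rw [Scheme.Opens.range_ι, hpre]
    rfl
  let e : V ≅ (p ⁻¹ᵁ O).toScheme := IsOpenImmersion.isoOfRangeEq i (p ⁻¹ᵁ O).ι hrange
  have he : e.hom ≫ (p ⁻¹ᵁ O).ι = i := IsOpenImmersion.isoOfRangeEq_hom_fac _ _ _
  have hequiv : ∀ g : G, (ρV g).hom ≫ e.hom = e.hom ≫ (ρU g).hom := by
    intro g
    rw [← cancel_mono (p ⁻¹ᵁ O).ι, Category.assoc, Category.assoc, he, hρU, ← Category.assoc, he,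
      hρV]
  have hequiv' : ∀ g : G, (ρU g).hom ≫ e.inv = e.inv ≫ (ρV g).hom := by
    intro g
    rw [← cancel_epi e.hom, ← Category.assoc, ← hequiv, Category.assoc, Iso.hom_inv_id,
      Category.comp_id, Iso.hom_inv_id_assoc]
  -- the two comparison maps
  have hinv1 : ∀ g : G, (ρV g).hom ≫ (e.hom ≫ (p ∣_ O)) = e.hom ≫ (p ∣_ O) := by
    intro g
    rw [← Category.assoc, hequiv, Category.assoc, hqU.inv g]
  have hinv2 : ∀ g : G, (ρU g).hom ≫ (e.inv ≫ q) = e.inv ≫ q := by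
    intro g
    rw [← Category.assoc, hequiv', Category.assoc, hq.inv g]
  obtain ⟨a, ha, -⟩ := Groth.Agent.S2925.result ρV q hq O.toScheme (e.hom ≫ (p ∣_ O)) hinv1
  obtain ⟨b, hb, -⟩ := Groth.Agent.S2925.result ρU (p ∣_ O) hqU Z (e.inv ≫ q) hinv2
  have ha' : q ≫ a = e.hom ≫ (p ∣_ O) := ha
  have hb' : (p ∣_ O) ≫ b = e.inv ≫ q := hb
  have hab : a ≫ b = 𝟙 Z := by
    obtain ⟨c, -, hc⟩ := Groth.Agent.S2925.result ρV q hq Z q (fun g => hq.inv g)
    have h1 : a ≫ b = c := hc _ (by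
      show q ≫ a ≫ b = q
      rw [← Category.assoc, ha', Category.assoc, hb', Iso.hom_inv_id_assoc])
    have h2 : 𝟙 Z = c := hc _ (Category.comp_id q)
    rw [h1, h2]
  have hba : b ≫ a = 𝟙 O.toScheme := by
    obtain ⟨c, -, hc⟩ := Groth.Agent.S2925.result ρU (p ∣_ O) hqU O.toScheme (p ∣_ O)
      (fun g => hqU.inv g)
    have h1 : b ≫ a = c := hc _ (by
      show (p ∣_ O) ≫ b ≫ a = p ∣_ O
      rw [← Category.assoc, hb', Category.assoc, ha', Iso.inv_hom_id_assoc])
    have h2 : 𝟙 O.toScheme = c := hc _ (Category.comp_id _)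
    rw [h1, h2]
  let ab : Z ≅ O.toScheme := ⟨a, b, hab, hba⟩
  have hja : j = a ≫ O.ι := by
    obtain ⟨c, -, hc⟩ := Groth.Agent.S2925.result ρV q hq Y (i ≫ p) (by
      intro g
      rw [← Category.assoc, hρV, Category.assoc, hp.inv g])
    have h1 : j = c := hc _ hj
    have h2 : a ≫ O.ι = c := hc _ (by
      show q ≫ a ≫ O.ι = i ≫ p
      rw [← Category.assoc, ha', Category.assoc, morphismRestrict_ι, ← Category.assoc, he])
    rw [h1, h2]
  haveI : IsIso a := ⟨⟨b, hab, hba⟩⟩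
  refine ⟨by rw [hja]; infer_instance, ?_⟩
  intro x hx
  have hrj : Set.range j.base = (O : Set Y) := by
    rw [hja]
    have h3 : Set.range (a ≫ O.ι).base = Set.range O.ι.base := by
      ext y
      constructor
      · rintro ⟨z, rfl⟩
        exact ⟨a.base z, by simp⟩
      · rintro ⟨w, rfl⟩
        refine ⟨b.base w, ?_⟩
        have h4 := congrArg (fun f : O.toScheme ⟶ O.toScheme => f.base w) hba
        simp only [Scheme.Hom.comp_base, Scheme.Hom.id_base] at h4
        simp only [Scheme.Hom.comp_base]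
        exact congrArg O.ι.base h4
    rw [h3, Scheme.Opens.range_ι]
  rw [hrj] at hx
  have : x ∈ p.base ⁻¹' (p.base '' Set.range i.base) := hx
  rwa [hsat] at this

end Groth.Agent.H35.QuotGlue_UQ
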