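import Mathlib
import Groth.Prelude.Def_Rees
import Groth.Prelude.Def_BlowUp2
import Groth.Prelude.Def_ega3
import Groth.Agent.H95.ReesProjDefs

/-!
# (EA)/(UA) cores for the S16054 squad (helper95): maps `Spec C ⟶ Proj (Rees algebra)` over `Spec A`
through the chart `D₊(aX)` (helper35). The ring-level inputs (E1), (U1) and the chart containment
(U2) enter as hypotheses here; `RP_EA2`/`RP_UA2` plug in the landed pieces.
-/

set_option autoImplicit false
universe u
open CategoryTheory AlgebraicGeometry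
open Groth.Agent.H95.ReesProj

namespace Groth.Agent.H35.RP_EA

variable (A : Type u) [CommRing A] (I : Ideal A)

/-- the structure morphism of the chart `Spec (R(I)_{aX})₀ ⟶ Proj ⟶ Spec A` is `Spec (toAway a)`. -/
theorem awayι_over (a : A) (ha : a ∈ I) :
    Proj.awayι (Rees.deg (reesAlgebra I)) (gen A I a ha) (gen_mem A I a ha) one_pos ≫
      (Proj (Rees.deg (reesAlgebra I)) ↘ Spec (CommRingCat.of A)) =
    Spec.map (CommRingCat.ofHom (toAway A I a ha)) := by
  show Proj.awayι (Rees.deg (reesAlgebra I)) (gen A I a ha) (gen_mem A I a ha) one_pos ≫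
      (Proj.toSpecZero (Rees.deg (reesAlgebra I)) ≫
        Spec.map (CommRingCat.ofHom (algebraMap A (Rees.deg (reesAlgebra I) 0)))) = _
  rw [Proj.awayι_toSpecZero_assoc, ← Spec.map_comp]
  rfl

/-- (EA) from (E1). -/
theorem EA_core (a : A) (ha : a ∈ I) {C : Type u} [CommRing C] (φ : A →+* C)
    (hE1 : ∃ ψ : HomogeneousLocalization.Away (Rees.deg (reesAlgebra I)) (gen A I a ha) →+* C,
      ψ.comp (toAway A I a ha) = φ) :
    ∃ v : Spec (CommRingCat.of C) ⟶ Proj (Rees.deg (reesAlgebra I)),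
      v ≫ (Proj (Rees.deg (reesAlgebra I)) ↘ Spec (CommRingCat.of A)) =
        Spec.map (CommRingCat.ofHom φ) := by
  obtain ⟨ψ, hψ⟩ := hE1
  refine ⟨Spec.map (CommRingCat.ofHom ψ) ≫
    Proj.awayι (Rees.deg (reesAlgebra I)) (gen A I a ha) (gen_mem A I a ha) one_pos, ?_⟩
  rw [Category.assoc, awayι_over, ← Spec.map_comp, ← hψ]
  rfl

/-- (UA) from (U1) and (U2). -/
theorem UA_core (a : A) (ha : a ∈ I) {C : Type u} [CommRing C] (φ : A →+* C)
    (hnzd : φ a ∈ nonZeroDivisors C)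
    (hU1 : ∀ ψ₁ ψ₂ : HomogeneousLocalization.Away (Rees.deg (reesAlgebra I)) (gen A I a ha) →+* C,
      ψ₁.comp (toAway A I a ha) = ψ₂.comp (toAway A I a ha) →
      ψ₁ (toAway A I a ha a) ∈ nonZeroDivisors C → ψ₁ = ψ₂)
    (v₁ v₂ : Spec (CommRingCat.of C) ⟶ Proj (Rees.deg (reesAlgebra I)))
    (hU2₁ : Set.range v₁ ⊆ (Proj.basicOpen (Rees.deg (reesAlgebra I)) (gen A I a ha) : Set _))
    (hU2₂ : Set.range v₂ ⊆ (Proj.basicOpen (Rees.deg (reesAlgebra I)) (gen A I a ha) : Set _))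
    (h₁ : v₁ ≫ (Proj (Rees.deg (reesAlgebra I)) ↘ Spec (CommRingCat.of A)) =
      Spec.map (CommRingCat.ofHom φ))
    (h₂ : v₂ ≫ (Proj (Rees.deg (reesAlgebra I)) ↘ Spec (CommRingCat.of A)) =
      Spec.map (CommRingCat.ofHom φ)) : v₁ = v₂ := by
  set j := Proj.awayι (Rees.deg (reesAlgebra I)) (gen A I a ha) (gen_mem A I a ha) one_pos with hj
  have hr : (Set.range j : Set _) =
      (Proj.basicOpen (Rees.deg (reesAlgebra I)) (gen A I a ha) : Set _) := by
    have := Proj.opensRange_awayι (Rees.deg (reesAlgebra I)) (gen A I a ha) (gen_mem A I a ha)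
      one_pos
    rw [← this]
    rfl
  have key : ∀ v : Spec (CommRingCat.of C) ⟶ Proj (Rees.deg (reesAlgebra I)),
      Set.range v ⊆ (Proj.basicOpen (Rees.deg (reesAlgebra I)) (gen A I a ha) : Set _) →
      v ≫ (Proj (Rees.deg (reesAlgebra I)) ↘ Spec (CommRingCat.of A)) =
        Spec.map (CommRingCat.ofHom φ) →
      ∃ ψ : HomogeneousLocalization.Away (Rees.deg (reesAlgebra I)) (gen A I a ha) →+* C,
        v = Spec.map (CommRingCat.ofHom ψ) ≫ j ∧ ψ.comp (toAway A I a ha) = φ := by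
    intro v hv h
    have hv' : Set.range v ⊆ Set.range j := by rw [hr]; exact hv
    let l := IsOpenImmersion.lift j v hv'
    have hl : l ≫ j = v := IsOpenImmersion.lift_fac _ _ _
    obtain ⟨ψ', hψ'⟩ := Spec.map_surjective l
    refine ⟨ψ'.hom, ?_, ?_⟩
    · rw [← hl, ← hψ']
      rfl
    · have h3 : Spec.map (CommRingCat.ofHom (ψ'.hom.comp (toAway A I a ha))) =
          Spec.map (CommRingCat.ofHom φ) := by
        rw [← h, ← hl, Category.assoc, awayι_over, ← hψ', ← Spec.map_comp]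
        rfl
      have h4 := Spec.map_injective h3
      exact congrArg CommRingCat.Hom.hom h4
  obtain ⟨ψ₁, e₁, c₁⟩ := key v₁ hU2₁ h₁
  obtain ⟨ψ₂, e₂, c₂⟩ := key v₂ hU2₂ h₂
  have hψ : ψ₁ = ψ₂ := by
    refine hU1 ψ₁ ψ₂ (c₁.trans c₂.symm) ?_
    have : ψ₁ (toAway A I a ha a) = φ a := congrArg (fun f : A →+* C => f a) c₁
    rw [this]
    exact hnzd
  rw [e₁, e₂, hψ]

end Groth.Agent.H35.RP_EA
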