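import Mathlib
import Groth.Prelude.Def_Rees
import Groth.Prelude.Def_BlowUp2
import Groth.Prelude.Def_ega3
import Groth.Agent.H95.ReesProjDefs
import Groth.Agent.H35.RP_EA
import Groth.Agent.H72.RP_E1

/-! (EA) for the S16054 squad (helper95), exact statement (helper35). -/

set_option autoImplicit false
universe u
open CategoryTheory AlgebraicGeometry
open Groth.Agent.H95.ReesProj

namespace Groth.Agent.H35.RP_EA2

variable (A : Type u) [CommRing A] (I : Ideal A)

theorem EA (a : A) (ha : a ∈ I) {C : Type u} [CommRing C] (φ : A →+* C)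
    (hgen : I.map φ = Ideal.span {φ a}) (hnzd : φ a ∈ nonZeroDivisors C) :
    ∃ v : Spec (CommRingCat.of C) ⟶ Proj (Rees.deg (reesAlgebra I)),
      v ≫ (Proj (Rees.deg (reesAlgebra I)) ↘ Spec (CommRingCat.of A)) =
        Spec.map (CommRingCat.ofHom φ) :=
  Groth.Agent.H35.RP_EA.EA_core A I a ha φ (Groth.Agent.H72.RP_E1.E1 A I a ha φ hgen hnzd)

end Groth.Agent.H35.RP_EA2
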