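import Mathlib
import Groth.Prelude.Def_Rees
import Groth.Prelude.Def_BlowUp2
import Groth.Prelude.Def_ega3
import Groth.Agent.H95.ReesProjDefs
import Groth.Agent.H35.RP_EA
import Groth.Agent.H86.RP_U1
import Groth.Agent.H93.RP_U2

/-! (UA) for the S16054 squad (helper95), exact statement (helper35). -/

set_option autoImplicit false
universe u
open CategoryTheory AlgebraicGeometry
open Groth.Agent.H95.ReesProj

namespace Groth.Agent.H35.RP_UA2

variable (A : Type u) [CommRing A] (I : Ideal A)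

theorem UA (a : A) (ha : a ∈ I) {C : Type u} [CommRing C] (φ : A →+* C)
    (hgen : I.map φ = Ideal.span {φ a}) (hnzd : φ a ∈ nonZeroDivisors C)
    (v₁ v₂ : Spec (CommRingCat.of C) ⟶ Proj (Rees.deg (reesAlgebra I)))
    (h₁ : v₁ ≫ (Proj (Rees.deg (reesAlgebra I)) ↘ Spec (CommRingCat.of A)) =
      Spec.map (CommRingCat.ofHom φ))
    (h₂ : v₂ ≫ (Proj (Rees.deg (reesAlgebra I)) ↘ Spec (CommRingCat.of A)) =
      Spec.map (CommRingCat.ofHom φ)) : v₁ = v₂ :=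
  Groth.Agent.H35.RP_EA.UA_core A I a ha φ hnzd
    (fun ψ₁ ψ₂ h hn => Groth.Agent.H86.RP_U1.U1 A I a ha ψ₁ ψ₂ h hn) v₁ v₂
    (Groth.Agent.H93.RP_U2.U2 A I a ha φ hgen hnzd v₁ h₁)
    (Groth.Agent.H93.RP_U2.U2 A I a ha φ hgen hnzd v₂ h₂) h₁ h₂

end Groth.Agent.H35.RP_UA2
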