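import Groth.Agent.H53.DTenComp
import Groth.Agent.H53.BaseAdj
import Groth.Agent.H53.MixComp

/-!
The binders `DTen.HasLTen A` and `DTen.HasLBase φ` hold for every ring (map) (helper35, on top of
helper53's derivability machinery).
-/

set_option autoImplicit false
universe u
open CategoryTheory CategoryTheory.Limits MonoidalCategory
attribute [local instance] HasDerivedCategory.standard

namespace Groth.Agent.H35.RelBinders

open Groth.Agent.H31 Groth.Agent.H31.KFlat Groth.Agent.H40.LTensorComp Groth.Agent.H53.ProdDer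
  Groth.Agent.H53.DTenComp Groth.Agent.H53 HomologicalComplex DTen

variable (A : Type u) [CommRing A]

/-- The derived tensor product on `D(A)` exists. -/
theorem hasLTen : DTen.HasLTen A := by
  have hg : Good (prodLM (LocalizerMorphism.id (WK A)) (Φfl A)) :=
    (good_id (WK A)).prod (good_Φfl A)
  have := hg.isLeftDerivabilityStructure
  let F_K := Localization.lift (DTen.tensor₂ A) (inverts_tensor₂ A) ((qq A).prod (qq A))
  let e : (qq A).prod (qq A) ⋙ F_K ≅ DTen.tensor₂ A := Localization.fac _ _ _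
  let i : (qq A).prod (qq A) ⋙ (DerivedCategory.Qh.prod DerivedCategory.Qh) ≅ DTen.QQ A :=
    NatIso.prod (DerivedCategory.quotientCompQhIso _) (DerivedCategory.quotientCompQhIso _)
  refine KanTransfer.hasLeftDerivedFunctor_of_derivability ((qq A).prod (qq A))
    ((hEq A).prod (hEq A))
    (DerivedCategory.Qh.prod DerivedCategory.Qh) (DTen.QQ A) i (DTen.tensor₂ A) F_K e
    (DTen.qis₂ A) ((WK A).prod (WK A))
    (prodLM (LocalizerMorphism.id (WK A)) (Φfl A)) ?_
  rintro ⟨X₁, X₂⟩ ⟨Y₁, Y₂⟩ ⟨f₁, f₂⟩ ⟨h₁, h₂⟩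
  dsimp only at f₁ f₂ h₁ h₂
  obtain ⟨f₁', rfl⟩ : ∃ f' : X₁.as ⟶ Y₁.as, (qq A).map f' = f₁ := (qq A).map_surjective f₁
  obtain ⟨f₂', hf₂'⟩ : ∃ f' : X₂.obj.as ⟶ Y₂.obj.as, (qq A).map f' = f₂.hom :=
    (qq A).map_surjective f₂.hom
  have hq₁ : QuasiIso f₁' := quasiIso_of_WK f₁' h₁
  have hq₂ : QuasiIso f₂' := by
    apply quasiIso_of_WK
    rw [hf₂']
    rw [ObjectProperty.trW_inverseImage_ι_iff] at h₂
    obtain ⟨Z, g, k, hT, hZ⟩ := h₂
    exact ⟨Z, g, k, hT, hZ.2⟩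
  have h3 : IsIso ((DTen.tensor₂ A).map (X := (X₁.as, X₂.obj.as)) (Y := (Y₁.as, Y₂.obj.as))
      (Prod.mkHom f₁' f₂')) := by
    change IsIso (DerivedCategory.Q.map ((DTen.tensorT A).map (X := (X₁.as, X₂.obj.as))
      (Y := (Y₁.as, Y₂.obj.as)) (Prod.mkHom f₁' f₂')))
    rw [tensorT_map]
    have := quasiIso_tensorHom f₁' f₂' hq₁ hq₂ ((KFlatRing.isKFlat_iff _).2 X₂.property)
      ((KFlatRing.isKFlat_iff _).2 Y₂.property)
    infer_instance
  have h4 := (NatIso.isIso_map_iff e (X := (X₁.as, X₂.obj.as)) (Y := (Y₁.as, Y₂.obj.as))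
    (Prod.mkHom f₁' f₂')).2 h3
  have h5 : ((prodLM (LocalizerMorphism.id (WK A)) (Φfl A)).functor ⋙ F_K).map
      (X := (X₁, X₂)) (Y := (Y₁, Y₂)) (Prod.mkHom ((qq A).map f₁') f₂) =
      ((qq A).prod (qq A) ⋙ F_K).map (X := (X₁.as, X₂.obj.as)) (Y := (Y₁.as, Y₂.obj.as))
        (Prod.mkHom f₁' f₂') := by
    change F_K.map (Prod.mkHom ((qq A).map f₁') f₂.hom) =
      F_K.map (Prod.mkHom ((qq A).map f₁') ((qq A).map f₂'))
    rw [hf₂']
    rfl
  exact h5 ▸ h4

variable {A}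
variable {R : Type u} [CommRing R] (φ : R →+* A)

/-- Restriction of scalars on derived categories has a left adjoint. -/
theorem hasLBase : DTen.HasLBase φ := by
  have := BaseAdj.hasLeft φ
  exact ⟨⟨_, ⟨BaseAdj.derivedAdj φ
    ((extCx φ ⋙ DerivedCategory.Q).totalLeftDerived DerivedCategory.Q (DTen.qis R))
    ((extCx φ ⋙ DerivedCategory.Q).totalLeftDerivedCounit DerivedCategory.Q (DTen.qis R))⟩⟩⟩

end Groth.Agent.H35.RelBinders
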