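import Groth.Agent.H35.MixPF
import Groth.Agent.H35.RelBinders
import Groth.Agent.H35.LTensorCxLib
import Groth.Agent.H53.CxDerive2
import Groth.Agent.H53.LTensorCxObj
import Groth.Agent.H53.Mix3Comp

/-!
The counit `(K ⊗^L_R QP)|_R ⟶ K` built from a chain map `e : P|_R ⟶ J` and a resolution
`j : 𝟙 ⟶ J`, natural in `K ∈ D(R)`, and its adjunct `tau : (- ⊗^L_R QP) ⟶ RHomRel φ` (helper35).
-/

set_option autoImplicit false
set_option linter.unusedSectionVars false
set_option linter.style.haveILetI false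
set_option backward.isDefEq.respectTransparency false
universe u
open CategoryTheory CategoryTheory.Limits MonoidalCategory
attribute [local instance] HasDerivedCategory.standard

namespace Groth.Agent.H35.RelCounit

open DTen Groth.Agent.H31 Groth.Agent.H31.KFlat Groth.Agent.H53 Groth.Agent.H53.CxDerive
  Groth.Agent.H53.ProdDer Groth.Agent.H35.MixPF Groth.Agent.H40.LTensorComp Groth.Agent.H40.LeftDer

variable {R A : Type u} [CommRing R] [CommRing A]

/-- K-flat objects of the homotopy category -/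
abbrev kfl (B : Type u) [CommRing B] : ObjectProperty (CxDerive.HC (ModuleCat.{u} B)) :=
  DTenComp.kfl B

lemma hasLeftRes_kfl (B : Type u) [CommRing B] :
    HasLeftRes (kfl B) (CxDerive.Bac (ModuleCat.{u} B)) := by
  have := KFlatRing.hasExactColimitsOfShape_nat (R := B)
  exact hasLeftRes KFlatRing.tensorLike

lemma isKFlat_of_kfl {B : Type u} [CommRing B] (K : DRing.Cx B)
    (hK : kfl B ((CxDerive.qq (ModuleCat.{u} B)).obj K)) : DRing.IsKFlat B K :=
  (KFlatRing.isKFlat_iff K).2 hK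

/-- K-flat complexes are adapted to `- ⊗ E`. -/
lemma adapted_tensorCxQ (E : DRing.Cx R) : Adapted (kfl R) (DRing.tensorCxQ R E) where
  res := hasLeftRes_kfl R
  inv₁ := (LTensorCxObj.adapted E).inv₁
  inv₂ f hP hP' hf := by
    have := LTensorCxObj.quasiIso_whiskerRight f hf
      (LTensorCxObj.KF_Tf_of_isKFlat _ (isKFlat_of_kfl _ hP))
      (LTensorCxObj.KF_Tf_of_isKFlat _ (isKFlat_of_kfl _ hP')) E
    change IsIso (DerivedCategory.Q.map (f ▷ E))
    rw [DerivedCategory.isIso_Q_map_iff_quasiIso]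
    exact this

variable (φ : R →+* A)

/-- `K ↦ Q((K ⊗_R A) ⊗_A P)` -/
noncomputable abbrev TP (P : DRing.Cx A) : DRing.Cx R ⥤ Dual.D A := extCx φ ⋙ DRing.tensorCxQ A P

lemma adapted_TP (P : DRing.Cx A) (hP : DRing.IsKFlat A P) : Adapted (kfl R) (TP φ P) where
  res := hasLeftRes_kfl R
  inv₁ := by
    rintro K K' f ⟨e, rfl⟩
    have := DTenComp.isIso_Q_map_tensorHom_of_homotopyEquiv
      ((ModuleCat.extendScalars.{u, u, u} φ).mapHomotopyEquiv e) (HomotopyEquiv.refl P)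
    change IsIso (DerivedCategory.Q.map ((extCx φ).map e.hom ▷ P))
    rw [← MonoidalCategory.tensorHom_id]
    exact this
  inv₂ {K K'} f hK hK' hf := by
    have h1 : QuasiIso ((extCx φ).map f) :=
      LBaseChange.quasiIso_extCx_map φ f hf (isKFlat_of_kfl _ hK) (isKFlat_of_kfl _ hK')
    have h2 := DTenComp.quasiIso_tensorHom ((extCx φ).map f) (𝟙 P) h1 inferInstance hP hP
    change IsIso (DerivedCategory.Q.map ((extCx φ).map f ▷ P))
    rw [DerivedCategory.isIso_Q_map_iff_quasiIso, ← MonoidalCategory.tensorHom_id]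
    exact h2


variable [DTen.HasLTenMix φ]

/-- `K ↦ K ⊗^L_R N` (mixed), for fixed `N ∈ D(A)`. -/
noncomputable abbrev GP (N : Dual.D A) : Dual.D R ⥤ Dual.D A :=
  (Functor.curry.obj (LTenMix φ)).flip.obj N

lemma GP_map (N : Dual.D A) {K K' : Dual.D R} (f : K ⟶ K') :
    (GP φ N).map f = (LTenMix φ).map (Prod.mkHom f (𝟙 N)) := rfl

/-- the counit of `GP (Q P)` as a natural transformation in the complex `K`. -/
noncomputable def αP (P : DRing.Cx A) :
    DerivedCategory.Q ⋙ GP φ (DerivedCategory.Q.obj P) ⟶ TP φ P where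
  app K := (εMix φ).app (K, P)
  naturality K K' f := by
    have h := (εMix φ).naturality (X := (K, P)) (Y := (K', P)) (Prod.mkHom f (𝟙 P))
    have h1 : (QMix R A ⋙ LTenMix φ).map (X := (K, P)) (Y := (K', P)) (Prod.mkHom f (𝟙 P)) =
        (DerivedCategory.Q ⋙ GP φ (DerivedCategory.Q.obj P)).map f := by
      change (LTenMix φ).map (Prod.mkHom (DerivedCategory.Q.map f) (DerivedCategory.Q.map (𝟙 P))) =
        (LTenMix φ).map (Prod.mkHom (DerivedCategory.Q.map f) (𝟙 (DerivedCategory.Q.obj P)))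
      rw [CategoryTheory.Functor.map_id]
    have h2 : (mix₂ φ).map (X := (K, P)) (Y := (K', P)) (Prod.mkHom f (𝟙 P)) = (TP φ P).map f := by
      change DerivedCategory.Q.map ((mixT φ).map (X := (K, P)) (Y := (K', P)) (Prod.mkHom f (𝟙 P))) =
        DerivedCategory.Q.map ((extCx φ).map f ▷ P)
      rw [MixComp.mixT_map, MonoidalCategory.tensorHom_id]
    rw [← h1, ← h2]
    exact h

@[simp] lemma αP_app (P : DRing.Cx A) (K : DRing.Cx R) : (αP φ P).app K = (εMix φ).app (K, P) := rfl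

/-- `GP (Q P)` is the left derived functor of `TP P` for `P` K-flat. -/
lemma isLeftDerivedFunctor_GP (P : DRing.Cx A) (hP : DRing.IsKFlat A P) :
    (GP φ (DerivedCategory.Q.obj P)).IsLeftDerivedFunctor (αP φ P) (CxDerive.qis (ModuleCat.{u} R)) :=
  (adapted_TP φ P hP).isLeftDerivedFunctor_of_isIso _ _
    (fun K hK => MixComp.isIso_εMix φ K P (isKFlat_of_kfl _ hK) hP)


lemma pfCx_inv_nat {K K' : DRing.Cx R} (f : K ⟶ K') (N : DRing.Cx A) :
    (resCx φ).map ((extCx φ).map f ▷ N) ≫ (pfCx φ K' N).inv =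
      (pfCx φ K N).inv ≫ (f ▷ (resCx φ).obj N) := by
  rw [Iso.comp_inv_eq, Category.assoc, Iso.eq_inv_comp]
  exact (pfCx_nat_left φ f N).symm

/-- the functor `K ↦ (K ⊗^L_R QP)|_R` -/
noncomputable abbrev L₁ (P : DRing.Cx A) : Dual.D R ⥤ Dual.D R :=
  GP φ (DerivedCategory.Q.obj P) ⋙ DRing.restrictD φ

/-- the counit of `L₁` towards `K ↦ Q(K ⊗_R P|_R)`. -/
noncomputable def α₁ (P : DRing.Cx A) :
    DerivedCategory.Q ⋙ L₁ φ P ⟶ DRing.tensorCxQ R ((resCx φ).obj P) where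
  app K := (DRing.restrictD φ).map ((εMix φ).app (K, P)) ≫
    (resFactors φ).hom.app ((mixT φ).obj (K, P)) ≫ DerivedCategory.Q.map (pfCx φ K P).inv
  naturality K K' f := by
    have h1 := (αP φ P).naturality f
    have h2 := (resFactors φ).hom.naturality ((extCx φ).map f ▷ P)
    have h3 := pfCx_inv_nat φ f P
    have h1' := congrArg (fun t => (DRing.restrictD φ).map t) h1
    simp only [Functor.map_comp] at h1'
    have h3' := congrArg (fun t => DerivedCategory.Q.map t) h3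
    simp only [Functor.map_comp] at h3'
    dsimp at h1' h2 h3' ⊢
    rw [reassoc_of% h1', reassoc_of% h2, h3']
    simp only [Category.assoc]

lemma α₁_app (P : DRing.Cx A) (K : DRing.Cx R) : (α₁ φ P).app K =
    (DRing.restrictD φ).map ((εMix φ).app (K, P)) ≫
      (resFactors φ).hom.app ((mixT φ).obj (K, P)) ≫ DerivedCategory.Q.map (pfCx φ K P).inv := rfl

lemma isLeftDerivedFunctor_L₁ (P : DRing.Cx A) (hP : DRing.IsKFlat A P) :
    (L₁ φ P).IsLeftDerivedFunctor (α₁ φ P) (CxDerive.qis (ModuleCat.{u} R)) := by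
  refine (adapted_tensorCxQ ((resCx φ).obj P)).isLeftDerivedFunctor_of_isIso _ _ (fun K hK => ?_)
  have := MixComp.isIso_εMix φ K P (isKFlat_of_kfl _ hK) hP
  rw [α₁_app]
  infer_instance


instance hasLTensorCx' (E : DRing.Cx R) : DRing.HasLTensorCx R E := LTensorCxObj.hasLTensorCx E

/-- the counit of `𝟭` towards `K ↦ Q(K ⊗ 𝟙)`. -/
noncomputable def α₃ : DerivedCategory.Q ⋙ 𝟭 (Dual.D R) ⟶ DRing.tensorCxQ R (𝟙_ (DRing.Cx R)) where
  app K := DerivedCategory.Q.map (ρ_ K).inv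
  naturality K K' f := by
    dsimp
    rw [← Functor.map_comp, ← Functor.map_comp, rightUnitor_inv_naturality]

lemma isLeftDerivedFunctor_id :
    (𝟭 (Dual.D R)).IsLeftDerivedFunctor (α₃ (R := R)) (CxDerive.qis (ModuleCat.{u} R)) := by
  refine (adapted_tensorCxQ (𝟙_ (DRing.Cx R))).isLeftDerivedFunctor_of_isIso _ _ (fun K _ => ?_)
  dsimp [α₃]
  infer_instance

section Counit

variable (P : DRing.Cx A) (J : DRing.Cx R) (e : (resCx φ).obj P ⟶ J) (j : 𝟙_ (DRing.Cx R) ⟶ J)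

/-- `K ◁ e`, in `D(R)`, naturally in the complex `K`. -/
noncomputable def nat₁₂ : DRing.tensorCxQ R ((resCx φ).obj P) ⟶ DRing.tensorCxQ R J :=
  Functor.whiskerRight ((tensoringRight (DRing.Cx R)).map e) DerivedCategory.Q

/-- `K ◁ j`, in `D(R)`, naturally in the complex `K`. -/
noncomputable def nat₃₂ : DRing.tensorCxQ R (𝟙_ (DRing.Cx R)) ⟶ DRing.tensorCxQ R J :=
  Functor.whiskerRight ((tensoringRight (DRing.Cx R)).map j) DerivedCategory.Q

@[simp] lemma nat₁₂_app (K : DRing.Cx R) :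
    (nat₁₂ φ P J e).app K = DerivedCategory.Q.map (K ◁ e) := rfl

@[simp] lemma nat₃₂_app (K : DRing.Cx R) :
    (nat₃₂ J j).app K = DerivedCategory.Q.map (K ◁ j) := rfl

/-- `L₁ ⟶ (- ⊗^L J)` -/
noncomputable def c₁₂ : L₁ φ P ⟶ DRing.LTensorCx R J :=
  Functor.leftDerivedNatTrans (L₁ φ P) (DRing.LTensorCx R J) (α₁ φ P) (LTensorCxObj.ε J)
    (CxDerive.qis (ModuleCat.{u} R)) (nat₁₂ φ P J e)

/-- `𝟭 ⟶ (- ⊗^L J)` -/
noncomputable def c₃₂ : 𝟭 (Dual.D R) ⟶ DRing.LTensorCx R J :=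
  Functor.leftDerivedNatTrans (𝟭 (Dual.D R)) (DRing.LTensorCx R J) α₃ (LTensorCxObj.ε J)
    (CxDerive.qis (ModuleCat.{u} R)) (nat₃₂ J j)

lemma isIso_c₃₂ (hj : QuasiIso j) : IsIso (c₃₂ J j) := by
  haveI := isLeftDerivedFunctor_id (R := R)
  refine Adapted.isIso_leftDerivedNatTrans (adapted_tensorCxQ (𝟙_ (DRing.Cx R))) (adapted_tensorCxQ J)
    (nat₃₂ J j) (fun K hK => ?_) _ _ _ _
  have := Groth.Agent.H35.LTC.quasiIso_whiskerLeft K (isKFlat_of_kfl _ hK) j hj
  rw [nat₃₂_app, DerivedCategory.isIso_Q_map_iff_quasiIso]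
  exact this

/-- The counit `(K ⊗^L_R QP)|_R ⟶ K`, natural in `K ∈ D(R)`. -/
noncomputable def counit (hj : QuasiIso j) : L₁ φ P ⟶ 𝟭 (Dual.D R) :=
  haveI := isIso_c₃₂ J j hj
  c₁₂ φ P J e ≫ inv (c₃₂ J j)

/-- the characterising formula of `counit` on complexes -/
lemma counit_app_fac (hj : QuasiIso j) (K : DRing.Cx R) :
    (counit φ P J e j hj).app (DerivedCategory.Q.obj K) ≫
        DerivedCategory.Q.map ((ρ_ K).inv ≫ K ◁ j) =
      (α₁ φ P).app K ≫ DerivedCategory.Q.map (K ◁ e) := by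
  haveI := isIso_c₃₂ J j hj
  have h1 := Functor.leftDerivedNatTrans_app (L₁ φ P) (DRing.LTensorCx R J) (α₁ φ P)
    (LTensorCxObj.ε J) (CxDerive.qis (ModuleCat.{u} R)) (nat₁₂ φ P J e) K
  have h2 := Functor.leftDerivedNatTrans_app (𝟭 (Dual.D R)) (DRing.LTensorCx R J) α₃
    (LTensorCxObj.ε J) (CxDerive.qis (ModuleCat.{u} R)) (nat₃₂ J j) K
  have h3 : DerivedCategory.Q.map ((ρ_ K).inv ≫ K ◁ j) =
      (c₃₂ J j).app (DerivedCategory.Q.obj K) ≫ (LTensorCxObj.ε J).app K := by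
    rw [Functor.map_comp]
    exact h2.symm
  have h4 : (counit φ P J e j hj).app (DerivedCategory.Q.obj K) =
      (c₁₂ φ P J e).app (DerivedCategory.Q.obj K) ≫ (inv (c₃₂ J j)).app (DerivedCategory.Q.obj K) := rfl
  have h5 : (inv (c₃₂ J j)).app (DerivedCategory.Q.obj K) ≫ (c₃₂ J j).app (DerivedCategory.Q.obj K) =
      𝟙 _ := by
    rw [← NatTrans.comp_app, IsIso.inv_hom_id]
    rfl
  rw [h3, h4, Category.assoc, reassoc_of% h5]
  exact h1

end Counit

section Tau

variable [DTen.HasRHomRel φ] (P : DRing.Cx A)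

/-- the adjunct of a counit-type natural transformation. -/
noncomputable def tau (c : L₁ φ P ⟶ 𝟭 (Dual.D R)) : GP φ (DerivedCategory.Q.obj P) ⟶ RHomRel φ where
  app K := (relAdj φ).homEquiv _ _ (c.app K)
  naturality K K' f := by
    rw [← Adjunction.homEquiv_naturality_left, ← Adjunction.homEquiv_naturality_right]
    congr 1
    exact c.naturality f

lemma tau_app (c : L₁ φ P ⟶ 𝟭 (Dual.D R)) (K : Dual.D R) :
    (tau φ P c).app K = (relAdj φ).homEquiv _ _ (c.app K) := rfl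

lemma map_tau_relEv (c : L₁ φ P ⟶ 𝟭 (Dual.D R)) (K : Dual.D R) :
    (DRing.restrictD φ).map ((tau φ P c).app K) ≫ relEv φ K = c.app K := by
  rw [tau_app]
  exact ((relAdj φ).homEquiv_counit _ _ _).symm.trans (((relAdj φ).homEquiv _ _).symm_apply_apply _)

/-- if the counit at `K` is `res ω ≫ ev` for an isomorphism `ω`, then `tau` is an isomorphism at `K`. -/
lemma isIso_tau_app_of_eq (c : L₁ φ P ⟶ 𝟭 (Dual.D R)) (K : Dual.D R)
    (ω : (GP φ (DerivedCategory.Q.obj P)).obj K ≅ (RHomRel φ).obj K)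
    (h : c.app K = (DRing.restrictD φ).map ω.hom ≫ relEv φ K) : IsIso ((tau φ P c).app K) := by
  have : (tau φ P c).app K = ω.hom := by
    rw [tau_app, h]
    have h1 := (relAdj φ).homEquiv_counit _ _ ω.hom
    exact (congrArg _ h1.symm).trans (((relAdj φ).homEquiv _ _).apply_symm_apply ω.hom)
  rw [this]
  infer_instance

end Tau

end Groth.Agent.H35.RelCounit
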