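import Groth.Agent.H35.RelCounit
import Groth.Agent.H33.BrownD
import Groth.Agent.S13893
import Groth.Agent.H35.DTenUnit

/-!
Choice of the data `(P, J, e, j)` for the counit of `Groth.Agent.H35.RelCounit`, normalised so that
the comparison `tau` is an isomorphism at the unit object (helper35).
-/

set_option autoImplicit false
set_option backward.isDefEq.respectTransparency false
set_option linter.unusedSectionVars false
set_option linter.style.haveILetI false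
universe u
open CategoryTheory CategoryTheory.Limits MonoidalCategory
attribute [local instance] HasDerivedCategory.standard

namespace Groth.Agent.H35.RelData

open DTen Groth.Agent.H31 Groth.Agent.H53 Groth.Agent.H35.MixPF Groth.Agent.H35.RelCounit

variable {R A : Type u} [CommRing R] [CommRing A] (φ : R →+* A)

/-- `ext 𝟙 ≅ 𝟙` as complexes. -/
noncomputable def extUnitIso : (extCx φ).obj (𝟙_ (DRing.Cx R)) ≅ 𝟙_ (DRing.Cx A) :=
  (HomologicalComplex.singleMapHomologicalComplex (ModuleCat.extendScalars.{u, u, u} φ)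
      (ComplexShape.up ℤ) 0).app (𝟙_ (ModuleCat.{u} R)) ≪≫
    (HomologicalComplex.single (ModuleCat.{u} A) (ComplexShape.up ℤ) 0).mapIso
      (Functor.Monoidal.εIso (ModuleCat.extendScalars.{u, u, u} φ)).symm

variable [DTen.HasLTenMix φ]

lemma isKFlat_unit (B : Type u) [CommRing B] : DRing.IsKFlat B (𝟙_ (DRing.Cx B)) := by
  rw [Groth.Agent.H31.KFlatRing.isKFlat_iff]
  intro L hL
  exact (Groth.Agent.H31.KFlat.acyclic_iff_of_iso (ρ_ L)).2 hL


variable [DTen.HasRHomRel φ]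

/-- `𝟙 ⊗^L_R QP ≅ QP` -/
noncomputable def ω₀ (P : DRing.Cx A) (hP : DRing.IsKFlat A P) :
    (GP φ (DerivedCategory.Q.obj P)).obj (DTen.unit R) ≅ DerivedCategory.Q.obj P :=
  haveI := MixComp.isIso_εMix φ (𝟙_ (DRing.Cx R)) P (isKFlat_unit R) hP
  asIso ((εMix φ).app (𝟙_ (DRing.Cx R), P)) ≪≫
    DerivedCategory.Q.mapIso (whiskerRightIso (extUnitIso φ) P ≪≫ λ_ P)

/-- The data from which the comparison `(- ⊗^L_R M) ⟶ RHomRel φ` is built, normalised at the unit. -/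
structure Data where
  P : DRing.Cx A
  hP : DRing.IsKFlat A P
  eP : DerivedCategory.Q.obj P ≅ (RHomRel φ).obj (DTen.unit R)
  J : DRing.Cx R
  e : (resCx φ).obj P ⟶ J
  j : 𝟙_ (DRing.Cx R) ⟶ J
  hj : QuasiIso j
  base : (counit φ P J e j hj).app (DTen.unit R) =
    (DRing.restrictD φ).map ((ω₀ φ P hP ≪≫ eP).hom) ≫ relEv φ (DTen.unit R)

lemma isIso_α₁_app (P : DRing.Cx A) (hP : DRing.IsKFlat A P) (K : DRing.Cx R)
    (hK : DRing.IsKFlat R K) : IsIso ((α₁ φ P).app K) := by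
  have := MixComp.isIso_εMix φ K P hK hP
  rw [α₁_app]
  infer_instance

theorem exists_data (P : DRing.Cx A) (hP : DRing.IsKFlat A P)
    (eP : DerivedCategory.Q.obj P ≅ (RHomRel φ).obj (DTen.unit R)) :
    ∃ D : Data φ, D.P = P := by
  obtain ⟨J, j, hJ, hj, -, -⟩ := Groth.Agent.S0476.result (𝟙_ (DRing.Cx R))
  haveI := hJ
  haveI := isIso_α₁_app φ P hP (𝟙_ (DRing.Cx R)) (isKFlat_unit R)
  have hq : QuasiIso ((ρ_ (𝟙_ (DRing.Cx R))).inv ≫ (𝟙_ (DRing.Cx R)) ◁ j) := by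
    have := Groth.Agent.H35.LTC.quasiIso_whiskerLeft (𝟙_ (DRing.Cx R)) (isKFlat_unit R) j hj
    infer_instance
  haveI : IsIso (DerivedCategory.Q.map ((ρ_ (𝟙_ (DRing.Cx R))).inv ≫ (𝟙_ (DRing.Cx R)) ◁ j)) := by
    rw [DerivedCategory.isIso_Q_map_iff_quasiIso]
    exact hq
  let ev'' : (L₁ φ P).obj (DTen.unit R) ⟶ DTen.unit R :=
    (DRing.restrictD φ).map ((ω₀ φ P hP ≪≫ eP).hom) ≫ relEv φ (DTen.unit R)
  let gD : DerivedCategory.Q.obj ((𝟙_ (DRing.Cx R)) ⊗ (resCx φ).obj P) ⟶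
      DerivedCategory.Q.obj ((𝟙_ (DRing.Cx R)) ⊗ J) :=
    inv ((α₁ φ P).app (𝟙_ (DRing.Cx R))) ≫ ev'' ≫
      DerivedCategory.Q.map ((ρ_ (𝟙_ (DRing.Cx R))).inv ≫ (𝟙_ (DRing.Cx R)) ◁ j)
  obtain ⟨e, he⟩ := Groth.Agent.H33.BrownD.exists_Q_map_eq_of_isKInjective ((resCx φ).obj P) J
    (DerivedCategory.Q.map (λ_ ((resCx φ).obj P)).inv ≫ gD ≫ DerivedCategory.Q.map (λ_ J).hom)
  refine ⟨⟨P, hP, eP, J, e, j, hj, ?_⟩, rfl⟩
  have h1 := counit_app_fac φ P J e j hj (𝟙_ (DRing.Cx R))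
  have h2 : DerivedCategory.Q.map ((𝟙_ (DRing.Cx R)) ◁ e) = gD := by
    rw [MonoidalCategory.id_whiskerLeft, Functor.map_comp, Functor.map_comp, he]
    simp only [Category.assoc, ← Functor.map_comp_assoc, ← Functor.map_comp, Iso.hom_inv_id,
      CategoryTheory.Functor.map_id, Category.id_comp, Category.comp_id]
  rw [h2] at h1
  dsimp only [gD] at h1
  rw [IsIso.hom_inv_id_assoc] at h1
  exact (cancel_mono _).1 h1


/-- the counit attached to the data -/
noncomputable def Data.c (D : Data φ) : L₁ φ D.P ⟶ 𝟭 (Dual.D R) := counit φ D.P D.J D.e D.j D.hj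

/-- the comparison `(- ⊗^L_R QP) ⟶ RHomRel φ` attached to the data -/
noncomputable def Data.tau (D : Data φ) : GP φ (DerivedCategory.Q.obj D.P) ⟶ RHomRel φ :=
  RelCounit.tau φ D.P D.c

lemma Data.isIso_tau_unit (D : Data φ) : IsIso (D.tau.app (DTen.unit R)) :=
  RelCounit.isIso_tau_app_of_eq φ D.P D.c (DTen.unit R) (ω₀ φ D.P D.hP ≪≫ D.eP) D.base

end Groth.Agent.H35.RelData
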