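import Groth.Agent.H35.RelDevissage
import Groth.Agent.H33.BrownD
import Groth.Agent.H33.RHomModel
import Groth.Agent.S0477

/-!
Dévissage in the standard derived category `D(R)` of a ring via the locally small model and the
homotopy colimit structure theorem S0984 (helper35): `isIso_of_unit_shifts`.
-/

set_option autoImplicit false
set_option linter.unusedSectionVars false
set_option linter.style.haveILetI false
universe v' u' u
open CategoryTheory CategoryTheory.Limits Pretriangulated MonoidalCategory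

namespace Groth.Agent.H35.RelDevStd

open Groth.Agent.H35.TriChase Groth.Agent.H35.RelDevissage

variable (R : Type u) [CommRing R]

/-- the locally small model of the derived category -/
@[instance_reducible] noncomputable def hs : HasDerivedCategory.{u} (ModuleCat.{u} R) :=
  Groth.Agent.H33.BrownD.hasDerivedCategorySmall _

/-- the locally small derived category -/
abbrev Ds := @DerivedCategory.{u} (ModuleCat.{u} R) _ _ (hs R)

/-- the standard derived category -/
abbrev Dt := Dual.D R

/-- localization functor, small model -/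
noncomputable abbrev Qs : DRing.Cx R ⥤ Ds R := @DerivedCategory.Q _ _ _ (hs R)

/-- localization functor, standard model -/
noncomputable abbrev Qt : DRing.Cx R ⥤ Dt R := @DerivedCategory.Q _ _ _ (HasDerivedCategory.standard _)

/-- the quasi-isomorphisms -/
abbrev W : MorphismProperty (DRing.Cx R) :=
  HomologicalComplex.quasiIso (ModuleCat.{u} R) (ComplexShape.up ℤ)

/-- the comparison equivalence between the two models of the derived category -/
noncomputable def Φ : Ds R ≌ Dt R := Localization.uniq (Qs R) (Qt R) (W R)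

/-- `Φ (Q₁ X) ≅ Q₂ X` -/
noncomputable def ΦQ : Qs R ⋙ (Φ R).functor ≅ Qt R := Localization.compUniqFunctor _ _ (W R)

variable {R}

lemma DT_Φ {a b c : Ds R} (p : a ⟶ b) (q : b ⟶ c) (h : DT p q) :
    DT ((Φ R).functor.map p) ((Φ R).functor.map q) := by
  obtain ⟨r, hr⟩ := h
  obtain ⟨X, Y, f, ⟨e⟩⟩ := (@DerivedCategory.mem_distTriang_iff _ _ _ (hs R) _).1 hr
  have hd : (Qt R).mapTriangle.obj (CochainComplex.mappingCone.triangle f) ∈ distTriang _ :=
    @DerivedCategory.mappingCone_triangle_distinguished _ _ _ (HasDerivedCategory.standard _) _ _ f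
  have h0 : DT ((Qt R).map f) ((Qt R).map (CochainComplex.mappingCone.inr f)) := ⟨_, hd⟩
  have c1 : p ≫ e.hom.hom₂ = e.hom.hom₁ ≫ (Qs R).map f := e.hom.comm₁
  have c2 : q ≫ e.hom.hom₃ = e.hom.hom₂ ≫ (Qs R).map (CochainComplex.mappingCone.inr f) :=
    e.hom.comm₂
  let e₁ : a ≅ (Qs R).obj X := (Triangle.π₁).mapIso e
  let e₂ : b ≅ (Qs R).obj Y := (Triangle.π₂).mapIso e
  let e₃ : c ≅ (Qs R).obj (CochainComplex.mappingCone f) := (Triangle.π₃).mapIso e
  refine Groth.Agent.H33.RHomModel.DT.of_iso h0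
    ((Φ R).functor.mapIso e₁ ≪≫ (ΦQ R).app _)
    ((Φ R).functor.mapIso e₂ ≪≫ (ΦQ R).app _)
    ((Φ R).functor.mapIso e₃ ≪≫ (ΦQ R).app _) ?_ ?_
  · have n1 : (Φ R).functor.map ((Qs R).map f) ≫ (ΦQ R).hom.app Y =
        (ΦQ R).hom.app X ≫ (Qt R).map f := (ΦQ R).hom.naturality f
    have k1 : (Φ R).functor.map p ≫ (Φ R).functor.map e₂.hom =
        (Φ R).functor.map e₁.hom ≫ (Φ R).functor.map ((Qs R).map f) := by
      rw [← Functor.map_comp, ← Functor.map_comp]
      exact congrArg _ c1
    simp only [Iso.trans_hom, Functor.mapIso_hom, Iso.app_hom, Category.assoc]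
    rw [reassoc_of% k1, n1]
  · have n1 : (Φ R).functor.map ((Qs R).map (CochainComplex.mappingCone.inr f)) ≫
        (ΦQ R).hom.app _ = (ΦQ R).hom.app Y ≫ (Qt R).map (CochainComplex.mappingCone.inr f) :=
      (ΦQ R).hom.naturality (CochainComplex.mappingCone.inr f)
    have k1 : (Φ R).functor.map q ≫ (Φ R).functor.map e₃.hom =
        (Φ R).functor.map e₂.hom ≫
          (Φ R).functor.map ((Qs R).map (CochainComplex.mappingCone.inr f)) := by
      rw [← Functor.map_comp, ← Functor.map_comp]
      exact congrArg _ c2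
    simp only [Iso.trans_hom, Functor.mapIso_hom, Iso.app_hom, Category.assoc]
    rw [reassoc_of% k1, n1]


section Main

variable {D' : Type u'} [Category.{v'} D'] [Preadditive D'] {F G : Dual.D R ⥤ D'} (η : F ⟶ G)

lemma weakExact_Φ_comp (hF : WeakExact F) : WeakExact ((Φ R).functor ⋙ F) where
  zero p q h := hF.zero _ _ (DT_Φ p q h)
  exact p q h _ u hu := hF.exact _ _ (DT_Φ p q h) u hu

/-- `R` in degree `n` is the shift by `-n` of the unit complex. -/
noncomputable def sRIso (n : ℤ) :
    Groth.Agent.H33.BrownD.sR R n ≅ (𝟙_ (DRing.Cx R))⟦-n⟧ :=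
  (((CochainComplex.singleFunctors (ModuleCat.{u} R)).shiftIso (-n) n 0 (by omega)).app
    (ModuleCat.of R R)).symm

/-- `(single n R)⟦m⟧ ≅ 𝟙⟦m - n⟧`. -/
noncomputable def sRShiftIso (n m : ℤ) :
    (Groth.Agent.H33.BrownD.sR R n)⟦m⟧ ≅ (𝟙_ (DRing.Cx R))⟦m - n⟧ :=
  (shiftFunctor (DRing.Cx R) m).mapIso (sRIso n) ≪≫
    ((shiftFunctorAdd' (DRing.Cx R) (-n) m (m - n) (by omega)).app (𝟙_ (DRing.Cx R))).symm

/-- Dévissage in the standard derived category of a ring: a natural transformation between weakly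
exact functors preserving small coproducts which is an isomorphism at all shifts of the unit is an
isomorphism. -/
theorem isIso_of_unit_shifts (hF : WeakExact F) (hG : WeakExact G)
    [∀ κ : Type u, PreservesColimitsOfShape (Discrete κ) F]
    [∀ κ : Type u, PreservesColimitsOfShape (Discrete κ) G]
    (base : ∀ k : ℤ, IsIso (η.app ((Qt R).obj ((𝟙_ (DRing.Cx R))⟦k⟧)))) (K : Dual.D R) :
    IsIso (η.app K) := by
  letI : HasCoproducts.{u} (Ds R) := @Groth.Agent.S0477.result _ _ _ _ (hs R)
  haveI : HasColimitsOfShape (Discrete ℕ) (Ds R) :=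
    hasColimitsOfShape_of_equivalence (Discrete.equivalence Equiv.ulift.{u, 0})
  haveI : PreservesColimitsOfShape (Discrete ℕ) F :=
    preservesColimitsOfShape_of_equiv (Discrete.equivalence Equiv.ulift.{u, 0}) F
  haveI : PreservesColimitsOfShape (Discrete ℕ) G :=
    preservesColimitsOfShape_of_equiv (Discrete.equivalence Equiv.ulift.{u, 0}) G
  have base' : ∀ i : ULift.{u} ℤ, PP (Functor.whiskerLeft (Φ R).functor η)
      ((Qs R).obj (Groth.Agent.H33.BrownD.sR R i.down)) := by
    intro i m
    let iso : (Φ R).functor.obj (((Qs R).obj (Groth.Agent.H33.BrownD.sR R i.down))⟦m⟧) ≅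
        (Qt R).obj ((𝟙_ (DRing.Cx R))⟦m - i.down⟧) :=
      (Φ R).functor.mapIso (((Qs R).commShiftIso m).symm.app _) ≪≫ (ΦQ R).app _ ≪≫
        (Qt R).mapIso (sRShiftIso i.down m)
    exact (NatTrans.isIso_app_iff_of_iso η iso).2 (base (m - i.down))
  have := isIso_of_compact_generators (η := Functor.whiskerLeft (Φ R).functor η)
    (fun n : ULift.{u} ℤ => (Qs R).obj (Groth.Agent.H33.BrownD.sR R n.down))
    (fun n => @Groth.Agent.H33.BrownD.isCompactObject_sR _ _ (hs R) _ n.down)
    (@Groth.Agent.H33.BrownD.generates_sR _ _ (hs R)) (weakExact_Φ_comp hF) (weakExact_Φ_comp hG) base'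
    ((Φ R).inverse.obj K)
  exact (NatTrans.isIso_app_iff_of_iso η ((Φ R).counitIso.app K)).1 this

end Main

end Groth.Agent.H35.RelDevStd
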