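import Groth.Agent.H35.TriChase
import Groth.Agent.S0984

/-!
# Dévissage over compact generators for natural transformations between weakly exact functors
(helper35)

* `isIso_app_coprod` : a natural transformation between functors preserving a coproduct is an
  isomorphism at the coproduct if it is one at the summands;
* `PP.coprod`;
* `isIso_of_compact_generators` : if `η : F ⟶ G` (weakly exact, coproduct preserving functors out of
  a compactly generated triangulated category) is an isomorphism at all shifts of the generators,
  then it is an isomorphism.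
-/

set_option autoImplicit false
set_option linter.unusedSectionVars false
universe w v v' u u'
open CategoryTheory CategoryTheory.Limits Pretriangulated

namespace Groth.Agent.H35.RelDevissage

open Groth.Agent.H35.TriChase

section Coprod

variable {C : Type u} [Category.{v} C] {D : Type u'} [Category.{v'} D] {F G : C ⥤ D} (η : F ⟶ G)

lemma isIso_app_coprod {κ : Type w} (X : κ → C) [HasCoproduct X]
    [PreservesColimit (Discrete.functor X) F] [PreservesColimit (Discrete.functor X) G]
    (h : ∀ k, IsIso (η.app (X k))) : IsIso (η.app (∐ X)) := by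
  have hF : IsColimit (F.mapCocone (colimit.cocone (Discrete.functor X))) :=
    isColimitOfPreserves F (colimit.isColimit _)
  have hG : IsColimit (G.mapCocone (colimit.cocone (Discrete.functor X))) :=
    isColimitOfPreserves G (colimit.isColimit _)
  let w : Discrete.functor X ⋙ F ≅ Discrete.functor X ⋙ G :=
    Discrete.natIso (fun k => @asIso _ _ _ _ (η.app (X k.as)) (h k.as))
  have : η.app (∐ X) = (IsColimit.coconePointsIsoOfNatIso hF hG w).hom := by
    apply hF.hom_ext
    intro j
    rw [IsColimit.comp_coconePointsIsoOfNatIso_hom]
    exact η.naturality _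
  rw [this]
  infer_instance

end Coprod

section Dev

variable {C : Type u} [Category.{v} C] [Preadditive C] [HasZeroObject C] [HasShift C ℤ]
  [∀ n : ℤ, (shiftFunctor C n).Additive] [Pretriangulated C]
variable {D : Type u'} [Category.{v'} D] [Preadditive D]
variable {F G : C ⥤ D} {η : F ⟶ G}

lemma PP.coprod {κ : Type w} [HasCoproductsOfShape κ C]
    [PreservesColimitsOfShape (Discrete κ) F] [PreservesColimitsOfShape (Discrete κ) G]
    (X : κ → C) (h : ∀ k, PP η (X k)) : PP η (∐ X) := fun n => by
  have h1 : IsIso (η.app (∐ fun k => (X k)⟦n⟧)) := isIso_app_coprod η _ (fun k => h k n)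
  exact (NatTrans.isIso_app_iff_of_iso η (PreservesCoproduct.iso (shiftFunctor C n) X)).2 h1

variable [IsTriangulated C] [HasCoproducts.{v} C] [HasColimitsOfShape (Discrete ℕ) C]

/-- Dévissage over a generating family of compact objects. -/
theorem isIso_of_compact_generators {ι : Type v} (E : ι → C)
    (hc : ∀ i, CohDer.IsCompactObject (E i)) (hg : CohDer.Generates E)
    (hF : WeakExact F) (hG : WeakExact G)
    [∀ κ : Type v, PreservesColimitsOfShape (Discrete κ) F]
    [∀ κ : Type v, PreservesColimitsOfShape (Discrete κ) G]
    [PreservesColimitsOfShape (Discrete ℕ) F] [PreservesColimitsOfShape (Discrete ℕ) G]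
    (base : ∀ i, PP η (E i)) (X : C) : IsIso (η.app X) := by
  obtain ⟨K, f, i, ⟨c, hc'⟩, ⟨κ, a, m, ⟨e0⟩⟩, hstep⟩ := Groth.Agent.S0984.result E hc hg X
  have hsum : ∀ (κ : Type v) (a : κ → ι) (m : κ → ℤ),
      PP η (∐ fun k => (shiftFunctor C (m k)).obj (E (a k))) :=
    fun κ a m => PP.coprod _ (fun k => (base (a k)).shift (m k))
  have hK : ∀ n, PP η (K n) := by
    intro n
    induction n with
    | zero => exact (hsum κ a m).iso e0.symm
    | succ n ih =>
      obtain ⟨κ', a', m', y, z, hT⟩ := hstep n
      exact PP.tri₃ hF hG _ hT (hsum κ' a' m') ih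
  have hK' : PP η (∐ K) := PP.coprod K hK
  exact (PP.tri₃ hF hG _ hc' hK' hK').self

end Dev

end Groth.Agent.H35.RelDevissage
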