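import Groth.Agent.S6992
import Mathlib

/-!
Helpers about modules finitely presented relative to a base ring (Stacks, More on Algebra,
"relatively finitely presented modules"): localization away from an element.
-/

set_option autoImplicit false
universe u

namespace Groth.Agent.H35

open Function

section

variable {R C A : Type u} [CommRing R] [CommRing C] [CommRing A] [Algebra R C] [Algebra R A]

/-- If `M` is finitely presented over `C` (through `α : C → A`), then `M_{α G}` is finitely
presented over `C_G` (through `C_G → A_{α G}`). -/
theorem fp_away_of_fp (α : C →ₐ[R] A) (M : Type u) [AddCommGroup M] [Module A M] (G : C)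
    (h : @Module.FinitePresentation C M _ _ (Module.compHom M α.toRingHom)) :
    @Module.FinitePresentation (Localization.Away G)
      (LocalizedModule (Submonoid.powers (α G)) M) _ _
      (Module.compHom _ (Localization.awayMapₐ α G).toRingHom) := by
  letI algCA : Algebra C A := α.toRingHom.toAlgebra
  letI mC : Module C M := Module.compHom M α.toRingHom
  haveI : IsScalarTower C A M := ⟨fun c a m => by
    show (α c * a) • m = α c • (a • m)
    rw [mul_smul]⟩
  haveI : Module.FinitePresentation C M := h
  let f : M →ₗ[C] LocalizedModule (Submonoid.powers (α G)) M :=
    (LocalizedModule.mkLinearMap (Submonoid.powers (α G)) M).restrictScalars C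
  haveI : IsLocalizedModule (Submonoid.powers G) f :=
    IsLocalizedModule.restrictScalars_powers G
      (LocalizedModule.mkLinearMap (Submonoid.powers (α G)) M)
  letI mCG : Module (Localization.Away G) (LocalizedModule (Submonoid.powers (α G)) M) :=
    Module.compHom _ (Localization.awayMapₐ α G).toRingHom
  haveI : IsScalarTower C (Localization.Away G) (LocalizedModule (Submonoid.powers (α G)) M) :=
    ⟨fun c x m => by
      show (Localization.awayMapₐ α G) (c • x) • m = c • ((Localization.awayMapₐ α G) x • m)
      rw [Algebra.smul_def, map_mul, mul_smul, ← algebraMap_smul A c,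
        ← algebraMap_smul (Localization.Away (α G)) (algebraMap C A c)]
      congr 1
      simp [Localization.awayMapₐ, IsLocalization.Away.mapₐ, IsLocalization.Away.map]
      rfl⟩
  have hb : IsBaseChange (Localization.Away G) f :=
    IsLocalizedModule.isBaseChange (Submonoid.powers G) (Localization.Away G) f
  exact FinitePresentation.of_isBaseChange f hb

/-- Comparison of the localization of `M` as a `C`-module at `G` with the localization of `M` as an
`A`-module at `α G`, for finite presentation over `C_G`. -/
theorem fp_localizedModule_iff (α : C →ₐ[R] A) (M : Type u) [AddCommGroup M] [Module A M]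
    [Module C M] (hc : ∀ (c : C) (m : M), c • m = α c • m) (G : C) :
    Module.FinitePresentation (Localization.Away G) (LocalizedModule (Submonoid.powers G) M) ↔
    @Module.FinitePresentation (Localization.Away G)
      (LocalizedModule (Submonoid.powers (α G)) M) _ _
      (Module.compHom _ (Localization.awayMapₐ α G).toRingHom) := by
  letI algCA : Algebra C A := α.toRingHom.toAlgebra
  haveI : IsScalarTower C A M := ⟨fun c a m => by
    rw [hc, Algebra.smul_def, mul_smul]
    rfl⟩
  let f : M →ₗ[C] LocalizedModule (Submonoid.powers (α G)) M :=
    (LocalizedModule.mkLinearMap (Submonoid.powers (α G)) M).restrictScalars C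
  haveI : IsLocalizedModule (Submonoid.powers G) f :=
    IsLocalizedModule.restrictScalars_powers G
      (LocalizedModule.mkLinearMap (Submonoid.powers (α G)) M)
  letI mCG : Module (Localization.Away G) (LocalizedModule (Submonoid.powers (α G)) M) :=
    Module.compHom _ (Localization.awayMapₐ α G).toRingHom
  haveI : IsScalarTower C (Localization.Away G) (LocalizedModule (Submonoid.powers (α G)) M) :=
    ⟨fun c x m => by
      show (Localization.awayMapₐ α G) (c • x) • m = c • ((Localization.awayMapₐ α G) x • m)
      rw [Algebra.smul_def, map_mul, mul_smul, ← algebraMap_smul A c,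
        ← algebraMap_smul (Localization.Away (α G)) (algebraMap C A c)]
      congr 1
      simp [Localization.awayMapₐ, IsLocalization.Away.mapₐ, IsLocalization.Away.map]
      rfl⟩
  let e : LocalizedModule (Submonoid.powers G) M ≃ₗ[C]
      LocalizedModule (Submonoid.powers (α G)) M :=
    IsLocalizedModule.linearEquiv (Submonoid.powers G)
      (LocalizedModule.mkLinearMap (Submonoid.powers G) M) f
  exact (LinearEquiv.extendScalarsOfIsLocalization (Submonoid.powers G)
    (Localization.Away G) e).finitePresentation_iff

/-- With `C` a finitely presented `R`-algebra surjecting onto `A`: `M_{α G}` is finitely presented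
over `C_G` iff it is finitely presented over `R[z]` through any presentation `γ` of `A_{α G}`. -/
theorem fp_away_transfer [Algebra.FinitePresentation R C] (α : C →ₐ[R] A) (hα : Surjective α)
    (M : Type u) [AddCommGroup M] [Module A M] (G : C) {k : ℕ}
    (γ : MvPolynomial (Fin k) R →ₐ[R] Localization.Away (α G)) (hγ : Surjective γ) :
    @Module.FinitePresentation (Localization.Away G)
      (LocalizedModule (Submonoid.powers (α G)) M) _ _
      (Module.compHom _ (Localization.awayMapₐ α G).toRingHom) ↔
    @Module.FinitePresentation (MvPolynomial (Fin k) R)
      (LocalizedModule (Submonoid.powers (α G)) M) _ _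
      (Module.compHom _ γ.toRingHom) := by
  haveI : Algebra.FinitePresentation C (Localization.Away G) :=
    IsLocalization.Away.finitePresentation G
  haveI : Algebra.FinitePresentation R (Localization.Away G) :=
    Algebra.FinitePresentation.trans R C (Localization.Away G)
  have hs : Surjective (Localization.awayMapₐ α G) :=
    IsLocalization.Away.mapₐ_surjective_of_surjective G hα
  letI m1 : Module (Localization.Away G) (LocalizedModule (Submonoid.powers (α G)) M) :=
    Module.compHom _ (Localization.awayMapₐ α G).toRingHom
  letI m2 : Module (MvPolynomial (Fin k) R) (LocalizedModule (Submonoid.powers (α G)) M) :=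
    Module.compHom _ γ.toRingHom
  constructor
  · intro h
    haveI : Module.FinitePresentation (Localization.Away G)
      (LocalizedModule (Submonoid.powers (α G)) M) := h
    exact S6992.fp_transfer_alg (Localization.Away G) (MvPolynomial (Fin k) R)
      (Localization.awayMapₐ α G) hs γ hγ _ (fun c m => rfl) (fun c m => rfl)
  · intro h
    haveI : Module.FinitePresentation (MvPolynomial (Fin k) R)
      (LocalizedModule (Submonoid.powers (α G)) M) := h
    exact S6992.fp_transfer_alg (MvPolynomial (Fin k) R) (Localization.Away G)
      γ hγ (Localization.awayMapₐ α G) hs _ (fun c m => rfl) (fun c m => rfl)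

/-- Localization away from an element preserves relative finite presentation. -/
theorem fp_mv_of_fp [Algebra.FinitePresentation R C] (α : C →ₐ[R] A) (hα : Surjective α)
    (M : Type u) [AddCommGroup M] [Module A M] (g : A) {k : ℕ}
    (γ : MvPolynomial (Fin k) R →ₐ[R] Localization.Away g) (hγ : Surjective γ)
    (h : @Module.FinitePresentation C M _ _ (Module.compHom M α.toRingHom)) :
    @Module.FinitePresentation (MvPolynomial (Fin k) R)
      (LocalizedModule (Submonoid.powers g) M) _ _ (Module.compHom _ γ.toRingHom) := by
  obtain ⟨G, rfl⟩ := hα g
  exact (fp_away_transfer α hα M G γ hγ).mp (fp_away_of_fp α M G h)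

theorem fp_away_of_fp_mv [Algebra.FinitePresentation R C] (α : C →ₐ[R] A) (hα : Surjective α)
    (M : Type u) [AddCommGroup M] [Module A M] (G : C) (g : A) (hg : α G = g) {k : ℕ}
    (γ : MvPolynomial (Fin k) R →ₐ[R] Localization.Away g) (hγ : Surjective γ)
    (h : @Module.FinitePresentation (MvPolynomial (Fin k) R)
      (LocalizedModule (Submonoid.powers g) M) _ _ (Module.compHom _ γ.toRingHom)) :
    @Module.FinitePresentation (Localization.Away G)
      (LocalizedModule (Submonoid.powers (α G)) M) _ _
      (Module.compHom _ (Localization.awayMapₐ α G).toRingHom) := by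
  subst hg
  exact (fp_away_transfer α hα M G γ hγ).mpr h

end

section BaseChange

open TensorProduct

/-- Finite presentation only depends on the scalar action. -/
theorem fp_congr {B : Type u} [CommRing B] (M : Type u) [AddCommGroup M] (m1 m2 : Module B M)
    (h : ∀ (b : B) (x : M), m1.smul b x = m2.smul b x)
    (h1 : @Module.FinitePresentation B M _ _ m1) : @Module.FinitePresentation B M _ _ m2 :=
  @S6991.fp_descend' B B _ _ (RingHom.id B) surjective_id M _ m2 m1 h h1

/-- Base change along a pushout square: if `M` is an `A`-module finitely presented over `C`
and `A' = A ⊗_C C'`, then `A' ⊗_A M` is finitely presented over `C'`. -/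
theorem fp_baseChange_pushout {C A C' A' : Type u} [CommRing C] [CommRing A] [CommRing C']
    [CommRing A'] [Algebra C A] [Algebra C C'] [Algebra A A'] [Algebra C' A'] [Algebra C A']
    [IsScalarTower C A A'] [IsScalarTower C C' A'] [Algebra.IsPushout C A C' A']
    (M : Type u) [AddCommGroup M] [Module A M] [Module C M] [IsScalarTower C A M]
    [Module.FinitePresentation C M] : Module.FinitePresentation C' (A' ⊗[A] M) := by
  haveI : Algebra.IsPushout C C' A A' := Algebra.IsPushout.symm inferInstance
  exact Module.FinitePresentation.of_equiv (Algebra.IsPushout.cancelBaseChange C C' A A' M).symm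

end BaseChange

end Groth.Agent.H35
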