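import Groth.Agent.H35.SplitTrunc

/-!
`Ext^i_R(A, R)` for a surjection `R → A` with invertible kernel `I`, computed in `D(R)` from the
triangle `I[0] → R[0] → A[0] →` (helper35): it vanishes for `i ≠ 1` and `Ext¹_R(A, R) ≅ Hom_R(I, A)`.
Also: `N ≅ Hom_R(I, A)` for an inverse `N` of `A ⊗_R I`.
-/

set_option autoImplicit false
set_option linter.unusedSectionVars false
set_option linter.style.haveILetI false
universe u
open CategoryTheory CategoryTheory.Limits Pretriangulated
attribute [local instance] HasDerivedCategory.standard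
open scoped TensorProduct

namespace Groth.Agent.H35.RelInvAlg

variable {R A : Type u} [CommRing R] [CommRing A] [Algebra R A]
  (hφ : Function.Surjective (algebraMap R A))
  [Module.Invertible R (RingHom.ker (algebraMap R A))]
  (N : Type u) [AddCommGroup N] [Module A N]
  (e : (A ⊗[R] (RingHom.ker (algebraMap R A))) ⊗[A] N ≃ₗ[A] A)

/-- `N ≅ Hom_R(I, A)` as `A`-modules. -/
noncomputable def equivHom : N ≃ₗ[A] ((RingHom.ker (algebraMap R A)) →ₗ[R] A) :=
  Module.Invertible.linearEquivDual (TensorProduct.comm A N _ ≪≫ₗ e) ≪≫ₗ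
    (LinearMap.liftBaseChangeEquiv A).symm

/-- postcomposition with `R → A` -/
noncomputable def Ψ : ((RingHom.ker (algebraMap R A)) →ₗ[R] R) →ₗ[R]
    ((RingHom.ker (algebraMap R A)) →ₗ[R] A) :=
  LinearMap.compRight R (Algebra.linearMap R A)

/-- `r ↦ (x ↦ r x)` -/
noncomputable def ρ : R →ₗ[R] ((RingHom.ker (algebraMap R A)) →ₗ[R] R) :=
  (LinearMap.lsmul R ((RingHom.ker (algebraMap R A)) →ₗ[R] R)).flip
    (RingHom.ker (algebraMap R A)).subtype

include hφ in
lemma Ψ_surjective : Function.Surjective (Ψ (R := R) (A := A)) := by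
  intro f
  obtain ⟨g, hg⟩ := Module.projective_lifting_property (Algebra.linearMap R A) f hφ
  exact ⟨g, hg⟩

lemma ker_Ψ : LinearMap.ker (Ψ (R := R) (A := A)) = LinearMap.range (ρ (R := R) (A := A)) := by
  ext g
  constructor
  · intro hg
    have hg' : ∀ x, g x ∈ RingHom.ker (algebraMap R A) := by
      intro x
      have := LinearMap.congr_fun (LinearMap.mem_ker.1 hg) x
      exact this
    let g' : (RingHom.ker (algebraMap R A)) →ₗ[R] (RingHom.ker (algebraMap R A)) :=
      g.codRestrict _ hg'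
    obtain ⟨r, hr⟩ := (Module.Invertible.toModuleEnd_bijective R
      (RingHom.ker (algebraMap R A))).surjective g'
    refine ⟨r, ?_⟩
    ext x
    have := LinearMap.congr_fun hr x
    have h2 : ((g' x : RingHom.ker (algebraMap R A)) : R) = g x := rfl
    rw [← h2, ← this]
    rfl
  · rintro ⟨r, rfl⟩
    rw [LinearMap.mem_ker]
    ext x
    show algebraMap R A (r • (x : R)) = 0
    rw [smul_eq_mul, map_mul, (RingHom.mem_ker).1 x.2, mul_zero]

end Groth.Agent.H35.RelInvAlg

namespace Groth.Agent.H35.RelInvExt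

open DRing DerivedCategory DerivedCategory.TStructure

variable (R A : Type u) [CommRing R] [CommRing A] [Algebra R A]

/-- the short complex `0 → I → R → A → 0` of `R`-modules -/
noncomputable abbrev ses : ShortComplex (ModuleCat.{u} R) :=
  ShortComplex.mk (ModuleCat.ofHom (RingHom.ker (algebraMap R A)).subtype)
    (ModuleCat.ofHom (Algebra.linearMap R A)) (by
      ext (x : RingHom.ker (algebraMap R A))
      have h : algebraMap R A (x : R) = 0 := x.2
      exact h)

variable {R A}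

lemma ses_shortExact (hφ : Function.Surjective (algebraMap R A)) : (ses R A).ShortExact := by
  refine ModuleCat.shortComplex_shortExact _ ?_ ?_ hφ
  · intro (y : R)
    constructor
    · intro (hy : algebraMap R A y = 0)
      exact ⟨(⟨y, hy⟩ : RingHom.ker (algebraMap R A)), rfl⟩
    · rintro ⟨(x : RingHom.ker (algebraMap R A)), rfl⟩
      have h : algebraMap R A (x : R) = 0 := x.2
      exact h
  · exact Subtype.val_injective

/-- maps from a projective module in degree `0` to an object of `D^{≤ -1}` vanish -/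
lemma hom_single_eq_zero (P : ModuleCat.{u} R) [Module.Projective R P] (Z : Dual.D R) [Z.IsLE (-1)]
    (g : (singleFunctor (ModuleCat.{u} R) 0).obj P ⟶ Z) : g = 0 := by
  let S : Cx R := (HomologicalComplex.single (ModuleCat.{u} R) (ComplexShape.up ℤ) 0).obj P
  let e : (singleFunctor (ModuleCat.{u} R) 0).obj P ≅ toD S :=
    (singleFunctorIsoCompQ (ModuleCat.{u} R) 0).app _
  have hSp : ∀ j, Module.Projective R (S.X j) := by
    intro j
    by_cases hj : j = 0
    · subst hj
      exact Module.Projective.of_equiv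
        (HomologicalComplex.singleObjXSelf (ComplexShape.up ℤ) 0 P).toLinearEquiv.symm
    · have hz := HomologicalComplex.isZero_single_obj_X (ComplexShape.up ℤ) 0 P j hj
      haveI : Subsingleton (S.X j) := ModuleCat.subsingleton_of_isZero hz
      infer_instance
  have h0 := SplitTrunc.hom_eq_zero_of_projective S 0 (-1)
    (fun j hj => HomologicalComplex.isZero_single_obj_X (ComplexShape.up ℤ) 0 _ j (by omega))
    (fun j hj => HomologicalComplex.isZero_single_obj_X (ComplexShape.up ℤ) 0 _ j (by omega))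
    hSp Z (e.inv ≫ g)
  exact (cancel_epi e.inv).1 (h0.trans comp_zero.symm)

/-- maps `P[0]⟦1⟧ ⟶ Z` vanish for `P` projective and `Z ∈ D^{≤ -2}` -/
lemma hom_single_shift_eq_zero (P : ModuleCat.{u} R) [Module.Projective R P] (Z : Dual.D R)
    [Z.IsLE (-2)] (g : ((singleFunctor (ModuleCat.{u} R) 0).obj P)⟦(1 : ℤ)⟧ ⟶ Z) : g = 0 := by
  haveI : (Z⟦(-1 : ℤ)⟧).IsLE (-1) := t.isLE_shift Z (-2) (-1) (-1) (by omega)
  apply (shiftFunctor (Dual.D R) (-1 : ℤ)).map_injective
  rw [Functor.map_zero]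
  let ι := (shiftFunctorCompIsoId (Dual.D R) (1 : ℤ) (-1) (by omega)).app
    ((singleFunctor (ModuleCat.{u} R) 0).obj P)
  have h0 := hom_single_eq_zero P (Z⟦(-1 : ℤ)⟧) (ι.inv ≫ g⟦(-1 : ℤ)⟧')
  exact (cancel_epi ι.inv).1 (h0.trans comp_zero.symm)


section Ext

variable (hφ : Function.Surjective (algebraMap R A))

/-- `R[0]` -/
noncomputable abbrev sR (R : Type u) [CommRing R] : Dual.D R :=
  (singleFunctor (ModuleCat.{u} R) 0).obj (ModuleCat.of R R)

/-- `A[0]` in `D(R)` -/
noncomputable abbrev sAr (R A : Type u) [CommRing R] [CommRing A] [Algebra R A] : Dual.D R :=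
  (singleFunctor (ModuleCat.{u} R) 0).obj (ModuleCat.of R A)

/-- `I[0]` -/
noncomputable abbrev sI (R A : Type u) [CommRing R] [CommRing A] [Algebra R A] : Dual.D R :=
  (singleFunctor (ModuleCat.{u} R) 0).obj (ModuleCat.of R (RingHom.ker (algebraMap R A)))

/-- the connecting map `A[0] ⟶ I[0]⟦1⟧` -/
noncomputable def δ : sAr R A ⟶ (sI R A)⟦(1 : ℤ)⟧ := (ses_shortExact hφ).singleδ

/-- the triangle `I[0] ⟶ R[0] ⟶ A[0] ⟶ I[0]⟦1⟧` -/
noncomputable def tri : Triangle (Dual.D R) := (ses_shortExact hφ).singleTriangle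

lemma tri_dist : tri hφ ∈ distTriang (Dual.D R) := (ses_shortExact hφ).singleTriangle_distinguished

/-- `Hom_R(I, R) ⟶ Ext¹_R(A, R)` -/
noncomputable def Φ : ((RingHom.ker (algebraMap R A)) →ₗ[R] R) →ₗ[R]
    (sAr R A ⟶ (sR R)⟦(1 : ℤ)⟧) where
  toFun g := δ hφ ≫ ((singleFunctor (ModuleCat.{u} R) 0).map (ModuleCat.ofHom g))⟦(1 : ℤ)⟧'
  map_add' g g' := by
    rw [ModuleCat.ofHom_add, Functor.map_add, Functor.map_add, Preadditive.comp_add]
  map_smul' r g := by
    have : ModuleCat.ofHom (r • g) = r • ModuleCat.ofHom g := rfl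
    rw [this, Functor.map_smul, Functor.map_smul, Linear.comp_smul]
    rfl

lemma Φ_surjective : Function.Surjective (Φ hφ) := by
  intro x
  have hT := tri_dist hφ
  have h1 : (tri hφ).mor₂ ≫ x = 0 := by
    haveI : ((sR R)⟦(1 : ℤ)⟧).IsLE (-1) := t.isLE_shift (sR R) 0 1 (-1) (by omega)
    exact hom_single_eq_zero (ModuleCat.of R R) _ _
  obtain ⟨y, hy⟩ := Triangle.yoneda_exact₃ _ hT x h1
  obtain ⟨y', rfl⟩ := (shiftFunctor (Dual.D R) (1 : ℤ)).map_surjective y
  obtain ⟨g, rfl⟩ := (singleFunctor (ModuleCat.{u} R) 0).map_surjective y'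
  exact ⟨g.hom, hy.symm⟩

lemma Φ_subtype : Φ hφ (RingHom.ker (algebraMap R A)).subtype = 0 :=
  comp_distTriang_mor_zero₃₁ _ (tri_dist hφ)

lemma mem_ker_Φ_iff (g : (RingHom.ker (algebraMap R A)) →ₗ[R] R) :
    g ∈ LinearMap.ker (Φ hφ) ↔ ∃ r : R, g = r • (RingHom.ker (algebraMap R A)).subtype := by
  constructor
  · intro hg
    have hg' : (tri hφ).rotate.mor₂ ≫
        ((singleFunctor (ModuleCat.{u} R) 0).map (ModuleCat.ofHom g))⟦(1 : ℤ)⟧' = 0 :=
      LinearMap.mem_ker.1 hg
    obtain ⟨z, hz⟩ := Triangle.yoneda_exact₃ _ (rot_of_distTriang _ (tri_dist hφ)) _ hg'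
    obtain ⟨z', rfl⟩ := (shiftFunctor (Dual.D R) (1 : ℤ)).map_surjective z
    obtain ⟨h, rfl⟩ := (singleFunctor (ModuleCat.{u} R) 0).map_surjective z'
    have h2 : ModuleCat.ofHom g =
        -(ModuleCat.ofHom (RingHom.ker (algebraMap R A)).subtype ≫ h) := by
      apply (singleFunctor (ModuleCat.{u} R) 0).map_injective
      apply (shiftFunctor (Dual.D R) (1 : ℤ)).map_injective
      refine hz.trans ?_
      simp only [Functor.map_neg, Functor.map_comp]
      exact Preadditive.neg_comp _ _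
    refine ⟨-(h.hom (1 : R)), ?_⟩
    ext x
    have h3 := congrArg (fun t => t.hom x) h2
    have h4 : h.hom (x : R) = (x : R) • h.hom (1 : R) := by
      conv_lhs => rw [show (x : R) = (x : R) • (1 : R) by simp]
      exact h.hom.map_smul (x : R) (1 : R)
    calc g x = -(h.hom (x : R)) := h3
      _ = -(h.hom (1 : R)) * (x : R) := by rw [h4]; simp [mul_comm]
  · rintro ⟨r, rfl⟩
    rw [LinearMap.mem_ker, map_smul, Φ_subtype, smul_zero]

end Ext


section Combine

variable (hφ : Function.Surjective (algebraMap R A))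
  [Module.Invertible R (RingHom.ker (algebraMap R A))]

open Groth.Agent.H35.RelInvAlg

lemma ker_Φ_eq : LinearMap.ker (Φ hφ) = LinearMap.ker (Ψ (R := R) (A := A)) := by
  rw [ker_Ψ]
  ext g
  rw [mem_ker_Φ_iff]
  constructor
  · rintro ⟨r, rfl⟩
    exact ⟨r, rfl⟩
  · rintro ⟨r, rfl⟩
    exact ⟨r, rfl⟩

/-- `Ext¹_R(A, R) ≅ Hom_R(I, A)` -/
noncomputable def extEquiv : (sAr R A ⟶ (sR R)⟦(1 : ℤ)⟧) ≃ₗ[R]
    ((RingHom.ker (algebraMap R A)) →ₗ[R] A) :=
  ((Φ hφ).quotKerEquivOfSurjective (Φ_surjective hφ)).symm ≪≫ₗ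
    Submodule.quotEquivOfEq _ _ (ker_Φ_eq hφ) ≪≫ₗ
      (Ψ (R := R) (A := A)).quotKerEquivOfSurjective (Ψ_surjective hφ)

include hφ in
/-- `Ext^i_R(A, R) = 0` for `i ≠ 1` -/
lemma ext_eq_zero (i : ℤ) (hi : i ≠ 1) (x : sAr R A ⟶ (sR R)⟦i⟧) : x = 0 := by
  rcases lt_trichotomy i 0 with h | h | h
  · haveI : ((sR R)⟦i⟧).IsGE (-i) := t.isGE_shift (sR R) 0 i (-i) (by omega)
    exact t.zero x 0 (-i) (by omega)
  · subst h
    have hx : x ≫ (shiftFunctorZero (Dual.D R) ℤ).hom.app (sR R) = 0 := by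
      obtain ⟨k, hk⟩ := (singleFunctor (ModuleCat.{u} R) 0).map_surjective
        (x ≫ (shiftFunctorZero (Dual.D R) ℤ).hom.app (sR R))
      have hk0 : k = 0 := by
        ext (a : A)
        show k.hom a = 0
        apply (FaithfulSMul.eq_of_smul_eq_smul (M := R)
          (α := RingHom.ker (algebraMap R A)) (fun y => ?_))
        show k.hom a • y = (0 : R) • y
        rw [zero_smul]
        have h1 : (y : R) • k.hom a = k.hom ((y : R) • a) := (k.hom.map_smul (y : R) a).symm
        have h2 : (y : R) • a = 0 := by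
          rw [Algebra.smul_def, show algebraMap R A (y : R) = 0 from y.2, zero_mul]
        rw [h2, map_zero] at h1
        ext
        show k.hom a * (y : R) = 0
        rw [mul_comm]
        exact h1
      rw [← hk, hk0, Functor.map_zero]
    exact (cancel_mono ((shiftFunctorZero (Dual.D R) ℤ).hom.app (sR R))).1 (hx.trans zero_comp.symm)
  · have hi2 : 2 ≤ i := by omega
    haveI : ((sR R)⟦i⟧).IsLE (-i) := t.isLE_shift (sR R) 0 i (-i) (by omega)
    haveI : ((sR R)⟦i⟧).IsLE (-1) := t.isLE_of_le _ (-i) (-1) (by omega)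
    haveI : ((sR R)⟦i⟧).IsLE (-2) := t.isLE_of_le _ (-i) (-2) (by omega)
    have h1 : (tri hφ).mor₂ ≫ x = 0 := hom_single_eq_zero (ModuleCat.of R R) _ _
    obtain ⟨y, hy⟩ := Triangle.yoneda_exact₃ _ (tri_dist hφ) x h1
    have hy0 : y = 0 :=
      hom_single_shift_eq_zero (ModuleCat.of R (RingHom.ker (algebraMap R A))) _ y
    rw [hy, hy0]
    exact comp_zero

end Combine

end Groth.Agent.H35.RelInvExt
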