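import Groth.Agent.H12.HomSingleRing
import Groth.Agent.H35.InvCx
import Groth.Agent.H33.DTenClosed
import Groth.Agent.H56.PCohMore

/-!
# A way-out lemma for natural transformations of weakly exact functors on `D(A)` (helper35)

* test objects `tst n = A[0]⟦-n⟧`; maps from `tst n` to objects of `D^{≤ n-1}` vanish;
* `isIso_of_bijective_tst` : a morphism inducing bijections on `Hom(tst n, -)` for all `n` is an
  isomorphism;
* `wayOut` : a natural transformation between functors weakly exact on `BP`, both "bounded above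
  way-out", which is an isomorphism on perfect objects is an isomorphism on pseudo-coherent ones.
-/

set_option autoImplicit false
set_option linter.style.haveILetI false
set_option linter.unusedSectionVars false
universe u
open CategoryTheory CategoryTheory.Limits Pretriangulated
attribute [local instance] HasDerivedCategory.standard

namespace Groth.Agent.H35.WayOut

open DRing DerivedCategory DerivedCategory.TStructure
open Groth.Agent.H35.TriChase Groth.Agent.H33.RelChase Groth.Agent.H33.RHomExact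
  Groth.Agent.H33.DTenClosed

variable {A : Type u} [CommRing A]

/-- `A[0]` -/
noncomputable abbrev sA (A : Type u) [CommRing A] : Dual.D A :=
  (singleFunctor (ModuleCat.{u} A) 0).obj (ModuleCat.of A A)

/-- the test objects `A[0]⟦-n⟧` -/
noncomputable abbrev tst (A : Type u) [CommRing A] (n : ℤ) : Dual.D A := (sA A)⟦-n⟧

/-- the adjunction `⟦-n⟧ ⊣ ⟦n⟧` -/
noncomputable def shAdj (n : ℤ) : shiftFunctor (Dual.D A) (-n) ⊣ shiftFunctor (Dual.D A) n :=
  (shiftEquiv (Dual.D A) n).symm.toAdjunction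

lemma hom_sA_eq_zero (Z : Dual.D A) [Z.IsLE (-1)] (g : sA A ⟶ Z) : g = 0 := by
  let S : Cx A := (HomologicalComplex.single (ModuleCat.{u} A) (ComplexShape.up ℤ) 0).obj
    (ModuleCat.of A A)
  let e : sA A ≅ toD S := (singleFunctorIsoCompQ (ModuleCat.{u} A) 0).app _
  have hSp : ∀ j, Module.Projective A (S.X j) := by
    intro j
    by_cases hj : j = 0
    · subst hj
      exact Module.Projective.of_equiv
        (HomologicalComplex.singleObjXSelf (ComplexShape.up ℤ) 0
          (ModuleCat.of A A)).toLinearEquiv.symm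
    · have hz := HomologicalComplex.isZero_single_obj_X (ComplexShape.up ℤ) 0
        (ModuleCat.of A A) j hj
      haveI : Subsingleton (S.X j) := ModuleCat.subsingleton_of_isZero hz
      infer_instance
  have h0 := SplitTrunc.hom_eq_zero_of_projective S 0 (-1)
    (fun j hj => HomologicalComplex.isZero_single_obj_X (ComplexShape.up ℤ) 0 _ j (by omega))
    (fun j hj => HomologicalComplex.isZero_single_obj_X (ComplexShape.up ℤ) 0 _ j (by omega))
    hSp Z (e.inv ≫ g)
  exact (cancel_epi e.inv).1 (h0.trans comp_zero.symm)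

lemma hom_tst_eq_zero (n : ℤ) (Z : Dual.D A) [Z.IsLE (n - 1)] (g : tst A n ⟶ Z) : g = 0 := by
  haveI : t.IsLE (Z⟦n⟧) (-1) := t.isLE_shift Z (n - 1) n (-1) (by omega)
  have h0 : (shAdj n).homEquiv (sA A) Z g = 0 := hom_sA_eq_zero (Z⟦n⟧) _
  apply ((shAdj n).homEquiv (sA A) Z).injective
  rw [h0, Adjunction.homEquiv_unit, Functor.map_zero, comp_zero]

/-- maps from all test objects vanish iff the object is zero -/
lemma isZero_of_hom_tst (Z : Dual.D A) (h : ∀ (n : ℤ) (g : tst A n ⟶ Z), g = 0) : IsZero Z := by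
  apply InvCx.isZero_of_forall_isZero_H
  intro n
  obtain ⟨e⟩ := Groth.Agent.H12.HomSingleRing.nonempty_linearEquiv_Hi Z n
  have hs : Subsingleton (sA A ⟶ Z⟦n⟧) := by
    refine ⟨fun x y => ?_⟩
    have hx : ∀ x : sA A ⟶ Z⟦n⟧, x = 0 := by
      intro x
      have h1 := h n (((shAdj n).homEquiv (sA A) Z).symm x)
      have h2 := congrArg ((shAdj n).homEquiv (sA A) Z) h1
      rw [Equiv.apply_symm_apply] at h2
      rw [h2, Adjunction.homEquiv_unit, Functor.map_zero, comp_zero]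
    rw [hx x, hx y]
  have : Subsingleton ((homologyFunctor (ModuleCat.{u} A) n).obj Z) :=
    e.symm.injective.subsingleton
  exact ModuleCat.isZero_of_subsingleton _

/-- the iso `tst (n+1) ≅ (tst n)⟦-1⟧` -/
noncomputable def tstShiftIso (n : ℤ) : tst A (n + 1) ≅ (tst A n)⟦(-1 : ℤ)⟧ :=
  (shiftFunctorAdd' (Dual.D A) (-n) (-1) (-(n + 1)) (by omega)).app (sA A)

/-- a morphism inducing bijections on `Hom(tst n, -)` for all `n` is an isomorphism. -/
theorem isIso_of_bijective_tst {X Y : Dual.D A} (f : X ⟶ Y)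
    (h : ∀ n : ℤ, Function.Bijective (fun g : tst A n ⟶ X => g ≫ f)) : IsIso f := by
  obtain ⟨Z, g, δ, hT⟩ := distinguished_cocone_triangle f
  -- injectivity on `Hom(tst n, X⟦1⟧)`
  have hinj : ∀ (n : ℤ) (w : tst A n ⟶ X⟦(1 : ℤ)⟧), w ≫ f⟦(1 : ℤ)⟧' = 0 → w = 0 := by
    intro n w hw
    let w' : (tst A n)⟦(-1 : ℤ)⟧ ⟶ X := ((shAdj (1 : ℤ)).homEquiv (tst A n) X).symm w
    have hw' : w' ≫ f = 0 := by
      have h1 := (shAdj (1 : ℤ)).homEquiv_naturality_right_symm w f
      have h2 : ((shAdj (1 : ℤ)).homEquiv (tst A n) Y).symm (w ≫ f⟦(1 : ℤ)⟧') = 0 := by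
        rw [hw, Adjunction.homEquiv_counit, Functor.map_zero, zero_comp]
      exact h1.symm.trans h2
    have h3 : (tstShiftIso n).hom ≫ w' = 0 := by
      apply (h (n + 1)).1
      show ((tstShiftIso n).hom ≫ w') ≫ f = 0 ≫ f
      rw [Category.assoc, hw', comp_zero, zero_comp]
    have h4 : w' = 0 := (cancel_epi (tstShiftIso n).hom).1 (h3.trans comp_zero.symm)
    have h5 : w = (shAdj (1 : ℤ)).homEquiv (tst A n) X w' := by
      rw [Equiv.apply_symm_apply]
    rw [h5, h4, Adjunction.homEquiv_unit, Functor.map_zero, comp_zero]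
  have hZ : IsZero Z := by
    apply isZero_of_hom_tst
    intro n u
    have h1 : u ≫ δ = 0 := by
      apply hinj n
      rw [Category.assoc]
      have := comp_distTriang_mor_zero₃₁ _ hT
      have h' : δ ≫ f⟦(1 : ℤ)⟧' = 0 := this
      rw [h', comp_zero]
    obtain ⟨v, hv⟩ : ∃ v : tst A n ⟶ Y, u = v ≫ g := Triangle.coyoneda_exact₃ _ hT u h1
    obtain ⟨w, hw⟩ := (h n).2 v
    have hw' : w ≫ f = v := hw
    have hfg : f ≫ g = 0 := comp_distTriang_mor_zero₁₂ _ hT
    rw [hv, ← hw', Category.assoc, hfg, comp_zero]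
  exact (Triangle.isZero₃_iff_isIso₁ _ hT).1 hZ


lemma BP_of_isPseudoCoherent' {K : Dual.D A} (hK : DRing.IsPseudoCoherent' A K) : BP K := by
  obtain ⟨E, b, hv, hf, ⟨e⟩⟩ := hK
  refine ⟨E, ⟨⟨b, hv⟩, fun i => ?_⟩, ⟨e.symm⟩⟩
  have := (hf i).2
  infer_instance

/-- The way-out lemma. -/
theorem wayOut {F G : Dual.D A ⥤ Dual.D A} (η : F ⟶ G)
    (hF : WeakExactOn BP F) (hG : WeakExactOn BP G) (c₀ : ℤ)
    (hFb : ∀ (X : Dual.D A) (p : ℤ), BP X → X.IsLE p → (F.obj X).IsLE (p + c₀))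
    (hGb : ∀ (X : Dual.D A) (p : ℤ), BP X → X.IsLE p → (G.obj X).IsLE (p + c₀))
    (hperf : ∀ P : Dual.D A, DRing.IsPerfect A P → IsIso (η.app P))
    (K : Dual.D A) (hK : DRing.IsPseudoCoherent' A K) : IsIso (η.app K) := by
  apply isIso_of_bijective_tst
  intro n
  -- approximation by a perfect complex
  obtain ⟨E, a, b, α, hv, hf, hiso, hepi⟩ :=
    Groth.Agent.H56.isPseudoCoherent_of_isPseudoCoherent' hK (n - c₀ - 1)
  have hPperf : DRing.IsPerfect A (toD E) :=
    ⟨E, a, b, hv, fun i => ⟨(hf i).1, by have := (hf i).2; infer_instance⟩, ⟨Iso.refl _⟩⟩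
  obtain ⟨C, g, δ, hT⟩ := distinguished_cocone_triangle α
  have hCle : C.IsLE (n - c₀ - 2) :=
    Groth.Agent.H56.isLE_cone_of_homology α g δ hT (n - c₀ - 1) (n - c₀ - 2) (by omega) hiso hepi
  have hKB : BP K := BP_of_isPseudoCoherent' hK
  have hPB : BP (toD E) := BP_of_isPerfect hPperf
  have hCB : BP C := BP.of_DT g δ (DT.rot _ hT) hKB (hPB.shift 1)
  have hC1B : BP (C⟦(-1 : ℤ)⟧) := hCB.shift (-1)
  have hC1le : (C⟦(-1 : ℤ)⟧).IsLE (n - c₀ - 1) :=
    t.isLE_shift C (n - c₀ - 2) (-1) (n - c₀ - 1) (by omega)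
  -- the two pairs
  have d1 : DT α g := ⟨δ, hT⟩
  have hT' := inv_rot_of_distTriang _ hT
  let δ' : C⟦(-1 : ℤ)⟧ ⟶ toD E := (Triangle.mk α g δ).invRotate.mor₁
  have d0 : DT δ' α := DT.of_dist _ hT'
  -- bounds
  have bF1 : (F.obj C).IsLE (n - 1) := by
    have := hFb C (n - c₀ - 2) hCB hCle
    exact t.isLE_of_le _ (n - c₀ - 2 + c₀) (n - 1) (by omega)
  have bF0 : (F.obj (C⟦(-1 : ℤ)⟧)).IsLE (n - 1) := by
    have := hFb (C⟦(-1 : ℤ)⟧) (n - c₀ - 1) hC1B hC1le
    exact t.isLE_of_le _ (n - c₀ - 1 + c₀) (n - 1) (by omega)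
  have bG1 : (G.obj C).IsLE (n - 1) := by
    have := hGb C (n - c₀ - 2) hCB hCle
    exact t.isLE_of_le _ (n - c₀ - 2 + c₀) (n - 1) (by omega)
  have bG0 : (G.obj (C⟦(-1 : ℤ)⟧)).IsLE (n - 1) := by
    have := hGb (C⟦(-1 : ℤ)⟧) (n - c₀ - 1) hC1B hC1le
    exact t.isLE_of_le _ (n - c₀ - 1 + c₀) (n - 1) (by omega)
  -- injectivity and surjectivity along `α`
  have injF : ∀ w : tst A n ⟶ F.obj (toD E), w ≫ F.map α = 0 → w = 0 := by
    intro w hw
    obtain ⟨v, hv⟩ := hF.exact δ' α d0 hC1B hKB w hw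
    rw [← hv, hom_tst_eq_zero n _ v, zero_comp]
  have surjF : ∀ x : tst A n ⟶ F.obj K, ∃ v : tst A n ⟶ F.obj (toD E), v ≫ F.map α = x := by
    intro x
    exact hF.exact α g d1 hPB hCB x (hom_tst_eq_zero n _ _)
  have injG : ∀ w : tst A n ⟶ G.obj (toD E), w ≫ G.map α = 0 → w = 0 := by
    intro w hw
    obtain ⟨v, hv⟩ := hG.exact δ' α d0 hC1B hKB w hw
    rw [← hv, hom_tst_eq_zero n _ v, zero_comp]
  have surjG : ∀ x : tst A n ⟶ G.obj K, ∃ v : tst A n ⟶ G.obj (toD E), v ≫ G.map α = x := by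
    intro x
    exact hG.exact α g d1 hPB hCB x (hom_tst_eq_zero n _ _)
  have iP : IsIso (η.app (toD E)) := hperf _ hPperf
  constructor
  · intro x y hxy
    have hxy' : x ≫ η.app K = y ≫ η.app K := hxy
    have key : ∀ w : tst A n ⟶ F.obj K, w ≫ η.app K = 0 → w = 0 := by
      intro w hw
      obtain ⟨v, rfl⟩ := surjF w
      have h1 : (v ≫ η.app (toD E)) ≫ G.map α = 0 := by
        rw [Category.assoc, ← η.naturality, ← Category.assoc, hw]
      have h2 := injG _ h1
      have h3 : v = 0 := by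
        rw [← cancel_mono (η.app (toD E)), h2, zero_comp]
      rw [h3, zero_comp]
    have := key (x - y) (by rw [Preadditive.sub_comp, hxy', sub_self])
    exact sub_eq_zero.1 this
  · intro x
    obtain ⟨v, rfl⟩ := surjG x
    refine ⟨(v ≫ inv (η.app (toD E))) ≫ F.map α, ?_⟩
    show ((v ≫ inv (η.app (toD E))) ≫ F.map α) ≫ η.app K = v ≫ G.map α
    rw [Category.assoc, η.naturality, ← Category.assoc, Category.assoc v, IsIso.inv_hom_id,
      Category.comp_id]

end Groth.Agent.H35.WayOut
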