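import Groth.Agent.H35.RelShiftBase
import Groth.Agent.H35.RelDevStd
import Groth.Agent.H35.WayOut
import Groth.Agent.H6.CompactPerf1
import Groth.Agent.H28.K0Perf
import Groth.Agent.H56.PerfectCx

/-!
Properties of `RHomRel φ` when `A` is perfect over `R`: it preserves small coproducts and is weakly
exact (helper35).  Also: small coproducts exist in `D(B)`.
-/

set_option autoImplicit false
set_option linter.unusedSectionVars false
set_option linter.style.haveILetI false
universe u
open CategoryTheory CategoryTheory.Limits MonoidalCategory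
attribute [local instance] HasDerivedCategory.standard

namespace Groth.Agent.H35.RelProps

open DTen Groth.Agent.H35.TriChase Groth.Agent.H35.WayOut Groth.Agent.H6 Groth.Agent.H6.CompactPerf

/-- small coproducts exist in the derived category of a ring -/
lemma hasCoproduct_D {B : Type u} [CommRing B] {κ : Type u} (Y : κ → Dual.D B) : HasCoproduct Y := by
  have hQ := DSum.isColimitQ' (fun i => DerivedCategory.Q.objPreimage (Y i)) (fun i : κ => i)
    Function.bijective_id
  have := CompactPerf.isColimitOfFamilyIso _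
    (fun i => (DerivedCategory.Q.objObjPreimageIso (Y i)).symm) hQ
  exact ⟨⟨⟨_, this⟩⟩⟩

instance hasCoproductsOfShape_D {B : Type u} [CommRing B] (κ : Type u) :
    HasCoproductsOfShape κ (Dual.D B) :=
  ⟨fun K => by
    haveI : HasColimit (Discrete.functor (K.obj ∘ Discrete.mk)) :=
      hasCoproduct_D (K.obj ∘ Discrete.mk)
    exact hasColimit_of_iso Discrete.natIsoFunctor⟩

/-- projections out of a colimit cofan -/
lemma exists_proj {C : Type*} [Category C] [HasZeroMorphisms C] {κ : Type*} {X : κ → C}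
    (c : Cofan X) (hc : IsColimit c) (j : κ) :
    ∃ π : c.pt ⟶ X j, c.inj j ≫ π = 𝟙 _ ∧ ∀ i, i ≠ j → c.inj i ≫ π = 0 := by
  classical
  refine ⟨Cofan.IsColimit.desc hc (fun i => if h : i = j then eqToHom (by rw [h]) else 0), ?_, ?_⟩
  · rw [Cofan.IsColimit.fac]; simp
  · intro i hi
    rw [Cofan.IsColimit.fac]; simp [hi]

variable {R A : Type u} [CommRing R] [CommRing A] (φ : R →+* A)

/-- `A[0] ≅ unit` -/
noncomputable def sAUnitIso (B : Type u) [CommRing B] : sA B ≅ DTen.unit B :=
  (DerivedCategory.singleFunctorIsoCompQ (ModuleCat.{u} B) 0).app (ModuleCat.of B B)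

lemma isPerfect_tst (B : Type u) [CommRing B] (n : ℤ) : DRing.IsPerfect B (tst B n) :=
  Groth.Agent.H56.isPerfect_shift
    (Groth.Agent.H28.K0Perf.perf_single (M := ModuleCat.of B B) ⟨inferInstance, inferInstance⟩) (-n)

/-- `(tst A n)|_R ≅ (A|_R)⟦-n⟧` -/
noncomputable def resTstIso (n : ℤ) :
    (DRing.restrictD φ).obj (tst A n) ≅ ((DRing.restrictD φ).obj (DTen.unit A))⟦-n⟧ :=
  (DRing.restrictD φ).mapIso ((shiftFunctor (Dual.D A) (-n)).mapIso (sAUnitIso A)) ≪≫
    ((DRing.restrictD φ).commShiftIso (-n)).app (DTen.unit A)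

lemma isPerfect_res_tst (hA : DRing.IsPerfect R ((DRing.restrictD φ).obj (DTen.unit A))) (n : ℤ) :
    DRing.IsPerfect R ((DRing.restrictD φ).obj (tst A n)) :=
  Groth.Agent.H56.isPerfect_of_iso (resTstIso φ n).symm (Groth.Agent.H56.isPerfect_shift hA (-n))


section RHomRel

variable [DTen.HasRHomRel φ]

instance : (DRing.restrictD φ).Additive := inferInstance

instance additive_RHomRel : (RHomRel φ).Additive := (relAdj φ).right_adjoint_additive

lemma homEquiv_sum {T : Dual.D A} {Z : Dual.D R} {ι : Type*} (s : Finset ι)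
    (f : ι → ((DRing.restrictD φ).obj T ⟶ Z)) :
    (relAdj φ).homEquiv T Z (∑ i ∈ s, f i) = ∑ i ∈ s, (relAdj φ).homEquiv T Z (f i) :=
  map_sum ((relAdj φ).homAddEquiv T Z) f s

lemma homEquiv_symm_sum {T : Dual.D A} {Z : Dual.D R} {ι : Type*} (s : Finset ι)
    (f : ι → (T ⟶ (RHomRel φ).obj Z)) :
    ((relAdj φ).homEquiv T Z).symm (∑ i ∈ s, f i) =
      ∑ i ∈ s, ((relAdj φ).homEquiv T Z).symm (f i) :=
  map_sum ((relAdj φ).homAddEquiv T Z).symm f s

/-- the canonical map `∐ RHom(A, X k) ⟶ RHom(A, ∐ X k)` -/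
noncomputable def θ {κ : Type u} (X : κ → Dual.D R) :
    (∐ fun k => (RHomRel φ).obj (X k)) ⟶ (RHomRel φ).obj (∐ X) :=
  Sigma.desc (fun k => (RHomRel φ).map (Sigma.ι X k))

lemma isIso_θ (hA : DRing.IsPerfect R ((DRing.restrictD φ).obj (DTen.unit A))) {κ : Type u}
    (X : κ → Dual.D R) : IsIso (θ φ X) := by
  classical
  apply isIso_of_bijective_tst
  intro n
  have hcA : SmallCompact.{u} (tst A n) := smallCompact_of_isPerfect (isPerfect_tst A n)
  have hcR : SmallCompact.{u} ((DRing.restrictD φ).obj (tst A n)) :=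
    smallCompact_of_isPerfect (isPerfect_res_tst φ hA n)
  constructor
  · intro h₁ h₂ e
    have e' : (h₁ - h₂) ≫ θ φ X = 0 := by
      rw [Preadditive.sub_comp]; exact sub_eq_zero.2 e
    obtain ⟨s, b, hs⟩ := hcA κ _ _ (coproductIsCoproduct (fun k => (RHomRel φ).obj (X k))) (h₁ - h₂)
    replace hs : h₁ - h₂ = ∑ i ∈ s, b i ≫ Sigma.ι (fun k => (RHomRel φ).obj (X k)) i := hs
    have h0 : ∑ i ∈ s, ((relAdj φ).homEquiv _ _).symm (b i) ≫ Sigma.ι X i = 0 := by
      have h1 : ∑ i ∈ s, b i ≫ (RHomRel φ).map (Sigma.ι X i) = 0 := by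
        rw [← e', hs, Preadditive.sum_comp]
        refine Finset.sum_congr rfl (fun i _ => ?_)
        rw [Category.assoc]
        congr 1
        exact (Sigma.ι_desc (fun k => (RHomRel φ).map (Sigma.ι X k)) i).symm
      have h2 := congrArg ((relAdj φ).homEquiv (tst A n) (∐ X)).symm h1
      rw [homEquiv_symm_sum, Adjunction.homAddEquiv_symm_zero] at h2
      rw [← h2]
      refine Finset.sum_congr rfl (fun i _ => ?_)
      exact ((relAdj φ).homEquiv_naturality_right_symm (b i) (Sigma.ι X i)).symm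
    have hb : ∀ j ∈ s, b j = 0 := by
      intro j hj
      obtain ⟨π, hπ1, hπ2⟩ := exists_proj _ (coproductIsCoproduct X) j
      have h3 := congrArg (fun t => t ≫ π) h0
      simp only [Preadditive.sum_comp, Category.assoc, zero_comp] at h3
      rw [Finset.sum_eq_single j (fun i _ hi => by
        rw [show Sigma.ι X i ≫ π = 0 from hπ2 i hi, comp_zero]) (fun hj' => absurd hj hj')] at h3
      rw [show Sigma.ι X j ≫ π = 𝟙 _ from hπ1, Category.comp_id] at h3
      have := congrArg ((relAdj φ).homEquiv (tst A n) (X j)) h3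
      rwa [Equiv.apply_symm_apply, Adjunction.homAddEquiv_zero] at this
    have : h₁ - h₂ = 0 := by
      rw [hs]
      exact Finset.sum_eq_zero (fun i hi => by rw [hb i hi, zero_comp])
    exact sub_eq_zero.1 this
  · intro g
    obtain ⟨s, a, hs⟩ := hcR κ X _ (coproductIsCoproduct X) (((relAdj φ).homEquiv _ _).symm g)
    replace hs : ((relAdj φ).homEquiv _ _).symm g = ∑ i ∈ s, a i ≫ Sigma.ι X i := hs
    refine ⟨∑ i ∈ s, (relAdj φ).homEquiv _ _ (a i) ≫
      Sigma.ι (fun k => (RHomRel φ).obj (X k)) i, ?_⟩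
    show (∑ i ∈ s, (relAdj φ).homEquiv _ _ (a i) ≫
      Sigma.ι (fun k => (RHomRel φ).obj (X k)) i) ≫ θ φ X = g
    rw [Preadditive.sum_comp]
    have h1 : ∀ i, ((relAdj φ).homEquiv _ _ (a i) ≫
        Sigma.ι (fun k => (RHomRel φ).obj (X k)) i) ≫ θ φ X =
        (relAdj φ).homEquiv _ _ (a i ≫ Sigma.ι X i) := by
      intro i
      rw [Category.assoc, (relAdj φ).homEquiv_naturality_right]
      congr 1
      exact Sigma.ι_desc (fun k => (RHomRel φ).map (Sigma.ι X k)) i
    simp only [h1]
    rw [← homEquiv_sum, ← hs, Equiv.apply_symm_apply]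

lemma preservesColimit_RHomRel (hA : DRing.IsPerfect R ((DRing.restrictD φ).obj (DTen.unit A)))
    {κ : Type u} (X : κ → Dual.D R) : PreservesColimit (Discrete.functor X) (RHomRel φ) := by
  haveI := isIso_θ φ hA X
  refine preservesColimit_of_preserves_colimit_cocone (coproductIsCoproduct X)
    ((isColimitMapCoconeCofanMkEquiv (RHomRel φ) X (Sigma.ι X)).symm ?_)
  refine IsColimit.ofIsoColimit (coproductIsCoproduct (fun k => (RHomRel φ).obj (X k)))
    (Cofan.ext (asIso (θ φ X)) (fun k => ?_))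
  exact Sigma.ι_desc (fun k => (RHomRel φ).map (Sigma.ι X k)) k

lemma preservesCoproducts_RHomRel
    (hA : DRing.IsPerfect R ((DRing.restrictD φ).obj (DTen.unit A))) (κ : Type u) :
    PreservesColimitsOfShape (Discrete κ) (RHomRel φ) :=
  ⟨fun {K} => by
    haveI := preservesColimit_RHomRel φ hA (K.obj ∘ Discrete.mk)
    exact preservesColimit_of_iso_diagram _ Discrete.natIsoFunctor.symm⟩

lemma weakExact_RHomRel : WeakExact (RHomRel φ) := by
  have h0 : WeakExact (𝟭 (Dual.D R)) := WeakExact.of_DT _ (fun p q h => h)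
  haveI : (RHomRel φ).PreservesZeroMorphisms := inferInstance
  exact WeakExact.comp_rightAdjoint (R := RHomRel φ) h0 (relAdj φ)

end RHomRel

end Groth.Agent.H35.RelProps
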