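import Groth.Agent.H35.RelInvExt
import Groth.Agent.H35.RelProps
import Groth.Agent.H12.HomSingleRing
import Groth.Agent.H28.K0Perf
import Groth.Agent.H56.PerfectCx

/-!
For a surjection `R → A` with invertible kernel `I` and an inverse `N` of `A ⊗_R I`:
`RHom(A, R) ≅ N[-1]` in `D(A)` (helper35).  Also `A` is perfect over `R`.
-/

set_option autoImplicit false
set_option linter.unusedSectionVars false
set_option linter.style.haveILetI false
universe u
open CategoryTheory CategoryTheory.Limits Pretriangulated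
attribute [local instance] HasDerivedCategory.standard
open scoped TensorProduct

namespace Groth.Agent.H35.RelInvLink

open DTen DRing DerivedCategory DerivedCategory.TStructure Groth.Agent.H35.WayOut
  Groth.Agent.H35.RelProps Groth.Agent.H35.RelInvExt Groth.Agent.H35.RelInvAlg

variable {R A : Type u} [CommRing R] [CommRing A] [Algebra R A]

lemma resCx_map_smul (K : DRing.Cx A) (r : R) :
    (resCx (algebraMap R A)).map (algebraMap R A r • 𝟙 K) = r • 𝟙 _ := by
  ext n x
  rfl

lemma res_map_smul_id (Y : Dual.D A) (r : R) :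
    (DRing.restrictD (algebraMap R A)).map (algebraMap R A r • 𝟙 Y) = r • 𝟙 _ := by
  let e := DerivedCategory.Q.objObjPreimageIso Y
  have h1 : algebraMap R A r • 𝟙 Y =
      e.inv ≫ DerivedCategory.Q.map (algebraMap R A r • 𝟙 (DerivedCategory.Q.objPreimage Y)) ≫
        e.hom := by
    rw [Functor.map_smul, CategoryTheory.Functor.map_id, Linear.smul_comp, Linear.comp_smul,
      Category.id_comp, Iso.inv_hom_id]
  have h2 := (resFactors (algebraMap R A)).hom.naturality
    (algebraMap R A r • 𝟙 (DerivedCategory.Q.objPreimage Y))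
  dsimp at h2
  have hq : (DerivedCategory.Q : DRing.Cx R ⥤ Dual.D R).map
      (r • 𝟙 ((resCx (algebraMap R A)).obj (DerivedCategory.Q.objPreimage Y))) = r • 𝟙 _ := by
    rw [Functor.map_smul, CategoryTheory.Functor.map_id]
  rw [resCx_map_smul, hq, Linear.comp_smul, Category.comp_id] at h2
  have h3 : (DRing.restrictD (algebraMap R A)).map
      (DerivedCategory.Q.map (algebraMap R A r • 𝟙 (DerivedCategory.Q.objPreimage Y))) = r • 𝟙 _ := by
    rw [← cancel_mono ((resFactors (algebraMap R A)).hom.app _), h2, Linear.smul_comp,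
      Category.id_comp]
  rw [h1, Functor.map_comp, Functor.map_comp, h3, Linear.smul_comp, Linear.comp_smul,
    Category.id_comp, ← Functor.map_comp, Iso.inv_hom_id, CategoryTheory.Functor.map_id]

lemma res_map_smul {Y Y' : Dual.D A} (f : Y ⟶ Y') (r : R) :
    (DRing.restrictD (algebraMap R A)).map (algebraMap R A r • f) =
      r • (DRing.restrictD (algebraMap R A)).map f := by
  have : algebraMap R A r • f = (algebraMap R A r • 𝟙 Y) ≫ f := by
    rw [Linear.smul_comp, Category.id_comp]
  rw [this, Functor.map_comp, res_map_smul_id, Linear.smul_comp, Category.id_comp]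


/-- `A` as an `R`-module via the algebra structure is the restriction of scalars of `A`. -/
noncomputable def ofAIso (R A : Type u) [CommRing R] [CommRing A] [Algebra R A] :
    ModuleCat.of R A ≅ (ModuleCat.restrictScalars.{u} (algebraMap R A)).obj (ModuleCat.of A A) :=
  @LinearEquiv.toModuleIso R _ A
    ((ModuleCat.restrictScalars.{u} (algebraMap R A)).obj (ModuleCat.of A A)) _ _ _
    ((ModuleCat.restrictScalars.{u} (algebraMap R A)).obj (ModuleCat.of A A)).isModule
    (@AddEquiv.toLinearEquiv R A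
      ((ModuleCat.restrictScalars.{u} (algebraMap R A)).obj (ModuleCat.of A A)) _ _ _ _
      ((ModuleCat.restrictScalars.{u} (algebraMap R A)).obj (ModuleCat.of A A)).isModule
      (AddEquiv.refl A) (fun r a => by
        refine (Algebra.smul_def r a).trans ?_
        exact (ModuleCat.restrictScalars.smul_def (algebraMap R A)
          (M := ModuleCat.of A A) r a).symm))

/-- `A[0]` in `D(R)` is the restriction of `A[0] ∈ D(A)` -/
noncomputable def resSAIso (R A : Type u) [CommRing R] [CommRing A] [Algebra R A] :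
    sAr R A ≅ (DRing.restrictD (algebraMap R A)).obj (sA A) :=
  (singleFunctor (ModuleCat.{u} R) 0).mapIso (ofAIso R A) ≪≫
    (singleFunctorIsoCompQ (ModuleCat.{u} R) 0).app _ ≪≫
    DerivedCategory.Q.mapIso ((HomologicalComplex.singleMapHomologicalComplex
      (ModuleCat.restrictScalars.{u} (algebraMap R A)) (ComplexShape.up ℤ) 0).app
        (ModuleCat.of A A)).symm ≪≫
    ((resFactors (algebraMap R A)).app _).symm ≪≫
    (DRing.restrictD (algebraMap R A)).mapIso
      ((singleFunctorIsoCompQ (ModuleCat.{u} A) 0).app (ModuleCat.of A A)).symm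

section Theta

variable [DTen.HasRHomRel (algebraMap R A)]

/-- the commutation of `RHomRel` with shifts at the unit -/
noncomputable def κ (i : ℤ) :
    ((RHomRel (algebraMap R A)).obj (DTen.unit R))⟦i⟧ ≅
      (RHomRel (algebraMap R A)).obj ((sR R)⟦i⟧) :=
  letI : (RHomRel (algebraMap R A)).CommShift ℤ :=
    (relAdj (algebraMap R A)).rightAdjointCommShift ℤ
  (((RHomRel (algebraMap R A)).commShiftIso i).symm.app (DTen.unit R)) ≪≫
    (RHomRel (algebraMap R A)).mapIso ((shiftFunctor (Dual.D R) i).mapIso (sAUnitIso R).symm)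

/-- `Hom_{D(A)}(A[0], RHom(A, R)⟦i⟧) ≃ Hom_{D(R)}(A[0], R[0]⟦i⟧)` -/
noncomputable def Θ (i : ℤ) :
    (sA A ⟶ ((RHomRel (algebraMap R A)).obj (DTen.unit R))⟦i⟧) ≃ (sAr R A ⟶ (sR R)⟦i⟧) :=
  (Iso.homCongr (Iso.refl _) (κ i)).trans
    (((relAdj (algebraMap R A)).homEquiv _ _).symm.trans
      (Iso.homCongr (resSAIso R A).symm (Iso.refl _)))

lemma Θ_apply (i : ℤ) (g : sA A ⟶ ((RHomRel (algebraMap R A)).obj (DTen.unit R))⟦i⟧) :
    Θ i g = (resSAIso R A).hom ≫ (DRing.restrictD (algebraMap R A)).map (g ≫ (κ i).hom) ≫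
      relEv (algebraMap R A) _ := by
  simp only [Θ, Equiv.trans_apply, Iso.homCongr_apply, Iso.refl_inv, Iso.refl_hom, Iso.symm_inv,
    Category.id_comp, Category.comp_id, Adjunction.homEquiv_counit]

lemma Θ_add (i : ℤ) (g g' : sA A ⟶ ((RHomRel (algebraMap R A)).obj (DTen.unit R))⟦i⟧) :
    Θ i (g + g') = Θ i g + Θ i g' := by
  rw [Θ_apply, Θ_apply, Θ_apply, Preadditive.add_comp, Functor.map_add, Preadditive.add_comp,
    Preadditive.comp_add]

lemma Θ_smul (i : ℤ) (r : R) (g : sA A ⟶ ((RHomRel (algebraMap R A)).obj (DTen.unit R))⟦i⟧) :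
    Θ i (algebraMap R A r • g) = r • Θ i g := by
  rw [Θ_apply, Θ_apply, Linear.smul_comp, res_map_smul, Linear.smul_comp, Linear.comp_smul]

end Theta


section Main

variable (hφ : Function.Surjective (algebraMap R A))
  [Module.Invertible R (RingHom.ker (algebraMap R A))] [DTen.HasRHomRel (algebraMap R A)]

include hφ in
lemma isZero_H (i : ℤ) (hi : i ≠ 1) :
    IsZero ((homologyFunctor (ModuleCat.{u} A) i).obj
      ((RHomRel (algebraMap R A)).obj (DTen.unit R))) := by
  obtain ⟨ℓ⟩ := Groth.Agent.H12.HomSingleRing.nonempty_linearEquiv_Hi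
    ((RHomRel (algebraMap R A)).obj (DTen.unit R)) i
  have hx : ∀ z : sA A ⟶ ((RHomRel (algebraMap R A)).obj (DTen.unit R))⟦i⟧, z = 0 := fun z =>
    (Θ i).injective ((ext_eq_zero hφ i hi _).trans (ext_eq_zero hφ i hi _).symm)
  have : Subsingleton ((homologyFunctor (ModuleCat.{u} A) i).obj
      ((RHomRel (algebraMap R A)).obj (DTen.unit R))) :=
    ⟨fun x y => by
      rw [← ℓ.apply_symm_apply x, ← ℓ.apply_symm_apply y, hx (ℓ.symm x), hx (ℓ.symm y)]⟩
  exact ModuleCat.isZero_of_subsingleton _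

lemma smul_eq_algebraMap_smul (r : R) (f : (RingHom.ker (algebraMap R A)) →ₗ[R] A) :
    r • f = algebraMap R A r • f := by
  ext x
  simp [Algebra.smul_def]

include hφ in
/-- `RHom(A, R) ≅ N[-1]` in `D(A)`. -/
theorem nonempty_iso (N : Type u) [AddCommGroup N] [Module A N]
    (e : (A ⊗[R] (RingHom.ker (algebraMap R A))) ⊗[A] N ≃ₗ[A] A) :
    Nonempty ((RHomRel (algebraMap R A)).obj (DTen.unit R) ≅ (Dual.inD A N)⟦(-1 : ℤ)⟧) := by
  have hz := isZero_H hφ
  haveI : ((RHomRel (algebraMap R A)).obj (DTen.unit R)).IsLE 1 :=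
    (isLE_iff _ 1).2 (fun i hi => hz i (by omega))
  haveI : ((RHomRel (algebraMap R A)).obj (DTen.unit R)).IsGE 1 :=
    (isGE_iff _ 1).2 (fun i hi => hz i (by omega))
  obtain ⟨L, ⟨e₁⟩⟩ := exists_iso_singleFunctor_obj_of_isGE_of_isLE
    ((RHomRel (algebraMap R A)).obj (DTen.unit R)) 1
  let eL : (homologyFunctor (ModuleCat.{u} A) 1).obj
      ((RHomRel (algebraMap R A)).obj (DTen.unit R)) ≅ L :=
    (homologyFunctor (ModuleCat.{u} A) 1).mapIso e₁ ≪≫
      (singleFunctorCompHomologyFunctorIso (ModuleCat.{u} A) 1).app L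
  obtain ⟨ℓ⟩ := Groth.Agent.H12.HomSingleRing.nonempty_linearEquiv_Hi
    ((RHomRel (algebraMap R A)).obj (DTen.unit R)) 1
  let β : L ≃ N := eL.toLinearEquiv.symm.toEquiv.trans (ℓ.symm.toEquiv.trans ((Θ 1).trans
    ((extEquiv hφ).toEquiv.trans (equivHom N e).symm.toEquiv)))
  have βapp : ∀ x, β x = (equivHom N e).symm (extEquiv hφ (Θ 1 (ℓ.symm (eL.toLinearEquiv.symm x)))) :=
    fun _ => rfl
  have βadd : ∀ x y, β (x + y) = β x + β y := by
    intro x y
    rw [βapp, βapp, βapp, map_add, map_add, Θ_add, map_add, map_add]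
  have βsmul : ∀ (a : A) x, β (a • x) = a • β x := by
    intro a x
    obtain ⟨r, rfl⟩ := hφ a
    rw [βapp, βapp, map_smul, map_smul, Θ_smul, map_smul, smul_eq_algebraMap_smul, map_smul]
  let βlin : L ≃ₗ[A] N := { β with map_add' := βadd, map_smul' := βsmul }
  exact ⟨e₁ ≪≫ (singleFunctor (ModuleCat.{u} A) 1).mapIso βlin.toModuleIso ≪≫
    (((singleFunctors (ModuleCat.{u} A)).shiftIso (-1) 1 0 (by omega)).app
      (ModuleCat.of A N)).symm⟩

include hφ in
/-- `A` is perfect over `R`. -/
theorem isPerfect_res_unit :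
    DRing.IsPerfect R ((DRing.restrictD (algebraMap R A)).obj (DTen.unit A)) := by
  have h₁ : DRing.IsPerfect R (sI R A) :=
    Groth.Agent.H28.K0Perf.perf_single
      (M := ModuleCat.of R (RingHom.ker (algebraMap R A))) ⟨inferInstance, inferInstance⟩
  have h₂ : DRing.IsPerfect R (sR R) :=
    Groth.Agent.H28.K0Perf.perf_single (M := ModuleCat.of R R) ⟨inferInstance, inferInstance⟩
  have h₃ : DRing.IsPerfect R (sAr R A) :=
    Groth.Agent.H56.isPerfect_obj₃ (tri hφ) (tri_dist hφ) h₁ h₂
  exact Groth.Agent.H56.isPerfect_of_iso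
    (resSAIso R A ≪≫ (DRing.restrictD (algebraMap R A)).mapIso (sAUnitIso A)) h₃

end Main

end Groth.Agent.H35.RelInvLink
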