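import Mathlib
import Groth.Agent.H35.MaxDescent
import Groth.Agent.H35.LTensorCxTor
import Groth.Prelude.Def_DTen6

/-!
# Tor amplitude of a restricted complex is local at the maximal ideals of the upper ring (helper35)
-/

set_option autoImplicit false
universe u
open CategoryTheory CategoryTheory.Limits MonoidalCategory HomologicalComplex
attribute [local instance] HasDerivedCategory.standard

namespace Groth.Agent.H35.RelMaxDescent

open DRing DerivedCategory Groth.Agent.H31 Groth.Agent.H31.KFlat Groth.Agent.H35.TorAmp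
  Groth.Agent.H35.FlatBC Groth.Agent.H35.KFlatBC Groth.Agent.H35.LBC Groth.Agent.H35.LTC

section Local

variable {A B A' B' : Type u} [CommRing A] [CommRing B] [CommRing A'] [CommRing B']
  (φ : A →+* B) (lA : A →+* A') (lB : B →+* B') (φ' : A' →+* B')

/-- `B' ⊗_B (B ⊗_A F) ≅ B' ⊗_{A'} (A' ⊗_A F)` for a commutative square. -/
noncomputable def extSquareIso (hcomm : lB.comp φ = φ'.comp lA) (F : Cx A) :
    (FlatBC.extCx lB).obj ((FlatBC.extCx φ).obj F) ≅
      (FlatBC.extCx φ').obj ((FlatBC.extCx lA).obj F) :=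
  (DTen.extCompCx φ lB).app F ≪≫
    eqToIso (congrArg (fun f : A →+* B' => (FlatBC.extCx f).obj F) hcomm) ≪≫
    ((DTen.extCompCx lA φ').app F).symm

theorem exactAt_ext_tensor_of_local (hcomm : lB.comp φ = φ'.comp lA) (hflat : lA.Flat)
    (K : Cx B) (a b : ℤ)
    (hK' : HasTorAmplitudeIn A' a b
      (toD ((DRing.restrictCx φ').obj ((FlatBC.extCx lB).obj K))))
    (N : ModuleCat.{u} A) (F : Cx A) (hF : DRing.IsKFlat A F) (t : F ⟶ sg N) (ht : QuasiIso t)
    (i : ℤ) (hi : i < a ∨ b < i) :
    ((FlatBC.extCx lB).obj (K ⊗ (FlatBC.extCx φ).obj F)).ExactAt i := by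
  let K' : Cx B' := (FlatBC.extCx lB).obj K
  let F' : Cx A' := (FlatBC.extCx lA).obj F
  let N' : ModuleCat.{u} A' := (ext lA).obj N
  -- the resolution `F' → N'[0]`
  haveI : PreservesFiniteLimits (ext lA) :=
    ModuleCat.preservesFiniteLimits_extendScalars_of_flat hflat
  haveI : PreservesFiniteColimits (ext lA) := inferInstance
  have hF' : DRing.IsKFlat A' F' := isKFlat_extCx lA F hF
  let s : F' ⟶ sg N' := (FlatBC.extCx lA).map t ≫
    ((HomologicalComplex.singleMapHomologicalComplex (ext lA) (ComplexShape.up ℤ) 0).app N).hom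
  have hs : QuasiIso s := by
    haveI := ht
    have : QuasiIso ((FlatBC.extCx lA).map t) := inferInstance
    infer_instance
  obtain ⟨G', r, hG', -, hr, -⟩ :=
    KFlatRing.exists_isKFlat_resolution ((DRing.restrictCx φ').obj K')
  have hTV : TorVanish a b G' := torVanish_of_hasTorAmplitudeIn hK' G' hG' (asIso (Q.map r))
  have h1 : (((DRing.restrictCx φ').obj K') ⊗ F').ExactAt i :=
    (exactAt_tensor_resolution_iff hG' r hr hF' N' s hs i).2 (hTV N' i hi)
  have h2 : ((LTC.resCx φ').obj (K' ⊗ (FlatBC.extCx φ').obj F')).ExactAt i :=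
    h1.of_iso (resTensorIso φ' K' F').symm
  have h3 : (K' ⊗ (FlatBC.extCx φ').obj F').ExactAt i := (exactAt_map_iff (Res φ') _ i).1 h2
  have h4 : (K' ⊗ (FlatBC.extCx lB).obj ((FlatBC.extCx φ).obj F)).ExactAt i :=
    h3.of_iso (whiskerLeftIso K' (extSquareIso φ lA lB φ' hcomm F)).symm
  exact h4.of_iso (DTen.extTenCxIso lB K ((FlatBC.extCx φ).obj F)).symm

end Local

section Main

variable (A B : Type u) [CommRing A] [CommRing B] [Algebra A B]

theorem hasTorAmplitudeIn_restrict_of_forall_maximal (K : DRing.Cx B) (a b : ℤ)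
    (h3 : ∀ (m : Ideal B) [m.IsMaximal],
      DRing.HasTorAmplitudeIn (Localization.AtPrime (m.comap (algebraMap A B))) a b
        (DRing.toD ((DRing.restrictCx (Localization.localRingHom (m.comap (algebraMap A B)) m
          (algebraMap A B) rfl)).obj
          (((ModuleCat.extendScalars (algebraMap B (Localization.AtPrime m))).mapHomologicalComplex
            (ComplexShape.up ℤ)).obj K)))) :
    DRing.HasTorAmplitudeIn A a b (DRing.toD ((DRing.restrictCx (algebraMap A B)).obj K)) := by
  obtain ⟨G, r, hG, -, hr, -⟩ :=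
    KFlatRing.exists_isKFlat_resolution ((DRing.restrictCx (algebraMap A B)).obj K)
  haveI := hr
  refine hasTorAmplitudeIn_of_torVanish G hG (asIso (Q.map r)) (fun N i hi => ?_)
  obtain ⟨F, t, hFb, hFfree, ht⟩ := exists_free_resolution (sg N) 0
    (fun i hi => isZero_sg_X N i (by omega))
  have hFK : DRing.IsKFlat A F :=
    KFlatRing.isKFlat_of_bounded_above_flat F 0 hFb (free_flat F hFfree)
  rw [← exactAt_tensor_resolution_iff hG r hr hFK N t ht i]
  have key : (K ⊗ (FlatBC.extCx (algebraMap A B)).obj F).ExactAt i := by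
    refine exactAt_of_forall_maximal _ i (fun m _ => ?_)
    have hcomm : (algebraMap B (Localization.AtPrime m)).comp (algebraMap A B) =
        (Localization.localRingHom (m.comap (algebraMap A B)) m (algebraMap A B) rfl).comp
          (algebraMap A (Localization.AtPrime (m.comap (algebraMap A B)))) :=
      RingHom.ext (fun x => (Localization.localRingHom_to_map _ _ _ rfl x).symm)
    have hflat : (algebraMap A (Localization.AtPrime (m.comap (algebraMap A B)))).Flat :=
      RingHom.flat_algebraMap_iff.2 inferInstance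
    exact exactAt_ext_tensor_of_local (algebraMap A B) _ _ _ hcomm hflat K a b (h3 m) N F hFK t ht
      i hi
  have h2 : ((LTC.resCx (algebraMap A B)).obj
      (K ⊗ (FlatBC.extCx (algebraMap A B)).obj F)).ExactAt i :=
    (exactAt_map_iff (Res (algebraMap A B)) _ i).2 key
  exact h2.of_iso (resTensorIso (algebraMap A B) K F)

end Main

end Groth.Agent.H35.RelMaxDescent
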