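import Groth.Agent.H35.LBCpc
import Groth.Agent.H56.RelPC
import Groth.Agent.H12.FlatCxLES

/-!
# Tensoring a relatively pseudo-coherent complex with a pseudo-coherent module (helper35)

`σ : S → T` a ring map, `Lc` a bounded above termwise flat complex of `T`-modules whose restriction
to `S` is `m`-pseudo-coherent.  For a sufficiently pseudo-coherent `T`-module `N`, the restriction
to `S` of `Lc ⊗_T N` is again `m`-pseudo-coherent.
-/

set_option autoImplicit false
universe u
open CategoryTheory CategoryTheory.Limits MonoidalCategory Pretriangulated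
attribute [local instance] HasDerivedCategory.standard

namespace Groth.Agent.H35.RelPCTensor

open DRing DerivedCategory Groth.Agent.H56 Groth.Agent.H12.FlatCx

variable {S T : Type u} [CommRing S] [CommRing T] (σ : S →+* T) (Lc : Cx T)

/-- `N ↦ (Lc ⊗_T N)|_S` in `D(S)`. -/
noncomputable def G (N : ModuleCat.{u} T) : Dual.D S :=
  (restrictD σ).obj (Q.obj (CohIII.tensorObj Lc N))

lemma G_isLE (b : ℤ) (hv : VanishesAbove Lc b) (N : ModuleCat.{u} T) : (G σ Lc N).IsLE b := by
  unfold G
  rw [isLE_mapDerivedCategory_obj_iff (ModuleCat.restrictScalars.{u} σ)]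
  exact Groth.Agent.H35.LBC.isLE_toD_of_vanishesAbove _ b
    (fun i hi => (tensorRight N).map_isZero (hv i hi))

noncomputable def GIso {N N' : ModuleCat.{u} T} (e : N ≅ N') : G σ Lc N ≅ G σ Lc N' :=
  (restrictD σ).mapIso (Q.mapIso
    ((NatIso.mapHomologicalComplex ((tensoringRight (ModuleCat.{u} T)).mapIso e)
      (ComplexShape.up ℤ)).app Lc))

noncomputable def GUnitIso : G σ Lc (ModuleCat.of T T) ≅ (restrictD σ).obj (Q.obj Lc) :=
  (restrictD σ).mapIso (Q.mapIso (Groth.Agent.S6945.unitIso Lc))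

lemma G_triangle (hfl : TermwiseFlat Lc) {M' M M'' : ModuleCat.{u} T} (a : M' ⟶ M) (b : M ⟶ M'')
    (ha : Function.Injective a.hom) (hb : Function.Surjective b.hom)
    (hab : Function.Exact a.hom b.hom) :
    ∃ (f : G σ Lc M' ⟶ G σ Lc M) (g : G σ Lc M ⟶ G σ Lc M'')
      (δ : G σ Lc M'' ⟶ (G σ Lc M')⟦(1 : ℤ)⟧), Triangle.mk f g δ ∈ distTriang (Dual.D S) := by
  have hS := tensorSC_shortExact Lc hfl a b ha hb hab
  have hT := triangleOfSES_distinguished hS
  have hT' := (restrictD σ).map_distinguished _ hT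
  exact ⟨_, _, _, hT'⟩

lemma G_isZero {N : ModuleCat.{u} T} (hN : IsZero N) (c : ℤ) : (G σ Lc N).IsLE c := by
  unfold G
  rw [isLE_mapDerivedCategory_obj_iff (ModuleCat.restrictScalars.{u} σ)]
  exact Groth.Agent.H35.LBC.isLE_toD_of_vanishesAbove _ c
    (fun i _ => (tensorLeft (Lc.X i)).map_isZero hN)

section Free

variable (hfl : TermwiseFlat Lc) (m : ℤ) (h1 : IsPseudoCoherent S m (G σ Lc (ModuleCat.of T T)))
include hfl h1

lemma pc_G_pi (k : ℕ) : IsPseudoCoherent S m (G σ Lc (ModuleCat.of T (Fin k → T))) := by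
  induction k with
  | zero =>
    exact isPseudoCoherent_of_isLE _ m (m - 1) (by omega)
      (G_isZero σ Lc (ModuleCat.isZero_of_subsingleton _) _)
  | succ k ih =>
    let a : ModuleCat.of T T ⟶ ModuleCat.of T (Fin (k + 1) → T) :=
      ModuleCat.ofHom (LinearMap.single T (fun _ : Fin (k + 1) => T) 0)
    let b : ModuleCat.of T (Fin (k + 1) → T) ⟶ ModuleCat.of T (Fin k → T) :=
      ModuleCat.ofHom (LinearMap.funLeft T T Fin.succ)
    have ha : Function.Injective a.hom :=
      Pi.single_injective (M := fun _ : Fin (k + 1) => T) 0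
    have hb : Function.Surjective b.hom :=
      LinearMap.funLeft_surjective_of_injective T T Fin.succ (Fin.succ_injective k)
    have hab : Function.Exact a.hom b.hom := by
      intro x
      constructor
      · intro hx
        refine ⟨x 0, ?_⟩
        funext i
        refine Fin.cases ?_ (fun j => ?_) i
        · exact Pi.single_eq_same (M := fun _ : Fin (k + 1) => T) 0 (x 0)
        · have := congrFun hx j
          show Pi.single (M := fun _ : Fin (k + 1) => T) (0 : Fin (k + 1)) (x 0) j.succ = x j.succ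
          rw [Pi.single_eq_of_ne (Fin.succ_ne_zero j)]
          exact this.symm
      · rintro ⟨t, rfl⟩
        funext j
        show Pi.single (M := fun _ : Fin (k + 1) => T) (0 : Fin (k + 1)) t j.succ = 0
        exact Pi.single_eq_of_ne (Fin.succ_ne_zero j) t
    obtain ⟨f, g, δ, hT⟩ := G_triangle σ Lc hfl a b ha hb hab
    exact isPseudoCoherent_obj₂ (Triangle.mk f g δ) hT m h1 ih

lemma pc_G_free (F : ModuleCat.{u} T) (hfin : Module.Finite T F) (hfree : Module.Free T F) :
    IsPseudoCoherent S m (G σ Lc F) := by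
  obtain ⟨n, ⟨e⟩⟩ : ∃ n : ℕ, Nonempty (F ≃ₗ[T] (Fin n → T)) :=
    ⟨_, ⟨((Module.Free.chooseBasis T F).reindex (Fintype.equivFin _)).equivFun⟩⟩
  exact isPseudoCoherent_of_iso (GIso σ Lc (LinearEquiv.toModuleIso e.symm)) m
    (pc_G_pi σ Lc hfl m h1 n)

end Free

section Main

variable (hfl : TermwiseFlat Lc) (b m : ℤ) (hv : VanishesAbove Lc b)
  (h1 : IsPseudoCoherent S m (G σ Lc (ModuleCat.of T T)))
include hfl hv h1

theorem pc_G_of_pc (n : ℕ) : ∀ (N : ModuleCat.{u} T), m ≤ b + 1 - n →
    IsPseudoCoherent T (-(n : ℤ)) ((singleFunctor (ModuleCat.{u} T) 0).obj N) →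
    IsPseudoCoherent S (b + 1 - n) (G σ Lc N) := by
  induction n with
  | zero =>
    intro N _ _
    exact isPseudoCoherent_of_isLE _ _ b (by simp) (G_isLE σ Lc b hv N)
  | succ n ih =>
    intro N hm hN
    have hfin : Module.Finite T N :=
      (isPseudoCoherent_zero_single_iff N).1 (isPseudoCoherent_mono hN (by omega))
    obtain ⟨F, hFfin, hFfree, π, hπ⟩ := exists_finite_free_epi N hfin
    have hπs : Function.Surjective π.hom := (ModuleCat.epi_iff_surjective π).1 hπ
    let N' : ModuleCat.{u} T := ModuleCat.of T (LinearMap.ker π.hom)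
    let a : N' ⟶ F := ModuleCat.ofHom (LinearMap.ker π.hom).subtype
    have ha : Function.Injective a.hom := Subtype.val_injective
    have hab : Function.Exact a.hom π.hom := LinearMap.exact_subtype_ker_map π.hom
    have w : a ≫ π = 0 := by
      apply ModuleCat.hom_ext
      apply LinearMap.ext
      intro x
      exact hab.apply_apply_eq_zero x
    have hS : (ShortComplex.mk a π w).ShortExact := by
      apply ModuleCat.shortComplex_shortExact
      · exact hab
      · exact ha
      · exact hπs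
    have hN' : IsPseudoCoherent T (-(n : ℤ)) ((singleFunctor (ModuleCat.{u} T) 0).obj N') := by
      have h := isPseudoCoherent_obj₁ _ hS.singleTriangle_distinguished (-((n + 1 : ℕ) : ℤ))
        (isPseudoCoherent_single_free 0 F hFfin hFfree _) hN
      have e : -((n + 1 : ℕ) : ℤ) + 1 = -(n : ℤ) := by push_cast; ring
      rw [e] at h
      exact h
    have hG' := ih N' (by push_cast at hm; omega) hN'
    have hGF : IsPseudoCoherent S (b + 1 - ((n + 1 : ℕ) : ℤ)) (G σ Lc F) :=
      isPseudoCoherent_mono (pc_G_free σ Lc hfl m h1 F hFfin hFfree) hm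
    obtain ⟨f, g, δ, hT⟩ := G_triangle σ Lc hfl a π ha hπs hab
    refine isPseudoCoherent_obj₃ (Triangle.mk f g δ) hT _ ?_ hGF
    have e : b + 1 - ((n + 1 : ℕ) : ℤ) + 1 = b + 1 - (n : ℤ) := by push_cast; ring
    rw [e]
    exact hG'

end Main

section Final

variable (hfl : TermwiseFlat Lc) (b m : ℤ) (hv : VanishesAbove Lc b)
  (h1 : IsPseudoCoherent S m ((restrictD σ).obj (Q.obj Lc)))
include hfl hv h1

theorem isPseudoCoherent_G (N : ModuleCat.{u} T)
    (hN : ∀ m' : ℤ, IsPseudoCoherent T m' ((singleFunctor (ModuleCat.{u} T) 0).obj N)) :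
    IsPseudoCoherent S m (G σ Lc N) := by
  have h1' : IsPseudoCoherent S m (G σ Lc (ModuleCat.of T T)) :=
    isPseudoCoherent_of_iso (GUnitIso σ Lc).symm m h1
  have hv' : VanishesAbove Lc (max b (m - 1)) := fun i hi =>
    hv i (lt_of_le_of_lt (le_max_left _ _) hi)
  have hle : m - 1 ≤ max b (m - 1) := le_max_right _ _
  have h := pc_G_of_pc σ Lc hfl (max b (m - 1)) m hv' h1' (max b (m - 1) + 1 - m).toNat N
    (by rw [Int.toNat_of_nonneg (by omega)]; omega) (hN _)
  rw [Int.toNat_of_nonneg (by omega)] at h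
  have e : max b (m - 1) + 1 - (max b (m - 1) + 1 - m) = m := by ring
  rw [e] at h
  exact h

end Final

section BC

variable {B : Type u} [CommRing B] (ψ : T →+* B)

/-- `(Lc ⊗_T B)|_S` as the double restriction of `ext_ψ Lc`. -/
noncomputable def GBaseIso :
    G σ Lc ((ModuleCat.restrictScalars.{u} ψ).obj (ModuleCat.of B B)) ≅
      (restrictD σ).obj ((restrictD ψ).obj (Q.obj ((Groth.Agent.H35.FlatBC.extCx ψ).obj Lc))) :=
  (restrictD σ).mapIso
    (Q.mapIso ((Groth.Agent.H35.LBC.tensorExtIso ψ Lc (ModuleCat.of B B)).symm ≪≫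
        ((ModuleCat.restrictScalars.{u} ψ).mapHomologicalComplex (ComplexShape.up ℤ)).mapIso
          (Groth.Agent.S6945.unitIso ((Groth.Agent.H35.FlatBC.extCx ψ).obj Lc))) ≪≫
      ((ModuleCat.restrictScalars.{u} ψ).mapDerivedCategoryFactors.app _).symm)

theorem isPseudoCoherent_restrict_ext (hfl : TermwiseFlat Lc) (b m : ℤ) (hv : VanishesAbove Lc b)
    (h1 : IsPseudoCoherent S m ((restrictD σ).obj (Q.obj Lc))) (hψ : PcHom ψ) :
    IsPseudoCoherent S m ((restrictD σ).obj ((restrictD ψ).obj
      (Q.obj ((Groth.Agent.H35.FlatBC.extCx ψ).obj Lc)))) :=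
  isPseudoCoherent_of_iso (GBaseIso σ Lc ψ) m
    (isPseudoCoherent_G σ Lc hfl b m hv h1 _ hψ)

end BC

end Groth.Agent.H35.RelPCTensor
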