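import Mathlib
import Groth.Agent.H35.RestrictTor
import Groth.Prelude.Def_DualSh

/-!
Relatively perfect objects `Dual2.IsRelPerfect R A K` (helper35): S7073, S7093.
-/

set_option autoImplicit false
universe u
open CategoryTheory CategoryTheory.Limits Pretriangulated ZeroObject
attribute [local instance] HasDerivedCategory.standard

namespace Groth.Agent.H35.RelPerf

open DRing DerivedCategory Groth.Agent.H35.TorAmp

variable (R A : Type u) [CommRing R] [CommRing A] [Algebra R A]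

/-- finite tor dimension over `R` after restriction of scalars. -/
def FinTor (K : Dual.D A) : Prop :=
  HasFiniteTorDimCx R ((restrictD (algebraMap R A)).obj K)

variable {R A}

lemma finTor_of_iso {K L : Dual.D A} (e : K ≅ L) (h : FinTor R A K) : FinTor R A L := by
  obtain ⟨a, b, h⟩ := h
  exact ⟨a, b, hasTorAmplitudeIn_of_iso ((restrictD (algebraMap R A)).mapIso e) h⟩

lemma finTor_of_isZero {K : Dual.D A} (h : IsZero K) : FinTor R A K :=
  ⟨0, 0, hasTorAmplitudeIn_of_isZero ((restrictD (algebraMap R A)).map_isZero h)⟩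

lemma finTor_shift {K : Dual.D A} (h : FinTor R A K) (n : ℤ) : FinTor R A (K⟦n⟧) := by
  obtain ⟨a, b, h⟩ := h
  exact ⟨a - n, b - n, hasTorAmplitudeIn_of_iso
    (((restrictD (algebraMap R A)).commShiftIso n).app K).symm
    (hasTorAmplitudeIn_shift h n (a - n) (b - n) (by omega) (by omega))⟩

lemma finTor_obj₂ (T : Triangle (Dual.D A)) (hT : T ∈ distTriang _) (h₁ : FinTor R A T.obj₁)
    (h₃ : FinTor R A T.obj₃) : FinTor R A T.obj₂ := by
  obtain ⟨a₁, b₁, h₁⟩ := h₁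
  obtain ⟨a₃, b₃, h₃⟩ := h₃
  have hT' := (restrictD (algebraMap R A)).map_distinguished T hT
  exact ⟨min a₁ a₃, max b₁ b₃, hasTorAmplitudeIn_obj₂ _ hT' (min a₁ a₃) (max b₁ b₃)
    (hasTorAmplitudeIn_mono (min_le_left _ _) (le_max_left _ _) h₁)
    (hasTorAmplitudeIn_mono (min_le_right _ _) (le_max_right _ _) h₃)⟩

lemma finTor_of_retract {K M : Dual.D A} (i : K ⟶ M) (p : M ⟶ K) (hip : i ≫ p = 𝟙 K)
    (h : FinTor R A M) : FinTor R A K := by
  obtain ⟨a, b, h⟩ := h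
  refine ⟨a, b, hasTorAmplitudeIn_of_hasFlatModel (hasFlatModel_of_retract
    ((restrictD (algebraMap R A)).map i) ((restrictD (algebraMap R A)).map p) ?_
    (hasFlatModel_of_hasTorAmplitudeIn h))⟩
  rw [← Functor.map_comp, hip, CategoryTheory.Functor.map_id]

/-! ### pseudo-coherence -/

lemma pc'_of_iso {K L : Dual.D A} (e : K ≅ L) (h : IsPseudoCoherent' A K) :
    IsPseudoCoherent' A L := by
  rw [H56.isPseudoCoherent'_iff_forall] at h ⊢
  exact fun m => MPCoh.isPseudoCoherent_of_iso e (h m)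

lemma pc'_of_isZero {K : Dual.D A} (h : IsZero K) : IsPseudoCoherent' A K := by
  rw [H56.isPseudoCoherent'_iff_forall]
  exact fun m => H56.isPseudoCoherent_of_isZero h m

lemma pc'_shift {K : Dual.D A} (h : IsPseudoCoherent' A K) (n : ℤ) :
    IsPseudoCoherent' A (K⟦n⟧) := by
  rw [H56.isPseudoCoherent'_iff_forall] at h ⊢
  exact fun m => MPCoh.isPseudoCoherent_shift (h (m + n)) n m rfl

lemma pc'_obj₂ (T : Triangle (Dual.D A)) (hT : T ∈ distTriang _)
    (h₁ : IsPseudoCoherent' A T.obj₁) (h₃ : IsPseudoCoherent' A T.obj₃) :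
    IsPseudoCoherent' A T.obj₂ := by
  rw [H56.isPseudoCoherent'_iff_forall] at h₁ h₃ ⊢
  exact fun m => MPCoh.isPseudoCoherent_obj₂ T hT m (h₁ m) (h₃ m)

/-! ### relatively perfect objects -/

lemma isRelPerfect_of_iso {K L : Dual.D A} (e : K ≅ L) (h : Dual2.IsRelPerfect R A K) :
    Dual2.IsRelPerfect R A L :=
  ⟨pc'_of_iso e h.1, finTor_of_iso e h.2⟩

lemma isRelPerfect_of_isZero {K : Dual.D A} (h : IsZero K) : Dual2.IsRelPerfect R A K :=
  ⟨pc'_of_isZero h, finTor_of_isZero h⟩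

lemma isRelPerfect_shift {K : Dual.D A} (h : Dual2.IsRelPerfect R A K) (n : ℤ) :
    Dual2.IsRelPerfect R A (K⟦n⟧) :=
  ⟨pc'_shift h.1 n, finTor_shift h.2 n⟩

lemma isRelPerfect_obj₂ (T : Triangle (Dual.D A)) (hT : T ∈ distTriang _)
    (h₁ : Dual2.IsRelPerfect R A T.obj₁) (h₃ : Dual2.IsRelPerfect R A T.obj₃) :
    Dual2.IsRelPerfect R A T.obj₂ :=
  ⟨pc'_obj₂ T hT h₁.1 h₃.1, finTor_obj₂ T hT h₁.2 h₃.2⟩

lemma isRelPerfect_of_biprod (X Y : Dual.D A) (h : Dual2.IsRelPerfect R A (X ⊞ Y)) :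
    Dual2.IsRelPerfect R A X ∧ Dual2.IsRelPerfect R A Y := by
  obtain ⟨pX, pY⟩ := H56.isPseudoCoherent'_of_biprod X Y h.1
  exact ⟨⟨pX, finTor_of_retract biprod.inl biprod.fst biprod.inl_fst h.2⟩,
    ⟨pY, finTor_of_retract biprod.inr biprod.snd biprod.inr_snd h.2⟩⟩

variable (R A)

/-- S7093. -/
theorem isRelPerfect_isTriangulated :
    ObjectProperty.IsTriangulated (C := Dual.D A) (fun K => Dual2.IsRelPerfect R A K) ∧
      ObjectProperty.IsClosedUnderIsomorphisms (C := Dual.D A)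
        (fun K => Dual2.IsRelPerfect R A K) ∧
      ∀ X Y : Dual.D A, Dual2.IsRelPerfect R A (X ⊞ Y) →
        Dual2.IsRelPerfect R A X ∧ Dual2.IsRelPerfect R A Y := by
  refine ⟨?_, ⟨fun e h => isRelPerfect_of_iso e h⟩, fun X Y h => isRelPerfect_of_biprod X Y h⟩
  haveI : ObjectProperty.ContainsZero (C := Dual.D A) (fun K => Dual2.IsRelPerfect R A K) :=
    ⟨⟨0, isZero_zero _, isRelPerfect_of_isZero (isZero_zero _)⟩⟩
  haveI : ObjectProperty.IsStableUnderShift (C := Dual.D A)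
      (fun K => Dual2.IsRelPerfect R A K) ℤ :=
    ⟨fun n => ⟨fun K hK => isRelPerfect_shift hK n⟩⟩
  haveI : ObjectProperty.IsTriangulatedClosed₂ (C := Dual.D A)
      (fun K => Dual2.IsRelPerfect R A K) :=
    ⟨fun T hT h₁ h₃ => ObjectProperty.le_isoClosure _ _ (isRelPerfect_obj₂ T hT h₁ h₃)⟩
  exact {}

/-- S7073 (flatness suffices). -/
theorem isRelPerfect_of_isPerfect [Module.Flat R A] (K : Dual.D A) (hK : IsPerfect A K) :
    Dual2.IsRelPerfect R A K := by
  obtain ⟨hpc, a, b, hamp⟩ := (isPerfect_iff K).1 hK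
  have hB : HasTorAmplitudeIn R (-((0 : ℕ) : ℤ)) 0 (Dual.inD R A) :=
    (hasTorDimLE_iff A 0).1 ((hasTorDimLE_zero_iff_flat A).2 inferInstance)
  exact ⟨hpc, a - (0 : ℕ), b, hasTorAmplitudeIn_restrictD R A 0 hB K a b hamp⟩

end Groth.Agent.H35.RelPerf
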