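import Groth.Agent.H35.RelProps
import Groth.Agent.H35.BcRHom
import Groth.Agent.H35.DTenExact
import Groth.Agent.S13893
import Groth.Agent.H33.RHomModel
import Groth.Agent.H35.LBCpc
import Groth.Agent.H35.SplitTrunc
import Groth.Agent.H35.TorAmp
import Groth.Agent.H12.HomSingleRing

/-!
Properties of the mixed derived tensor product `K ↦ K ⊗^L_R N` (weakly exact; preserves small
coproducts for `N` represented by a K-projective K-flat complex), and boundedness above of
`RHom(A, R)` for `A` perfect over `R` (helper35).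
-/

set_option autoImplicit false
set_option linter.unusedSectionVars false
set_option linter.style.haveILetI false
universe v' u' v'' u'' u
open CategoryTheory CategoryTheory.Limits MonoidalCategory
attribute [local instance] HasDerivedCategory.standard

namespace Groth.Agent.H35.RelPropsGP

open DTen Groth.Agent.H35.TriChase Groth.Agent.H35.RelCounit Groth.Agent.H33.RHomModel

lemma weakExact_of_iso {C : Type u'} [Category.{v'} C] [Preadditive C] [HasZeroObject C]
    [HasShift C ℤ] [∀ n : ℤ, (shiftFunctor C n).Additive] [Pretriangulated C]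
    {D : Type u''} [Category.{v''} D] [Preadditive D] {F G : C ⥤ D} (e : F ≅ G)
    (hF : WeakExact F) : WeakExact G where
  zero p q h := by
    have h1 := hF.zero p q h
    have n1 := e.hom.naturality p
    have n2 := e.hom.naturality q
    rw [← cancel_epi (e.hom.app _), ← reassoc_of% n1, ← n2, reassoc_of% h1, zero_comp, comp_zero]
  exact {a b c} p q h S u hu := by
    have n1 := e.inv.naturality p
    have n2 := e.inv.naturality q
    obtain ⟨v, hv⟩ := hF.exact p q h (u ≫ e.inv.app b) (by
      rw [Category.assoc, ← n2, reassoc_of% hu, zero_comp])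
    refine ⟨v ≫ e.hom.app a, ?_⟩
    rw [Category.assoc, ← e.hom.naturality p, reassoc_of% hv, Iso.inv_hom_id_app, Category.comp_id]

variable {R A : Type u} [CommRing R] [CommRing A] (φ : R →+* A)
  [DTen.HasLTen A] [DTen.HasLBase φ] [DTen.HasLTenMix φ]

/-- `(K ⊗^L_R A) ⊗^L_A N ≅ K ⊗^L_R N`, naturally in `K`. -/
noncomputable def gpIso (N : Dual.D A) : LBase φ ⋙ tensorRightD A N ≅ GP φ N :=
  NatIso.ofComponents
    (fun K => haveI := Groth.Agent.S13893.result R A φ K N; asIso ((split φ).app (K, N)))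
    (fun {K K'} f => (split φ).naturality (X := (K, N)) (Y := (K', N)) (Prod.mkHom f (𝟙 N)))

lemma weakExact_GP (N : Dual.D A) : WeakExact (GP φ N) := by
  refine weakExact_of_iso (gpIso φ N) ⟨fun p q h => ?_, fun p q h S u hu => ?_⟩
  · exact (Groth.Agent.H35.DTenExact.weakExact_tensorRightD N).zero _ _
      (Groth.Agent.H35.BcRHom.DT_LBase φ p q h)
  · exact (Groth.Agent.H35.DTenExact.weakExact_tensorRightD N).exact _ _
      (Groth.Agent.H35.BcRHom.DT_LBase φ p q h) u hu

lemma preservesCoproducts_GP (G : GCx A) (κ : Type u) :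
    PreservesColimitsOfShape (Discrete κ) (GP φ (DerivedCategory.Q.obj G.P)) := by
  haveI : PreservesColimitsOfShape (Discrete κ) (LBase φ) :=
    ((baseAdj φ).leftAdjoint_preservesColimits).preservesColimitsOfShape
  haveI : PreservesColimitsOfShape (Discrete κ) (tensorRightD A (DerivedCategory.Q.obj G.P)) :=
    ((adjD G).leftAdjoint_preservesColimits).preservesColimitsOfShape
  exact preservesColimitsOfShape_of_natIso (gpIso φ (DerivedCategory.Q.obj G.P))


section Bounded

open Groth.Agent.H35.WayOut Groth.Agent.H35.RelProps DerivedCategory DerivedCategory.TStructure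

variable [DTen.HasRHomRel φ]

lemma isLE_RHomRel_unit (hA : DRing.IsPerfect R ((DRing.restrictD φ).obj (DTen.unit A))) :
    ∃ b : ℤ, ((RHomRel φ).obj (DTen.unit R)).IsLE b := by
  obtain ⟨E, a, b, hv, hp, ⟨e⟩⟩ := hA
  refine ⟨-a, ?_⟩
  rw [DerivedCategory.isLE_iff]
  intro i hi
  obtain ⟨ℓ⟩ := Groth.Agent.H12.HomSingleRing.nonempty_linearEquiv_Hi
    ((RHomRel φ).obj (DTen.unit R)) i
  have hU : (DTen.unit R).IsLE 0 :=
    Groth.Agent.H35.LBC.isLE_toD_of_vanishesAbove (𝟙_ (DRing.Cx R)) 0
      (fun j hj => HomologicalComplex.isZero_single_obj_X (ComplexShape.up ℤ) 0 _ j (by omega))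
  haveI : ((DTen.unit R)⟦i⟧).IsLE (-i) := t.isLE_shift (DTen.unit R) 0 i (-i) (by omega)
  haveI : ((DTen.unit R)⟦i⟧).IsLE (a - 1) := t.isLE_of_le ((DTen.unit R)⟦i⟧) (-i) (a - 1) (by omega)
  have hx : ∀ x : sA A ⟶ ((RHomRel φ).obj (DTen.unit R))⟦i⟧, x = 0 := by
    intro x
    have hg0 : ((shAdj i).homEquiv (sA A) _).symm x = 0 := by
      apply ((relAdj φ).homEquiv _ _).symm.injective
      rw [Adjunction.homAddEquiv_symm_zero]
      let ι : (DRing.toD E)⟦-i⟧ ≅ (DRing.restrictD φ).obj (tst A i) :=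
        (shiftFunctor (Dual.D R) (-i)).mapIso e ≪≫ (resTstIso φ i).symm
      have h1 : ι.hom ≫ ((relAdj φ).homEquiv _ _).symm (((shAdj i).homEquiv (sA A) _).symm x) =
          0 := by
        apply ((shAdj i).homEquiv (DRing.toD E) (DTen.unit R)).injective
        rw [Groth.Agent.H35.SplitTrunc.hom_eq_zero_of_projective E b (a - 1)
          (fun j hj => hv j (Or.inr hj)) (fun j hj => hv j (Or.inl (by omega)))
          (fun j => (hp j).2) _ ((shAdj i).homEquiv (DRing.toD E) (DTen.unit R) _)]
        rw [Adjunction.homEquiv_unit, Functor.map_zero, comp_zero]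
      exact (cancel_epi ι.hom).1 (h1.trans comp_zero.symm)
    have h2 : x = (shAdj i).homEquiv (sA A) _ (((shAdj i).homEquiv (sA A) _).symm x) := by
      rw [Equiv.apply_symm_apply]
    rw [h2, hg0, Adjunction.homEquiv_unit, Functor.map_zero, comp_zero]
  have : Subsingleton ((homologyFunctor (ModuleCat.{u} A) i).obj ((RHomRel φ).obj (DTen.unit R))) :=
    ⟨fun x y => by
      rw [← ℓ.apply_symm_apply x, ← ℓ.apply_symm_apply y, hx (ℓ.symm x), hx (ℓ.symm y)]⟩
  exact ModuleCat.isZero_of_subsingleton _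

lemma exists_GCx_model (hA : DRing.IsPerfect R ((DRing.restrictD φ).obj (DTen.unit A))) :
    ∃ G : GCx A, Nonempty (DerivedCategory.Q.obj G.P ≅ (RHomRel φ).obj (DTen.unit R)) := by
  obtain ⟨b, hb⟩ := isLE_RHomRel_unit φ hA
  haveI := hb
  obtain ⟨F, hF, hfree, ⟨e⟩⟩ :=
    Groth.Agent.H35.TorAmp.exists_free_model_of_isLE ((RHomRel φ).obj (DTen.unit R)) b
  exact ⟨GCx.ofBoundedAbove F b hF (fun i => by haveI := hfree i; infer_instance), ⟨e⟩⟩

end Bounded

end Groth.Agent.H35.RelPropsGP
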