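import Groth.Agent.H35.ShiftRep
import Groth.Agent.H35.DTenUnit
import Groth.Agent.H35.LTensorCxLib

/-!
The projection formula is compatible with shifts in the first variable; the comparison
`(- ⊗^L_R QP) ⟶ RHomRel φ` is an isomorphism at all shifts of the unit complex (helper35).
-/

set_option autoImplicit false
set_option backward.isDefEq.respectTransparency false
set_option linter.unusedSectionVars false
set_option linter.style.haveILetI false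
universe u
open CategoryTheory CategoryTheory.Limits MonoidalCategory
attribute [local instance] HasDerivedCategory.standard

namespace Groth.Agent.H35.RelShiftBase

open DTen Groth.Agent.H35.MixPF Groth.Agent.H35.ShiftRep Groth.Agent.H35.RelCounit
  Groth.Agent.H35.RelData

variable {R A : Type u} [CommRing R] [CommRing A] (φ : R →+* A)

/-- `ext (K⟦x⟧) ≅ (ext K)⟦x⟧` -/
noncomputable abbrev extShiftIso (K : DRing.Cx R) (x : ℤ) :
    (extCx φ).obj (K⟦x⟧) ≅ ((extCx φ).obj K)⟦x⟧ :=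
  ((extCx φ).commShiftIso x).app K

/-- `K⟦x⟧ ⊗ L ≅ (K ⊗ L)⟦x⟧` -/
noncomputable abbrev sh₁ {B : Type u} [CommRing B] (K L : DRing.Cx B) (x : ℤ) :
    ((K⟦x⟧ ⊗ L : DRing.Cx B)) ≅ ((K ⊗ L : DRing.Cx B))⟦x⟧ :=
  CochainComplex.mapBifunctorShift₁Iso K L (curriedTensor (ModuleCat.{u} B)) x

/-- The projection formula is compatible with shifts in the first variable. -/
lemma pfCx_shift (K : DRing.Cx R) (N : DRing.Cx A) (x : ℤ) :
    (pfCx φ (K⟦x⟧) N).hom ≫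
        (resCx φ).map (((extShiftIso φ K x).hom ▷ N) ≫ (sh₁ ((extCx φ).obj K) N x).hom) ≫
          (resShiftIso φ _ x).hom =
      (sh₁ K ((resCx φ).obj N) x).hom ≫ (pfCx φ K N).hom⟦x⟧' := by
  refine HomologicalComplex.hom_ext _ _ (fun n => HomologicalComplex.mapBifunctor.hom_ext (fun p q h => ?_))
  have hpq : p + q = n := h
  erw [HomologicalComplex.comp_f, HomologicalComplex.comp_f, HomologicalComplex.comp_f,
    ι_pfCx_assoc φ (K⟦x⟧) N p q n hpq]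
  erw [CochainComplex.ι_mapBifunctorShift₁Iso_hom_f_assoc K ((resCx φ).obj N) _ x p q n hpq (p + x) (n + x) rfl rfl]
  erw [CochainComplex.shiftFunctor_map_f' (pfCx φ K N).hom x n]
  simp only [CochainComplex.shiftFunctorObjXIso, HomologicalComplex.XIsoOfEq_rfl, Iso.refl_hom,
    Iso.refl_inv, Category.id_comp]
  have h1 : HomologicalComplex.ιTensorObj ((extCx φ).obj (K⟦x⟧)) N p q n hpq ≫
      (((extShiftIso φ K x).hom ▷ N) ≫ (sh₁ ((extCx φ).obj K) N x).hom).f n =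
      HomologicalComplex.ιTensorObj ((extCx φ).obj K) N (p + x) q (n + x) (by omega) := by
    erw [HomologicalComplex.comp_f]
    change _ ≫ (HomologicalComplex.mapBifunctorMap (extShiftIso φ K x).hom (𝟙 N) _ _).f n ≫ _ = _
    erw [HomologicalComplex.ι_mapBifunctorMap_assoc]
    erw [CochainComplex.ι_mapBifunctorShift₁Iso_hom_f ((extCx φ).obj K) N _ x p q n hpq (p + x) (n + x) rfl rfl]
    simp only [CochainComplex.shiftFunctorObjXIso, HomologicalComplex.XIsoOfEq_rfl, Iso.refl_hom,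
      Iso.refl_inv, Category.comp_id]
    have e1 : (extShiftIso φ K x).hom.f p = 𝟙 _ := rfl
    have e2 : HomologicalComplex.Hom.f (𝟙 N) q = 𝟙 _ := rfl
    erw [e1, e2]
    simp only [CategoryTheory.Functor.map_id, NatTrans.id_app, Category.id_comp]
    have e3 : ((curriedTensor (ModuleCat.{u} A)).map (𝟙 (((extCx φ).obj K).X (p + x)))).app (N.X q) =
        𝟙 _ := by
      rw [CategoryTheory.Functor.map_id]; rfl
    rw [e3]
    exact Category.id_comp _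
  have e4 : ((curriedTensor (ModuleCat.{u} R)).map (𝟙 (K.X (p + x)))).app (((resCx φ).obj N).X q) =
      𝟙 _ := by
    rw [CategoryTheory.Functor.map_id]; rfl
  rw [e4]
  refine Eq.trans ?_ (Category.id_comp _).symm
  erw [ι_pfCx φ K N (p + x) q (n + x) (by omega)]
  erw [HomologicalComplex.comp_f, Functor.mapHomologicalComplex_map_f]
  have e5 : (resShiftIso φ ((extCx φ).obj K ⊗ N) x).hom.f n = 𝟙 _ := rfl
  erw [e5, Category.comp_id, ← Functor.map_comp, h1]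
  rfl


/-- naturality of `sh₁` in the second variable -/
lemma sh₁_nat_right {B : Type u} [CommRing B] (K : DRing.Cx B) {L L' : DRing.Cx B} (g : L ⟶ L')
    (x : ℤ) :
    ((K⟦x⟧ : DRing.Cx B) ◁ g) ≫ (sh₁ K L' x).hom = (sh₁ K L x).hom ≫ (K ◁ g)⟦x⟧' :=
  (NatTrans.shift_app_comm ((curriedTensor (ModuleCat.{u} B)).map₂CochainComplex.flip.map g) x K).symm


section Base

open Groth.Agent.H53

variable [DTen.HasLTenMix φ] [DTen.HasRHomRel φ] (D : Data φ)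

/-- the morphism `(Q(ext K' ⊗ P))|_R ⟶ Q K'` induced by the counit, for `K'` K-flat -/
noncomputable def zeta (K' : DRing.Cx R) (hK : DRing.IsKFlat R K') :
    (DRing.restrictD φ).obj (DerivedCategory.Q.obj ((mixT φ).obj (K', D.P))) ⟶
      DerivedCategory.Q.obj K' :=
  haveI := MixComp.isIso_εMix φ K' D.P hK D.hP
  (DRing.restrictD φ).map (inv ((εMix φ).app (K', D.P))) ≫ D.c.app (DerivedCategory.Q.obj K')

lemma isRep_zeta (K' : DRing.Cx R) (hK : DRing.IsKFlat R K') :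
    IsRep φ (zeta φ D K' hK) (K' ⊗ D.J) ((pfCx φ K' D.P).inv ≫ K' ◁ D.e)
      ((ρ_ K').inv ≫ K' ◁ D.j) := by
  haveI := MixComp.isIso_εMix φ K' D.P hK D.hP
  dsimp only [IsRep, zeta]
  have h := counit_app_fac φ D.P D.J D.e D.j D.hj K'
  rw [α₁_app] at h
  rw [Category.assoc]
  erw [h]
  simp only [Category.assoc]
  rw [← Functor.map_comp_assoc, IsIso.inv_hom_id, CategoryTheory.Functor.map_id, Category.id_comp,
    Functor.map_comp]

/-- `τ` is an isomorphism at all shifts of the unit complex. -/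
theorem isIso_tau_unit_shift (k : ℤ) :
    IsIso (D.tau.app (DerivedCategory.Q.obj ((𝟙_ (DRing.Cx R))⟦k⟧))) := by
  have hU := isKFlat_unit R
  have hUk : DRing.IsKFlat R ((𝟙_ (DRing.Cx R))⟦k⟧) := DTenUnit.isKFlat_unit_shift k
  haveI := MixComp.isIso_εMix φ (𝟙_ (DRing.Cx R)) D.P hU D.hP
  haveI := MixComp.isIso_εMix φ ((𝟙_ (DRing.Cx R))⟦k⟧) D.P hUk D.hP
  let u : (mixT φ).obj ((𝟙_ (DRing.Cx R))⟦k⟧, D.P) ≅ ((mixT φ).obj (𝟙_ (DRing.Cx R), D.P))⟦k⟧ :=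
    whiskerRightIso (extShiftIso φ (𝟙_ (DRing.Cx R)) k) D.P ≪≫
      sh₁ ((extCx φ).obj (𝟙_ (DRing.Cx R))) D.P k
  let w : (((𝟙_ (DRing.Cx R))⟦k⟧ : DRing.Cx R) ⊗ D.J : DRing.Cx R) ≅
      ((𝟙_ (DRing.Cx R) ⊗ D.J : DRing.Cx R))⟦k⟧ := sh₁ (𝟙_ (DRing.Cx R)) D.J k
  let v : ((𝟙_ (DRing.Cx R))⟦k⟧ : DRing.Cx R) ≅ (𝟙_ (DRing.Cx R))⟦k⟧ :=
    (ρ_ ((𝟙_ (DRing.Cx R))⟦k⟧ : DRing.Cx R)).symm ≪≫ sh₁ (𝟙_ (DRing.Cx R)) (𝟙_ (DRing.Cx R)) k ≪≫
      (shiftFunctor (DRing.Cx R) k).mapIso (ρ_ (𝟙_ (DRing.Cx R)))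
  have h0 := isRep_zeta φ D (𝟙_ (DRing.Cx R)) hU
  have ha : ((pfCx φ ((𝟙_ (DRing.Cx R))⟦k⟧) D.P).inv ≫ ((𝟙_ (DRing.Cx R))⟦k⟧ : DRing.Cx R) ◁ D.e) ≫
        w.hom =
      (resCx φ).map u.hom ≫ (resShiftIso φ ((mixT φ).obj (𝟙_ (DRing.Cx R), D.P)) k).hom ≫
        ((pfCx φ (𝟙_ (DRing.Cx R)) D.P).inv ≫ (𝟙_ (DRing.Cx R)) ◁ D.e)⟦k⟧' := by
    have h1 := pfCx_shift φ (𝟙_ (DRing.Cx R)) D.P k
    have h2 := sh₁_nat_right (𝟙_ (DRing.Cx R)) D.e k
    have h1' : (sh₁ (𝟙_ (DRing.Cx R)) ((resCx φ).obj D.P) k).hom =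
        (pfCx φ ((𝟙_ (DRing.Cx R))⟦k⟧) D.P).hom ≫ (resCx φ).map u.hom ≫
          (resShiftIso φ ((mixT φ).obj (𝟙_ (DRing.Cx R), D.P)) k).hom ≫
            (pfCx φ (𝟙_ (DRing.Cx R)) D.P).inv⟦k⟧' := by
      have := congrArg (fun t => t ≫ (pfCx φ (𝟙_ (DRing.Cx R)) D.P).inv⟦k⟧') h1
      simp only [Category.assoc, ← Functor.map_comp, Iso.hom_inv_id, CategoryTheory.Functor.map_id,
        Category.comp_id] at this
      exact this.symm
    rw [Category.assoc, h2, h1', Functor.map_comp]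
    simp only [Category.assoc, Iso.inv_hom_id_assoc]
  have hb : ((ρ_ ((𝟙_ (DRing.Cx R))⟦k⟧ : DRing.Cx R)).inv ≫
        ((𝟙_ (DRing.Cx R))⟦k⟧ : DRing.Cx R) ◁ D.j) ≫ w.hom =
      v.hom ≫ ((ρ_ (𝟙_ (DRing.Cx R))).inv ≫ (𝟙_ (DRing.Cx R)) ◁ D.j)⟦k⟧' := by
    have h2 := sh₁_nat_right (𝟙_ (DRing.Cx R)) D.j k
    rw [Category.assoc, h2]
    dsimp only [v, Iso.trans_hom, Iso.symm_hom, Functor.mapIso_hom]
    simp only [Category.assoc, Functor.map_comp, Iso.map_hom_inv_id_assoc]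
  have h1 := (h0.shift φ k).of_iso φ u.hom v w
    ((pfCx φ ((𝟙_ (DRing.Cx R))⟦k⟧) D.P).inv ≫ ((𝟙_ (DRing.Cx R))⟦k⟧ : DRing.Cx R) ◁ D.e)
    ((ρ_ ((𝟙_ (DRing.Cx R))⟦k⟧ : DRing.Cx R)).inv ≫ ((𝟙_ (DRing.Cx R))⟦k⟧ : DRing.Cx R) ◁ D.j) ha hb
  have h2 := isRep_zeta φ D ((𝟙_ (DRing.Cx R))⟦k⟧) hUk
  have hq : QuasiIso ((ρ_ ((𝟙_ (DRing.Cx R))⟦k⟧ : DRing.Cx R)).inv ≫
      ((𝟙_ (DRing.Cx R))⟦k⟧ : DRing.Cx R) ◁ D.j) := by
    have := Groth.Agent.H35.LTC.quasiIso_whiskerLeft ((𝟙_ (DRing.Cx R))⟦k⟧) hUk D.j D.hj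
    infer_instance
  have h3 := IsRep.unique φ hq h2 h1
  -- the isomorphism at the unit
  let tU : DerivedCategory.Q.obj ((mixT φ).obj (𝟙_ (DRing.Cx R), D.P)) ≅
      (RHomRel φ).obj (DerivedCategory.Q.obj (𝟙_ (DRing.Cx R))) :=
    (asIso ((εMix φ).app (𝟙_ (DRing.Cx R), D.P))).symm ≪≫ ω₀ φ D.P D.hP ≪≫ D.eP
  have htU : (DRing.restrictD φ).map tU.hom ≫ relEv φ _ = zeta φ D (𝟙_ (DRing.Cx R)) hU := by
    dsimp only [tU, zeta]
    rw [Iso.trans_hom, Functor.map_comp, Category.assoc]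
    congr 1
    exact D.base.symm
  obtain ⟨t', ht'⟩ := exists_iso_shift φ tU k
  rw [htU] at ht'
  let ωk : (GP φ (DerivedCategory.Q.obj D.P)).obj (DerivedCategory.Q.obj ((𝟙_ (DRing.Cx R))⟦k⟧)) ≅
      (RHomRel φ).obj (DerivedCategory.Q.obj ((𝟙_ (DRing.Cx R))⟦k⟧)) :=
    asIso ((εMix φ).app ((𝟙_ (DRing.Cx R))⟦k⟧, D.P)) ≪≫ DerivedCategory.Q.mapIso u ≪≫ t' ≪≫
      (RHomRel φ).mapIso (DerivedCategory.Q.mapIso v.symm)
  refine RelCounit.isIso_tau_app_of_eq φ D.P D.c _ ωk ?_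
  have hn := (relAdj φ).counit.naturality (DerivedCategory.Q.map v.inv)
  dsimp only [Functor.comp_obj, Functor.comp_map, Functor.id_obj, Functor.id_map] at hn
  dsimp only [ωk, Iso.trans_hom, Functor.mapIso_hom, asIso_hom, Iso.symm_hom]
  simp only [Functor.map_comp, Category.assoc]
  erw [hn, reassoc_of% ht', ← h3]
  dsimp only [zeta]
  rw [← Functor.map_comp_assoc, IsIso.hom_inv_id, CategoryTheory.Functor.map_id, Category.id_comp]

end Base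

end Groth.Agent.H35.RelShiftBase
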