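import Mathlib
import Groth.Agent.H35.SeqComplete

/-!
A module which is `SeqComplete` for each of finitely many elements is precomplete for the
adic topology of the ideal they generate.
-/

set_option autoImplicit false
universe u v

namespace Groth.Agent.H35

variable {A : Type u} [CommRing A] {M : Type v} [AddCommGroup M] [Module A M]

lemma cauchy_of_succ (I : Ideal A) (x : ℕ → M)
    (hx : ∀ n, x (n + 1) - x n ∈ (I ^ n • ⊤ : Submodule A M)) :
    ∀ {m n : ℕ}, m ≤ n → x m ≡ x n [SMOD (I ^ m • ⊤ : Submodule A M)] := by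
  intro m n hmn
  obtain ⟨d, rfl⟩ := Nat.exists_eq_add_of_le hmn
  clear hmn
  induction d with
  | zero => exact SModEq.refl _
  | succ d ih =>
    rw [SModEq.sub_mem] at ih ⊢
    have e : x m - x (m + (d + 1)) = (x m - x (m + d)) - (x (m + d + 1) - x (m + d)) := by
      rw [← Nat.add_assoc]
      abel
    rw [e]
    exact Submodule.sub_mem _ ih
      (Submodule.smul_mono_left (Ideal.pow_le_pow_right (Nat.le_add_right m d)) (hx (m + d)))

lemma pow_smul_mem_sup_pow (I' : Ideal A) (a : A) (i j : ℕ) (z : M)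
    (hz : z ∈ (I' ^ j • ⊤ : Submodule A M)) :
    a ^ i • z ∈ ((I' ⊔ Ideal.span {a}) ^ (i + j) • ⊤ : Submodule A M) := by
  refine Submodule.smul_induction_on hz ?_ ?_
  · intro r hr m _
    rw [smul_smul]
    refine Submodule.smul_mem_smul ?_ Submodule.mem_top
    rw [pow_add]
    exact Ideal.mul_mem_mul
      (Ideal.pow_mem_pow (Ideal.mem_sup_right (Ideal.mem_span_singleton_self a)) i)
      (Ideal.pow_right_mono le_sup_left j hr)
  · intro z₁ z₂ h₁ h₂
    rw [smul_add]
    exact Submodule.add_mem _ h₁ h₂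

lemma decomp (I' : Ideal A) (a : A) : ∀ (n : ℕ) (z : M),
    z ∈ ((I' ⊔ Ideal.span {a}) ^ n • ⊤ : Submodule A M) →
    ∃ y : ℕ → M, (∀ i, y i ∈ (I' ^ (n - i) • ⊤ : Submodule A M)) ∧
      z = ∑ i ∈ Finset.range (n + 1), a ^ i • y i := by
  intro n
  induction n with
  | zero =>
    intro z _
    refine ⟨fun _ => z, fun i => ?_, by simp⟩
    simp
  | succ n ih =>
    intro z hz
    rw [pow_succ', Submodule.mul_smul] at hz
    refine Submodule.smul_induction_on hz ?_ ?_
    · intro r hr m hm
      obtain ⟨y, hy, rfl⟩ := ih m hm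
      obtain ⟨r', hr', r'', hr'', rfl⟩ := Submodule.mem_sup.1 hr
      obtain ⟨b, rfl⟩ := Ideal.mem_span_singleton'.1 hr''
      refine ⟨fun j => (if j ≤ n then r' • y j else 0) + (if j = 0 then 0 else b • y (j - 1)),
        ?_, ?_⟩
      · intro j
        refine Submodule.add_mem _ ?_ ?_
        · split_ifs with hj
          · have e : n + 1 - j = (n - j) + 1 := by omega
            rw [e, pow_succ', Submodule.mul_smul]
            exact Submodule.smul_mem_smul hr' (hy j)
          · exact Submodule.zero_mem _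
        · split_ifs with hj
          · exact Submodule.zero_mem _
          · have e : n + 1 - j = n - (j - 1) := by omega
            rw [e]
            exact Submodule.smul_mem _ b (hy (j - 1))
      · have h1 : ∑ j ∈ Finset.range (n + 1 + 1), a ^ j • (if j ≤ n then r' • y j else 0) =
            r' • ∑ i ∈ Finset.range (n + 1), a ^ i • y i := by
          rw [Finset.sum_range_succ, if_neg (by omega : ¬ (n + 1 ≤ n)), smul_zero, add_zero,
            Finset.smul_sum]
          refine Finset.sum_congr rfl fun j hj => ?_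
          rw [if_pos (Nat.lt_succ_iff.1 (Finset.mem_range.1 hj)), smul_comm]
        have h2 : ∑ j ∈ Finset.range (n + 1 + 1),
            a ^ j • (if j = 0 then 0 else b • y (j - 1)) =
            (b * a) • ∑ i ∈ Finset.range (n + 1), a ^ i • y i := by
          rw [Finset.sum_range_succ', if_pos rfl, smul_zero, add_zero, Finset.smul_sum]
          refine Finset.sum_congr rfl fun k _ => ?_
          rw [if_neg (by omega : ¬ (k + 1 = 0)), Nat.add_sub_cancel, smul_smul, smul_smul]
          congr 1
          ring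
        simp only [smul_add, Finset.sum_add_distrib]
        rw [h1, h2, add_smul]
    · rintro z₁ z₂ ⟨y₁, hy₁, e₁⟩ ⟨y₂, hy₂, e₂⟩
      refine ⟨y₁ + y₂, fun i => Submodule.add_mem _ (hy₁ i) (hy₂ i), ?_⟩
      rw [e₁, e₂, ← Finset.sum_add_distrib]
      refine Finset.sum_congr rfl fun i _ => ?_
      rw [Pi.add_apply, smul_add]

/-- Partial sum expansion of the solution of `t_n - a t_{n+1} = d_n`. -/
lemma sol_expansion (a : A) (d t : ℕ → M) (ht : ∀ n, t n - a • t (n + 1) = d n) (k : ℕ) :
    t 0 = ∑ i ∈ Finset.range k, a ^ i • d i + a ^ k • t k := by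
  induction k with
  | zero => simp
  | succ k ih =>
    have e : t k = d k + a • t (k + 1) := by
      rw [← ht k]
      abel
    rw [ih, Finset.sum_range_succ, e, smul_add, pow_succ, mul_smul]
    abel

theorem isPrecomplete_sup_span_singleton (I' : Ideal A) (a : A) (h : IsPrecomplete I' M)
    (ha : SeqComplete a M) : IsPrecomplete (I' ⊔ Ideal.span {a}) M := by
  refine ⟨fun x hx => ?_⟩
  have hx1 : ∀ n, x (n + 1) - x n ∈ ((I' ⊔ Ideal.span {a}) ^ n • ⊤ : Submodule A M) :=
    fun n => SModEq.sub_mem.1 (hx (Nat.le_succ n)).symm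
  have hdec : ∀ n, ∃ y : ℕ → M, (∀ i, y i ∈ (I' ^ (n - i) • ⊤ : Submodule A M)) ∧
      x (n + 1) - x n = ∑ i ∈ Finset.range (n + 1), a ^ i • y i :=
    fun n => decomp I' a n _ (hx1 n)
  choose y hy hxy using hdec
  have hw : ∀ i, ∃ d : M, ∀ k, d - ∑ j ∈ Finset.range k, y (i + j) i ∈
      (I' ^ k • ⊤ : Submodule A M) := by
    intro i
    have hc : ∀ k, (∑ j ∈ Finset.range (k + 1), y (i + j) i) - ∑ j ∈ Finset.range k, y (i + j) i ∈
        (I' ^ k • ⊤ : Submodule A M) := by
      intro k
      rw [Finset.sum_range_succ, add_sub_cancel_left]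
      have h1 := hy (i + k) i
      rwa [Nat.add_sub_cancel_left] at h1
    obtain ⟨d, hd⟩ := h.prec (f := fun k => ∑ j ∈ Finset.range k, y (i + j) i)
      (cauchy_of_succ I' (fun k => ∑ j ∈ Finset.range k, y (i + j) i) hc)
    exact ⟨d, fun k => SModEq.sub_mem.1 (hd k).symm⟩
  choose d hd using hw
  obtain ⟨t, ht, -⟩ := ha d
  have hxN : ∀ N, x N - x 0 =
      ∑ i ∈ Finset.range N, a ^ i • ∑ j ∈ Finset.range (N - i), y (i + j) i := by
    intro N
    rw [← Finset.sum_range_sub x N]
    simp only [hxy]
    rw [Finset.sum_comm' (t' := Finset.range N) (s' := fun i => Finset.Ico i N)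
      (h := fun n i => by
        simp only [Finset.mem_range, Finset.mem_Ico]
        omega)]
    refine Finset.sum_congr rfl fun i _ => ?_
    rw [Finset.sum_Ico_eq_sum_range, Finset.smul_sum]
  refine ⟨x 0 + t 0, fun N => ?_⟩
  rw [SModEq.sub_mem]
  have e : x N - (x 0 + t 0) = -(a ^ N • t N) +
      ∑ i ∈ Finset.range N, a ^ i • -(d i - ∑ j ∈ Finset.range (N - i), y (i + j) i) := by
    have e1 : x N = x 0 + ∑ i ∈ Finset.range N, a ^ i • ∑ j ∈ Finset.range (N - i), y (i + j) i := by
      rw [← hxN N]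
      abel
    rw [e1, sol_expansion a d t ht N]
    simp only [neg_sub, smul_sub, Finset.sum_sub_distrib]
    abel
  rw [e]
  refine Submodule.add_mem _ (Submodule.neg_mem _ ?_) (Submodule.sum_mem _ fun i hi => ?_)
  · exact Submodule.smul_mem_smul
      (Ideal.pow_mem_pow (Ideal.mem_sup_right (Ideal.mem_span_singleton_self a)) N)
      Submodule.mem_top
  · have h1 := pow_smul_mem_sup_pow I' a i (N - i) _ (Submodule.neg_mem _ (hd i (N - i)))
    rwa [Nat.add_sub_cancel' (le_of_lt (Finset.mem_range.1 hi))] at h1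

theorem isPrecomplete_span_finset (s : Finset A) (hs : ∀ a ∈ s, SeqComplete a M) :
    IsPrecomplete (Ideal.span (s : Set A)) M := by
  classical
  induction s using Finset.induction_on with
  | empty =>
    rw [Finset.coe_empty, Ideal.span_empty]
    infer_instance
  | insert a s has ih =>
    rw [Finset.coe_insert, Ideal.span_insert, sup_comm]
    exact isPrecomplete_sup_span_singleton _ a
      (ih fun b hb => hs b (Finset.mem_insert_of_mem hb)) (hs a (Finset.mem_insert_self a s))

theorem isPrecomplete_of_fg (I : Ideal A) (hI : I.FG) (h : ∀ f ∈ I, SeqComplete f M) :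
    IsPrecomplete I M := by
  obtain ⟨s, hs⟩ := hI
  have hs' : Ideal.span (s : Set A) = I := hs
  rw [← hs']
  exact isPrecomplete_span_finset s (fun a ha => h a (hs' ▸ Ideal.subset_span ha))

end Groth.Agent.H35
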