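import Groth.Agent.H35.RelData

/-!
Roof representations of morphisms `(QX)|_R ⟶ QY` in `D(R)` and their behaviour under shifts;
the shift of an isomorphism `QX ≅ RHomRel(QY)` (helper35).
-/

set_option autoImplicit false
set_option linter.unusedSectionVars false
set_option linter.style.haveILetI false
universe u
open CategoryTheory CategoryTheory.Limits MonoidalCategory
attribute [local instance] HasDerivedCategory.standard

namespace Groth.Agent.H35.ShiftRep

open DTen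

variable {R A : Type u} [CommRing R] [CommRing A] (φ : R →+* A)

/-- `res (Y⟦k⟧) ≅ (res Y)⟦k⟧` on complexes -/
noncomputable abbrev resShiftIso (Y : DRing.Cx A) (k : ℤ) :
    (resCx φ).obj (Y⟦k⟧) ≅ ((resCx φ).obj Y)⟦k⟧ :=
  ((resCx φ).commShiftIso k).app Y

/-- A morphism `ζ : (QX)|_R ⟶ QY` in `D(R)` is represented by the roof
`X|_R --a--> E <--b-- Y` of complexes. -/
def IsRep {X : DRing.Cx A} {Y : DRing.Cx R}
    (ζ : (DRing.restrictD φ).obj (DerivedCategory.Q.obj X) ⟶ DerivedCategory.Q.obj Y)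
    (E : DRing.Cx R) (a : (resCx φ).obj X ⟶ E) (b : Y ⟶ E) : Prop :=
  ζ ≫ DerivedCategory.Q.map b = (resFactors φ).hom.app X ≫ DerivedCategory.Q.map a

lemma IsRep.unique {X : DRing.Cx A} {Y : DRing.Cx R}
    {ζ ζ' : (DRing.restrictD φ).obj (DerivedCategory.Q.obj X) ⟶ DerivedCategory.Q.obj Y}
    {E : DRing.Cx R} {a : (resCx φ).obj X ⟶ E} {b : Y ⟶ E} (hb : QuasiIso b)
    (h : IsRep φ ζ E a b) (h' : IsRep φ ζ' E a b) : ζ = ζ' := by
  haveI : IsIso (DerivedCategory.Q.map b) := by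
    rw [DerivedCategory.isIso_Q_map_iff_quasiIso]; exact hb
  exact (cancel_mono (DerivedCategory.Q.map b)).1 (h.trans h'.symm)

/-- the shift of a morphism `(QX)|_R ⟶ QY`, as a morphism `(Q(X⟦k⟧))|_R ⟶ Q(Y⟦k⟧)`. -/
noncomputable def shiftζ {X : DRing.Cx A} {Y : DRing.Cx R}
    (ζ : (DRing.restrictD φ).obj (DerivedCategory.Q.obj X) ⟶ DerivedCategory.Q.obj Y) (k : ℤ) :
    (DRing.restrictD φ).obj (DerivedCategory.Q.obj (X⟦k⟧)) ⟶ DerivedCategory.Q.obj (Y⟦k⟧) :=
  (DRing.restrictD φ).map ((DerivedCategory.Q.commShiftIso k).hom.app X) ≫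
    ((DRing.restrictD φ).commShiftIso k).hom.app (DerivedCategory.Q.obj X) ≫ ζ⟦k⟧' ≫
      (DerivedCategory.Q.commShiftIso k).inv.app Y

lemma IsRep.shift {X : DRing.Cx A} {Y : DRing.Cx R}
    {ζ : (DRing.restrictD φ).obj (DerivedCategory.Q.obj X) ⟶ DerivedCategory.Q.obj Y}
    {E : DRing.Cx R} {a : (resCx φ).obj X ⟶ E} {b : Y ⟶ E} (h : IsRep φ ζ E a b) (k : ℤ) :
    IsRep φ (shiftζ φ ζ k) (E⟦k⟧) ((resShiftIso φ X k).hom ≫ a⟦k⟧') (b⟦k⟧') := by
  have h1 := NatTrans.shift_app_comm (resFactors φ).hom k X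
  simp only [Functor.commShiftIso_comp_hom_app, Functor.comp_obj] at h1
  have h2 := (DerivedCategory.Q.commShiftIso k).inv.naturality b
  have h3 := (DerivedCategory.Q.commShiftIso k).hom.naturality a
  have h4 : ζ⟦k⟧' ≫ (DerivedCategory.Q.map b)⟦k⟧' =
      ((resFactors φ).hom.app X)⟦k⟧' ≫ (DerivedCategory.Q.map a)⟦k⟧' := by
    rw [← Functor.map_comp, ← Functor.map_comp]
    exact congrArg _ h
  dsimp at h2 h3
  dsimp only [IsRep, shiftζ, resShiftIso]
  simp only [Category.assoc, Functor.map_comp]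
  simp only [Category.assoc] at h1
  rw [← h2, reassoc_of% h4, reassoc_of% h1, ← reassoc_of% h3, Iso.hom_inv_id_app]
  erw [Category.comp_id]
  rfl


lemma IsRep.of_iso {X X' : DRing.Cx A} {Y Y' : DRing.Cx R}
    {ζ : (DRing.restrictD φ).obj (DerivedCategory.Q.obj X) ⟶ DerivedCategory.Q.obj Y}
    {E E' : DRing.Cx R} {a : (resCx φ).obj X ⟶ E} {b : Y ⟶ E} (h : IsRep φ ζ E a b)
    (u : X' ⟶ X) (v : Y' ≅ Y) (w : E' ≅ E) (a' : (resCx φ).obj X' ⟶ E') (b' : Y' ⟶ E')
    (ha : a' ≫ w.hom = (resCx φ).map u ≫ a) (hb : b' ≫ w.hom = v.hom ≫ b) :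
    IsRep φ ((DRing.restrictD φ).map (DerivedCategory.Q.map u) ≫ ζ ≫ DerivedCategory.Q.map v.inv)
      E' a' b' := by
  dsimp only [IsRep] at h ⊢
  rw [← cancel_mono (DerivedCategory.Q.map w.hom)]
  have h1 := (resFactors φ).hom.naturality u
  dsimp at h1
  simp only [Category.assoc, ← Functor.map_comp, ha, hb, Iso.inv_hom_id_assoc]
  rw [h, Functor.map_comp, reassoc_of% h1]

section Adj

variable [DTen.HasRHomRel φ]

lemma exists_iso_shift {X : DRing.Cx A} {Y : DRing.Cx R}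
    (t : DerivedCategory.Q.obj X ≅ (RHomRel φ).obj (DerivedCategory.Q.obj Y)) (k : ℤ) :
    ∃ t' : DerivedCategory.Q.obj (X⟦k⟧) ≅ (RHomRel φ).obj (DerivedCategory.Q.obj (Y⟦k⟧)),
      (DRing.restrictD φ).map t'.hom ≫ relEv φ _ =
        shiftζ φ ((DRing.restrictD φ).map t.hom ≫ relEv φ _) k := by
  letI : (RHomRel φ).CommShift ℤ := (relAdj φ).rightAdjointCommShift ℤ
  haveI : (relAdj φ).CommShift ℤ := (relAdj φ).commShift_of_leftAdjoint ℤ
  refine ⟨(DerivedCategory.Q.commShiftIso k).app X ≪≫ (shiftFunctor (Dual.D A) k).mapIso t ≪≫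
    (((RHomRel φ).commShiftIso k).symm.app (DerivedCategory.Q.obj Y)) ≪≫
    (RHomRel φ).mapIso ((DerivedCategory.Q.commShiftIso k).symm.app Y), ?_⟩
  have h1 := (relAdj φ).shift_counit_app k (DerivedCategory.Q.obj Y)
  have h2 := (relAdj φ).counit.naturality ((DerivedCategory.Q.commShiftIso k).inv.app Y)
  have h3 := ((DRing.restrictD φ).commShiftIso k).hom.naturality t.hom
  dsimp at h2 h3
  dsimp only [shiftζ, Iso.trans_hom, Iso.app_hom, Functor.mapIso_hom, Iso.symm_hom, Iso.app_inv,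
    Iso.symm_inv]
  simp only [Functor.map_comp, Category.assoc]
  rw [h2, h1]
  simp only [Category.assoc]
  rw [← reassoc_of% h3]
  erw [Iso.hom_inv_id_app_assoc]

end Adj

end Groth.Agent.H35.ShiftRep
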