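import Mathlib

/-!
# Contracting homotopies in one degree and their spreading out (helper35)

* `exists_contraction` : for `X₁ → X₂ → X₃` exact with `X₂`, `X₃` and the cokernel of `X₂ → X₃`
  projective there are `s : X₃ → X₂`, `t : X₂ → X₁` with `d₁ t + s d₂ = id`.
* `exists_global_contraction` : such a contraction over a localization `S⁻¹R` descends to an identity
  `d₁ h_t + h_s d₂ = w • id` over `R` with `w ∈ S` (modules `X₂`, `X₃` finitely presented).
-/

set_option autoImplicit false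
universe u

namespace Groth.Agent.H35.SplitSpread

section A

variable {S : Type*} [CommRing S] {X₁ X₂ X₃ : Type*} [AddCommGroup X₁] [Module S X₁]
  [AddCommGroup X₂] [Module S X₂] [AddCommGroup X₃] [Module S X₃]

theorem exists_contraction [Module.Projective S X₂] [Module.Projective S X₃]
    (d₁ : X₁ →ₗ[S] X₂) (d₂ : X₂ →ₗ[S] X₃) (hex : Function.Exact d₁ d₂)
    (hQ : Module.Projective S (X₃ ⧸ LinearMap.range d₂)) :
    ∃ (s : X₃ →ₗ[S] X₂) (t : X₂ →ₗ[S] X₁), d₁ ∘ₗ t + s ∘ₗ d₂ = LinearMap.id := by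
  -- a section of the quotient map
  obtain ⟨j, hj⟩ := Module.projective_lifting_property (LinearMap.range d₂).mkQ
    (LinearMap.id : (X₃ ⧸ LinearMap.range d₂) →ₗ[S] _) (Submodule.mkQ_surjective _)
  -- `ρ = id - j ∘ mkQ` has image in `range d₂`
  let ρ : X₃ →ₗ[S] X₃ := LinearMap.id - j ∘ₗ (LinearMap.range d₂).mkQ
  have hρ : ∀ x, ρ x ∈ LinearMap.range d₂ := by
    intro x
    rw [← Submodule.Quotient.mk_eq_zero, ← Submodule.mkQ_apply]
    have h1 : (LinearMap.range d₂).mkQ (j ((LinearMap.range d₂).mkQ x)) =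
        (LinearMap.range d₂).mkQ x := LinearMap.congr_fun hj _
    simp only [ρ, LinearMap.sub_apply, LinearMap.id_apply, LinearMap.comp_apply, map_sub, h1,
      sub_self]
  obtain ⟨s, hs⟩ := Module.projective_lifting_property d₂.rangeRestrict
    (ρ.codRestrict (LinearMap.range d₂) hρ) (LinearMap.surjective_rangeRestrict d₂)
  have hs' : ∀ x, d₂ (s x) = ρ x := fun x => by
    have := congrArg Subtype.val (LinearMap.congr_fun hs x)
    exact this
  have hρd : ∀ x, ρ (d₂ x) = d₂ x := fun x => by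
    have h0 : (LinearMap.range d₂).mkQ (d₂ x) = 0 := by
      rw [Submodule.mkQ_apply, Submodule.Quotient.mk_eq_zero]
      exact LinearMap.mem_range_self d₂ x
    simp only [ρ, LinearMap.sub_apply, LinearMap.id_apply, LinearMap.comp_apply, h0, map_zero,
      sub_zero]
  -- `E = id - s ∘ d₂` has image in `ker d₂ = range d₁`
  let E : X₂ →ₗ[S] X₂ := LinearMap.id - s ∘ₗ d₂
  have hE : ∀ x, E x ∈ LinearMap.range d₁ := by
    intro x
    rw [← LinearMap.exact_iff.1 hex, LinearMap.mem_ker]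
    simp only [E, LinearMap.sub_apply, LinearMap.id_apply, LinearMap.comp_apply, map_sub, hs', hρd,
      sub_self]
  obtain ⟨t, ht⟩ := Module.projective_lifting_property d₁.rangeRestrict
    (E.codRestrict (LinearMap.range d₁) hE) (LinearMap.surjective_rangeRestrict d₁)
  refine ⟨s, t, ?_⟩
  ext x
  have h1 : d₁ (t x) = E x := congrArg Subtype.val (LinearMap.congr_fun ht x)
  simp only [LinearMap.add_apply, LinearMap.comp_apply, h1, E, LinearMap.sub_apply,
    LinearMap.id_apply, sub_add_cancel]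

end A

section B

variable {R : Type*} [CommRing R] (S : Submonoid R)
  {X₁ X₂ X₃ : Type*} [AddCommGroup X₁] [Module R X₁] [AddCommGroup X₂] [Module R X₂]
  [AddCommGroup X₃] [Module R X₃]
  {Y₁ Y₂ Y₃ : Type*} [AddCommGroup Y₁] [Module R Y₁] [AddCommGroup Y₂] [Module R Y₂]
  [AddCommGroup Y₃] [Module R Y₃]

theorem exists_global_contraction [Module.FinitePresentation R X₂]
    [Module.FinitePresentation R X₃]
    (f₁ : X₁ →ₗ[R] Y₁) (f₂ : X₂ →ₗ[R] Y₂) (f₃ : X₃ →ₗ[R] Y₃)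
    [IsLocalizedModule S f₁] [IsLocalizedModule S f₂] [IsLocalizedModule S f₃]
    (d₁ : X₁ →ₗ[R] X₂) (d₂ : X₂ →ₗ[R] X₃) (D₁ : Y₁ →ₗ[R] Y₂) (D₂ : Y₂ →ₗ[R] Y₃)
    (h₁ : D₁ ∘ₗ f₁ = f₂ ∘ₗ d₁) (h₂ : D₂ ∘ₗ f₂ = f₃ ∘ₗ d₂)
    (s : Y₃ →ₗ[R] Y₂) (t : Y₂ →ₗ[R] Y₁) (hst : D₁ ∘ₗ t + s ∘ₗ D₂ = LinearMap.id) :
    ∃ (w : S) (hs : X₃ →ₗ[R] X₂) (ht : X₂ →ₗ[R] X₁),
      d₁ ∘ₗ ht + hs ∘ₗ d₂ = (w : R) • LinearMap.id := by
  obtain ⟨hs, us, hus⟩ :=
    Module.FinitePresentation.exists_lift_of_isLocalizedModule S f₂ (s ∘ₗ f₃)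
  obtain ⟨ht, ut, hut⟩ :=
    Module.FinitePresentation.exists_lift_of_isLocalizedModule S f₁ (t ∘ₗ f₂)
  have key : f₂ ∘ₗ ((us : R) • (d₁ ∘ₗ ht) + (ut : R) • (hs ∘ₗ d₂)) =
      f₂ ∘ₗ (((us : R) * (ut : R)) • LinearMap.id) := by
    ext x
    have e1 : f₂ (d₁ (ht x)) = D₁ (f₁ (ht x)) := (LinearMap.congr_fun h₁ (ht x)).symm
    have e2 : f₁ (ht x) = ut • t (f₂ x) := LinearMap.congr_fun hut x
    have e3 : f₂ (hs (d₂ x)) = us • s (f₃ (d₂ x)) := LinearMap.congr_fun hus (d₂ x)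
    have e4 : f₃ (d₂ x) = D₂ (f₂ x) := (LinearMap.congr_fun h₂ x).symm
    have e5 : D₁ (t (f₂ x)) + s (D₂ (f₂ x)) = f₂ x := LinearMap.congr_fun hst (f₂ x)
    simp only [LinearMap.comp_apply, LinearMap.add_apply, LinearMap.smul_apply, map_add,
      map_smul, LinearMap.id_apply, e1, e2, e3, e4]
    rw [Submonoid.smul_def, Submonoid.smul_def, map_smul, smul_smul, smul_smul, mul_comm (ut : R),
      ← smul_add, e5]
  have : Module.Finite R X₂ := inferInstance
  obtain ⟨v, hv⟩ := Module.Finite.exists_smul_of_comp_eq_of_isLocalizedModule S f₂ _ _ key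
  refine ⟨v * us * ut, ((v : R) * (ut : R)) • hs, ((v : R) * (us : R)) • ht, ?_⟩
  have hv' : (v : R) • ((us : R) • (d₁ ∘ₗ ht) + (ut : R) • (hs ∘ₗ d₂)) =
      (v : R) • (((us : R) * (ut : R)) • LinearMap.id) := hv
  rw [LinearMap.comp_smul, LinearMap.smul_comp]
  rw [smul_add, smul_smul, smul_smul, smul_smul] at hv'
  rw [hv']
  simp only [Submonoid.coe_mul, mul_assoc]

end B

end Groth.Agent.H35.SplitSpread
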