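import Groth.Agent.H35.SplitSpread
import Groth.Agent.H35.MaxDescent
import Groth.Agent.H35.AdicBC
import Groth.Agent.H35.LocalSplit

/-!
# Splitting a complex of finite free modules near a prime where a fibre cohomology vanishes
(helper35)

* `exists_contraction_near_prime` : if `H^i(F ⊗ κ(p)) = 0` there are `w ∉ p` and maps `hs`, `ht`
  with `ht ≫ d + d ≫ hs = w • 𝟙` on `F^i`;
* `ext_map_smul_id` : extension of scalars is compatible with scalar multiples of identities;
* `exactAt_and_retract_of_contraction` : a contraction in degree `i` gives exactness at `i` and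
  makes `opcycles (i+1)` a retract of the term of degree `i + 1`.
-/

set_option autoImplicit false
set_option linter.style.haveILetI false
universe u
open CategoryTheory CategoryTheory.Limits TensorProduct
attribute [local instance] HasDerivedCategory.standard

namespace Groth.Agent.H35.SplitSpreadCx

open DRing Groth.Agent.H35.FlatBC Groth.Agent.H35.ComplBC Groth.Agent.H35.LBC
  Groth.Agent.H35.TorDescent Groth.Agent.H35.TorAmp Groth.Agent.H35.SplitSpread
  Groth.Agent.H12.FlatCx

variable {R : Type u} [CommRing R]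

/-- the unit `M → (B ⊗ M)|_R` of extension/restriction of scalars is a localization map -/
lemma isLocalizedModule_unit (S : Submonoid R) (B : Type u) [CommRing B] [Algebra R B]
    [IsLocalization S B] (M : ModuleCat.{u} R) :
    IsLocalizedModule S
      ((ModuleCat.extendRestrictScalarsAdj.{u, u, u} (algebraMap R B)).unit.app M).hom := by
  obtain ⟨θ, hθ⟩ := Groth.Agent.H35.AdicBC.exists_resExt_equiv (B := B) M
  have h : ((ModuleCat.extendRestrictScalarsAdj.{u, u, u} (algebraMap R B)).unit.app M).hom =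
      θ.symm.toLinearMap ∘ₗ TensorProduct.mk R B M 1 := by
    ext x
    show _ = θ.symm ((1 : B) ⊗ₜ[R] x)
    rw [← hθ x, LinearEquiv.symm_apply_apply]
  rw [h]
  haveI : IsLocalizedModule S (TensorProduct.mk R B M 1) :=
    IsLocalization.tensorProduct_isLocalizedModule S B
  exact IsLocalizedModule.of_linearEquiv S (TensorProduct.mk R B M 1) θ.symm

lemma ext_map_smul_id {B : Type u} [CommRing B] (ψ : R →+* B) (r : R) (M : ModuleCat.{u} R) :
    (ext ψ).map (r • 𝟙 M) = ψ r • 𝟙 ((ext ψ).obj M) := by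
  ext x
  letI : Module R B := Module.compHom B ψ
  show (1 : B) ⊗ₜ[R] (r • x) = (ψ r * 1) ⊗ₜ[R] x
  rw [← TensorProduct.smul_tmul]
  rfl

/-- If `H^i(F ⊗ κ(p)) = 0` for a complex `F` of finite free modules, multiplication by some `w ∉ p`
on `F^i` is null-homotopic in degree `i`. -/
theorem exists_contraction_near_prime (F : Cx R) (hff : TermwiseFiniteFree F) (p : Ideal R)
    [p.IsPrime] (i : ℤ)
    (h : ((extCx (algebraMap R p.ResidueField)).obj F).ExactAt i) :
    ∃ (w : R) (_ : w ∉ p) (hs : F.X (i + 1) ⟶ F.X i) (ht : F.X i ⟶ F.X (i - 1)),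
      ht ≫ F.d (i - 1) i + F.d i (i + 1) ≫ hs = w • 𝟙 (F.X i) := by
  let S := Localization.AtPrime p
  let φ : R →+* S := algebraMap R S
  let Fp : Cx S := (extCx φ).obj F
  have hffp : ∀ j, Module.Finite S (Fp.X j) ∧ Module.Free S (Fp.X j) := fun j =>
    ⟨haveI := (hff j).1; finite_ext φ (F.X j), haveI := (hff j).2; free_ext φ (F.X j)⟩
  have hex : ((extCx (algebraMap S (IsLocalRing.ResidueField S))).obj Fp).ExactAt i :=
    exactAt_ext_ext_of_comm φ (algebraMap S (IsLocalRing.ResidueField S))
      (algebraMap R p.ResidueField) (RingHom.id _) (by ext x; rfl) (RingHom.Flat.id _) F i h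
  haveI := (hffp i).1
  haveI := (hffp i).2
  haveI := (hffp (i + 1)).1
  haveI := (hffp (i + 1)).2
  obtain ⟨hE, hfree⟩ := exact_and_free_of_exact_lTensor (Fp.d (i - 1) i).hom (Fp.d i (i + 1)).hom
    (by ext x; exact d_d_apply Fp (i - 1) i (i + 1) x)
    (exact_lTensor_of_exact_ext (Fp.d (i - 1) i) (Fp.d i (i + 1))
      (exact_of_exactAt_ext _ Fp (i - 1) i (i + 1) (by omega) rfl hex))
  obtain ⟨s, t, hst⟩ := exists_contraction (Fp.d (i - 1) i).hom (Fp.d i (i + 1)).hom hE
    inferInstance
  -- localization maps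
  let adj := ModuleCat.extendRestrictScalarsAdj.{u, u, u} φ
  haveI l₁ := isLocalizedModule_unit p.primeCompl S (F.X (i - 1))
  haveI l₂ := isLocalizedModule_unit p.primeCompl S (F.X i)
  haveI l₃ := isLocalizedModule_unit p.primeCompl S (F.X (i + 1))
  haveI := (hff i).1
  haveI := (hff i).2
  haveI := (hff (i + 1)).1
  haveI := (hff (i + 1)).2
  haveI fp₂ : Module.FinitePresentation R (F.X i) := Module.finitePresentation_of_projective R _
  haveI fp₃ : Module.FinitePresentation R (F.X (i + 1)) :=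
    Module.finitePresentation_of_projective R _
  have n₁ : ((res φ).map (Fp.d (i - 1) i)).hom ∘ₗ (adj.unit.app (F.X (i - 1))).hom =
      (adj.unit.app (F.X i)).hom ∘ₗ (F.d (i - 1) i).hom := by
    have := congrArg ModuleCat.Hom.hom (adj.unit.naturality (F.d (i - 1) i))
    exact this.symm
  have n₂ : ((res φ).map (Fp.d i (i + 1))).hom ∘ₗ (adj.unit.app (F.X i)).hom =
      (adj.unit.app (F.X (i + 1))).hom ∘ₗ (F.d i (i + 1)).hom := by
    have := congrArg ModuleCat.Hom.hom (adj.unit.naturality (F.d i (i + 1)))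
    exact this.symm
  have hst' : ((res φ).map (Fp.d (i - 1) i)).hom ∘ₗ ((res φ).map (ModuleCat.ofHom t)).hom +
      ((res φ).map (ModuleCat.ofHom s)).hom ∘ₗ ((res φ).map (Fp.d i (i + 1))).hom =
      LinearMap.id := by
    ext x
    exact LinearMap.congr_fun hst x
  obtain ⟨w, hs, ht, hw⟩ := exists_global_contraction (X₁ := F.X (i - 1)) (X₂ := F.X i)
    (X₃ := F.X (i + 1)) p.primeCompl
    (adj.unit.app (F.X (i - 1))).hom (adj.unit.app (F.X i)).hom (adj.unit.app (F.X (i + 1))).hom
    (F.d (i - 1) i).hom (F.d i (i + 1)).hom _ _ n₁ n₂ _ _ hst'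
  refine ⟨w, w.2, ModuleCat.ofHom hs, ModuleCat.ofHom ht, ?_⟩
  ext x
  exact LinearMap.congr_fun hw x

/-- A contraction in degree `i` gives exactness at `i` and makes `opcycles (i + 1)` a retract of the
term of degree `i + 1`. -/
theorem exactAt_and_retract_of_contraction {B : Type u} [CommRing B] (G : Cx B) (i : ℤ)
    (s : G.X (i + 1) ⟶ G.X i) (t : G.X i ⟶ G.X (i - 1))
    (hst : t ≫ G.d (i - 1) i + G.d i (i + 1) ≫ s = 𝟙 (G.X i)) :
    G.ExactAt i ∧ ∃ ρ : G.opcycles (i + 1) ⟶ G.X (i + 1), ρ ≫ G.pOpcycles (i + 1) = 𝟙 _ := by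
  constructor
  · rw [exactAt_iff_elem G (i - 1) i (i + 1) (by omega) rfl]
    intro x hx
    refine ⟨t.hom x, ?_⟩
    have h1 := congrArg (fun f => f.hom x) hst
    simp only [ModuleCat.hom_add, ModuleCat.hom_comp, LinearMap.add_apply, LinearMap.comp_apply,
      ModuleCat.hom_id, LinearMap.id_apply] at h1
    rw [hx, map_zero, add_zero] at h1
    exact h1
  · have h0 : G.d i (i + 1) ≫ (𝟙 (G.X (i + 1)) - s ≫ G.d i (i + 1)) = 0 := by
      have h1 : (G.d i (i + 1) ≫ s) ≫ G.d i (i + 1) = G.d i (i + 1) := by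
        have h2 : G.d i (i + 1) ≫ s = 𝟙 (G.X i) - t ≫ G.d (i - 1) i := by
          rw [← hst, add_sub_cancel_left]
        rw [h2, Preadditive.sub_comp, Category.id_comp, Category.assoc,
          HomologicalComplex.d_comp_d, comp_zero, sub_zero]
      rw [Preadditive.comp_sub, Category.comp_id, ← Category.assoc, h1, sub_self]
    refine ⟨G.descOpcycles (𝟙 (G.X (i + 1)) - s ≫ G.d i (i + 1)) i (by simp) h0, ?_⟩
    rw [← cancel_epi (G.pOpcycles (i + 1)), HomologicalComplex.p_descOpcycles_assoc,
      Preadditive.sub_comp, Category.id_comp, Category.assoc,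
      HomologicalComplex.d_pOpcycles, comp_zero, sub_zero, Category.comp_id]

end Groth.Agent.H35.SplitSpreadCx
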