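import Mathlib
import Groth.Prelude.Def_DRing2
import Groth.Prelude.Def_CAlg
import Groth.Agent.H17.KE.TorKoszul

/-!
# (TK) Tor against a quotient by a sequence regular on both the ring and the module vanishes
(helper35, squad piece for helper59, S15825).  Glue of helper17's `length_tor_succ_eq` (Tor via the
Koszul complex) and helper59's `Kosz.kz_regular` (Koszul homology of a regular sequence).
-/

set_option autoImplicit false
universe u
open RingTheory.Sequence

namespace Groth.Agent.H35.TorCI_TK

/-- (TK) -/
theorem subsingleton_tor_of_isWeaklyRegular {R : Type u} [CommRing R] (f : List R)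
    (N : Type u) [AddCommGroup N] [Module R N]
    (hf : IsWeaklyRegular R f) (hN : IsWeaklyRegular N f) (i : ℕ) (hi : 0 < i) :
    Subsingleton (DRing.Tor R i (R ⧸ Ideal.ofList f) N) := by
  obtain ⟨m, rfl⟩ : ∃ m, i = m + 1 := ⟨i - 1, by omega⟩
  have h1 := Groth.Agent.H17.KE.length_tor_succ_eq f hf (Ideal.ofList f) rfl N m
  obtain ⟨hzN, -⟩ := Groth.Agent.H59.Kosz.kz_regular f N hN
  have h2 : Groth.Agent.H17.KE.hl f N (-((m + 1 : ℕ) : ℤ)) = 0 := by
    haveI := ModuleCat.subsingleton_of_isZero (hzN (-((m + 1 : ℕ) : ℤ)) (by push_cast; omega))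
    exact Module.length_eq_zero
  rw [h2] at h1
  exact Module.length_eq_zero_iff.1 h1

end Groth.Agent.H35.TorCI_TK
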