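import Mathlib
import Groth.Prelude.Def_DRing2
import Groth.Prelude.Def_CAlg
import Groth.Agent.H82.TorBC
import Groth.Agent.H82.TorSymm
import Groth.Agent.H35.TorCI_TK

/-!
# (RT) Tor of two quotients cut out locally by a regular sequence `g ++ f` vanishes (helper35, squad
piece for helper59, S15825)
-/

set_option autoImplicit false
universe u
open RingTheory.Sequence

namespace Groth.Agent.H35.TorCI_RT

open CategoryTheory

section Transport

variable {R : Type u} [CommRing R]

/-- Tor is invariant under linear equivalences in both variables. -/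
lemma subsingleton_tor_congr {P P' Q Q' : Type u} [AddCommGroup P] [Module R P]
    [AddCommGroup P'] [Module R P'] [AddCommGroup Q] [Module R Q] [AddCommGroup Q'] [Module R Q']
    (eP : P ≃ₗ[R] P') (eQ : Q ≃ₗ[R] Q') (i : ℕ) (h : Subsingleton (DRing.Tor R i P Q)) :
    Subsingleton (DRing.Tor R i P' Q') := by
  have e1 := ((CategoryTheory.Tor (ModuleCat.{u} R) i).mapIso eP.toModuleIso).app (ModuleCat.of R Q)
  have e2 := ((CategoryTheory.Tor (ModuleCat.{u} R) i).obj (ModuleCat.of R P')).mapIso
    eQ.toModuleIso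
  exact (e1 ≪≫ e2).toLinearEquiv.symm.toEquiv.subsingleton

/-- Higher Tor with a zero second argument vanishes. -/
lemma subsingleton_tor_right (P Q : Type u) [AddCommGroup P] [Module R P]
    [AddCommGroup Q] [Module R Q] [Subsingleton Q] (i : ℕ) (hi : 0 < i) :
    Subsingleton (DRing.Tor R i P Q) := by
  obtain ⟨m, rfl⟩ : ∃ m, i = m + 1 := ⟨i - 1, by omega⟩
  haveI : Module.Projective R Q := Module.Projective.of_free
  haveI : Projective (ModuleCat.of R Q) := (IsProjective.iff_projective Q).1 inferInstance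
  exact ModuleCat.subsingleton_of_isZero
    (CategoryTheory.isZero_Tor_succ_of_projective (ModuleCat.{u} R) (ModuleCat.of R P) (ModuleCat.of R Q) m)

/-- Higher Tor with a zero first argument vanishes. -/
lemma subsingleton_tor_left (P Q : Type u) [AddCommGroup P] [Module R P]
    [AddCommGroup Q] [Module R Q] [Subsingleton P] (i : ℕ) (hi : 0 < i) :
    Subsingleton (DRing.Tor R i P Q) := by
  obtain ⟨e⟩ := Groth.Agent.H82.TorSymm.nonempty_tor_iso_flip (A := R) i
  haveI hs : Subsingleton (((CategoryTheory.Tor (ModuleCat.{u} R) i).flip.obj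
      (ModuleCat.of R P)).obj (ModuleCat.of R Q)) := subsingleton_tor_right (R := R) Q P i hi
  exact ((e.app (ModuleCat.of R P)).app (ModuleCat.of R Q)).toLinearEquiv.toEquiv.subsingleton

end Transport

/-- base change of a quotient killed by an element becoming a unit is zero. -/
lemma subsingleton_tensor_quotient {A : Type u} [CommRing A] (I : Ideal A) (R : Type u)
    [CommRing R] [Algebra A R] (s : A) (hs : s ∈ I) (hu : IsUnit (algebraMap A R s)) :
    Subsingleton (TensorProduct A R (A ⧸ I)) := by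
  refine ⟨fun x y => ?_⟩
  have h0 : ∀ z : TensorProduct A R (A ⧸ I), z = 0 := by
    intro z
    induction z using TensorProduct.induction_on with
    | zero => rfl
    | add a b ha hb => rw [ha, hb, add_zero]
    | tmul r x =>
      obtain ⟨u, hu'⟩ := hu
      have h1 : r = s • (r * ↑u⁻¹) := by
        rw [Algebra.smul_def, ← hu', mul_comm r, ← mul_assoc, Units.mul_inv, one_mul]
      obtain ⟨a, rfl⟩ := Ideal.Quotient.mk_surjective x
      have h2 : s • (Ideal.Quotient.mk I a) = 0 := by
        rw [← Ideal.Quotient.mk_eq_mk, ← Submodule.Quotient.mk_smul,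
          Submodule.Quotient.mk_eq_zero]
        exact I.mul_mem_right a hs
      rw [h1, TensorProduct.smul_tmul, h2, TensorProduct.tmul_zero]
  rw [h0 x, h0 y]

/-- (RT) -/
theorem subsingleton_tor_quotient {A : Type u} [CommRing A] (I J : Ideal A)
    (h : ∀ (𝔭 : Ideal A) [𝔭.IsPrime], I ⊔ J ≤ 𝔭 →
      ∃ (R : Type u) (_ : CommRing R) (_ : Algebra A R) (_ : IsLocalization.AtPrime R 𝔭)
        (f g : List R), IsWeaklyRegular R f ∧ IsWeaklyRegular R (g ++ f) ∧
        I.map (algebraMap A R) = Ideal.ofList f ∧ J.map (algebraMap A R) = Ideal.ofList g)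
    (i : ℕ) (hi : 0 < i) : Subsingleton (DRing.Tor A i (A ⧸ I) (A ⧸ J)) := by
  apply Module.subsingleton_of_localization_maximal (R := A)
    (fun p => LocalizedModule p.primeCompl (DRing.Tor A i (A ⧸ I) (A ⧸ J)))
    (fun p => LocalizedModule.mkLinearMap p.primeCompl (DRing.Tor A i (A ⧸ I) (A ⧸ J)))
  intro p hp
  haveI := hp.isPrime
  have key : ∀ (R : Type u) [CommRing R] [Algebra A R] [IsLocalization.AtPrime R p],
      Subsingleton (DRing.Tor R i (TensorProduct A R (A ⧸ I)) (TensorProduct A R (A ⧸ J))) →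
      Subsingleton (LocalizedModule p.primeCompl (DRing.Tor A i (A ⧸ I) (A ⧸ J))) := by
    intro R _ _ _ hs
    haveI : Module.Flat A R := IsLocalization.flat R p.primeCompl
    obtain ⟨e⟩ := Groth.Agent.H82.TorBC.nonempty_tor_baseChange A R (A ⧸ I) (A ⧸ J) i
    have e2 := IsLocalizedModule.linearEquiv p.primeCompl
      (LocalizedModule.mkLinearMap p.primeCompl (DRing.Tor A i (A ⧸ I) (A ⧸ J)))
      (TensorProduct.mk A R (DRing.Tor A i (A ⧸ I) (A ⧸ J)) 1)
    exact (e2.toEquiv.trans e.toEquiv).subsingleton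
  by_cases hle : I ⊔ J ≤ p
  · obtain ⟨R, _, _, _, f, g, hf, hgf, hI, hJ⟩ := h p hle
    apply key R
    obtain ⟨hg, hfN⟩ := (isWeaklyRegular_append_iff R g f).1 hgf
    have hT := Groth.Agent.H35.TorCI_TK.subsingleton_tor_of_isWeaklyRegular f
      (R ⧸ (Ideal.ofList g • ⊤ : Submodule R R)) hf hfN i hi
    have eI : (R ⧸ Ideal.ofList f) ≃ₗ[R] TensorProduct A R (A ⧸ I) :=
      (Submodule.quotEquivOfEq (Ideal.ofList f) (I.map (algebraMap A R)) hI.symm) ≪≫ₗ
        (Algebra.TensorProduct.quotIdealMapEquivTensorQuot R I).toLinearEquiv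
    have hg' : (Ideal.ofList g • ⊤ : Submodule R R) = J.map (algebraMap A R) := by
      rw [hJ, smul_eq_mul, Ideal.mul_top]
    have eJ : (R ⧸ (Ideal.ofList g • ⊤ : Submodule R R)) ≃ₗ[R] TensorProduct A R (A ⧸ J) :=
      (Submodule.quotEquivOfEq _ (J.map (algebraMap A R)) hg') ≪≫ₗ
        (Algebra.TensorProduct.quotIdealMapEquivTensorQuot R J).toLinearEquiv
    exact subsingleton_tor_congr eI eJ i hT
  · apply key (Localization.AtPrime p)
    have : ¬ (I ≤ p ∧ J ≤ p) := fun hc => hle (sup_le hc.1 hc.2)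
    by_cases hIp : I ≤ p
    · have hJp : ¬ J ≤ p := fun hc => this ⟨hIp, hc⟩
      obtain ⟨s, hsJ, hsp⟩ := Set.not_subset.1 hJp
      haveI := subsingleton_tensor_quotient J (Localization.AtPrime p) s hsJ
        (IsLocalization.map_units (M := p.primeCompl) (Localization.AtPrime p) ⟨s, hsp⟩)
      exact subsingleton_tor_right _ _ i hi
    · obtain ⟨s, hsI, hsp⟩ := Set.not_subset.1 hIp
      haveI := subsingleton_tensor_quotient I (Localization.AtPrime p) s hsI
        (IsLocalization.map_units (M := p.primeCompl) (Localization.AtPrime p) ⟨s, hsp⟩)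
      exact subsingleton_tor_left _ _ i hi

end Groth.Agent.H35.TorCI_RT
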