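import Mathlib
import Groth.Prelude.Def_DRing2
import Groth.Prelude.Def_CAlg
import Groth.Agent.H82.TorBC

/-!
# (TL) Tor vanishes if it vanishes after localizing at every prime (helper35, squad piece for
helper59, S15825)
-/

set_option autoImplicit false
universe u
open RingTheory.Sequence

namespace Groth.Agent.H35.TorCI_TL

/-- (TL) -/
theorem subsingleton_tor_of_forall_atPrime {A : Type u} [CommRing A]
    (M N : Type u) [AddCommGroup M] [Module A M] [AddCommGroup N] [Module A N] (i : ℕ)
    (h : ∀ (𝔭 : Ideal A) [𝔭.IsPrime], Subsingleton (DRing.Tor (Localization.AtPrime 𝔭) i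
      (TensorProduct A (Localization.AtPrime 𝔭) M) (TensorProduct A (Localization.AtPrime 𝔭) N))) :
    Subsingleton (DRing.Tor A i M N) := by
  apply Module.subsingleton_of_localization_maximal (R := A)
    (fun p => LocalizedModule p.primeCompl (DRing.Tor A i M N))
    (fun p => LocalizedModule.mkLinearMap p.primeCompl (DRing.Tor A i M N))
  intro p hp
  haveI := hp.isPrime
  obtain ⟨e⟩ := Groth.Agent.H82.TorBC.nonempty_tor_baseChange A (Localization.AtPrime p) M N i
  haveI := h p
  have e2 := LocalizedModule.equivTensorProduct p.primeCompl (DRing.Tor A i M N)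
  exact (e2.toEquiv.trans e.toEquiv).subsingleton

end Groth.Agent.H35.TorCI_TL
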