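import Mathlib
import Groth.Prelude.Def_DRing2
import Groth.Prelude.Def_CAlg

/-!
# (TT) Tor of two quotient rings, transported along surjections (helper35, squad piece for
helper59, S15825)
-/

set_option autoImplicit false
universe u
open RingTheory.Sequence

namespace Groth.Agent.H35.TorCI_TT

/-- `A ⧸ ker φ ≃ B` as `A`-modules, for a surjective ring map `φ : A → B` (module structure
`φ.toModule` on `B`). -/
noncomputable def quotKerEquiv {A B : Type u} [CommRing A] [CommRing B] (φ : A →+* B)
    (hφ : Function.Surjective φ) :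
    letI := φ.toModule
    (A ⧸ RingHom.ker φ) ≃ₗ[A] B :=
  letI := φ.toModule
  { (RingHom.quotientKerEquivOfSurjective hφ).toAddEquiv with
    map_smul' := fun a x => by
      obtain ⟨x, rfl⟩ := Ideal.Quotient.mk_surjective x
      show φ (a * x) = φ a * φ x
      exact map_mul φ a x }

/-- (TT) -/
theorem subsingleton_tor_of_surjective {A B C : Type u} [CommRing A] [CommRing B] [CommRing C]
    (φ : A →+* B) (ψ : A →+* C) (hφ : Function.Surjective φ) (hψ : Function.Surjective ψ) (i : ℕ)
    (h : Subsingleton (DRing.Tor A i (A ⧸ RingHom.ker φ) (A ⧸ RingHom.ker ψ))) :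
    Subsingleton (@DRing.Tor A _ i B C _ φ.toModule _ ψ.toModule) := by
  letI mB : Module A B := φ.toModule
  letI mC : Module A C := ψ.toModule
  have e1 := ((CategoryTheory.Tor (ModuleCat.{u} A) i).mapIso
    (quotKerEquiv φ hφ).toModuleIso).app (ModuleCat.of A (A ⧸ RingHom.ker ψ))
  have e2 := ((CategoryTheory.Tor (ModuleCat.{u} A) i).obj (ModuleCat.of A B)).mapIso
    (quotKerEquiv ψ hψ).toModuleIso
  exact (e1 ≪≫ e2).toLinearEquiv.symm.toEquiv.subsingleton

end Groth.Agent.H35.TorCI_TT
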