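import Groth.Agent.H35.TorIndMain
import Groth.Agent.H35.HasLBC
import Groth.Agent.H35.MPCoh

/-!
# Tor independence through a flat intermediate ring, and base change of relative
pseudo-coherence (helper35)
-/

set_option autoImplicit false
universe u
open CategoryTheory CategoryTheory.Limits MonoidalCategory HomologicalComplex
attribute [local instance] HasDerivedCategory.standard

namespace Groth.Agent.H35.TorIndTower

open DRing DerivedCategory Groth.Agent.H31 Groth.Agent.H35.TorAmp Groth.Agent.H35.FlatBC
  Groth.Agent.H35.KFlatBC Groth.Agent.H35.LBC Groth.Agent.H35.TorIndQis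
  Groth.Agent.H35.PushoutBC Groth.Agent.H35.TorIndMain Groth.Agent.H35.TorIndBC

section T

variable (R P R' P' : Type u) [CommRing R] [CommRing P] [CommRing R'] [CommRing P']
  [Algebra R P] [Algebra R R'] [Algebra P P'] [Algebra R' P'] [Algebra R P']
  [IsScalarTower R P P'] [IsScalarTower R R' P'] [Algebra.IsPushout R P R' P'] [Module.Flat R P]
  (A : Type u) [AddCommGroup A] [Module P A] [Module R A] [IsScalarTower R P A]

/-- the `R`-module `A` as the restriction of the `P`-module `A` -/
noncomputable def resModEquiv :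
    A ≃ₗ[R] ((ModuleCat.restrictScalars.{u} (algebraMap R P)).obj (ModuleCat.of P A)) :=
  { toFun := fun a => a
    invFun := fun a => a
    map_add' := fun _ _ => rfl
    map_smul' := fun r a => (algebraMap_smul P r a).symm
    left_inv := fun _ => rfl
    right_inv := fun _ => rfl }

/-- the `R`-module `A` as the restriction of the `P`-module `A` -/
noncomputable def resModIso :
    ModuleCat.of R A ≅
      (ModuleCat.restrictScalars.{u} (algebraMap R P)).obj (ModuleCat.of P A) :=
  (resModEquiv R P A).toModuleIso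

theorem tor_transfer (htor : ∀ p : ℕ, 1 ≤ p → Subsingleton (DRing.Tor R p A R')) :
    ∀ p : ℕ, 1 ≤ p → Subsingleton (DRing.Tor P p A P') := by
  intro p hp
  obtain ⟨m, rfl⟩ : ∃ m, p = m + 1 := ⟨p - 1, by omega⟩
  have h : (algebraMap P P').comp (algebraMap R P) =
      (algebraMap R' P').comp (algebraMap R R') := by
    ext r
    simp only [RingHom.comp_apply, ← IsScalarTower.algebraMap_apply]
  let PQ := projectiveResolution (ModuleCat.of P A)
  have hG : DRing.IsKFlat P PQ.cochainComplex := isKFlat_cochainComplex PQ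
  -- over `R`
  let MR : ModuleCat.{u} R :=
    (ModuleCat.restrictScalars.{u} (algebraMap R P)).obj (ModuleCat.of P A)
  have hz : IsZero (((Tor (ModuleCat.{u} R) (m + 1)).obj MR).obj (AR (algebraMap R R'))) := by
    have h1 : IsZero (((Tor (ModuleCat.{u} R) (m + 1)).obj (ModuleCat.of R A)).obj
        (ModuleCat.of R R')) := by
      have := htor (m + 1) (by omega)
      exact ModuleCat.isZero_of_subsingleton _
    exact h1.of_iso (((Tor (ModuleCat.{u} R) (m + 1)).mapIso (resModIso R P A)).app _ ≪≫
      ((Tor (ModuleCat.{u} R) (m + 1)).obj _).mapIso (unitResIso R R')).symm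
  let PA := projectiveResolution MR
  have e1 : (CohIII.tensorObj PA.cochainComplex (AR (algebraMap R R'))).ExactAt
      (-((m + 1 : ℕ) : ℤ)) :=
    (exactAt_tensor_cochainComplex_iff PA _ m).2 ((exactAt_tensor_complex_iff_tor PA _ (m + 1)).2 hz)
  have hflat : (algebraMap R P).Flat := RingHom.flat_algebraMap_iff.2 inferInstance
  have hRG : DRing.IsKFlat R ((DRing.restrictCx (algebraMap R P)).obj PQ.cochainComplex) :=
    Groth.Agent.H35.BCSquare.isKFlat_resCx (algebraMap R P) hflat _ hG
  have hq1 : QuasiIso PA.π' := inferInstance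
  have hq2 : QuasiIso PQ.π' := inferInstance
  have hq3 : QuasiIso ((DRing.restrictCx (algebraMap R P)).map PQ.π') := by
    unfold DRing.restrictCx
    infer_instance
  let eD : toD PA.cochainComplex ≅ toD ((DRing.restrictCx (algebraMap R P)).obj PQ.cochainComplex) :=
    asIso (Q.map PA.π') ≪≫
      Q.mapIso ((HomologicalComplex.singleMapHomologicalComplex
        (ModuleCat.restrictScalars.{u} (algebraMap R P)) (ComplexShape.up ℤ) 0).app
          (ModuleCat.of P A)).symm ≪≫
      (asIso (Q.map ((DRing.restrictCx (algebraMap R P)).map PQ.π'))).symm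
  have e2 : (CohIII.tensorObj ((DRing.restrictCx (algebraMap R P)).obj PQ.cochainComplex)
      (AR (algebraMap R R'))).ExactAt (-((m + 1 : ℕ) : ℤ)) :=
    (exactAt_tensor_iff_of_iso (isKFlat_cochainComplex PA) hRG eD _ _).1 e1
  have e3 : ((FlatBC.extCx (algebraMap R R')).obj
      ((DRing.restrictCx (algebraMap R P)).obj PQ.cochainComplex)).ExactAt (-((m + 1 : ℕ) : ℤ)) :=
    (exactAt_ext_iff (algebraMap R R') _ _).2 e2
  have hβ : IsIso (βCx h PQ.cochainComplex) := isIso_βCx h PQ.cochainComplex
  have e4 : ((DTen.resCx (algebraMap R' P')).obj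
      ((DTen.extCx (algebraMap P P')).obj PQ.cochainComplex)).ExactAt (-((m + 1 : ℕ) : ℤ)) :=
    e3.of_iso (@asIso _ _ _ _ (βCx h PQ.cochainComplex) hβ)
  have e5 : ((FlatBC.extCx (algebraMap P P')).obj PQ.cochainComplex).ExactAt
      (-((m + 1 : ℕ) : ℤ)) :=
    (exactAt_map_iff (Res (algebraMap R' P')) _ _).1 e4
  have e6 : (CohIII.tensorObj PQ.cochainComplex (AR (algebraMap P P'))).ExactAt
      (-((m + 1 : ℕ) : ℤ)) := (exactAt_ext_iff (algebraMap P P') _ _).1 e5
  have e7 : (CohIII.tensorObj PQ.cochainComplex (ModuleCat.of P P')).ExactAt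
      (-((m + 1 : ℕ) : ℤ)) :=
    (exactAt_tensor_iff_of_module_iso PQ.cochainComplex (unitResIso P P') _).2 e6
  have e8 := (exactAt_tensor_cochainComplex_iff PQ (ModuleCat.of P P') m).1 e7
  have e9 := (exactAt_tensor_complex_iff_tor PQ (ModuleCat.of P P') (m + 1)).1 e8
  exact ModuleCat.subsingleton_of_isZero e9

end T

section G

variable (R P A R' P' A' : Type u) [CommRing R] [CommRing P] [CommRing A] [CommRing R']
  [CommRing P'] [CommRing A']
  [Algebra R P] [Algebra R R'] [Algebra P P'] [Algebra R' P'] [Algebra R P']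
  [IsScalarTower R P P'] [IsScalarTower R R' P'] [Algebra.IsPushout R P R' P'] [Module.Flat R P]
  [Algebra P A] [Algebra R A] [IsScalarTower R P A]
  [Algebra A A'] [Algebra P' A'] [Algebra P A'] [IsScalarTower P A A'] [IsScalarTower P P' A']
  [Algebra.IsPushout P A P' A']

/-- Base change of `m`-pseudo-coherence relative to a presentation, for a tor independent base
change. -/
theorem isPseudoCoherent_restrict_LBaseChange
    (htor : ∀ p : ℕ, 1 ≤ p → Subsingleton (DRing.Tor R p A R'))
    [DRing.HasLBaseChange (algebraMap A A')] (K : Dual.D A) (m : ℤ)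
    (hK : DRing.IsPseudoCoherent P m ((DRing.restrictD (algebraMap P A)).obj K)) :
    DRing.IsPseudoCoherent P' m ((DRing.restrictD (algebraMap P' A')).obj
      ((DRing.LBaseChange (algebraMap A A')).obj K)) := by
  haveI : DRing.HasLBaseChange (algebraMap P P') := Groth.Agent.H35.HasLBC.hasLBaseChange _
  have h1 := Groth.Agent.H53.LBaseChange.isPseudoCoherent_LBaseChange (algebraMap P P') _ m hK
  have h : (algebraMap A A').comp (algebraMap P A) =
      (algebraMap P' A').comp (algebraMap P P') := by
    ext r
    simp only [RingHom.comp_apply, ← IsScalarTower.algebraMap_apply]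
  have hc := isIso_cmp P A P' A' (tor_transfer R P R' P' A htor) (adj₀ (algebraMap P P'))
    (adj₀ (algebraMap A A')) h K
  exact Groth.Agent.H35.MPCoh.isPseudoCoherent_of_iso (asIso (TrivBC.cmp (adj₀ (algebraMap P P'))
    (adj₀ (algebraMap A A')) h K)) h1

end G

end Groth.Agent.H35.TorIndTower
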